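import Cfsg.Agent.OddHalf.DblR.Basic
import Cfsg.Agent.Nodes.Reps
import Cfsg.Agent.OddHalf.DblR.Exist

-- merged: Cfsg.Agent.OddHalf.DblR.Tri
section

/-!
# ODD, D4: three doubled root groups `r`, `s`, `r + s`

`Tri` : the hypotheses for three roots `r`, `s`, `d = r + s` at 120 and 60 degrees.
* `Tri.comm_rd` : `[W_r, W_d] = 1`;
* `Tri.x_mem` : `[X_r, W_s] ≤ W_d`;
* `Tri.mem` : `[W_r, W_s] ≤ W_d`;
* **`Tri.eq_of_ne_one`** : `R` has at most one involution.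
-/

set_option autoImplicit false

namespace Cfsg.Agent.OddHalf.DblR

variable {G : Type*} [Group G]

/-- the commutator -/
def cm (a b : G) : G := a * b * a⁻¹ * b⁻¹

theorem cm_def (a b : G) : cm a b = a * b * a⁻¹ * b⁻¹ := rfl

theorem cm_inv (a b : G) : (cm a b)⁻¹ = cm b a := by unfold cm; group

theorem cm_conj (k a b : G) : k * cm a b * k⁻¹ = cm (k * a * k⁻¹) (k * b * k⁻¹) := by unfold cm; group

theorem cm_eq_one {a b : G} : cm a b = 1 ↔ a * b = b * a := by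
  unfold cm
  rw [mul_inv_eq_one]
  constructor
  · intro h
    calc a * b = (a * b * a⁻¹) * a := by group
      _ = b * a := by rw [h]
  · intro h
    rw [h]; group

/-- commuting is inherited by commutators -/
theorem comm_cm {c a b : G} (h1 : c * a = a * c) (h2 : c * b = b * c) : c * cm a b = cm a b * c := by
  have e1 : Commute c a := h1
  have e2 : Commute c b := h2
  have : Commute c (cm a b) := ((e1.mul_right e2).mul_right e1.inv_right).mul_right e2.inv_right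
  exact this

/-- `[v x, y] = [v, y] [x, y]` if `v` commutes with `[x, y]` and `[x, y]`, `[v, y]` commute -/
theorem cm_mul_left {v x y : G} (h : v * cm x y = cm x y * v) (h' : cm x y * cm v y = cm v y * cm x y) :
    cm (v * x) y = cm v y * cm x y := by
  calc cm (v * x) y = (v * cm x y) * v⁻¹ * cm v y := by unfold cm; group
    _ = cm x y * cm v y := by rw [h]; group
    _ = _ := h'

/-- `[v, y z] = [v, y] [v, z]` if `y` commutes with `[v, z]` -/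
theorem cm_mul_right {v y z : G} (h : y * cm v z = cm v z * y) : cm v (y * z) = cm v y * cm v z := by
  calc cm v (y * z) = cm v y * (y * cm v z) * y⁻¹ := by unfold cm; group
    _ = cm v y * cm v z := by rw [h]; group

theorem comm_inv {a b : G} (h : a * b = b * a) : a⁻¹ * b = b * a⁻¹ := by
  have h1 : Commute a b := h
  exact h1.inv_left

theorem comm_inv' {a b : G} (h : a * b = b * a) : a * b⁻¹ = b⁻¹ * a := by
  have h1 : Commute a b := h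
  exact h1.inv_right

theorem kappa' {κ v y : G} (h : κ * y = y * κ) :
    cm (v⁻¹ * (κ * v * κ⁻¹)) y = v⁻¹ * (κ * cm v y * κ⁻¹ * (cm v y)⁻¹) * v := kappa h

/-- `x ↦ x⁻¹ xᵏ` is onto if `κ` has no fixed points -/
theorem onto' [Finite G] {X : Subgroup G} {κ : G} (hX : ∀ x ∈ X, κ * x * κ⁻¹ ∈ X)
    (h1 : ∀ x ∈ X, κ * x = x * κ → x = 1) : ∀ x ∈ X, ∃ v ∈ X, x = v⁻¹ * (κ * v * κ⁻¹) := by
  let f : X → X := fun v => ⟨(v : G)⁻¹ * (κ * v * κ⁻¹), mul_mem (inv_mem v.2) (hX v v.2)⟩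
  have hf : Function.Injective f := by
    intro v w h
    have h2 : (v : G)⁻¹ * (κ * v * κ⁻¹) = (w : G)⁻¹ * (κ * w * κ⁻¹) := congrArg Subtype.val h
    have h3 := h1 (v * (w : G)⁻¹) (mul_mem v.2 (inv_mem w.2)) (comm_of_br_eq h2)
    exact Subtype.ext (mul_inv_eq_one.mp h3)
  intro w hw
  obtain ⟨v, hv⟩ := Finite.surjective_of_injective hf ⟨w, hw⟩
  exact ⟨v, v.2, (congrArg Subtype.val hv).symm⟩

/-! ### 60 degrees -/

/-- half of the 60 degree commutator -/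
theorem half60 [Finite G] {K R P X W P' X' W' Y : Subgroup G} (A : Amb K R) (D : DW K R P X W)
    (D' : DW K R P' X' W') {t : G} (ht : t ∈ R) (ht1 : t ≠ 1) (h1 : X ≤ P') (h2 : X' ≤ P)
    (hY : Y ≤ P) (hY' : Y ≤ P')
    (K2 : ∀ c : G, (∀ a ∈ R, c * a = a * c) → (∀ y ∈ Y, c * y = y * c) →
      ∃ x ∈ X, ∃ x' ∈ X', (x * x')⁻¹ * c ∈ C1 K R)
    {κ : G} (hκ : κ ∈ K) (hW : ∀ w ∈ W, κ * w * κ⁻¹ ∈ W) (hX : ∀ x ∈ X, κ * x * κ⁻¹ ∈ X)
    (hX1 : ∀ x ∈ X, κ * x = x * κ → x = 1) (hW' : ∀ y ∈ W', κ * y = y * κ) :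
    ∀ w ∈ W, ∀ y ∈ W', cm w y ∈ X := by
  have key : ∀ w ∈ W, ∀ y ∈ W', ∃ x ∈ X, ∃ x' ∈ X', ∃ c ∈ C1 K R, cm w y = x * x' * c := by
    intro w hw y hy
    suffices h12 : (∀ a ∈ R, cm w y * a = a * cm w y) ∧ (∀ p ∈ Y, cm w y * p = p * cm w y) by
      obtain ⟨x, hx, x', hx', hc⟩ := K2 (cm w y) h12.1 h12.2
      exact ⟨x, hx, x', hx', _, hc, by group⟩
    constructor
    · intro a ha
      have e1 := D.brk a ha w hw
      have e2 := D'.brk a ha y hy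
      have e3 : a * cm w y * a⁻¹ = cm w y := by
        rw [cm_conj, conj_eq a w, conj_eq a y]
        have f1 : y * br a w = br a w * y := D'.WP y hy _ (h1 e1)
        have f2 : w * br a y = br a y * w := D.WP w hw _ (h2 e2)
        have f3 : br a w * br a y = br a y * br a w := by
          have := D'.WP _ (D'.XW e2) _ (h1 e1)
          exact this.symm
        have f2' := comm_inv f2
        have f4 := comm_inv' f3
        calc cm (w * br a w) (y * br a y)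
            = w * (br a w * y) * br a y * (br a w)⁻¹ * w⁻¹ * (br a y)⁻¹ * y⁻¹ := by unfold cm; group
          _ = w * y * (br a w * br a y) * (br a w)⁻¹ * w⁻¹ * (br a y)⁻¹ * y⁻¹ := by rw [← f1]; group
          _ = w * y * (br a y * w⁻¹) * (br a y)⁻¹ * y⁻¹ := by rw [f3]; group
          _ = w * y * w⁻¹ * y⁻¹ := by rw [← f2']; group
      calc cm w y * a = (a * cm w y * a⁻¹) * a := by rw [e3]
        _ = a * cm w y := by group
    · intro p hp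
      exact (comm_cm (D.WP w hw p (hY hp)).symm (D'.WP y hy p (hY' hp)).symm).symm
  intro w hw y hy
  obtain ⟨v, hv, rfl⟩ := D.onto A ht ht1 hκ hW hX1 w hw
  obtain ⟨x, hx, x', hx', c, hc, e⟩ := key v hv y hy
  have hcK := (mem_C1.mp hc).1
  have h3 : κ * x' = x' * κ := hW' x' (D'.XW hx')
  have h4 : c * κ = κ * c := hcK κ hκ
  have h5 := kappa' (v := v) (hW' y hy)
  rw [h5, e]
  have h6 : κ * (x * x' * c) * κ⁻¹ * (x * x' * c)⁻¹ = (κ * x * κ⁻¹) * x⁻¹ := by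
    calc κ * (x * x' * c) * κ⁻¹ * (x * x' * c)⁻¹
        = κ * x * x' * (c * κ⁻¹) * c⁻¹ * x'⁻¹ * x⁻¹ := by group
      _ = κ * x * x' * (κ⁻¹ * c) * c⁻¹ * x'⁻¹ * x⁻¹ := by rw [comm_inv' h4]
      _ = κ * x * (x' * κ⁻¹) * x'⁻¹ * x⁻¹ := by group
      _ = _ := by rw [← comm_inv h3]; group
  rw [h6, D.conj_x' hv (mul_mem (hX x hx) (inv_mem hx))]
  exact mul_mem (hX x hx) (inv_mem hx)

/-! ### The structure -/

/-- **The hypotheses for three roots `r`, `s`, `d = r + s`.** -/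
structure Tri (K R T Xr Xs Xd Wr Ws Wd Pr Ps Pd Yr Ys Y : Subgroup G) (n m : G) : Prop where
  A : Amb K R
  Dr : DW K R Pr Xr Wr
  Ds : DW K R Ps Xs Ws
  Dd : DW K R Pd Xd Wd
  XrPd : Xr ≤ Pd
  XsPd : Xs ≤ Pd
  XdPr : Xd ≤ Pr
  XdPs : Xd ≤ Ps
  TK : T ≤ K
  Tab : ∀ h ∈ T, ∀ k ∈ T, h * k = k * h
  Todd : ∀ h ∈ T, ∃ l : ℕ, Odd l ∧ h ^ l = 1
  TXr : ∀ h ∈ T, ∀ x ∈ Xr, h * x * h⁻¹ ∈ Xr
  TXs : ∀ h ∈ T, ∀ x ∈ Xs, h * x * h⁻¹ ∈ Xs
  TXd : ∀ h ∈ T, ∀ x ∈ Xd, h * x * h⁻¹ ∈ Xd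
  TWr : ∀ h ∈ T, ∀ x ∈ Wr, h * x * h⁻¹ ∈ Wr
  TWs : ∀ h ∈ T, ∀ x ∈ Ws, h * x * h⁻¹ ∈ Ws
  TWd : ∀ h ∈ T, ∀ x ∈ Wd, h * x * h⁻¹ ∈ Wd
  nK : n ∈ K
  nX : ∀ x ∈ Xr, n * x * n⁻¹ ∈ Xd
  nX' : ∀ x ∈ Xd, n⁻¹ * x * n ∈ Xr
  nW' : ∀ x ∈ Wd, n⁻¹ * x * n ∈ Wr
  mK : m ∈ K
  mX : ∀ x ∈ Xs, m * x * m⁻¹ ∈ Xd
  mX' : ∀ x ∈ Xd, m⁻¹ * x * m ∈ Xs
  mW' : ∀ x ∈ Wd, m⁻¹ * x * m ∈ Ws
  /-- the elements of the torus centralising `X_s` and commuting with the reflection in `s` -/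
  trr : ∀ x ∈ Xr, x ≠ 1 → ∀ x' ∈ Xr, x' ≠ 1 → ∃ h ∈ T, (∀ y ∈ Xs, h * y = y * h) ∧ h * n = n * h ∧ h * x * h⁻¹ = x'
  trs : ∀ x ∈ Xs, x ≠ 1 → ∀ x' ∈ Xs, x' ≠ 1 → ∃ h ∈ T, (∀ y ∈ Xr, h * y = y * h) ∧ h * m = m * h ∧ h * x * h⁻¹ = x'
  cmX : ∀ x ∈ Xr, ∀ y ∈ Xs, cm x y ∈ Xd
  nd : ∀ x ∈ Xr, ∀ y ∈ Xs, x * y = y * x → x = 1 ∨ y = 1
  bigr : ∃ x ∈ Xr, ∃ x' ∈ Xr, x ≠ 1 ∧ x' ≠ 1 ∧ x ≠ x'
  bigs : ∃ x ∈ Xs, ∃ x' ∈ Xs, x ≠ 1 ∧ x' ≠ 1 ∧ x ≠ x'
  disr : ∀ x ∈ Xr, x ∈ Xd → x = 1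
  diss : ∀ x ∈ Xs, x ∈ Xd → x = 1
  YrPr : Yr ≤ Pr
  YrPd : Yr ≤ Pd
  YrN : ∀ x ∈ Xs, ∀ y ∈ Yr, x * y * x⁻¹ ∈ Yr
  K2r : ∀ c : G, (∀ a ∈ R, c * a = a * c) → (∀ y ∈ Yr, c * y = y * c) →
    ∃ x ∈ Xr, ∃ z ∈ Xd, (x * z)⁻¹ * c ∈ C1 K R
  YsPs : Ys ≤ Ps
  YsPd : Ys ≤ Pd
  YsN : ∀ x ∈ Xr, ∀ y ∈ Ys, x * y * x⁻¹ ∈ Ys
  K2s : ∀ c : G, (∀ a ∈ R, c * a = a * c) → (∀ y ∈ Ys, c * y = y * c) →
    ∃ x ∈ Xs, ∃ z ∈ Xd, (x * z)⁻¹ * c ∈ C1 K R
  YPr : Y ≤ Pr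
  YPs : Y ≤ Ps
  YPd : Y ≤ Pd
  K1 : ∀ c : G, (∀ a ∈ R, c * a = a * c) → (∀ x ∈ Xr, c * x = x * c) → (∀ x ∈ Xs, c * x = x * c) →
    (∀ y ∈ Y, c * y = y * c) → ∃ z ∈ Xd, z⁻¹ * c ∈ C1 K R

namespace Tri

variable {K R T Xr Xs Xd Wr Ws Wd Pr Ps Pd Yr Ys Y : Subgroup G} {n m : G}

theorem symm (H : Tri K R T Xr Xs Xd Wr Ws Wd Pr Ps Pd Yr Ys Y n m) :
    Tri K R T Xs Xr Xd Ws Wr Wd Ps Pr Pd Ys Yr Y m n where
  A := H.A
  Dr := H.Ds
  Ds := H.Dr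
  Dd := H.Dd
  XrPd := H.XsPd
  XsPd := H.XrPd
  XdPr := H.XdPs
  XdPs := H.XdPr
  TK := H.TK
  Tab := H.Tab
  Todd := H.Todd
  TXr := H.TXs
  TXs := H.TXr
  TXd := H.TXd
  TWr := H.TWs
  TWs := H.TWr
  TWd := H.TWd
  nK := H.mK
  nX := H.mX
  nX' := H.mX'
  nW' := H.mW'
  mK := H.nK
  mX := H.nX
  mX' := H.nX'
  mW' := H.nW'
  trr := H.trs
  trs := H.trr
  cmX := fun x hx y hy => by
    rw [← cm_inv]
    exact inv_mem (H.cmX y hy x hx)
  nd := fun x hx y hy h => (H.nd y hy x hx h.symm).symm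
  bigr := H.bigs
  bigs := H.bigr
  disr := H.diss
  diss := H.disr
  YrPr := H.YsPs
  YrPd := H.YsPd
  YrN := H.YsN
  K2r := H.K2s
  YsPs := H.YrPr
  YsPd := H.YrPd
  YsN := H.YrN
  K2s := H.K2r
  YPr := H.YPs
  YPs := H.YPr
  YPd := H.YPd
  K1 := fun c h1 h2 h3 h4 => H.K1 c h1 h3 h2 h4

/-- transitivity of the torus and commutativity: one non-fixed element gives no fixed points on `X_r` -/
theorem free_r (H : Tri K R T Xr Xs Xd Wr Ws Wd Pr Ps Pd Yr Ys Y n m) {h x : G} (hh : h ∈ T) (hx : x ∈ Xr)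
    (hx1 : x ≠ 1) (hm : h * x ≠ x * h) : ∀ y ∈ Xr, h * y = y * h → y = 1 := by
  intro y hy hc
  by_contra hy1
  obtain ⟨τ, hτ, -, -, e⟩ := H.trr y hy hy1 x hx hx1
  apply hm
  have h1 := H.Tab h hh τ hτ
  rw [← e]
  calc h * (τ * y * τ⁻¹) = (h * τ) * y * τ⁻¹ := by group
    _ = τ * (h * y) * τ⁻¹ := by rw [h1]; group
    _ = τ * y * (h * τ⁻¹) := by rw [hc]; group
    _ = τ * y * τ⁻¹ * h := by rw [comm_inv' h1]; group

/-- an element of the torus fixing one element of `X_d` centralises `X_d` -/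
theorem fix_d (H : Tri K R T Xr Xs Xd Wr Ws Wd Pr Ps Pd Yr Ys Y n m) {h x : G} (hh : h ∈ T) (hx : x ∈ Xd)
    (hx1 : x ≠ 1) (hc : h * x = x * h) : ∀ y ∈ Xd, h * y = y * h := by
  intro y hy
  by_cases hy1 : y = 1
  · rw [hy1]; simp
  have hx2 : n⁻¹ * x * n ≠ 1 := by
    intro h0
    apply hx1
    calc x = n * (n⁻¹ * x * n) * n⁻¹ := by group
      _ = 1 := by rw [h0]; group
  have hy2 : n⁻¹ * y * n ≠ 1 := by
    intro h0
    apply hy1
    calc y = n * (n⁻¹ * y * n) * n⁻¹ := by group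
      _ = 1 := by rw [h0]; group
  obtain ⟨τ, hτ, -, hn, e⟩ := H.trr _ (H.nX' x hx) hx2 _ (H.nX' y hy) hy2
  have e2 : τ * x * τ⁻¹ = y := by
    calc τ * x * τ⁻¹ = (τ * n) * (n⁻¹ * x * n) * (τ * n)⁻¹ := by group
      _ = n * (τ * (n⁻¹ * x * n) * τ⁻¹) * n⁻¹ := by rw [hn]; group
      _ = y := by rw [e]; group
  have h1 := H.Tab h hh τ hτ
  rw [← e2]
  calc h * (τ * x * τ⁻¹) = (h * τ) * x * τ⁻¹ := by group
    _ = τ * (h * x) * τ⁻¹ := by rw [h1]; group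
    _ = τ * x * (h * τ⁻¹) := by rw [hc]; group
    _ = τ * x * τ⁻¹ * h := by rw [comm_inv' h1]; group

/-- `κ` centralises `X_s` and has no fixed points on `X_r`, `X_d` -/
theorem exists_k1 (H : Tri K R T Xr Xs Xd Wr Ws Wd Pr Ps Pd Yr Ys Y n m) :
    ∃ κ ∈ T, (∀ y ∈ Xs, κ * y = y * κ) ∧ (∀ x ∈ Xr, κ * x = x * κ → x = 1) ∧
      (∀ x ∈ Xd, κ * x = x * κ → x = 1) := by
  obtain ⟨x, hx, x', hx', h1, h1', hne⟩ := H.bigr
  obtain ⟨κ, hκ, hs, hn, e⟩ := H.trr x hx h1 x' hx' h1'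
  have hfr : ∀ x ∈ Xr, κ * x = x * κ → x = 1 := by
    apply H.free_r hκ hx h1
    intro hc
    apply hne
    rw [← e, hc]; group
  refine ⟨κ, hκ, hs, hfr, ?_⟩
  intro z hz hc
  have h2 := hfr _ (H.nX' z hz) ?_
  · calc z = n * (n⁻¹ * z * n) * n⁻¹ := by group
      _ = 1 := by rw [h2]; group
  · have hn' := comm_inv' hn
    calc κ * (n⁻¹ * z * n) = (κ * n⁻¹) * z * n := by group
      _ = n⁻¹ * (κ * z) * n := by rw [hn']; group
      _ = n⁻¹ * z * (κ * n) := by rw [hc]; group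
      _ = n⁻¹ * z * n * κ := by rw [hn]; group

/-- `κ` centralises `X_d` and has no fixed points on `X_r` -/
theorem exists_k3 (H : Tri K R T Xr Xs Xd Wr Ws Wd Pr Ps Pd Yr Ys Y n m) :
    ∃ κ ∈ T, (∀ y ∈ Xd, κ * y = y * κ) ∧ (∀ x ∈ Xr, κ * x = x * κ → x = 1) := by
  obtain ⟨h, hh, hs, hfr, hfd⟩ := H.exists_k1
  obtain ⟨x, hx, -, -, h1, -, -⟩ := H.bigr
  have hz : n * x * n⁻¹ ∈ Xd := H.nX x hx
  have hz1 : n * x * n⁻¹ ≠ 1 := by
    intro h0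
    apply h1
    calc x = n⁻¹ * (n * x * n⁻¹) * n := by group
      _ = 1 := by rw [h0]; group
  set z := n * x * n⁻¹ with hzdef
  have hz' : h * z * h⁻¹ ∈ Xd := H.TXd h hh z hz
  have hz'1 : h * z * h⁻¹ ≠ 1 := by
    intro h0
    apply hz1
    calc z = h⁻¹ * (h * z * h⁻¹) * h := by group
      _ = 1 := by rw [h0]; group
  have a1 : m⁻¹ * (h * z * h⁻¹) * m ≠ 1 := by
    intro h0
    apply hz'1
    calc h * z * h⁻¹ = m * (m⁻¹ * (h * z * h⁻¹) * m) * m⁻¹ := by group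
      _ = 1 := by rw [h0]; group
  have a2 : m⁻¹ * z * m ≠ 1 := by
    intro h0
    apply hz1
    calc z = m * (m⁻¹ * z * m) * m⁻¹ := by group
      _ = 1 := by rw [h0]; group
  obtain ⟨k, hk, hkr, hkm, e⟩ := H.trs _ (H.mX' _ hz') a1 _ (H.mX' z hz) a2
  have e2 : k * (h * z * h⁻¹) * k⁻¹ = z := by
    calc k * (h * z * h⁻¹) * k⁻¹ = (k * m) * (m⁻¹ * (h * z * h⁻¹) * m) * (k * m)⁻¹ := by group
      _ = m * (k * (m⁻¹ * (h * z * h⁻¹) * m) * k⁻¹) * m⁻¹ := by rw [hkm]; group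
      _ = z := by rw [e]; group
  refine ⟨k * h, mul_mem hk hh, ?_, ?_⟩
  · apply H.fix_d (mul_mem hk hh) hz hz1
    calc k * h * z = (k * (h * z * h⁻¹) * k⁻¹) * (k * h) := by group
      _ = z * (k * h) := by rw [e2]
  · intro y hy hc
    apply hfr y hy
    have h3 := hkr _ (H.TXr h hh y hy)
    have h4 : k * (h * y * h⁻¹) * k⁻¹ = y := by
      calc k * (h * y * h⁻¹) * k⁻¹ = (k * h * y) * (k * h)⁻¹ := by group
        _ = y := by rw [hc]; group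
    have h5 : h * y * h⁻¹ = y := by
      calc h * y * h⁻¹ = (h * y * h⁻¹) * k * k⁻¹ := by group
        _ = k * (h * y * h⁻¹) * k⁻¹ := by rw [← h3]
        _ = y := h4
    calc h * y = (h * y * h⁻¹) * h := by group
      _ = y * h := by rw [h5]

theorem cen_r (H : Tri K R T Xr Xs Xd Wr Ws Wd Pr Ps Pd Yr Ys Y n m) {t h : G} (ht : t ∈ R) (ht1 : t ≠ 1)
    (hh : h ∈ T) (hc : ∀ x ∈ Xr, h * x = x * h) : ∀ w ∈ Wr, h * w = w * h := by
  obtain ⟨l, hl, e⟩ := H.Todd h hh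
  exact H.Dr.cen H.A ht ht1 (H.TK hh) (H.TWr h hh) hc hl e

theorem cen_s (H : Tri K R T Xr Xs Xd Wr Ws Wd Pr Ps Pd Yr Ys Y n m) {t h : G} (ht : t ∈ R) (ht1 : t ≠ 1)
    (hh : h ∈ T) (hc : ∀ x ∈ Xs, h * x = x * h) : ∀ w ∈ Ws, h * w = w * h :=
  H.symm.cen_r ht ht1 hh hc

theorem cen_d (H : Tri K R T Xr Xs Xd Wr Ws Wd Pr Ps Pd Yr Ys Y n m) {t h : G} (ht : t ∈ R) (ht1 : t ≠ 1)
    (hh : h ∈ T) (hc : ∀ x ∈ Xd, h * x = x * h) : ∀ w ∈ Wd, h * w = w * h := by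
  obtain ⟨l, hl, e⟩ := H.Todd h hh
  exact H.Dd.cen H.A ht ht1 (H.TK hh) (H.TWd h hh) hc hl e

/-- **(A)** 60 degrees -/
theorem comm_rd [Finite G] (H : Tri K R T Xr Xs Xd Wr Ws Wd Pr Ps Pd Yr Ys Y n m) {t : G} (ht : t ∈ R)
    (ht1 : t ≠ 1) : ∀ w ∈ Wr, ∀ z ∈ Wd, w * z = z * w := by
  intro w hw z hz
  obtain ⟨κ, hκ, h1, h2⟩ := H.exists_k3
  obtain ⟨κ', hκ', h1', -, h2'⟩ := H.symm.exists_k1
  have e1 : cm w z ∈ Xr := half60 H.A H.Dr H.Dd ht ht1 H.XrPd H.XdPr H.YrPr H.YrPd H.K2r (H.TK hκ)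
    (H.TWr κ hκ) (H.TXr κ hκ) h2 (H.cen_d ht ht1 hκ h1) w hw z hz
  have e2 : cm z w ∈ Xd := by
    refine half60 H.A H.Dd H.Dr ht ht1 H.XdPr H.XrPd H.YrPd H.YrPr ?_ (H.TK hκ')
      (H.TWd κ' hκ') (H.TXd κ' hκ') h2' (H.cen_r ht ht1 hκ' h1') z hz w hw
    intro c hc hcY
    obtain ⟨x, hx, z, hz, h⟩ := H.K2r c hc hcY
    refine ⟨z, hz, x, hx, ?_⟩
    have : z * x = x * z := (H.Dr.WP x (H.Dr.XW hx) z (H.XdPr hz)).symm
    rw [this]; exact h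
  rw [← cm_inv] at e2
  exact cm_eq_one.mp (H.disr _ e1 (by simpa using inv_mem e2))

theorem comm_sd [Finite G] (H : Tri K R T Xr Xs Xd Wr Ws Wd Pr Ps Pd Yr Ys Y n m) {t : G} (ht : t ∈ R)
    (ht1 : t ≠ 1) : ∀ w ∈ Ws, ∀ z ∈ Wd, w * z = z * w := H.symm.comm_rd ht ht1

/-- **(B)** 120 degrees, first half -/
theorem x_mem [Finite G] (H : Tri K R T Xr Xs Xd Wr Ws Wd Pr Ps Pd Yr Ys Y n m) {t : G} (ht : t ∈ R)
    (ht1 : t ≠ 1) : ∀ x ∈ Xr, ∀ y ∈ Ws, cm x y ∈ Wd := by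
  -- the form of the commutator
  have key : ∀ x ∈ Xr, ∀ y ∈ Ws, ∃ a ∈ Xs, ∃ c ∈ C1 K R, ∃ w ∈ Wd, cm x y = a * c * w := by
    intro x hx y hy
    have hxK : x ∈ K := H.Dr.XK hx
    obtain ⟨w, hw, hwt⟩ := H.Dd.surj t ht ht1 _ (H.cmX x hx _ (H.Ds.brk t ht y hy))
    have hconj : ∀ a ∈ R, a * cm x y * a⁻¹ = cm x y * cm x (br a y) := by
      intro a ha
      have h1 : a * x * a⁻¹ = x := by rw [H.A.comm a ha x hxK]; group
      rw [cm_conj, h1, conj_eq a y]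
      apply cm_mul_right
      exact H.Ds.WP y hy _ (H.XdPs (H.cmX x hx _ (H.Ds.brk a ha y hy)))
    have hyd : ∀ z ∈ Xd, cm x y * z = z * cm x y := by
      intro z hz
      exact (comm_cm (H.Dd.WP z (H.Dd.XW hz) x (H.XrPd hx)) (H.Ds.WP y hy z (H.XdPs hz)).symm).symm
    -- `g = [x, y] w⁻¹`
    have hg : ∀ a ∈ R, a * (cm x y * w⁻¹) * a⁻¹ = (cm x (br a y) * (br a w)⁻¹) * (cm x y * w⁻¹) := by
      intro a ha
      have h1 : cm x (br a y) ∈ Xd := H.cmX x hx _ (H.Ds.brk a ha y hy)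
      have h2 : br a w ∈ Xd := H.Dd.brk a ha w hw
      have h3 := hyd _ h1
      have h4 := comm_inv' (hyd _ h2)
      have h5 := H.Dd.wx hw (inv_mem h2)
      calc a * (cm x y * w⁻¹) * a⁻¹ = (a * cm x y * a⁻¹) * (a * w * a⁻¹)⁻¹ := by group
        _ = (cm x y * cm x (br a y)) * (w * br a w)⁻¹ := by rw [hconj a ha, conj_eq a w]
        _ = cm x (br a y) * (cm x y * (br a w)⁻¹) * w⁻¹ := by rw [h3]; group
        _ = _ := by rw [h4]; group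
    have hgt : (cm x y * w⁻¹) * t = t * (cm x y * w⁻¹) := by
      have h1 := hg t ht
      rw [hwt, mul_inv_cancel, one_mul] at h1
      calc (cm x y * w⁻¹) * t = (t * (cm x y * w⁻¹) * t⁻¹) * t := by rw [h1]
        _ = _ := by group
    have hgR := H.A.tight ht ht1 hgt (by
      intro a ha
      have h1 : cm x (br a y) * (br a w)⁻¹ ∈ Xd :=
        mul_mem (H.cmX x hx _ (H.Ds.brk a ha y hy)) (inv_mem (H.Dd.brk a ha w hw))
      have h2 := hyd _ h1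
      have h3 := H.Dd.wx (inv_mem hw) h1
      have h4 : (cm x y * w⁻¹) * (cm x (br a y) * (br a w)⁻¹) =
          (cm x (br a y) * (br a w)⁻¹) * (cm x y * w⁻¹) := by
        rw [mul_assoc, h3, ← mul_assoc, h2, mul_assoc]
      have h5 : br a (cm x y * w⁻¹) = cm x (br a y) * (br a w)⁻¹ := by
        rw [br_def, hg a ha, ← h4]; group
      rw [h5]
      exact H.Dd.XK h1)
    have hgY : ∀ p ∈ Ys, (cm x y * w⁻¹) * p = p * (cm x y * w⁻¹) := by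
      intro p hp
      have h1 : y⁻¹ * p = p * y⁻¹ := H.Ds.WP _ (inv_mem hy) p (H.YsPs hp)
      have h2 : w⁻¹ * p = p * w⁻¹ := H.Dd.WP _ (inv_mem hw) p (H.YsPd hp)
      have h3' : x⁻¹ * p * x ∈ Ys := by
        have := H.YsN x⁻¹ (inv_mem hx) p hp
        rwa [inv_inv] at this
      have h3 : y * (x⁻¹ * p * x) = (x⁻¹ * p * x) * y := H.Ds.WP y hy _ (H.YsPs h3')
      calc (cm x y * w⁻¹) * p = x * y * x⁻¹ * y⁻¹ * (w⁻¹ * p) := by unfold cm; group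
        _ = x * y * x⁻¹ * (y⁻¹ * p) * w⁻¹ := by rw [h2]; group
        _ = x * (y * (x⁻¹ * p * x)) * x⁻¹ * y⁻¹ * w⁻¹ := by rw [h1]; group
        _ = p * (cm x y * w⁻¹) := by rw [h3]; unfold cm; group
    obtain ⟨a, ha, z, hz, hc⟩ := H.K2s _ hgR hgY
    refine ⟨a, ha, _, hc, z * w, mul_mem (H.Dd.XW hz) hw, ?_⟩
    have hcz := (mem_C1.mp hc).1 z (H.Dd.XK hz)
    have hza : z * a = a * z := H.Dd.WP z (H.Dd.XW hz) a (H.XsPd ha)
    calc cm x y = (a * z) * ((a * z)⁻¹ * (cm x y * w⁻¹)) * w := by group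
      _ = a * (z * ((a * z)⁻¹ * (cm x y * w⁻¹))) * w := by group
      _ = a * ((a * z)⁻¹ * (cm x y * w⁻¹)) * (z * w) := by rw [← hcz]; group
  intro x hx y hy
  obtain ⟨κ, hκ, h1, h2, -⟩ := H.exists_k1
  obtain ⟨v, hv, rfl⟩ := onto' (H.TXr κ hκ) h2 x hx
  obtain ⟨a, ha, c, hc, w, hw, e⟩ := key v hv y hy
  have hy' := H.cen_s ht ht1 hκ h1 y hy
  have h5 := kappa' (v := v) hy'
  rw [h5, e]
  have h4 : c * κ = κ * c := (mem_C1.mp hc).1 κ (H.TK hκ)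
  have h3 : κ * a = a * κ := h1 a ha
  set u := (κ * w * κ⁻¹) * w⁻¹ with hu
  have huW : u ∈ Wd := mul_mem (H.TWd κ hκ w hw) (inv_mem hw)
  have h6 : κ * (a * c * w) * κ⁻¹ * (a * c * w)⁻¹ = a * (c * u * c⁻¹) * a⁻¹ := by
    calc κ * (a * c * w) * κ⁻¹ * (a * c * w)⁻¹
        = (κ * a) * c * w * κ⁻¹ * w⁻¹ * c⁻¹ * a⁻¹ := by group
      _ = a * (κ * c) * w * κ⁻¹ * w⁻¹ * c⁻¹ * a⁻¹ := by rw [h3]; group
      _ = _ := by rw [← h4, hu]; group
  have h7 := H.Dd.C1W c hc u huW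
  have h8 : a * (c * u * c⁻¹) * a⁻¹ = c * u * c⁻¹ := by
    rw [← H.Dd.WP _ h7 a (H.XsPd ha)]; group
  rw [h6, h8]
  have hv' := H.Dd.WP _ h7 v (H.XrPd hv)
  have h9 : v⁻¹ * (c * u * c⁻¹) * v = c * u * c⁻¹ := by
    rw [mul_assoc, hv']; group
  rw [h9]
  exact h7

/-- the elements of `W_d` are of the form `[x, y] z` -/
theorem form_d [Finite G] (H : Tri K R T Xr Xs Xd Wr Ws Wd Pr Ps Pd Yr Ys Y n m) {t : G} (ht : t ∈ R)
    (ht1 : t ≠ 1) {x : G} (hx : x ∈ Xr) (hx1 : x ≠ 1) : ∀ w ∈ Wd, ∃ y ∈ Ws, ∃ z ∈ Xd, w = z * cm x y := by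
  -- `y ↦ [x, y]` is onto `X_d`
  have hon : ∀ z ∈ Xd, ∃ y ∈ Xs, cm x y = z := by
    let f : Xs → Xs := fun y => ⟨m⁻¹ * cm x y * m, H.mX' _ (H.cmX x hx y y.2)⟩
    have hf : Function.Injective f := by
      intro y y' h
      have h1 : m⁻¹ * cm x (y : G) * m = m⁻¹ * cm x (y' : G) * m := congrArg Subtype.val h
      have h2 : cm x (y : G) = cm x (y' : G) := by
        calc cm x (y : G) = m * (m⁻¹ * cm x (y : G) * m) * m⁻¹ := by group
          _ = m * (m⁻¹ * cm x (y' : G) * m) * m⁻¹ := by rw [h1]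
          _ = _ := by group
      have hz : cm x (y' : G) ∈ Xd := H.cmX x hx _ y'.2
      have h3 : ((y' : G)⁻¹ * y) * cm x (y' : G) = cm x (y' : G) * ((y' : G)⁻¹ * y) := by
        have : cm x (y' : G) * ((y' : G)⁻¹ * y) = ((y' : G)⁻¹ * y) * cm x (y' : G) :=
          H.Dd.WP _ (H.Dd.XW hz) _ (H.XsPd (mul_mem (inv_mem y'.2) y.2))
        exact this.symm
      have h4 : x * ((y' : G)⁻¹ * y) = ((y' : G)⁻¹ * y) * x := by
        -- `[x, y'] = [x, y] = [x, y' (y'⁻¹ y)]`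
        have e1 : cm x ((y' : G) * ((y' : G)⁻¹ * y)) = cm x (y' : G) * (y' * cm x ((y' : G)⁻¹ * y) * (y' : G)⁻¹) := by
          unfold cm; group
        have e2 : (y' : G) * ((y' : G)⁻¹ * y) = y := by group
        rw [e2, h2] at e1
        have e3 : (y' : G) * cm x ((y' : G)⁻¹ * y) * (y' : G)⁻¹ = 1 := (mul_eq_left.mp e1.symm)
        have e4 : cm x ((y' : G)⁻¹ * y) = 1 := by
          calc cm x ((y' : G)⁻¹ * y) = (y' : G)⁻¹ * (y' * cm x ((y' : G)⁻¹ * y) * (y' : G)⁻¹) * y' := by group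
            _ = 1 := by rw [e3]; group
        exact cm_eq_one.mp e4
      rcases H.nd x hx _ (mul_mem (inv_mem y'.2) y.2) h4 with h5 | h5
      · exact absurd h5 hx1
      · exact Subtype.ext (inv_mul_eq_one.mp h5).symm
    intro z hz
    obtain ⟨y, hy⟩ := Finite.surjective_of_injective hf ⟨m⁻¹ * z * m, H.mX' z hz⟩
    refine ⟨y, y.2, ?_⟩
    have h1 : m⁻¹ * cm x (y : G) * m = m⁻¹ * z * m := congrArg Subtype.val hy
    calc cm x (y : G) = m * (m⁻¹ * cm x (y : G) * m) * m⁻¹ := by group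
      _ = z := by rw [h1]; group
  intro w hw
  obtain ⟨y', hy', e⟩ := hon _ (H.Dd.brk t ht w hw)
  obtain ⟨y, hy, hyt⟩ := H.Ds.surj t ht ht1 y' hy'
  refine ⟨y, hy, w * (cm x y)⁻¹, ?_, by group⟩
  apply H.Dd.eq_of_br ht ht1 hw (H.x_mem ht ht1 x hx y hy)
  have h1 : t * x * t⁻¹ = x := by rw [H.A.comm t ht x (H.Dr.XK hx)]; group
  have h2 : t * cm x y * t⁻¹ = cm x y * cm x y' := by
    rw [cm_conj, h1, conj_eq t y, hyt]
    apply cm_mul_right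
    exact H.Ds.WP y hy _ (H.XdPs (H.cmX x hx _ hy'))
  rw [br_def t (cm x y), h2, ← e]; group

/-- `W_d` is elementary abelian -/
theorem sq_d [Finite G] (H : Tri K R T Xr Xs Xd Wr Ws Wd Pr Ps Pd Yr Ys Y n m) {t : G} (ht : t ∈ R)
    (ht1 : t ≠ 1) : ∀ w ∈ Wd, w * w = 1 := by
  intro w hw
  obtain ⟨x, hx, -, -, hx1, -, -⟩ := H.bigr
  obtain ⟨y, hy, z, hz, rfl⟩ := H.form_d ht ht1 hx hx1 w hw
  have h1 := H.x_mem ht ht1 x hx y hy
  have h2 : cm x y * z = z * cm x y := H.Dd.wx h1 hz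
  have h3 : cm x y * x = x * cm x y := H.Dd.WP _ h1 x (H.XrPd hx)
  have hxx := H.Dr.XX x hx
  have h4 : cm x y * cm x y = 1 := by
    -- `[x², y] = x [x, y] x⁻¹ [x, y]`
    calc cm x y * cm x y = (x * cm x y) * x⁻¹ * cm x y := by rw [← h3]; group
      _ = cm (x * x) y := by unfold cm; group
      _ = 1 := by rw [hxx]; unfold cm; group
  calc z * cm x y * (z * cm x y) = z * (cm x y * z) * cm x y := by group
    _ = (z * z) * (cm x y * cm x y) := by rw [h2]; group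
    _ = 1 := by rw [H.Dd.XX z hz, h4, one_mul]

theorem comm_d [Finite G] (H : Tri K R T Xr Xs Xd Wr Ws Wd Pr Ps Pd Yr Ys Y n m) {t : G} (ht : t ∈ R)
    (ht1 : t ≠ 1) : ∀ w ∈ Wd, ∀ z ∈ Wd, w * z = z * w := by
  intro w hw z hz
  have h := H.sq_d ht ht1 _ (mul_mem hw hz)
  have hi : ∀ w ∈ Wd, w⁻¹ = w := fun w hw => inv_eq_of_mul_eq_one_left (H.sq_d ht ht1 w hw)
  calc w * z = (w * z)⁻¹ := (hi _ (mul_mem hw hz)).symm
    _ = z⁻¹ * w⁻¹ := by group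
    _ = z * w := by rw [hi w hw, hi z hz]

/-- commutators `[w, y]` centralise `X_r` -/
theorem cm_x [Finite G] (H : Tri K R T Xr Xs Xd Wr Ws Wd Pr Ps Pd Yr Ys Y n m) {t : G} (ht : t ∈ R)
    (ht1 : t ≠ 1) {w y : G} (hw : w ∈ Wr) (hy : y ∈ Ws) : ∀ x ∈ Xr, cm w y * x = x * cm w y := by
  intro x hx
  have h1 : x * w * x⁻¹ = w := by rw [← H.Dr.wx hw hx]; group
  have h2 := H.x_mem ht ht1 x hx y hy
  have h3 : x * y * x⁻¹ = cm x y * y := by unfold cm; group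
  have h4 : w * cm x y = cm x y * w := H.comm_rd ht ht1 w hw _ h2
  have h5 : y * cm x y = cm x y * y := H.comm_sd ht ht1 y hy _ h2
  have h6 : x * cm w y * x⁻¹ = cm w y := by
    rw [cm_conj, h1, h3]
    calc cm w (cm x y * y) = (w * cm x y) * y * w⁻¹ * y⁻¹ * (cm x y)⁻¹ := by unfold cm; group
      _ = cm x y * cm w y * (cm x y)⁻¹ := by rw [h4]; unfold cm; group
      _ = cm w y := by
        rw [comm_cm h4.symm h5.symm]; group
  calc cm w y * x = (x * cm w y * x⁻¹) * x := by rw [h6]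
    _ = _ := by group

theorem cm_d [Finite G] (H : Tri K R T Xr Xs Xd Wr Ws Wd Pr Ps Pd Yr Ys Y n m) {t : G} (ht : t ∈ R)
    (ht1 : t ≠ 1) {w y : G} (hw : w ∈ Wr) (hy : y ∈ Ws) : ∀ z ∈ Wd, cm w y * z = z * cm w y := by
  intro z hz
  exact (comm_cm (H.comm_rd ht ht1 w hw z hz).symm (H.comm_sd ht ht1 y hy z hz).symm).symm

theorem x_mem' [Finite G] (H : Tri K R T Xr Xs Xd Wr Ws Wd Pr Ps Pd Yr Ys Y n m) {t : G} (ht : t ∈ R)
    (ht1 : t ≠ 1) : ∀ w ∈ Wr, ∀ y ∈ Xs, cm w y ∈ Wd := by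
  intro w hw y hy
  rw [← cm_inv]
  exact inv_mem (H.symm.x_mem ht ht1 y hy w hw)

/-- the action of `R` on a commutator -/
theorem conj_cm [Finite G] (H : Tri K R T Xr Xs Xd Wr Ws Wd Pr Ps Pd Yr Ys Y n m) {t : G} (ht : t ∈ R)
    (ht1 : t ≠ 1) {a w y : G} (ha : a ∈ R) (hw : w ∈ Wr) (hy : y ∈ Ws) :
    a * cm w y * a⁻¹ = cm w y * (cm (br a w) y * cm w (br a y) * cm (br a w) (br a y)) := by
  have hx := H.Dr.brk a ha w hw
  have hz := H.Ds.brk a ha y hy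
  set x := br a w
  set z := br a y
  have e1 := H.x_mem ht ht1 x hx y hy
  have e2 := H.x_mem' ht ht1 w hw z hz
  have e3 := H.Dd.XW (H.cmX x hx z hz)
  rw [cm_conj, conj_eq a w, conj_eq a y]
  -- `[w x, y z]`
  have f1 : cm (w * x) (y * z) = cm w (y * z) * cm x (y * z) := by
    have g1 : cm x (y * z) = cm x y * cm x z := cm_mul_right (H.comm_sd ht ht1 y hy _ e3)
    have g2 : cm x (y * z) ∈ Wd := by rw [g1]; exact mul_mem e1 e3
    apply cm_mul_left (H.comm_rd ht ht1 w hw _ g2)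
    exact (H.cm_d ht ht1 hw (mul_mem hy (H.Ds.XW hz)) _ g2).symm
  have f2 : cm w (y * z) = cm w y * cm w z := cm_mul_right (H.comm_sd ht ht1 y hy _ e2)
  have f3 : cm x (y * z) = cm x y * cm x z := cm_mul_right (H.comm_sd ht ht1 y hy _ e3)
  rw [f1, f2, f3]
  have f4 := H.comm_d ht ht1 _ e2 _ e1
  calc cm w y * cm w z * (cm x y * cm x z) = cm w y * (cm w z * cm x y) * cm x z := by group
    _ = _ := by rw [f4]; group

/-- `br a [w, y] ∈ X_d` -/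
theorem br_cm_mem [Finite G] (H : Tri K R T Xr Xs Xd Wr Ws Wd Pr Ps Pd Yr Ys Y n m) {t : G} (ht : t ∈ R)
    (ht1 : t ≠ 1) {a w y : G} (ha : a ∈ R) (ha1 : a ≠ 1) (hw : w ∈ Wr) (hy : y ∈ Ws) :
    br a (cm w y) ∈ Xd := by
  have hx := H.Dr.brk a ha w hw
  have hz := H.Ds.brk a ha y hy
  have h0 := H.conj_cm ht ht1 ha hw hy
  set x := br a w
  set z := br a y
  have e1 := H.x_mem ht ht1 x hx y hy
  have e2 := H.x_mem' ht ht1 w hw z hz
  have e3 := H.Dd.XW (H.cmX x hx z hz)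
  have h1 : br a (cm w y) = cm x y * cm w z * cm x z := by
    rw [br_def, h0]; group
  have hW : br a (cm w y) ∈ Wd := by rw [h1]; exact mul_mem (mul_mem e1 e2) e3
  have haa := H.A.tt a ha
  apply H.Dd.fix a ha ha1 _ hW
  -- `u = a² u a⁻² = u e eᵃ`
  set u := cm w y
  set e := br a u with he
  have h2 : a * u * a⁻¹ = u * e := conj_eq a u
  have h3 : u * e * (a * e * a⁻¹) = u := by
    calc u * e * (a * e * a⁻¹) = (a * u * a⁻¹) * (a * e * a⁻¹) := by rw [h2]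
      _ = a * (u * e) * a⁻¹ := by group
      _ = a * (a * u * a⁻¹) * a⁻¹ := by rw [h2]
      _ = (a * a) * u * (a * a)⁻¹ := by group
      _ = u := by rw [haa]; group
  have h4 : e * (a * e * a⁻¹) = 1 := by
    have : u * (e * (a * e * a⁻¹)) = u := by rw [← mul_assoc]; exact h3
    exact mul_eq_left.mp this
  have h5 : a * e * a⁻¹ = e := by
    calc a * e * a⁻¹ = e⁻¹ := (inv_eq_of_mul_eq_one_right h4).symm
      _ = e := inv_eq_of_mul_eq_one_left (H.sq_d ht ht1 e hW)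
  calc a * e = (a * e * a⁻¹) * a := by group
    _ = e * a := by rw [h5]

/-- **(C)** 120 degrees: `[W_r, W_s] ≤ W_d` -/
theorem mem [Finite G] (H : Tri K R T Xr Xs Xd Wr Ws Wd Pr Ps Pd Yr Ys Y n m) {t : G} (ht : t ∈ R)
    (ht1 : t ≠ 1) : ∀ w ∈ Wr, ∀ y ∈ Ws, cm w y ∈ Wd := by
  have key : ∀ w ∈ Wr, ∀ y ∈ Ws, ∃ c ∈ C1 K R, ∃ v ∈ Wd, cm w y = v * c := by
    intro w hw y hy
    obtain ⟨w1, hw1, e1⟩ := H.Dd.surj t ht ht1 _ (H.br_cm_mem ht ht1 ht ht1 hw hy)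
    -- `g = w1⁻¹ [w, y]`
    have hcomm := H.cm_d ht ht1 hw hy
    have hbr : ∀ a ∈ R, a ≠ 1 → br a (w1⁻¹ * cm w y) = (br a w1)⁻¹ * br a (cm w y) := by
      intro a ha ha1
      rw [br_mul, H.Dd.br_inv ha hw1]
      rw [H.Dd.br_inv ha hw1]
      have h1 := H.Dd.XW (inv_mem (H.Dd.brk a ha w1 hw1))
      have h2 := hcomm _ h1
      rw [mul_assoc, ← h2]; group
    have hg1 : (w1⁻¹ * cm w y) * t = t * (w1⁻¹ * cm w y) := by
      have : br t (w1⁻¹ * cm w y) = 1 := by rw [hbr t ht ht1, e1]; group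
      exact (br_eq_one.mp this).symm
    have hgR := H.A.tight ht ht1 hg1 (by
      intro a ha
      by_cases ha1 : a = 1
      · have : br a (w1⁻¹ * cm w y) = 1 := by rw [ha1]; unfold br; group
        rw [this]; exact one_mem _
      · rw [hbr a ha ha1]
        exact H.Dd.XK (mul_mem (inv_mem (H.Dd.brk a ha w1 hw1)) (H.br_cm_mem ht ht1 ha ha1 hw hy)))
    have hc : ∀ p : G, w1 * p = p * w1 → cm w y * p = p * cm w y →
        (w1⁻¹ * cm w y) * p = p * (w1⁻¹ * cm w y) := by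
      intro p h1 h2
      rw [mul_assoc, h2, ← mul_assoc, comm_inv h1, mul_assoc]
    obtain ⟨z, hz, hC⟩ := H.K1 _ hgR
      (fun x hx => hc x (H.Dd.WP w1 hw1 x (H.XrPd hx)) (H.cm_x ht ht1 hw hy x hx))
      (fun x hx => by
        refine hc x (H.Dd.WP w1 hw1 x (H.XsPd hx)) ?_
        have h1 := H.symm.cm_x ht ht1 hy hw x hx
        rw [← cm_inv w y] at h1
        have h2 : (cm w y)⁻¹ * x = x * (cm w y)⁻¹ := h1
        have := comm_inv h2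
        rwa [inv_inv] at this)
      (fun p hp => hc p (H.Dd.WP w1 hw1 p (H.YPd hp))
        (comm_cm (H.Dr.WP w hw p (H.YPr hp)).symm (H.Ds.WP y hy p (H.YPs hp)).symm).symm)
    refine ⟨_, hC, w1 * z, mul_mem hw1 (H.Dd.XW hz), ?_⟩
    group
  intro w hw y hy
  obtain ⟨κ, hκ, h1, h2, -⟩ := H.exists_k1
  obtain ⟨v, hv, rfl⟩ := H.Dr.onto H.A ht ht1 (H.TK hκ) (H.TWr κ hκ) h2 w hw
  obtain ⟨c, hc, u, hu, e⟩ := key v hv y hy
  have h5 := kappa' (v := v) (H.cen_s ht ht1 hκ h1 y hy)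
  rw [h5, e]
  have h4 : c * κ = κ * c := (mem_C1.mp hc).1 κ (H.TK hκ)
  have h6 : κ * (u * c) * κ⁻¹ * (u * c)⁻¹ = (κ * u * κ⁻¹) * u⁻¹ := by
    calc κ * (u * c) * κ⁻¹ * (u * c)⁻¹ = κ * u * (c * κ⁻¹) * c⁻¹ * u⁻¹ := by group
      _ = κ * u * (κ⁻¹ * c) * c⁻¹ * u⁻¹ := by rw [comm_inv' h4]
      _ = _ := by group
  rw [h6]
  have h7 : (κ * u * κ⁻¹) * u⁻¹ ∈ Wd := mul_mem (H.TWd κ hκ u hu) (inv_mem hu)
  have h8 := H.comm_rd ht ht1 v hv _ h7
  have h9 : v⁻¹ * ((κ * u * κ⁻¹) * u⁻¹) * v = (κ * u * κ⁻¹) * u⁻¹ := by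
    rw [mul_assoc, ← h8]; group
  rw [h9]
  exact h7

/-! ### The contradiction -/

/-- for two involutions of `R` there is an element of the torus, centralising `X_s` and commuting with the
reflection in `s`, that carries `br t` to `br t'`, on `W_r` and on `W_d` -/
theorem exists_h (H : Tri K R T Xr Xs Xd Wr Ws Wd Pr Ps Pd Yr Ys Y n m) {t t' : G} (ht : t ∈ R)
    (ht1 : t ≠ 1) (ht' : t' ∈ R) (ht1' : t' ≠ 1) :
    ∃ h ∈ T, (∀ y ∈ Xs, h * y = y * h) ∧ (∀ v ∈ Wr, br t' v = h * br t v * h⁻¹) ∧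
      (∀ v ∈ Wd, br t' v = h * br t v * h⁻¹) := by
  obtain ⟨x0, hx0, -, -, hx01, -, -⟩ := H.bigr
  obtain ⟨v0, hv0, e0⟩ := H.Dr.surj t ht ht1 x0 hx0
  have h1 : br t' v0 ∈ Xr := H.Dr.brk t' ht' v0 hv0
  have h2 : br t' v0 ≠ 1 := by
    intro h
    apply hx01
    rw [← e0]
    exact H.Dr.br_x H.A ht (H.Dr.fix t' ht' ht1' v0 hv0 (br_eq_one.mp h))
  obtain ⟨h, hh, hs, hn, e⟩ := H.trr x0 hx0 hx01 _ h1 h2
  have hr : ∀ v ∈ Wr, br t' v = h * br t v * h⁻¹ := by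
    intro v hv
    by_cases hv1 : br t v = 1
    · have hvX := H.Dr.fix t ht ht1 v hv (br_eq_one.mp hv1)
      rw [hv1, H.Dr.br_x H.A ht' hvX]; group
    · obtain ⟨τ, hτ, -, -, e2⟩ := H.trr x0 hx0 hx01 _ (H.Dr.brk t ht v hv) hv1
      have hτK := H.TK hτ
      have h3 : br t (τ * v0 * τ⁻¹) = br t v := by
        rw [br_conj (H.A.comm t ht τ hτK), e0, e2]
      have h4 := H.TWr τ hτ v0 hv0
      have h5 := H.Dr.eq_of_br ht ht1 h4 hv h3
      have h6 : br t' (τ * v0 * τ⁻¹) = br t' v := by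
        have h7 : br t' ((τ * v0 * τ⁻¹ * v⁻¹) * v) = br t' (τ * v0 * τ⁻¹ * v⁻¹) * br t' v :=
          H.Dr.br_mul ht' (H.Dr.XW h5) hv
        rw [H.Dr.br_x H.A ht' h5, one_mul] at h7
        rw [← h7]; congr 1; group
      rw [← h6, br_conj (H.A.comm t' ht' τ hτK), ← e, ← e2]
      have h8 := H.Tab h hh τ hτ
      calc τ * (h * x0 * h⁻¹) * τ⁻¹ = (τ * h) * x0 * (τ * h)⁻¹ := by group
        _ = (h * τ) * x0 * (h * τ)⁻¹ := by rw [h8]
        _ = _ := by group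
  refine ⟨h, hh, hs, hr, ?_⟩
  intro w hw
  have h3 := hr _ (H.nW' w hw)
  have hnt : ∀ a ∈ R, br a w = n * br a (n⁻¹ * w * n) * n⁻¹ := by
    intro a ha
    rw [← br_conj (H.A.comm a ha n H.nK)]
    congr 1; group
  rw [hnt t' ht', hnt t ht, h3]
  calc n * (h * br t (n⁻¹ * w * n) * h⁻¹) * n⁻¹ = (n * h) * br t (n⁻¹ * w * n) * (n * h)⁻¹ := by group
    _ = (h * n) * br t (n⁻¹ * w * n) * (h * n)⁻¹ := by rw [hn]
    _ = _ := by group

/-- **KILL.** `R` has order at most two. -/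
theorem eq_of_ne_one [Finite G] (H : Tri K R T Xr Xs Xd Wr Ws Wd Pr Ps Pd Yr Ys Y n m) {t t' : G} (ht : t ∈ R)
    (ht1 : t ≠ 1) (ht' : t' ∈ R) (ht1' : t' ≠ 1) : t' = t := by
  by_contra hne
  obtain ⟨h, hh, hs, hr, hd⟩ := H.exists_h ht ht1 ht' ht1'
  obtain ⟨k, hk, kr, ks, kd⟩ := H.symm.exists_h ht ht1 ht' ht1'
  have hs' := H.cen_s ht ht1 hh hs
  have kr' := H.cen_r ht ht1 hk kr
  -- `h` and `k` act in the same way on `X_d`
  have hkX : ∀ z ∈ Xd, (k⁻¹ * h) * z = z * (k⁻¹ * h) := by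
    intro z hz
    obtain ⟨w, hw, e⟩ := H.Dd.surj t ht ht1 z hz
    have h1 := hd w hw
    rw [kd w hw, e] at h1
    calc (k⁻¹ * h) * z = k⁻¹ * (h * z * h⁻¹) * h := by group
      _ = k⁻¹ * (k * z * k⁻¹) * h := by rw [h1]
      _ = _ := by group
  have hkT : k⁻¹ * h ∈ T := mul_mem (inv_mem hk) hh
  have hkW := H.cen_d ht ht1 hkT hkX
  have hkW' : ∀ w ∈ Wd, h * w * h⁻¹ = k * w * k⁻¹ := by
    intro w hw
    calc h * w * h⁻¹ = k * ((k⁻¹ * h) * w) * h⁻¹ := by group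
      _ = k * w * k⁻¹ := by rw [hkW w hw]; group
  -- elements
  obtain ⟨x0, hx0, -, -, hx01, -, -⟩ := H.bigr
  obtain ⟨y0, hy0, -, -, hy01, -, -⟩ := H.bigs
  obtain ⟨v, hv, ev⟩ := H.Dr.surj t' ht' ht1' x0 hx0
  obtain ⟨y, hy, ey⟩ := H.Ds.surj t ht ht1 y0 hy0
  have hc := H.mem ht ht1 v hv y hy
  have c1 := hd _ hc
  have b1 : ∀ a ∈ R, br a (cm v y) = cm (br a v) y * cm v (br a y) * cm (br a v) (br a y) := by
    intro a ha
    rw [br_def, H.conj_cm ht ht1 ha hv hy]; group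
  rw [b1 t ht, b1 t' ht'] at c1
  have hx := H.Dr.brk t ht v hv
  have hz := H.Ds.brk t ht y hy
  have hx' := H.Dr.brk t' ht' v hv
  have hz' := H.Ds.brk t' ht' y hy
  have ex := hr v hv
  have ez := ks y hy
  have hy' := hs' y hy
  have hcy : h * y * h⁻¹ = y := by rw [hy']; group
  have hcz : h * br t y * h⁻¹ = br t y := by rw [hs _ hz]; group
  have hcv : k * v * k⁻¹ = v := by rw [kr' v hv]; group
  have r1 : h * (cm (br t v) y * cm v (br t y) * cm (br t v) (br t y)) * h⁻¹ =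
      cm (br t' v) y * cm v (br t' y) * cm (br t' v) (br t y) := by
    have q1 : h * cm (br t v) y * h⁻¹ = cm (br t' v) y := by rw [cm_conj, hcy, ← ex]
    have q2 : h * cm v (br t y) * h⁻¹ = cm v (br t' y) := by
      rw [hkW' _ (H.x_mem' ht ht1 v hv _ hz), cm_conj, hcv, ← ez]
    have q3 : h * cm (br t v) (br t y) * h⁻¹ = cm (br t' v) (br t y) := by rw [cm_conj, hcz, ← ex]
    rw [← q1, ← q2, ← q3]; group
  rw [r1] at c1
  have c2 : cm (br t' v) (br t' y) = cm (br t' v) (br t y) := mul_left_cancel c1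
  -- so `br t' y = br t y`
  have c3 : (br t' v) * ((br t y)⁻¹ * br t' y) = ((br t y)⁻¹ * br t' y) * (br t' v) := by
    have e1 : cm (br t' v) (br t y * ((br t y)⁻¹ * br t' y)) =
        cm (br t' v) (br t y) * (br t y * cm (br t' v) ((br t y)⁻¹ * br t' y) * (br t y)⁻¹) := by
      unfold cm; group
    have e2 : br t y * ((br t y)⁻¹ * br t' y) = br t' y := by group
    rw [e2, c2] at e1
    have e3 := mul_eq_left.mp e1.symm
    apply cm_eq_one.mp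
    calc cm (br t' v) ((br t y)⁻¹ * br t' y)
        = (br t y)⁻¹ * (br t y * cm (br t' v) ((br t y)⁻¹ * br t' y) * (br t y)⁻¹) * br t y := by group
      _ = 1 := by rw [e3]; group
  rcases H.nd _ hx' _ (mul_mem (inv_mem hz) hz') c3 with c4 | c4
  · exact hx01 (by rw [← ev]; exact c4)
  · have c5 : br t' y = br t y := (inv_mul_eq_one.mp c4).symm
    have c6 : t' * y * t'⁻¹ = t * y * t⁻¹ := by rw [conj_eq t' y, conj_eq t y, c5]
    have c7 : (t⁻¹ * t') * y = y * (t⁻¹ * t') := by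
      calc (t⁻¹ * t') * y = t⁻¹ * (t' * y * t'⁻¹) * t' := by group
        _ = _ := by rw [c6]; group
    have c8 : t⁻¹ * t' ≠ 1 := fun h0 => hne (inv_mul_eq_one.mp h0).symm
    have c9 := H.Ds.fix _ (mul_mem (inv_mem ht) ht') c8 y hy c7
    apply hy01
    rw [← ey]
    exact H.Ds.br_x H.A ht c9

end Tri

end Cfsg.Agent.OddHalf.DblR

end

-- merged: Cfsg.Agent.OddHalf.DblR.Fam
section

/-!
# ODD, D4: transport of the doubled root group, the final form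

* `DW.conj` : conjugates of a doubled root group by elements of `K`;
* `KTri` : the part of `Tri` that only speaks about `K`; `KTri.tri`;
* **`KTri.false`** : if `Loc` holds for a root group, `KTri` for three of its conjugates, `R` has at least two
  involutions, then no `g` normalising `P`, `Q`, `X`, `R X` moves `R`;
* **`no_pair`** : the same for `g` with `R^g ≤ R X`, `R ≤ (R X)^(k g)`.
-/

set_option autoImplicit false

namespace Cfsg.Agent.OddHalf.DblR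

open Cfsg.Agent.Nodes.Reps

variable {G : Type*} [Group G]

theorem DW.conj {K R P X W : Subgroup G} (A : Amb K R) (D : DW K R P X W) {k : G} (hk : k ∈ K) :
    DW K R (cj k P) (cj k X) (cj k W) where
  XP := cj_mono k D.XP
  PK := by
    have h := cj_mono k D.PK
    rwa [cj_eq_of_mem hk] at h
  XW := cj_mono k D.XW
  XX := by
    intro x hx
    rw [mem_cj] at hx
    have h := D.XX _ hx
    calc x * x = k * ((k⁻¹ * x * k) * (k⁻¹ * x * k)) * k⁻¹ := by group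
      _ = 1 := by rw [h]; group
  WP := by
    intro w hw p hp
    rw [mem_cj] at hw hp
    have h := D.WP _ hw _ hp
    calc w * p = k * ((k⁻¹ * w * k) * (k⁻¹ * p * k)) * k⁻¹ := by group
      _ = k * ((k⁻¹ * p * k) * (k⁻¹ * w * k)) * k⁻¹ := by rw [h]
      _ = p * w := by group
  brk := by
    intro t ht w hw
    rw [mem_cj] at hw ⊢
    have h := br_conj (w := k⁻¹ * w * k) (A.comm t ht k hk)
    have e : k * (k⁻¹ * w * k) * k⁻¹ = w := by group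
    rw [e] at h
    rw [h]
    have e2 : k⁻¹ * (k * br t (k⁻¹ * w * k) * k⁻¹) * k = br t (k⁻¹ * w * k) := by group
    rw [e2]
    exact D.brk t ht _ hw
  fix := by
    intro t ht ht1 w hw hc
    rw [mem_cj] at hw ⊢
    apply D.fix t ht ht1 _ hw
    have h := A.comm t ht k hk
    have h' : t * k⁻¹ = k⁻¹ * t := comm_inv' h
    calc t * (k⁻¹ * w * k) = (t * k⁻¹) * w * k := by group
      _ = k⁻¹ * (t * w) * k := by rw [h']; group
      _ = k⁻¹ * w * (t * k) := by rw [hc]; group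
      _ = k⁻¹ * w * k * t := by rw [h]; group
  surj := by
    intro t ht ht1 x hx
    rw [mem_cj] at hx
    obtain ⟨w, hw, e⟩ := D.surj t ht ht1 _ hx
    refine ⟨k * w * k⁻¹, conj_mem_cj.2 hw, ?_⟩
    rw [br_conj (A.comm t ht k hk), e]; group
  C1W := by
    intro c hc w hw
    rw [mem_cj] at hw ⊢
    have h := (mem_C1.mp hc).1 k hk
    have h1 := D.C1W c hc _ hw
    have h2 : k⁻¹ * (c * w * c⁻¹) * k = c * (k⁻¹ * w * k) * c⁻¹ := by
      have h' : c * k⁻¹ = k⁻¹ * c := comm_inv' h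
      have h'' : c⁻¹ * k = k * c⁻¹ := comm_inv h
      calc k⁻¹ * (c * w * c⁻¹) * k = (k⁻¹ * c) * w * (c⁻¹ * k) := by group
        _ = _ := by rw [← h', h'']; group
    rw [h2]
    exact h1

/-- **The hypotheses on `K` for three roots `r`, `s`, `d = r + s`.** -/
structure KTri (K R T Xr Xs Xd Pr Ps Pd Yr Ys Y : Subgroup G) (n m : G) : Prop where
  XrPd : Xr ≤ Pd
  XsPd : Xs ≤ Pd
  XdPr : Xd ≤ Pr
  XdPs : Xd ≤ Ps
  TK : T ≤ K
  Tab : ∀ h ∈ T, ∀ k ∈ T, h * k = k * h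
  Todd : ∀ h ∈ T, ∃ l : ℕ, Odd l ∧ h ^ l = 1
  TXr : ∀ h ∈ T, cj h Xr = Xr
  TXs : ∀ h ∈ T, cj h Xs = Xs
  TXd : ∀ h ∈ T, cj h Xd = Xd
  nK : n ∈ K
  nX : cj n Xr = Xd
  mK : m ∈ K
  mX : cj m Xs = Xd
  trr : ∀ x ∈ Xr, x ≠ 1 → ∀ x' ∈ Xr, x' ≠ 1 → ∃ h ∈ T, (∀ y ∈ Xs, h * y = y * h) ∧ h * n = n * h ∧ h * x * h⁻¹ = x'
  trs : ∀ x ∈ Xs, x ≠ 1 → ∀ x' ∈ Xs, x' ≠ 1 → ∃ h ∈ T, (∀ y ∈ Xr, h * y = y * h) ∧ h * m = m * h ∧ h * x * h⁻¹ = x'
  cmX : ∀ x ∈ Xr, ∀ y ∈ Xs, x * y * x⁻¹ * y⁻¹ ∈ Xd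
  nd : ∀ x ∈ Xr, ∀ y ∈ Xs, x * y = y * x → x = 1 ∨ y = 1
  big : ∃ x ∈ Xr, ∃ x' ∈ Xr, x ≠ 1 ∧ x' ≠ 1 ∧ x ≠ x'
  disr : ∀ x ∈ Xr, x ∈ Xd → x = 1
  diss : ∀ x ∈ Xs, x ∈ Xd → x = 1
  YrPr : Yr ≤ Pr
  YrPd : Yr ≤ Pd
  YrN : ∀ x ∈ Xs, ∀ y ∈ Yr, x * y * x⁻¹ ∈ Yr
  K2r : ∀ c : G, (∀ a ∈ R, c * a = a * c) → (∀ y ∈ Yr, c * y = y * c) →
    ∃ x ∈ Xr, ∃ z ∈ Xd, (x * z)⁻¹ * c ∈ C1 K R
  YsPs : Ys ≤ Ps
  YsPd : Ys ≤ Pd
  YsN : ∀ x ∈ Xr, ∀ y ∈ Ys, x * y * x⁻¹ ∈ Ys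
  K2s : ∀ c : G, (∀ a ∈ R, c * a = a * c) → (∀ y ∈ Ys, c * y = y * c) →
    ∃ x ∈ Xs, ∃ z ∈ Xd, (x * z)⁻¹ * c ∈ C1 K R
  YPr : Y ≤ Pr
  YPs : Y ≤ Ps
  YPd : Y ≤ Pd
  K1 : ∀ c : G, (∀ a ∈ R, c * a = a * c) → (∀ x ∈ Xr, c * x = x * c) → (∀ x ∈ Xs, c * x = x * c) →
    (∀ y ∈ Y, c * y = y * c) → ∃ z ∈ Xd, z⁻¹ * c ∈ C1 K R

/-- `W` is a doubled root group, invariant under the normaliser of `X` in `K`. -/
structure Base (K R P X W : Subgroup G) : Prop where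
  dw : DW K R P X W
  nor : ∀ k ∈ K, cj k X = X → cj k W = W

theorem Base.cj_eq {K R P X W : Subgroup G} (B : Base K R P X W) {a b : G} (ha : a ∈ K) (hb : b ∈ K)
    (h : cj a X = cj b X) : cj a W = cj b W := by
  have h1 : cj (b⁻¹ * a) X = X := by rw [cj_mul, h, cj_inv_cj]
  have h2 := B.nor _ (mul_mem (inv_mem hb) ha) h1
  calc cj a W = cj (b * (b⁻¹ * a)) W := by congr 1; group
    _ = cj b W := by rw [cj_mul, h2]

theorem KTri.tri {K R T Xr Xs Xd Pr Ps Pd Yr Ys Y : Subgroup G} {n m : G}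
    (H : KTri K R T Xr Xs Xd Pr Ps Pd Yr Ys Y n m) (A : Amb K R) {P X W : Subgroup G} (B : Base K R P X W)
    {a b c : G} (ha : a ∈ K) (hb : b ∈ K) (hc : c ∈ K) (eXa : cj a X = Xr) (eXb : cj b X = Xs) (eXc : cj c X = Xd)
    (ePa : cj a P = Pr) (ePb : cj b P = Ps) (ePc : cj c P = Pd) :
    Tri K R T Xr Xs Xd (cj a W) (cj b W) (cj c W) Pr Ps Pd Yr Ys Y n m := by
  subst eXa eXb eXc ePa ePb ePc
  -- invariance
  have inv : ∀ {a b k : G}, a ∈ K → b ∈ K → k ∈ K → cj k (cj a X) = cj b X → cj k (cj a W) = cj b W := by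
    intro a b k ha hb hk h
    rw [← cj_mul] at h ⊢
    exact B.cj_eq (mul_mem hk ha) hb h
  have inv1 : ∀ {a k w : G}, a ∈ K → k ∈ K → cj k (cj a X) = cj a X → w ∈ cj a W → k * w * k⁻¹ ∈ cj a W := by
    intro a k w ha hk h hw
    rw [← inv ha ha hk h]
    exact conj_mem_cj.2 hw
  have invX : ∀ {k x : G} {A B : Subgroup G}, cj k A = B → x ∈ A → k * x * k⁻¹ ∈ B := by
    intro k x A B h hx
    rw [← h]
    exact conj_mem_cj.2 hx
  have invX' : ∀ {k x : G} {A B : Subgroup G}, cj k A = B → x ∈ B → k⁻¹ * x * k ∈ A := by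
    intro k x A B h hx
    rw [← h] at hx
    exact mem_cj.1 hx
  exact
    { A := A
      Dr := B.dw.conj A ha
      Ds := B.dw.conj A hb
      Dd := B.dw.conj A hc
      XrPd := H.XrPd
      XsPd := H.XsPd
      XdPr := H.XdPr
      XdPs := H.XdPs
      TK := H.TK
      Tab := H.Tab
      Todd := H.Todd
      TXr := fun h hh x hx => invX (H.TXr h hh) hx
      TXs := fun h hh x hx => invX (H.TXs h hh) hx
      TXd := fun h hh x hx => invX (H.TXd h hh) hx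
      TWr := fun h hh x hx => inv1 ha (H.TK hh) (H.TXr h hh) hx
      TWs := fun h hh x hx => inv1 hb (H.TK hh) (H.TXs h hh) hx
      TWd := fun h hh x hx => inv1 hc (H.TK hh) (H.TXd h hh) hx
      nK := H.nK
      nX := fun x hx => invX H.nX hx
      nX' := fun x hx => invX' H.nX hx
      nW' := fun x hx => invX' (inv ha hc H.nK H.nX) hx
      mK := H.mK
      mX := fun x hx => invX H.mX hx
      mX' := fun x hx => invX' H.mX hx
      mW' := fun x hx => invX' (inv hb hc H.mK H.mX) hx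
      trr := H.trr
      trs := H.trs
      cmX := H.cmX
      nd := H.nd
      bigr := H.big
      bigs := by
        obtain ⟨x, hx, x', hx', h1, h1', hne⟩ := H.big
        have key : ∀ y : G, y ≠ 1 → m⁻¹ * (n * y * n⁻¹) * m ≠ 1 := by
          intro y hy h0
          apply hy
          calc y = n⁻¹ * (m * (m⁻¹ * (n * y * n⁻¹) * m) * m⁻¹) * n := by group
            _ = 1 := by rw [h0]; group
        refine ⟨_, invX' H.mX (invX H.nX hx), _, invX' H.mX (invX H.nX hx'), key x h1, key x' h1', ?_⟩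
        intro h0
        apply hne
        calc x = n⁻¹ * (m * (m⁻¹ * (n * x * n⁻¹) * m) * m⁻¹) * n := by group
          _ = n⁻¹ * (m * (m⁻¹ * (n * x' * n⁻¹) * m) * m⁻¹) * n := by rw [h0]
          _ = x' := by group
      disr := H.disr
      diss := H.diss
      YrPr := H.YrPr
      YrPd := H.YrPd
      YrN := H.YrN
      K2r := H.K2r
      YsPs := H.YsPs
      YsPd := H.YsPd
      YsN := H.YsN
      K2s := H.K2s
      YPr := H.YPr
      YPs := H.YPs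
      YPd := H.YPd
      K1 := H.K1 }

/-- the normaliser of `X` in `K` -/
structure NorX (K P X T0 : Subgroup G) : Prop where
  nP : ∀ k ∈ K, cj k X = X → cj k P = P
  nh : ∀ k ∈ K, cj k X = X → ∀ h ∈ T0, ∃ p ∈ P, k * h * k⁻¹ = h * p

/-- **No `g` normalising `P`, `Q`, `X`, `R X` moves `R`.** -/
theorem KTri.false [Finite G] {K R T Xr Xs Xd Pr Ps Pd Yr Ys Y P Q X T0 : Subgroup G} {n m : G}
    (H : KTri K R T Xr Xs Xd Pr Ps Pd Yr Ys Y n m) (L : Loc K R P Q X T0) (N : NorX K P X T0)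
    {a b c : G} (ha : a ∈ K) (hb : b ∈ K) (hc : c ∈ K) (eXa : cj a X = Xr) (eXb : cj b X = Xs) (eXc : cj c X = Xd)
    (ePa : cj a P = Pr) (ePb : cj b P = Ps) (ePc : cj c P = Pd)
    {t t' : G} (ht : t ∈ R) (ht1 : t ≠ 1) (ht' : t' ∈ R) (ht1' : t' ≠ 1) (hne : t' ≠ t)
    {g : G} (gP : cj g P = P) (gQ : cj g Q = Q) (gX : cj g X = X)
    (gR : ∀ a ∈ R, ∃ b ∈ R, ∃ x ∈ X, g * a * g⁻¹ = b * x) (hg : ∃ a ∈ R, g * a * g⁻¹ ∉ R) : False := by
  have invX : ∀ {k x : G} {A : Subgroup G}, cj k A = A → x ∈ A → k * x * k⁻¹ ∈ A := by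
    intro k x A h hx
    have := conj_mem_cj (g := k).2 hx
    rwa [h] at this
  obtain ⟨h0, hh0, -, W, D, -, -, -, hW⟩ := L.exists_dw (fun p hp => invX gP hp) (fun p hp => invX gQ hp)
    (fun p hp => invX gX hp) gR hg
  have B : Base K R P X W := by
    refine ⟨D, ?_⟩
    have key : ∀ k ∈ K, cj k X = X → cj k W ≤ W := by
      intro k hk hX
      rintro w hw
      rw [mem_cj] at hw
      obtain ⟨p, hp, e⟩ := N.nh k hk hX h0 hh0
      have := hW k hk ⟨p, hp, e⟩ (fun p hp => invX (N.nP k hk hX) hp) (fun x hx => invX hX hx) _ hw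
      have e2 : k * (k⁻¹ * w * k) * k⁻¹ = w := by group
      rwa [e2] at this
    intro k hk hX
    apply le_antisymm (key k hk hX)
    have hX' : cj k⁻¹ X = X := by
      conv_lhs => rw [← hX]
      exact cj_inv_cj k X
    have := cj_mono k (key k⁻¹ (inv_mem hk) hX')
    rwa [cj_cj_inv] at this
  exact hne ((H.tri L.amb B ha hb hc eXa eXb eXc ePa ePb ePc).eq_of_ne_one ht ht1 ht' ht1')

/-- **No commuting pair of root type.** `res S` is a subgroup attached to `S`, compatible with conjugation (e.g. the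
last term of the derived series of the centraliser), which is `P` for `R < S ≤ R X`. -/
theorem KTri.no_pair [Finite G] {K R T Xr Xs Xd Pr Ps Pd Yr Ys Y P Q X T0 : Subgroup G} {n m : G}
    (H : KTri K R T Xr Xs Xd Pr Ps Pd Yr Ys Y n m) (L : Loc K R P Q X T0) (N : NorX K P X T0)
    {a b c : G} (ha : a ∈ K) (hb : b ∈ K) (hc : c ∈ K) (eXa : cj a X = Xr) (eXb : cj b X = Xs) (eXc : cj c X = Xd)
    (ePa : cj a P = Pr) (ePb : cj b P = Ps) (ePc : cj c P = Pd)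
    {t t' : G} (ht : t ∈ R) (ht1 : t ≠ 1) (ht' : t' ∈ R) (ht1' : t' ≠ 1) (hne : t' ≠ t)
    (res : Subgroup G → Subgroup G) (hres : ∀ (g : G) (S : Subgroup G), res (cj g S) = cj g (res S))
    (hresP : ∀ S : Subgroup G, R ≤ S → S ≤ R ⊔ X → ¬ S ≤ R → res S = P)
    (hPQ : ∀ g : G, cj g P = P → cj g Q = Q ∧ cj g X = X)
    {g k : G} (hk : k ∈ K) (hg1 : cj g R ≤ R ⊔ X) (hg2 : R ≤ cj g (R ⊔ cj k X)) (hg3 : ¬ cj g R ≤ R) : False := by
  have hkR : cj k R = R := by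
    apply le_antisymm
    · intro x hx
      rw [mem_cj] at hx
      have h1 := L.amb.comm _ hx k hk
      have : x = k⁻¹ * x * k := by
        calc x = k * (k⁻¹ * x * k) * k⁻¹ := by group
          _ = (k⁻¹ * x * k) * k * k⁻¹ := by rw [← h1]
          _ = _ := by group
      rw [this]; exact hx
    · intro x hx
      rw [mem_cj]
      have h1 := L.amb.comm x hx k hk
      have : k⁻¹ * x * k = x := by rw [mul_assoc, h1]; group
      rwa [this]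
  set S := R ⊔ cj g R with hS
  have h1 : res S = P := hresP S le_sup_left (sup_le le_sup_left hg1) fun h => hg3 (le_sup_right.trans h)
  -- conjugate back
  have hgk : cj (g * k) R = cj g R := by rw [cj_mul, hkR]
  have h2 : res (cj (g * k)⁻¹ S) = P := by
    apply hresP
    · rw [← cj_le_cj_iff (g * k), cj_cj_inv, hgk]; exact le_sup_right
    · rw [← cj_le_cj_iff (g * k), cj_cj_inv, cj_sup, hgk]
      refine sup_le ?_ le_sup_left
      refine hg2.trans ?_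
      rw [cj_sup, cj_mul]
    · intro h0
      have h3 := cj_mono (g * k) h0
      rw [cj_cj_inv, hgk] at h3
      apply hg3
      -- `R ≤ cj g R`, equality by cardinality
      have h4 : R ≤ cj g R := le_sup_left.trans h3
      have h5 : Nat.card ↥(cj g R) = Nat.card ↥R :=
        (Nat.card_congr (R.equivMapOfInjective _ (MulAut.conj g).injective).toEquiv).symm
      exact (Subgroup.eq_of_le_of_card_ge h4 h5.le).ge
  have h3 : cj (g * k) P = P := by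
    rw [hres, h1] at h2
    conv_lhs => rw [← h2]
    exact cj_cj_inv _ _
  obtain ⟨h4, h5⟩ := hPQ _ h3
  refine H.false L N ha hb hc eXa eXb eXc ePa ePb ePc ht ht1 ht' ht1' hne (g := g * k) h3 h4 h5 ?_ ?_
  · intro a ha
    have h6 : g * k * a * (g * k)⁻¹ ∈ R ⊔ X := by
      apply hg1
      rw [← hgk]
      exact conj_mem_cj.2 ha
    have h7 : R ≤ Subgroup.normalizer (X : Set G) := by
      intro r hr
      rw [mem_normalizer_iff_cj]
      have key : ∀ r ∈ R, cj r X ≤ X := by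
        intro r hr x hx
        rw [mem_cj] at hx
        have h8 := L.amb.comm r hr _ (L.PK (L.QP (L.XQ hx)))
        have : x = r⁻¹ * x * r := by
          calc x = r * (r⁻¹ * x * r) * r⁻¹ := by group
            _ = (r⁻¹ * x * r) * r * r⁻¹ := by rw [h8]
            _ = _ := by group
        rw [this]; exact hx
      apply le_antisymm (key r hr)
      have := cj_mono r (key r⁻¹ (inv_mem hr))
      rwa [cj_cj_inv] at this
    have h8 : g * k * a * (g * k)⁻¹ ∈ ((R ⊔ X : Subgroup G) : Set G) := h6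
    rw [Subgroup.coe_mul_of_left_le_normalizer_right R X h7] at h8
    obtain ⟨b, hb, x, hx, e⟩ := h8
    exact ⟨b, hb, x, hx, e.symm⟩
  · by_contra hcon
    push Not at hcon
    apply hg3
    intro x hx
    rw [← hgk, mem_cj] at hx
    have := hcon _ hx
    have e : g * k * ((g * k)⁻¹ * x * (g * k)) * (g * k)⁻¹ = x := by group
    rwa [e] at this

end Cfsg.Agent.OddHalf.DblR

end
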