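import Mathlib
import Cfsg.Agent.Nodes.WittAll
import Cfsg.Agent.Nodes.KindBC
import Cfsg.Agent.KFacts.SpecLoc
import Cfsg.Agent.KFacts.RgdOdd
import Cfsg.Agent.KFacts.RgdLocL
import Cfsg.Agent.Nodes.WittInst

-- merged: Cfsg.Agent.KFacts.WittOrth
section

/-!
# Witt frames of orthogonal type in characteristic two (ODD, D4, K-side; helper335)

* `Orth Fr` : `σ = 1`, `ε = 1`, `2 = 0`, the anisotropic part is nondegenerate;
* the relations of the root elements in this case (`swap`, `xx`, `xx0`, `xz`, `zz`);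
* `Dg Fr` : the diagonal isometries; `hX`, `hZ` : the diagonal elements of the rank one groups.
-/

set_option autoImplicit false
set_option linter.unusedSectionVars false

namespace Cfsg.Agent.KFacts.WittOrth

open Cfsg.Agent.ChevalleyStructure.CoxeterGeom Cfsg.Agent.Tits.Roots Cfsg.Agent.Nodes.TypeC
open Cfsg.Agent.Nodes.Comb Cfsg.Agent.Nodes.Reps Cfsg.Agent.Nodes.WittRoot
open Cfsg.Agent.TitsThree Cfsg.Agent.TitsThree.Siegel Cfsg.Agent.TitsThree.WittFrame Cfsg.Agent.TitsThree.WittWeyl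
open scoped commutatorElement

variable {F : Type*} [Field F] {V : Type*} [AddCommGroup V] [Module F V] {H : HForm F V} {n : ℕ}

/-- Witt frames of orthogonal type in characteristic two. -/
structure Orth (Fr : Frame H (Fin n)) : Prop where
  two : (2 : F) = 0
  σ : ∀ t, H.σ t = t
  ε : H.ε = 1
  ok0 : ∀ w, Fr.ok w 0 → w = 0
  ok1 : ∀ c, Fr.ok 0 c → c = 0
  full : ∀ w ∈ Fr.V0, ∃ c, Fr.ok w c
  nd : ∀ w ∈ Fr.V0, (∀ w' ∈ Fr.V0, H.h w w' = 0) → w = 0
  V0 : ∀ v, (∀ x, H.h v (Fr.b x) = 0) → v ∈ Fr.V0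
  p0 : ∃ p : Fr.Adm, p.c ≠ 0

namespace Orth

variable {Fr : Frame H (Fin n)} (O : Orth Fr)

include O

theorem neg (t : F) : -t = t := by
  have h1 : t + t = 0 := by rw [← two_mul, O.two, zero_mul]
  exact neg_eq_of_add_eq_zero_left h1

theorem add_self (t : F) : t + t = 0 := by rw [← two_mul, O.two, zero_mul]

theorem sub (s t : F) : s - t = s + t := by rw [sub_eq_add_neg, O.neg]

theorem eq_of_add {s t : F} (h : s + t = 0) : s = t := by
  have := eq_neg_of_add_eq_zero_left h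
  rwa [O.neg] at this

theorem negV (v : V) : -v = v := by
  have h1 : v + v = 0 := by rw [← two_smul F v, O.two, zero_smul]
  exact neg_eq_of_add_eq_zero_left h1

theorem addV (v : V) : v + v = 0 := by rw [← two_smul F v, O.two, zero_smul]

theorem η (x : Fin n × Bool) : Fr.η x = 1 := by
  unfold Frame.η; rw [O.ε]; split_ifs <;> rfl

theorem sc (x : Fin n × Bool) (t : F) : Fr.sc x t = t := by
  unfold Frame.sc; rw [O.ε, O.η, O.σ, O.neg]; simp

theorem h_comm (v w : V) : H.h v w = H.h w v := by rw [H.swap w v, O.ε, O.σ, one_mul]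

theorem h_self (p : Fr.Adm) : H.h p.w p.w = 0 := by
  have h1 := p.herm
  rw [O.ε, O.σ, one_mul, O.add_self, O.neg] at h1
  exact h1.symm

theorem hbb (x : Fin n × Bool) : H.h (Fr.b x) (Fr.b (ng x)) = 1 := by
  have h1 := Fr.hb_self_neg x
  rw [O.η] at h1
  exact h1

theorem hbb' (x : Fin n × Bool) : H.h (Fr.b (ng x)) (Fr.b x) = 1 := by
  have h1 := Fr.hb_neg_self x
  rw [O.η] at h1
  exact h1

/-! ### admissible pairs -/

theorem adm_ext {p q : Fr.Adm} (h : p.w = q.w) : p = q := by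
  have h1 := (p * q⁻¹).ok
  rw [Frame.Adm.mul_w, Frame.Adm.inv_w, h, add_neg_cancel] at h1
  have h2 := O.ok1 _ h1
  rw [Frame.Adm.mul_c, Frame.Adm.inv_c, Frame.Adm.inv_w, h, H.neg_left, O.h_self] at h2
  apply Frame.Adm.ext h
  have h3 : p.c + q.c = 0 := by
    rw [mul_zero, sub_zero, neg_zero, mul_zero, sub_zero, O.neg] at h2
    exact h2
  exact O.eq_of_add h3

theorem adm_one {p : Fr.Adm} (h : p.c = 0) : p = 1 :=
  O.adm_ext (O.ok0 _ (by have := p.ok; rwa [h] at this))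

theorem adm_one' {p : Fr.Adm} (h : p.w = 0) : p = 1 := O.adm_ext h

theorem adm_comm (p q : Fr.Adm) : p * q = q * p := O.adm_ext (by simp [add_comm])

theorem adm_sq (p : Fr.Adm) : p * p = 1 := O.adm_ext (by simp [O.addV])

theorem adm_c (a : F) (p : Fr.Adm) : (Frame.Adm.smul a p).c = a * a * p.c := by
  rw [Frame.Adm.smul_c, O.σ]

theorem exists_adm {w : V} (hw : w ∈ Fr.V0) : ∃ p : Fr.Adm, p.w = w := by
  obtain ⟨c, hc⟩ := O.full w hw
  exact ⟨⟨w, c, hc⟩, rfl⟩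

theorem adm_nd {p : Fr.Adm} (h : ∀ q : Fr.Adm, H.h p.w q.w = 0) : p = 1 := by
  apply O.adm_one'
  refine O.nd _ (Fr.ok_mem p.ok) fun w' hw' => ?_
  obtain ⟨q, rfl⟩ := O.exists_adm hw'
  exact h q

/-! ### relations -/

theorem swap {x y : Fin n × Bool} (h : x.1 ≠ y.1) (t : F) : Fr.X x y t = Fr.X y x t := by
  rw [Fr.X_swap h, O.ε, O.η, O.η, O.σ, O.neg]; simp

theorem xx {x y z : Fin n × Bool} (hxy : x.1 ≠ y.1) (hyz : y.1 ≠ z.1) (hxz : x.1 ≠ z.1) (s t : F) :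
    ⁅Fr.X x y s, Fr.X (ng y) z t⁆ = Fr.X x z (s * t) := by
  rw [commutatorElement_def]
  have e3 : Fr.X x y s * Fr.X (ng y) z t * (Fr.X x y s)⁻¹ = _ := Fr.conj_X_X hxy hyz hxz s t
  rw [e3]
  exact mul_inv_cancel_right _ _

theorem xx' {x y z : Fin n × Bool} (hxy : x.1 ≠ y.1) (hyz : y.1 ≠ z.1) (hxz : x.1 ≠ z.1) (s t : F) :
    ⁅Fr.X x (ng y) s, Fr.X y z t⁆ = Fr.X x z (s * t) := by
  have := O.xx (x := x) (y := ng y) (z := z) hxy hyz hxz s t
  rwa [ng_ng] at this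

theorem xx0 {x y : Fin n × Bool} (hxy : x.1 ≠ y.1) (s t : F) :
    Commute (Fr.X x y s) (Fr.X x (ng y) t) := by
  have e1 : Fr.X x y s * Fr.X x (ng y) t = _ := Fr.X_mul_X_same hxy s t
  have e2 : ∀ m, (Frame.Adm.tr m : Fr.Adm) = 1 := fun m => O.adm_one' rfl
  rw [e2, Fr.Z_one, one_mul] at e1
  exact e1

theorem xz {x y : Fin n × Bool} (hxy : x.1 ≠ y.1) (t : F) (p : Fr.Adm) :
    ⁅Fr.X x (ng y) t, Fr.Z y p⁆ = Fr.Z x (Frame.Adm.smul t p) * Fr.X x y (p.c * t) := by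
  rw [commutatorElement_def]
  have e3 : Fr.X x (ng y) t * Fr.Z y p * (Fr.X x (ng y) t)⁻¹ = _ := Fr.conj_X_Z hxy t p
  rw [e3, O.ε, O.η, O.σ, O.σ, O.neg]
  simp only [inv_one, one_mul]
  group

theorem xz' {x y : Fin n × Bool} (hxy : x.1 ≠ y.1) (t : F) (p : Fr.Adm) :
    ⁅Fr.X x y t, Fr.Z (ng y) p⁆ = Fr.Z x (Frame.Adm.smul t p) * Fr.X x (ng y) (p.c * t) := by
  have := O.xz (x := x) (y := ng y) hxy t p
  rwa [ng_ng] at this

theorem zz {x y : Fin n × Bool} (hxy : x.1 ≠ y.1) (p q : Fr.Adm) :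
    ⁅Fr.Z x p, Fr.Z y q⁆ = Fr.X x y (H.h p.w q.w) := by
  rw [commutatorElement_def, Fr.Z_mul_Z hxy, O.η, O.σ, O.neg, one_mul]
  group

theorem z_comm (x : Fin n × Bool) (p q : Fr.Adm) : Commute (Fr.Z x p) (Fr.Z x q) := by
  unfold Commute SemiconjBy
  rw [← Fr.Z_mul, ← Fr.Z_mul, O.adm_comm]

theorem z_sq (x : Fin n × Bool) (p : Fr.Adm) : Fr.Z x p * Fr.Z x p = 1 := by
  rw [← Fr.Z_mul, O.adm_sq, Fr.Z_one]

theorem x_sq (x y : Fin n × Bool) (t : F) : Fr.X x y t * Fr.X x y t = 1 := by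
  rw [← Fr.X_add, O.add_self, Fr.X_zero]

/-! ### injectivity -/

theorem b_ne (x : Fin n × Bool) : Fr.b x ≠ 0 := by
  intro h
  have := O.hbb x
  rw [h, H.zero_left] at this
  exact zero_ne_one this

theorem x_inj {x y : Fin n × Bool} (h : x.1 ≠ y.1) {t : F} (ht : Fr.X x y t = 1) : t = 0 := by
  have h1 := X_apply_neg Fr h t
  rw [ht] at h1
  have h2 : t • Fr.b x = 0 := by
    have h3 : ∀ v, (1 : V ≃ₗ[F] V) v = v := fun _ => rfl
    rw [h3] at h1
    exact (left_eq_add.1 h1)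
  exact (smul_eq_zero.1 h2).resolve_right (O.b_ne x)

theorem z_inj {x : Fin n × Bool} {p : Fr.Adm} (hp : Fr.Z x p = 1) : p = 1 := by
  have h1 := Z_apply_neg Fr x p
  rw [hp, O.η] at h1
  have h3 : ∀ v, (1 : V ≃ₗ[F] V) v = v := fun _ => rfl
  rw [h3, add_assoc, left_eq_add, one_smul, mul_one] at h1
  have h2 := congrArg (fun v => H.h v (Fr.b (ng x))) h1
  simp only [H.add_left, H.smul_left, Fr.h0' _ (Fr.ok_mem p.ok), H.zero_left, O.hbb, zero_add, mul_one] at h2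
  exact O.adm_one h2

theorem h_sum {α : Type*} (s : Finset α) (f : α → V) (w : V) : H.h (∑ i ∈ s, f i) w = ∑ i ∈ s, H.h (f i) w := by
  classical
  induction s using Finset.induction_on with
  | empty => simp [H.zero_left]
  | insert a s ha ih => rw [Finset.sum_insert ha, Finset.sum_insert ha, H.add_left, ih]

/-- an element fixing the frame and `V0` is trivial -/
theorem eq_one {g : V ≃ₗ[F] V} (hb : ∀ x, g (Fr.b x) = Fr.b x) (h0 : ∀ w ∈ Fr.V0, g w = w) : g = 1 := by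
  ext v
  show g v = v
  set s : V := ∑ x, H.h v (Fr.b (ng x)) • Fr.b x with hs
  have h1 : v - s ∈ Fr.V0 := by
    apply O.V0
    intro y
    rw [H.sub_left, hs, O.h_sum]
    have h2 : ∑ x, H.h (H.h v (Fr.b (ng x)) • Fr.b x) (Fr.b y) = H.h v (Fr.b y) := by
      rw [Finset.sum_eq_single (ng y)]
      · rw [H.smul_left, ng_ng, O.hbb', mul_one]
      · intro x _ hx
        have h3 : H.h (Fr.b x) (Fr.b y) = 0 := by
          apply Fr.hb_ne
          rintro rfl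
          exact hx (ng_ng x).symm
        rw [H.smul_left, h3, mul_zero]
      · intro h; exact absurd (Finset.mem_univ _) h
    rw [h2, sub_self]
  have h2 : g s = s := by
    rw [hs, map_sum]
    exact Finset.sum_congr rfl fun x _ => by rw [map_smul, hb]
  have h3 := h0 _ h1
  rw [map_sub, h2] at h3
  exact sub_left_injective h3

end Orth

/-! ### diagonal isometries -/

section Diag

variable (Fr : Frame H (Fin n))

/-- `g` is diagonal with coefficients `l`. -/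
structure Co (g : V ≃ₗ[F] V) (l : Fin n × Bool → F) : Prop where
  iso : H.IsIso g
  fx : ∀ w ∈ Fr.V0, g w = w
  ne : ∀ x, l x ≠ 0
  ap : ∀ x, g (Fr.b x) = l x • Fr.b x

variable {Fr}

theorem Co.one : Co Fr (1 : V ≃ₗ[F] V) fun _ => 1 where
  iso _ _ := rfl
  fx _ _ := rfl
  ne _ := one_ne_zero
  ap x := by rw [one_smul]; rfl

theorem Co.mul {g k : V ≃ₗ[F] V} {l m : Fin n × Bool → F} (hg : Co Fr g l) (hk : Co Fr k m) :
    Co Fr (g * k) fun x => l x * m x where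
  iso := HForm.IsIso.mul H hg.iso hk.iso
  fx w hw := by rw [mul_apply', hk.fx w hw, hg.fx w hw]
  ne x := mul_ne_zero (hg.ne x) (hk.ne x)
  ap x := by rw [mul_apply', hk.ap, map_smul, hg.ap, smul_smul, mul_comm]

theorem inv_apply_of {g : V ≃ₗ[F] V} {v w : V} (h : g w = v) : g⁻¹ v = w := by
  rw [← h]; exact g.symm_apply_apply w

theorem Co.inv {g : V ≃ₗ[F] V} {l : Fin n × Bool → F} (hg : Co Fr g l) : Co Fr g⁻¹ fun x => (l x)⁻¹ where
  iso := HForm.IsIso.inv H hg.iso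
  fx w hw := inv_apply_of (hg.fx w hw)
  ne x := inv_ne_zero (hg.ne x)
  ap x := by
    apply inv_apply_of
    rw [map_smul, hg.ap, smul_smul, inv_mul_cancel₀ (hg.ne x), one_smul]

theorem Co.mono {g : V ≃ₗ[F] V} {l : Fin n × Bool → F} (hg : Co Fr g l) : Mono Fr g id :=
  fun x => ⟨l x, hg.ne x, hg.ap x⟩

variable (Fr) in
/-- the diagonal isometries which are trivial on `V0` -/
def Dg : Subgroup (V ≃ₗ[F] V) where
  carrier := {g | ∃ l, Co Fr g l}
  one_mem' := ⟨_, Co.one⟩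
  mul_mem' := by
    rintro g k ⟨l, hl⟩ ⟨m, hm⟩
    exact ⟨_, hl.mul hm⟩
  inv_mem' := by
    rintro g ⟨l, hl⟩
    exact ⟨_, hl.inv⟩

theorem mem_Dg {g : V ≃ₗ[F] V} : g ∈ Dg Fr ↔ ∃ l, Co Fr g l := Iff.rfl

namespace Orth

variable (O : Orth Fr)

include O

theorem co_ext {g k : V ≃ₗ[F] V} {l : Fin n × Bool → F} (hg : Co Fr g l) (hk : Co Fr k l) : g = k := by
  have h1 := hg.inv.mul hk
  have h2 : g⁻¹ * k = 1 := by
    apply O.eq_one
    · intro x
      rw [h1.ap, inv_mul_cancel₀ (hg.ne x), one_smul]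
    · exact h1.fx
  exact (inv_mul_eq_one.1 h2)

theorem co_neg {g : V ≃ₗ[F] V} {l : Fin n × Bool → F} (hg : Co Fr g l) (x : Fin n × Bool) : l (ng x) = (l x)⁻¹ := by
  have h1 := hg.iso (Fr.b x) (Fr.b (ng x))
  rw [hg.ap, hg.ap, H.smul_left, H.smul_right, O.σ, O.hbb, mul_one] at h1
  exact eq_inv_of_mul_eq_one_right h1

theorem dg_comm {s t : V ≃ₗ[F] V} (hs : s ∈ Dg Fr) (ht : t ∈ Dg Fr) : s * t = t * s := by
  obtain ⟨l, hl⟩ := hs
  obtain ⟨m, hm⟩ := ht
  have h1 := hm.mul hl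
  have h2 : (fun x => m x * l x) = fun x => l x * m x := by funext x; rw [mul_comm]
  rw [h2] at h1
  exact O.co_ext (hl.mul hm) h1

omit O in
theorem _root_.Cfsg.Agent.KFacts.WittOrth.Co.pow {g : V ≃ₗ[F] V} {l : Fin n × Bool → F} (hg : Co Fr g l) (k : ℕ) :
    Co Fr (g ^ k) fun x => l x ^ k := by
  induction k with
  | zero => simpa using Co.one
  | succ k ih =>
    have := ih.mul hg
    simpa [pow_succ] using this

theorem dg_odd [Finite F] [Finite V] : (Nat.card ↥(Dg Fr)).Coprime 2 := by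
  have hfin : Finite (V ≃ₗ[F] V) := Finite.of_injective (fun g : V ≃ₗ[F] V => (g : V → V)) DFunLike.coe_injective
  have := Fintype.ofFinite F
  rw [Nat.coprime_comm, Nat.prime_two.coprime_iff_not_dvd]
  intro hdvd
  have : Fact (Nat.Prime 2) := ⟨Nat.prime_two⟩
  obtain ⟨⟨g, hgT⟩, hg⟩ := exists_prime_orderOf_dvd_card' 2 hdvd
  have hgp : g ^ 2 = 1 := by
    have := pow_orderOf_eq_one (⟨g, hgT⟩ : Dg Fr)
    rw [hg] at this
    exact congrArg Subtype.val this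
  obtain ⟨l, hl⟩ := hgT
  have h1 : ∀ x, l x = 1 := by
    intro x
    have h2 := (hl.pow 2).ap x
    rw [hgp] at h2
    have h3 : Fr.b x = l x ^ 2 • Fr.b x := h2
    have h4 : (1 - l x ^ 2) • Fr.b x = 0 := by rw [sub_smul, one_smul, ← h3, sub_self]
    have h5 := (smul_eq_zero.1 h4).resolve_right (O.b_ne x)
    have h6 : (1 + l x) * (1 + l x) = 0 := by
      have : (1 + l x) * (1 + l x) = (1 - l x ^ 2) + (2 : F) * (l x + l x ^ 2) := by ring
      rw [this, h5, O.two]; ring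
    have h7 := mul_self_eq_zero.1 h6
    exact (O.eq_of_add h7).symm
  have h2 : g = 1 := by
    apply O.eq_one
    · intro x
      rw [hl.ap, h1, one_smul]
    · exact hl.fx
  have h3 : (⟨g, ⟨l, hl⟩⟩ : Dg Fr) = 1 := Subtype.ext h2
  rw [h3, orderOf_one] at hg
  omega

theorem conjX {g : V ≃ₗ[F] V} {l : Fin n × Bool → F} (hg : Co Fr g l) {a b : Fin n × Bool} (hab : a.1 ≠ b.1) (t : F) :
    g * Fr.X a b t * g⁻¹ = Fr.X a b (l a * l b * t) := by
  rw [conj_X Fr hg.iso hab hab (hg.ap a) (hg.ap b), O.σ, O.η]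
  simp

theorem conjZ {g : V ≃ₗ[F] V} {l : Fin n × Bool → F} (hg : Co Fr g l) {a : Fin n × Bool} (p : Fr.Adm) :
    g * Fr.Z a p * g⁻¹ = Fr.Z a (Frame.Adm.smul (l a) p) := by
  rw [conj_Z Fr hg.iso (hg.ap a) p p (hg.fx _ (Fr.ok_mem p.ok)) rfl, O.σ]

/-- commutators with diagonal elements -/
theorem brX {g : V ≃ₗ[F] V} {l : Fin n × Bool → F} (hg : Co Fr g l) {a b : Fin n × Bool} (hab : a.1 ≠ b.1)
    (h1 : l a * l b ≠ 1) (t : F) : ∃ s, ⁅g, Fr.X a b s⁆ = Fr.X a b t := by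
  have h2 : l a * l b + 1 ≠ 0 := fun h => h1 (O.eq_of_add h)
  refine ⟨(l a * l b + 1)⁻¹ * t, ?_⟩
  rw [commutatorElement_def, O.conjX hg hab, ← Fr.X_neg, O.neg, ← Fr.X_add]
  congr 1
  field_simp

theorem brZ {g : V ≃ₗ[F] V} {l : Fin n × Bool → F} (hg : Co Fr g l) {a : Fin n × Bool}
    (h1 : l a ≠ 1) (p : Fr.Adm) : ∃ q, ⁅g, Fr.Z a q⁆ = Fr.Z a p := by
  have h2 : l a + 1 ≠ 0 := fun h => h1 (O.eq_of_add h)
  refine ⟨Frame.Adm.smul (l a + 1)⁻¹ p, ?_⟩
  rw [commutatorElement_def, O.conjZ hg, ← Fr.Z_inv, ← Fr.Z_mul]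
  congr 1
  apply O.adm_ext
  rw [Frame.Adm.mul_w, Frame.Adm.inv_w, Frame.Adm.smul_w, Frame.Adm.smul_w, O.negV, smul_smul, ← add_smul]
  have h3 : l a * (l a + 1)⁻¹ + (l a + 1)⁻¹ = 1 := by field_simp
  rw [h3, one_smul]

theorem fixX {g : V ≃ₗ[F] V} {l : Fin n × Bool → F} (hg : Co Fr g l) {a b : Fin n × Bool} (hab : a.1 ≠ b.1)
    (h1 : l a * l b ≠ 1) {t : F} (h : g * Fr.X a b t * g⁻¹ = Fr.X a b t) : t = 0 := by
  rw [O.conjX hg hab] at h
  have h2 : Fr.X a b (l a * l b * t + t) = 1 := by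
    rw [Fr.X_add, h, O.x_sq]
  have h3 := O.x_inj hab h2
  have h4 : (l a * l b + 1) * t = 0 := by rw [← h3]; ring
  exact (mul_eq_zero.1 h4).resolve_left fun h => h1 (O.eq_of_add h)

theorem fixZ {g : V ≃ₗ[F] V} {l : Fin n × Bool → F} (hg : Co Fr g l) {a : Fin n × Bool}
    (h1 : l a ≠ 1) {p : Fr.Adm} (h : g * Fr.Z a p * g⁻¹ = Fr.Z a p) : p = 1 := by
  rw [O.conjZ hg] at h
  have h2 : Fr.Z a (Frame.Adm.smul (l a) p * p) = 1 := by
    rw [Fr.Z_mul, h, O.z_sq]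
  have h3 := congrArg Frame.Adm.w (O.z_inj h2)
  rw [Frame.Adm.mul_w, Frame.Adm.smul_w, Frame.Adm.one_w] at h3
  have h4 : (l a + 1) • p.w = 0 := by rw [← h3]; module
  exact O.adm_one' ((smul_eq_zero.1 h4).resolve_left fun h => h1 (O.eq_of_add h))

end Orth

end Diag

/-! ### diagonal elements of the rank one groups -/

section Rank

variable (Fr : Frame H (Fin n))

/-- `h_{a,b}(t)` -/
def hX (a b : Fin n × Bool) (t : F) : V ≃ₗ[F] V := nX Fr a b t * (nX Fr a b 1)⁻¹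

/-- `h_a(p, t)` -/
def hZ (a : Fin n × Bool) (p : Fr.Adm) (t : F) : V ≃ₗ[F] V := nZ Fr a (Frame.Adm.smul t p) * (nZ Fr a p)⁻¹

variable {Fr}

theorem nX_mem (a b : Fin n × Bool) (t : F) : nX Fr a b t ∈ XG Fr a b ⊔ XG Fr (ng a) (ng b) := by
  by_cases hab : a.1 = b.1
  · have h1 : nX Fr a b t = 1 := by
      have h2 : ∀ s, Fr.X a b s = 1 := fun s => dif_neg (by simpa using hab)
      have h3 : ∀ s, Fr.X (WittFrame.neg b) (WittFrame.neg a) s = 1 := fun s => dif_neg (by simpa using hab.symm)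
      unfold nX; rw [h2, h3]; group
    rw [h1]; exact one_mem _
  unfold nX
  refine mul_mem (mul_mem ?_ ?_) ?_
  · exact Subgroup.mem_sup_left ⟨_, rfl⟩
  · refine Subgroup.mem_sup_right ?_
    rw [XG_swap Fr (a := ng a) (b := ng b) hab]
    exact ⟨_, rfl⟩
  · exact Subgroup.mem_sup_left ⟨_, rfl⟩

theorem hX_mem (a b : Fin n × Bool) (t : F) : hX Fr a b t ∈ XG Fr a b ⊔ XG Fr (ng a) (ng b) :=
  mul_mem (nX_mem _ _ _) (inv_mem (nX_mem _ _ _))

theorem nZ_mem (a : Fin n × Bool) (p : Fr.Adm) : nZ Fr a p ∈ ZG Fr a ⊔ ZG Fr (ng a) := by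
  unfold nZ
  refine mul_mem (mul_mem ?_ ?_) ?_
  · exact Subgroup.mem_sup_left ⟨_, rfl⟩
  · exact Subgroup.mem_sup_right ⟨_, rfl⟩
  · exact Subgroup.mem_sup_left ⟨_, rfl⟩

theorem hZ_mem (a : Fin n × Bool) (p : Fr.Adm) (t : F) : hZ Fr a p t ∈ ZG Fr a ⊔ ZG Fr (ng a) :=
  mul_mem (nZ_mem _ _) (inv_mem (nZ_mem _ _))

/-- coefficients -/
def lX (a b : Fin n × Bool) (t : F) (z : Fin n × Bool) : F :=
  if z = a ∨ z = b then t else if z = ng a ∨ z = ng b then t⁻¹ else 1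

/-- coefficients -/
def lZ (a : Fin n × Bool) (t : F) (z : Fin n × Bool) : F :=
  if z = a then t * t else if z = ng a then (t * t)⁻¹ else 1

theorem ne_ng (a : Fin n × Bool) : a ≠ ng a := by
  intro h
  have := congrArg Prod.snd h
  simp [ng] at this

theorem ne_of_fst {a b : Fin n × Bool} (h : a.1 ≠ b.1) : a ≠ b := fun h' => h (by rw [h'])

theorem ne_ng_of_fst {a b : Fin n × Bool} (h : a.1 ≠ b.1) : a ≠ ng b := fun h' => h (by rw [h']; rfl)

theorem fst_of_ne {a z : Fin n × Bool} (h1 : z ≠ a) (h2 : z ≠ ng a) : z.1 ≠ a.1 := by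
  obtain ⟨i, s⟩ := a
  obtain ⟨j, t⟩ := z
  intro h
  simp only at h
  subst h
  cases s <;> cases t <;> simp_all [ng]

theorem lX_fst {a b : Fin n × Bool} {t : F} : lX a b t a = t := by simp [lX]

theorem lX_snd {a b : Fin n × Bool} {t : F} : lX a b t b = t := by simp [lX]

theorem lX_nfst {a b : Fin n × Bool} (hab : a.1 ≠ b.1) {t : F} : lX a b t (ng a) = t⁻¹ := by
  rw [lX, if_neg, if_pos (Or.inl rfl)]
  rintro (h | h)
  · exact ne_ng a h.symm
  · exact hab (by rw [← h]; rfl)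

theorem lX_nsnd {a b : Fin n × Bool} (hab : a.1 ≠ b.1) {t : F} : lX a b t (ng b) = t⁻¹ := by
  rw [lX, if_neg, if_pos (Or.inr rfl)]
  rintro (h | h)
  · exact hab (by rw [← h]; rfl)
  · exact ne_ng b h.symm

theorem lX_of {a b z : Fin n × Bool} (h1 : z.1 ≠ a.1) (h2 : z.1 ≠ b.1) {t : F} : lX a b t z = 1 := by
  rw [lX, if_neg, if_neg]
  · rintro (h | h)
    · exact ne_ng_of_fst h1 h
    · exact ne_ng_of_fst h2 h
  · rintro (h | h)
    · exact ne_of_fst h1 h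
    · exact ne_of_fst h2 h

theorem lZ_self {a : Fin n × Bool} {t : F} : lZ a t a = t * t := by simp [lZ]

theorem lZ_ng {a : Fin n × Bool} {t : F} : lZ a t (ng a) = (t * t)⁻¹ := by
  rw [lZ, if_neg (ne_ng a).symm, if_pos rfl]

theorem lZ_of {a z : Fin n × Bool} (h1 : z.1 ≠ a.1) {t : F} : lZ a t z = 1 := by
  rw [lZ, if_neg (ne_of_fst h1), if_neg (ne_ng_of_fst h1)]

theorem Orth.hX_co (O : Orth Fr) {a b : Fin n × Bool} (hab : a.1 ≠ b.1) {t : F} (ht : t ≠ 0) :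
    Co Fr (hX Fr a b t) (lX a b t) := by
  have h1 : ∀ s : F, s ≠ 0 → nX Fr a b s (Fr.b (ng b)) = s • Fr.b a := fun s hs => nX_apply_neg Fr hab hs
  have h2 : ∀ s : F, s ≠ 0 → nX Fr a b s (Fr.b a) = s⁻¹ • Fr.b (ng b) := fun s hs => by
    have := nX_apply_self Fr hab hs
    rw [O.negV] at this
    exact this
  have h3 : ∀ s : F, s ≠ 0 → nX Fr a b s (Fr.b (ng a)) = s • Fr.b b := fun s hs => by
    have := nX_apply_neg' Fr hab hs
    rw [O.negV, O.ε, O.η, O.η, O.σ, inv_one, one_mul, one_mul, one_mul] at this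
    exact this
  have h4 : ∀ s : F, s ≠ 0 → nX Fr a b s (Fr.b b) = s⁻¹ • Fr.b (ng a) := fun s hs => by
    have := nX_apply_self' Fr hab hs
    rw [O.ε, O.η, O.η, O.σ, inv_one, one_mul, one_mul, one_mul] at this
    exact this
  have k1 : (nX Fr a b 1)⁻¹ (Fr.b a) = Fr.b (ng b) := inv_apply_of (by rw [h1 1 one_ne_zero, one_smul])
  have k2 : (nX Fr a b 1)⁻¹ (Fr.b (ng b)) = Fr.b a := inv_apply_of (by rw [h2 1 one_ne_zero, inv_one, one_smul])
  have k3 : (nX Fr a b 1)⁻¹ (Fr.b b) = Fr.b (ng a) := inv_apply_of (by rw [h3 1 one_ne_zero, one_smul])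
  have k4 : (nX Fr a b 1)⁻¹ (Fr.b (ng a)) = Fr.b b := inv_apply_of (by rw [h4 1 one_ne_zero, inv_one, one_smul])
  refine ⟨HForm.IsIso.mul H (isIso_nX Fr _ _ _) (HForm.IsIso.inv H (isIso_nX Fr _ _ _)), fun w hw => ?_, fun z => ?_,
    fun z => ?_⟩
  · unfold hX
    rw [mul_apply', inv_apply_of (nX_apply_V0 Fr hab hw 1), nX_apply_V0 Fr hab hw]
  · unfold lX
    split_ifs
    · exact ht
    · exact inv_ne_zero ht
    · exact one_ne_zero
  · unfold hX
    rw [mul_apply']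
    by_cases e1 : z = a
    · subst e1
      rw [k1, h1 t ht, lX_fst]
    by_cases e2 : z = b
    · subst e2
      rw [k3, h3 t ht, lX_snd]
    by_cases e3 : z = ng a
    · subst e3
      rw [k4, h4 t ht, lX_nfst hab]
    by_cases e4 : z = ng b
    · subst e4
      rw [k2, h2 t ht, lX_nsnd hab]
    · have f1 := fst_of_ne e1 e3
      have f2 := fst_of_ne e2 e4
      rw [inv_apply_of (nX_apply_of_ne Fr hab f1 f2 1), nX_apply_of_ne Fr hab f1 f2, lX_of f1 f2, one_smul]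

theorem Orth.hZ_co (O : Orth Fr) {a : Fin n × Bool} {p : Fr.Adm} (hp : p.c ≠ 0) {t : F} (ht : t ≠ 0) :
    Co Fr (hZ Fr a p t) (lZ a t) := by
  have hp' : (Frame.Adm.smul t p).c ≠ 0 := by
    rw [O.adm_c]
    exact mul_ne_zero (mul_ne_zero ht ht) hp
  have h1 : ∀ q : Fr.Adm, q.c ≠ 0 → nZ Fr a q (Fr.b (ng a)) = q.c • Fr.b a := fun q hq => by
    have := nZ_apply_neg Fr a q hq
    rw [O.η, one_mul] at this
    exact this
  have h2 : ∀ q : Fr.Adm, q.c ≠ 0 → nZ Fr a q (Fr.b a) = q.c⁻¹ • Fr.b (ng a) := fun q hq => by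
    have := nZ_apply_self Fr a q hq
    rw [O.ε, O.η, O.σ, inv_one, one_mul, one_mul] at this
    exact this
  have k1 : (nZ Fr a p)⁻¹ (Fr.b a) = p.c⁻¹ • Fr.b (ng a) :=
    inv_apply_of (by rw [map_smul, h1 p hp, smul_smul, inv_mul_cancel₀ hp, one_smul])
  have k2 : (nZ Fr a p)⁻¹ (Fr.b (ng a)) = p.c • Fr.b a :=
    inv_apply_of (by rw [map_smul, h2 p hp, smul_smul, mul_inv_cancel₀ hp, one_smul])
  refine ⟨HForm.IsIso.mul H (isIso_nZ Fr _ _) (HForm.IsIso.inv H (isIso_nZ Fr _ _)), fun w hw => ?_, fun z => ?_,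
    fun z => ?_⟩
  · have e : nZ Fr a (Frame.Adm.smul t p) ((nZ Fr a p)⁻¹ w) = nZ Fr a p ((nZ Fr a p)⁻¹ w) := by
      have hV : (nZ Fr a p)⁻¹ w ∈ Fr.V0 := by
        have h3 : ∀ v ∈ Fr.V0, nZ Fr a p v ∈ Fr.V0 := fun v hv => by
          rw [nZ_apply_V0 Fr a p hp hv]
          exact Submodule.add_mem _ hv (Submodule.smul_mem _ _ (Fr.ok_mem p.ok))
        have h4 : (nZ Fr a p)⁻¹ w = nZ Fr a p w := by
          apply inv_apply_of
          rw [nZ_apply_V0 Fr a p hp (h3 w hw), nZ_apply_V0 Fr a p hp hw, H.add_left, H.smul_left, O.h_self, O.ε,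
            mul_zero, add_zero, add_assoc, O.addV, add_zero]
        rw [h4]; exact h3 w hw
      rw [nZ_apply_V0 Fr a p hp hV, nZ_apply_V0 Fr a _ hp' hV, Frame.Adm.smul_w, O.adm_c, H.smul_right, O.σ]
      congr 1
      rw [smul_smul]
      congr 1
      field_simp
    unfold hZ
    rw [mul_apply', e]
    exact (nZ Fr a p).apply_symm_apply w
  · unfold lZ
    split_ifs
    · exact mul_ne_zero ht ht
    · exact inv_ne_zero (mul_ne_zero ht ht)
    · exact one_ne_zero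
  · unfold hZ
    rw [mul_apply']
    by_cases e1 : z = a
    · subst e1
      rw [k1, map_smul, h1 _ hp', O.adm_c, lZ_self, smul_smul]
      congr 1
      field_simp
    by_cases e3 : z = ng a
    · subst e3
      rw [k2, map_smul, h2 _ hp', O.adm_c, lZ_ng, smul_smul]
      congr 1
      field_simp
    · have f1 := fst_of_ne e1 e3
      rw [inv_apply_of (nZ_apply_of_ne Fr f1 p), nZ_apply_of_ne Fr f1, lZ_of f1, one_smul]

end Rank

end Cfsg.Agent.KFacts.WittOrth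

end

-- merged: Cfsg.Agent.KFacts.SpecWitt
section

/-!
# `Full` for Witt frames of orthogonal type in characteristic two (ODD, D4, K-side; helper335)

`r = ε_x + ε_y` a long root (label `rt x y`, `x.1 ≠ y.1`) of the root group datum `rg Fr` of type `B_n` (labelled `C_n`);
`P = ⟨X_a : ⟨a, r⟩ ≥ 0⟩`, `Q = ⟨X_a : ⟨a, r⟩ > 0⟩`, `Z = X_r`.
-/

set_option autoImplicit false
set_option linter.unusedSectionVars false

namespace Cfsg.Agent.KFacts.SpecWitt

open CoxeterSystem Cfsg.Agent.ChevalleyStructure.CoxeterGeom Cfsg.Agent.Tits.Roots Cfsg.Agent.Nodes.TypeC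
open Cfsg.Agent.Nodes.Comb Cfsg.Agent.Nodes.Reps Cfsg.Agent.Nodes.WittRoot Cfsg.Agent.Nodes.BNOf
  Cfsg.Agent.Nodes.StabComb Cfsg.Agent.Nodes.Coroot Cfsg.Agent.Nodes.KindBC Cfsg.Agent.Nodes.TypeCForm
open Cfsg.Agent Cfsg.Agent.TitsThree Cfsg.Agent.TitsThree.Siegel Cfsg.Agent.TitsThree.WittFrame Cfsg.Agent.TitsThree.WittWeyl
open Cfsg.Agent.KFacts.WittOrth Cfsg.Agent.KFacts.SpecKfour Cfsg.Agent.KFacts.SpecLoc Cfsg.Agent.KFacts.RgdTI
  Cfsg.Agent.KFacts.RgdOdd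
open scoped commutatorElement

/-! ### `P` normalises `Q` -/

section QN

variable {I W Y : Type*} [Fintype I] [DecidableEq I] [Group W] [Finite W] [Group Y] {M : CoxeterMatrix I}
  {cs : CoxeterSystem M W} {A : I → I → ℤ} {h : IsCartan M A} {p : ℕ} {T : Subgroup Y} {n : I → Y}
  {X : (I → ℤ) → Subgroup Y}

theorem btwn_cpr {r a b z : I → ℤ} (hr : IsRoot cs h r) (hz : Btwn cs h a b z) (ha : 0 ≤ cpr cs h a r)
    (hb : 1 ≤ cpr cs h b r) : z ∈ Rad cs h r := by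
  obtain ⟨hzr, m, c, d, hm, hc, hd, e⟩ := hz
  refine ⟨hzr, ?_⟩
  have h1 : cpr cs h (m • z) r = cpr cs h (c • a + d • b) r := by rw [e]
  rw [cpr_smul cs h m z hr, cpr_add cs h _ _ hr, cpr_smul cs h c a hr, cpr_smul cs h d b hr] at h1
  have h2 : 0 < m * cpr cs h z r := by
    rw [h1]
    nlinarith
  exact (pos_iff_pos_of_mul_pos h2).1 hm

theorem QN_gen (R : RGD cs h p T n X) {r : I → ℤ} (hr : IsRoot cs h r) {g q : Y} (hg : g ∈ RGD.Sup X (Ge cs h r))
    (hq : q ∈ RGD.Sup X (Rad cs h r)) : g * q * g⁻¹ ∈ RGD.Sup X (Rad cs h r) := by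
  have key : ∀ a ∈ Ge cs h r, ∀ u ∈ X a, ∀ q ∈ RGD.Sup X (Rad cs h r), u * q * u⁻¹ ∈ RGD.Sup X (Rad cs h r) := by
    intro a ha u hu
    suffices h1 : RGD.Sup X (Rad cs h r) ≤ (RGD.Sup X (Rad cs h r)).comap (MulAut.conj u).toMonoidHom from
      fun q hq => h1 hq
    refine RGD.Sup_le fun b hb => ?_
    intro v hv
    rw [Subgroup.mem_comap]
    show u * v * u⁻¹ ∈ RGD.Sup X (Rad cs h r)
    have hvQ : v ∈ RGD.Sup X (Rad cs h r) := RGD.le_Sup hb hv
    by_cases hab : a = b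
    · subst hab
      have huQ : u ∈ RGD.Sup X (Rad cs h r) := RGD.le_Sup hb hu
      exact mul_mem (mul_mem huQ hvQ) (inv_mem huQ)
    by_cases hab' : a = -b
    · exfalso
      have h1 := ha.2
      have h2 := hb.2
      rw [hab', cpr_neg cs h b hr] at h1
      omega
    have h1 : ⁅u, v⁆ ∈ RGD.Sup X (Rad cs h r) := by
      have h2 := R.comm a b ha.1 hb.1 hab hab' u hu v hv
      refine (iSup_le fun z => ?_ : btw cs h X a b ≤ _) h2
      exact RGD.le_Sup (btwn_cpr hr z.2 ha.2 hb.2)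
    have h3 : u * v * u⁻¹ = ⁅u, v⁆ * v := by rw [commutatorElement_def]; group
    rw [h3]
    exact mul_mem h1 hvQ
  -- the elements normalising `Q` form a subgroup
  let L : Subgroup Y :=
    { carrier := {g | (∀ q ∈ RGD.Sup X (Rad cs h r), g * q * g⁻¹ ∈ RGD.Sup X (Rad cs h r)) ∧
        ∀ q ∈ RGD.Sup X (Rad cs h r), g⁻¹ * q * g ∈ RGD.Sup X (Rad cs h r)}
      one_mem' := ⟨fun q hq => by simpa using hq, fun q hq => by simpa using hq⟩
      mul_mem' := by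
        rintro g k ⟨hg, hg'⟩ ⟨hk, hk'⟩
        refine ⟨fun q hq => ?_, fun q hq => ?_⟩
        · have : g * k * q * (g * k)⁻¹ = g * (k * q * k⁻¹) * g⁻¹ := by group
          rw [this]; exact hg _ (hk _ hq)
        · have : (g * k)⁻¹ * q * (g * k) = k⁻¹ * (g⁻¹ * q * g) * k := by group
          rw [this]; exact hk' _ (hg' _ hq)
      inv_mem' := by
        rintro g ⟨hg, hg'⟩
        exact ⟨fun q hq => by rw [inv_inv]; exact hg' q hq, fun q hq => by rw [inv_inv]; exact hg q hq⟩ }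
  have hL : RGD.Sup X (Ge cs h r) ≤ L := by
    refine RGD.Sup_le fun a ha u hu => ⟨key a ha u hu, fun q hq => ?_⟩
    have := key a ha u⁻¹ (inv_mem hu) q hq
    rwa [inv_inv] at this
  exact (hL hg).1 q hq

end QN

variable {F : Type*} [Field F] {V : Type*} [AddCommGroup V] [Module F V] {H : HForm F V} {n : ℕ}

/-! ### signed indices -/

/-- `x`, `y` -/
def xs (x y : Fin n × Bool) (b : Bool) : Fin n × Bool := if b then x else y

/-- the signed indices different from `± x`, `± y` -/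
def Out (x y : Fin n × Bool) (z : Fin n × Bool) : Prop := z.1 ≠ x.1 ∧ z.1 ≠ y.1

section Index

variable {x y : Fin n × Bool}

theorem Out.ne {z : Fin n × Bool} (h : Out x y z) (b : Bool) : z.1 ≠ (xs x y b).1 := by
  cases b
  · exact h.2
  · exact h.1

theorem Out.ne' {z : Fin n × Bool} (h : Out x y z) (b : Bool) : (xs x y b).1 ≠ z.1 := (h.ne b).symm

theorem Out.ng {z : Fin n × Bool} (h : Out x y z) : Out x y (ng z) := h

theorem xs_ne (hxy : x.1 ≠ y.1) (b : Bool) : (xs x y b).1 ≠ (xs x y !b).1 := by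
  cases b
  · exact hxy.symm
  · exact hxy

theorem cases_c (c : Fin n × Bool) : (∃ b, c = xs x y b) ∨ (∃ b, c = ng (xs x y b)) ∨ Out x y c := by
  by_cases h1 : c = x
  · exact Or.inl ⟨true, h1⟩
  by_cases h2 : c = y
  · exact Or.inl ⟨false, h2⟩
  by_cases h3 : c = ng x
  · exact Or.inr (Or.inl ⟨true, h3⟩)
  by_cases h4 : c = ng y
  · exact Or.inr (Or.inl ⟨false, h4⟩)
  exact Or.inr (Or.inr ⟨fst_of_ne h1 h3, fst_of_ne h2 h4⟩)

/-- the value of `r` -/
def vl (x y c : Fin n × Bool) : ℤ := wt c x.1 * sn x + wt c y.1 * sn y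

theorem vl_xs (hxy : x.1 ≠ y.1) (b : Bool) : vl x y (xs x y b) = 1 := by
  unfold vl
  cases b
  · show wt y x.1 * sn x + wt y y.1 * sn y = 1
    rw [wt_apply, if_neg hxy, wt_apply, if_pos rfl]
    unfold sn; split_ifs <;> simp
  · show wt x x.1 * sn x + wt x y.1 * sn y = 1
    rw [wt_apply, if_pos rfl, wt_apply, if_neg hxy.symm]
    unfold sn; split_ifs <;> simp

theorem vl_ng (c : Fin n × Bool) : vl x y (ng c) = -vl x y c := by
  unfold vl
  rw [wt_ng, Pi.neg_apply, Pi.neg_apply]; ring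

theorem vl_out {c : Fin n × Bool} (h : Out x y c) : vl x y c = 0 := by
  unfold vl
  rw [wt_apply, if_neg h.1.symm, wt_apply, if_neg h.2.symm]; ring

variable {W : Type*} [Group W] (cs : CoxeterSystem (CoxeterMatrix.B n) W)

theorem cpr_rtxy (hxy : x.1 ≠ y.1) (c d : Fin n × Bool) :
    cpr cs (isCartan n) (rt c d) (rt x y) = vl x y c + vl x y d := by
  have := finite_W cs
  rw [cpr_rt cs _ hxy, ee_rt, Pi.add_apply, Pi.add_apply]
  unfold vl; ring

theorem mem_Ge (hxy : x.1 ≠ y.1) {c d : Fin n × Bool} (hcd : Ok c d) (h : 0 ≤ vl x y c + vl x y d) :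
    rt c d ∈ Ge cs (isCartan n) (rt x y) := ⟨isRoot_rt cs hcd, by rw [cpr_rtxy cs hxy]; exact h⟩

theorem mem_Rad (hxy : x.1 ≠ y.1) {c d : Fin n × Bool} (hcd : Ok c d) (h : 1 ≤ vl x y c + vl x y d) :
    rt c d ∈ Rad cs (isCartan n) (rt x y) := ⟨isRoot_rt cs hcd, by rw [cpr_rtxy cs hxy]; exact h⟩

end Index

/-! ### `P` and `Q` -/

section PQ

variable (Fr : Frame H (Fin n)) {W : Type*} [Group W] (cs : CoxeterSystem (CoxeterMatrix.B n) W) (x y : Fin n × Bool)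

/-- `P` -/
def PP : Subgroup (V ≃ₗ[F] V) := RGD.Sup (rg Fr) (Ge cs (isCartan n) (rt x y))

/-- `Q` -/
def QQ : Subgroup (V ≃ₗ[F] V) := RGD.Sup (rg Fr) (Rad cs (isCartan n) (rt x y))

/-- `Z` -/
def ZZ : Subgroup (V ≃ₗ[F] V) := rg Fr (rt x y)

/-- the index set -/
abbrev Ix (x y : Fin n × Bool) : Type := Bool × Option {z : Fin n × Bool // Out x y z}

/-- the pieces of `Q / Z` -/
def VV : Ix x y → Subgroup (V ≃ₗ[F] V)
  | (b, some z) => XG Fr (xs x y b) z.1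
  | (b, none) => ZG Fr (xs x y b)

/-- the duality -/
def st {x y : Fin n × Bool} : Ix x y → Ix x y
  | (b, some z) => (!b, some ⟨ng z.1, z.2.ng⟩)
  | (b, none) => (!b, none)

variable {Fr cs x y} (hxy : x.1 ≠ y.1)

theorem rg_rt {c d : Fin n × Bool} (h : Ok c d) : rg Fr (rt c d) = PG Fr c d := rg_eq Fr h (ee_rt c d)

include hxy

theorem ZZ_eq : ZZ Fr x y = XG Fr x y := by
  unfold ZZ
  rw [rg_rt (Or.inl hxy), PG_ne Fr hxy]

theorem mem_ZZ (b : Bool) (t : F) : Fr.X (xs x y b) (xs x y !b) t ∈ ZZ Fr x y := by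
  rw [ZZ_eq hxy]
  cases b
  · show Fr.X y x t ∈ XG Fr x y
    rw [XG_swap Fr hxy]
    exact ⟨t, rfl⟩
  · exact ⟨t, rfl⟩

theorem ZZ_le : ZZ Fr x y ≤ QQ Fr cs x y :=
  RGD.le_Sup (mem_Rad cs hxy (Or.inl hxy) (by
    have h1 := vl_xs hxy true
    have h2 := vl_xs hxy false
    change vl x y x = 1 at h1
    change vl x y y = 1 at h2
    omega))

theorem mem_QX (b : Bool) {z : Fin n × Bool} (hz : Out x y z) (t : F) : Fr.X (xs x y b) z t ∈ QQ Fr cs x y := by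
  have h1 : Ok (xs x y b) z := Or.inl (hz.ne' b)
  refine RGD.le_Sup (mem_Rad cs hxy h1 (by rw [vl_xs hxy, vl_out hz]; norm_num)) ?_
  rw [rg_rt h1, PG_ne Fr (hz.ne' b)]
  exact ⟨t, rfl⟩

theorem mem_QZ (b : Bool) (p : Fr.Adm) : Fr.Z (xs x y b) p ∈ QQ Fr cs x y := by
  have h1 : Ok (xs x y b) (xs x y b) := Or.inr rfl
  refine RGD.le_Sup (mem_Rad cs hxy h1 (by rw [vl_xs hxy]; norm_num)) ?_
  rw [rg_rt h1, PG_self]
  exact ⟨p, rfl⟩

theorem QQ_le_PP : QQ Fr cs x y ≤ PP Fr cs x y :=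
  RGD.Sup_mono fun _ ha => ⟨ha.1, le_trans (by norm_num) ha.2⟩

theorem mem_PL (b : Bool) (t : F) : Fr.X (xs x y b) (ng (xs x y !b)) t ∈ PP Fr cs x y := by
  have h0 : (xs x y b).1 ≠ (ng (xs x y !b)).1 := xs_ne hxy b
  have h1 : Ok (xs x y b) (ng (xs x y !b)) := Or.inl h0
  refine RGD.le_Sup (mem_Ge cs hxy h1 (by rw [vl_ng, vl_xs hxy, vl_xs hxy]; norm_num)) ?_
  rw [rg_rt h1, PG_ne Fr h0]
  exact ⟨t, rfl⟩

theorem mem_PX {z u : Fin n × Bool} (hz : Out x y z) (hu : Out x y u) (hzu : z.1 ≠ u.1) (t : F) :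
    Fr.X z u t ∈ PP Fr cs x y := by
  have h1 : Ok z u := Or.inl hzu
  refine RGD.le_Sup (mem_Ge cs hxy h1 (by rw [vl_out hz, vl_out hu]; norm_num)) ?_
  rw [rg_rt h1, PG_ne Fr hzu]
  exact ⟨t, rfl⟩

theorem mem_PZ {z : Fin n × Bool} (hz : Out x y z) (p : Fr.Adm) : Fr.Z z p ∈ PP Fr cs x y := by
  have h1 : Ok z z := Or.inr rfl
  refine RGD.le_Sup (mem_Ge cs hxy h1 (by rw [vl_out hz]; norm_num)) ?_
  rw [rg_rt h1, PG_self]
  exact ⟨p, rfl⟩

omit hxy in
theorem bool_cases (b b' : Bool) : b' = b ∨ b' = !b := by cases b <;> cases b' <;> simp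

omit hxy in
theorem not_ok_ng (c : Fin n × Bool) : ¬ Ok c (ng c) := by
  rintro (h | h)
  · exact h rfl
  · exact ne_ng c h

/-- generation of `Q` -/
theorem QQ_le {K : Subgroup (V ≃ₗ[F] V)} (h1 : XG Fr x y ≤ K)
    (h2 : ∀ b z, Out x y z → XG Fr (xs x y b) z ≤ K) (h3 : ∀ b, ZG Fr (xs x y b) ≤ K) : QQ Fr cs x y ≤ K := by
  refine RGD.Sup_le fun a ha => ?_
  obtain ⟨c, d, hcd, rfl⟩ := exists_rt ha.1
  have h0 := ha.2
  rw [cpr_rtxy cs hxy] at h0
  rw [rg_rt hcd]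
  rcases cases_c (x := x) (y := y) c with ⟨b, rfl⟩ | ⟨b, rfl⟩ | hc
  · rcases cases_c (x := x) (y := y) d with ⟨b', rfl⟩ | ⟨b', rfl⟩ | hd
    · rcases bool_cases b b' with rfl | rfl
      · rw [PG_self]; exact h3 _
      · rw [PG_ne Fr (xs_ne hxy b)]
        cases b
        · show XG Fr y x ≤ K
          rw [XG_swap Fr hxy.symm]; exact h1
        · exact h1
    · rw [vl_ng, vl_xs hxy, vl_xs hxy] at h0; omega
    · rw [PG_ne Fr (hd.ne' b)]; exact h2 b d hd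
  · rcases cases_c (x := x) (y := y) d with ⟨b', rfl⟩ | ⟨b', rfl⟩ | hd
    · rw [vl_ng, vl_xs hxy, vl_xs hxy] at h0; omega
    · rw [vl_ng, vl_ng, vl_xs hxy, vl_xs hxy] at h0; omega
    · rw [vl_ng, vl_xs hxy, vl_out hd] at h0; omega
  · rcases cases_c (x := x) (y := y) d with ⟨b', rfl⟩ | ⟨b', rfl⟩ | hd
    · rw [PG_ne Fr (hc.ne b'), XG_swap Fr (hc.ne b')]; exact h2 b' c hc
    · rw [vl_ng, vl_xs hxy, vl_out hc] at h0; omega
    · rw [vl_out hc, vl_out hd] at h0; omega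

/-- generation of `P` -/
theorem PP_le {K : Subgroup (V ≃ₗ[F] V)} (h1 : XG Fr x y ≤ K)
    (h2 : ∀ b z, Out x y z → XG Fr (xs x y b) z ≤ K) (h3 : ∀ b, ZG Fr (xs x y b) ≤ K)
    (h4 : ∀ b, XG Fr (xs x y b) (ng (xs x y !b)) ≤ K)
    (h5 : ∀ z u, Out x y z → Out x y u → z.1 ≠ u.1 → XG Fr z u ≤ K) (h6 : ∀ z, Out x y z → ZG Fr z ≤ K) :
    PP Fr cs x y ≤ K := by
  refine RGD.Sup_le fun a ha => ?_
  obtain ⟨c, d, hcd, rfl⟩ := exists_rt ha.1
  have h0 := ha.2
  rw [cpr_rtxy cs hxy] at h0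
  rw [rg_rt hcd]
  rcases cases_c (x := x) (y := y) c with ⟨b, rfl⟩ | ⟨b, rfl⟩ | hc
  · rcases cases_c (x := x) (y := y) d with ⟨b', rfl⟩ | ⟨b', rfl⟩ | hd
    · rcases bool_cases b b' with rfl | rfl
      · rw [PG_self]; exact h3 _
      · rw [PG_ne Fr (xs_ne hxy b)]
        cases b
        · show XG Fr y x ≤ K
          rw [XG_swap Fr hxy.symm]; exact h1
        · exact h1
    · rcases bool_cases b b' with rfl | rfl
      · exact absurd hcd (not_ok_ng _)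
      · rw [PG_ne Fr (show (xs x y b).1 ≠ (ng (xs x y !b)).1 from xs_ne hxy b)]; exact h4 b
    · rw [PG_ne Fr (hd.ne' b)]; exact h2 b d hd
  · rcases cases_c (x := x) (y := y) d with ⟨b', rfl⟩ | ⟨b', rfl⟩ | hd
    · rcases bool_cases b' b with rfl | rfl
      · exact absurd hcd.symm (not_ok_ng _)
      · have h7 : (ng (xs x y !b')).1 ≠ (xs x y b').1 := (xs_ne hxy b').symm
        rw [PG_ne Fr h7, XG_swap Fr h7]; exact h4 b'
    · rw [vl_ng, vl_ng, vl_xs hxy, vl_xs hxy] at h0; omega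
    · rw [vl_ng, vl_xs hxy, vl_out hd] at h0; omega
  · rcases cases_c (x := x) (y := y) d with ⟨b', rfl⟩ | ⟨b', rfl⟩ | hd
    · rw [PG_ne Fr (hc.ne b'), XG_swap Fr (hc.ne b')]; exact h2 b' c hc
    · rw [vl_ng, vl_xs hxy, vl_out hc] at h0; omega
    · rcases hcd with h7 | rfl
      · rw [PG_ne Fr h7]; exact h5 c d hc hd h7
      · rw [PG_self]; exact h6 c hc

theorem ZZ_eq' (b : Bool) : ZZ Fr x y = XG Fr (xs x y b) (xs x y !b) := by
  rw [ZZ_eq hxy]
  cases b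
  · exact XG_swap Fr hxy
  · rfl

theorem xs_ne_ng (b b' : Bool) : xs x y b ≠ ng (xs x y b') := by
  rcases bool_cases b b' with rfl | rfl
  · exact ne_ng _
  · exact ne_ng_of_fst (xs_ne hxy b)

omit hxy in
theorem out_ne_ng {z : Fin n × Bool} (hz : Out x y z) (b : Bool) : z ≠ ng (xs x y b) := ne_ng_of_fst (hz.ne b)

omit hxy in
theorem xs_ne_ng_out {z : Fin n × Bool} (hz : Out x y z) (b : Bool) : xs x y b ≠ ng z := ne_ng_of_fst (hz.ne' b)

/-- elements of `P` centralise `Z` -/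
theorem cen (O : Orth Fr) {p z : V ≃ₗ[F] V} (hp : p ∈ PP Fr cs x y) (hz : z ∈ ZZ Fr x y) : p * z = z * p := by
  have key : PP Fr cs x y ≤ Subgroup.centralizer {z} := by
    refine PP_le hxy ?_ ?_ ?_ ?_ ?_ ?_
    · rintro _ ⟨t, rfl⟩
      rw [ZZ_eq' hxy true] at hz
      obtain ⟨s, rfl⟩ := hz
      rw [Subgroup.mem_centralizer_singleton_iff]
      exact (Fr.commute_XX (x := x) (y := y) (z := x) (u := y) (xs_ne_ng hxy true true) (xs_ne_ng hxy true false)
        (xs_ne_ng hxy false true) (xs_ne_ng hxy false false) _ _).eq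
    · rintro b u hu _ ⟨t, rfl⟩
      rw [ZZ_eq' hxy b] at hz
      obtain ⟨s, rfl⟩ := hz
      rw [Subgroup.mem_centralizer_singleton_iff]
      exact (Fr.commute_XX (xs_ne_ng hxy _ _) (xs_ne_ng_out hu b) (xs_ne_ng hxy _ _) (xs_ne_ng_out hu _) _ _).eq
    · rintro b _ ⟨q, rfl⟩
      rw [ZZ_eq' hxy b] at hz
      obtain ⟨s, rfl⟩ := hz
      rw [Subgroup.mem_centralizer_singleton_iff]
      exact (Fr.commute_ZX (xs_ne_ng hxy _ _) (xs_ne_ng hxy _ _) _ _).eq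
    · rintro b _ ⟨t, rfl⟩
      rw [ZZ_eq' hxy b] at hz
      obtain ⟨s, rfl⟩ := hz
      rw [Subgroup.mem_centralizer_singleton_iff]
      exact (O.xx0 (xs_ne hxy b) s t).eq.symm
    · rintro u w hu hw huw _ ⟨t, rfl⟩
      rw [ZZ_eq' hxy true] at hz
      obtain ⟨s, rfl⟩ := hz
      rw [Subgroup.mem_centralizer_singleton_iff]
      exact (Fr.commute_XX (xs_ne_ng_out hu _) (xs_ne_ng_out hw _) (xs_ne_ng_out hu _) (xs_ne_ng_out hw _) _ _).eq
    · rintro u hu _ ⟨q, rfl⟩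
      rw [ZZ_eq' hxy true] at hz
      obtain ⟨s, rfl⟩ := hz
      rw [Subgroup.mem_centralizer_singleton_iff]
      exact (Fr.commute_ZX (xs_ne_ng_out hu _) (xs_ne_ng_out hu _) _ _).eq
  exact (Subgroup.mem_centralizer_singleton_iff.1 (key hp))

/-- the pieces commute -/
theorem comm1 (O : Orth Fr) (i j : Ix x y) (hij : j ≠ st i) {u v : V ≃ₗ[F] V} (hu : u ∈ VV Fr x y i)
    (hv : v ∈ VV Fr x y j) : u * v = v * u := by
  obtain ⟨b, z | z⟩ := i
  · obtain ⟨b', z' | z'⟩ := j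
    · obtain ⟨p, rfl⟩ := hu
      obtain ⟨q, rfl⟩ := hv
      rcases bool_cases b b' with rfl | rfl
      · exact (O.z_comm _ _ _).eq
      · exact absurd rfl hij
    · obtain ⟨p, rfl⟩ := hu
      obtain ⟨t, rfl⟩ := hv
      exact (Fr.commute_ZX (xs_ne_ng hxy _ _) (out_ne_ng z'.2 _) _ _).eq
  · obtain ⟨b', z' | z'⟩ := j
    · obtain ⟨t, rfl⟩ := hu
      obtain ⟨p, rfl⟩ := hv
      exact (Fr.commute_ZX (xs_ne_ng hxy _ _) (out_ne_ng z.2 _) _ _).eq.symm
    · obtain ⟨t, rfl⟩ := hu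
      obtain ⟨s, rfl⟩ := hv
      by_cases h1 : z'.1 = ng z.1
      · rcases bool_cases b b' with rfl | rfl
        · rw [h1]
          exact (O.xx0 (z.2.ne' _) t s).eq
        · exfalso
          apply hij
          show ((!b, some z') : Ix x y) = (!b, some ⟨ng z.1, z.2.ng⟩)
          congr 2
          exact Subtype.ext h1
      · exact (Fr.commute_XX (xs_ne_ng hxy _ _) (xs_ne_ng_out z.2 _) (out_ne_ng z'.2 _) h1 _ _).eq

/-- commutators of dual pieces -/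
theorem br_XX (O : Orth Fr) (b : Bool) {z : Fin n × Bool} (hz : Out x y z) (s t : F) :
    ⁅Fr.X (xs x y b) z s, Fr.X (xs x y !b) (ng z) t⁆ = Fr.X (xs x y b) (xs x y !b) (s * t) := by
  rw [O.swap (x := xs x y !b) (y := ng z) (hz.ne' _)]
  exact O.xx (hz.ne' b) (hz.ne _) (xs_ne hxy b) s t

theorem br_ZZ (O : Orth Fr) (b : Bool) (p q : Fr.Adm) :
    ⁅Fr.Z (xs x y b) p, Fr.Z (xs x y !b) q⁆ = Fr.X (xs x y b) (xs x y !b) (H.h p.w q.w) := O.zz (xs_ne hxy b) p q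

variable {G0 : Subgroup (V ≃ₗ[F] V)}

/-- **`Spec`** -/
theorem spec (O : Orth Fr) [Finite F] [Finite V] {T : Subgroup (V ≃ₗ[F] V)} {nn : Fin n → V ≃ₗ[F] V}
    (R : RGD cs (isCartan n) 2 T nn (rg Fr)) :
    Spec (PP Fr cs x y) (QQ Fr cs x y) (ZZ Fr x y) (Dg Fr ⊓ G0) (VV Fr x y) st where
  QP := QQ_le_PP hxy
  ZQ := ZZ_le hxy
  VQ := by
    rintro ⟨b, z | z⟩
    · rintro _ ⟨p, rfl⟩; exact mem_QZ hxy b p
    · rintro _ ⟨t, rfl⟩; exact mem_QX hxy b z.2 t
  gen := by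
    refine QQ_le hxy ?_ (fun b z hz => ?_) (fun b => ?_)
    · rw [← ZZ_eq hxy]; exact le_sup_right
    · exact le_trans (le_iSup (VV Fr x y) ((b, some ⟨z, hz⟩) : Ix x y)) le_sup_left
    · exact le_trans (le_iSup (VV Fr x y) ((b, none) : Ix x y)) le_sup_left
  cen := fun p hp z hz => cen hxy O hp hz
  QN := fun p hp q hq => by
    have := finite_W cs
    exact QN_gen R (isRoot_rt cs (Or.inl hxy)) hp hq
  stst := by
    rintro ⟨b, z | z⟩
    · show ((!(!b), none) : Ix x y) = (b, none)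
      rw [Bool.not_not]
    · show ((!(!b), some ⟨ng (ng z.1), z.2.ng.ng⟩) : Ix x y) = (b, some z)
      rw [Bool.not_not]
      congr 2
      exact Subtype.ext (ng_ng _)
  ab := by
    intro i u hu v hv
    refine comm1 hxy O i i ?_ hu hv
    obtain ⟨b, z | z⟩ := i
    · intro h
      have := congrArg Prod.fst h
      revert this
      show b = !b → False
      cases b <;> simp
    · intro h
      have := congrArg Prod.fst h
      revert this
      show b = !b → False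
      cases b <;> simp
  comm1 := fun i j hij u hu v hv => comm1 hxy O i j hij hu hv
  br := by
    rintro ⟨b, z | z⟩
    · rintro _ ⟨p, rfl⟩ _ ⟨q, rfl⟩
      rw [ZZ_eq' hxy b, br_ZZ hxy O]
      exact ⟨_, rfl⟩
    · rintro _ ⟨s, rfl⟩ _ ⟨t, rfl⟩
      rw [ZZ_eq' hxy b, br_XX hxy O b z.2]
      exact ⟨_, rfl⟩
  nd := by
    rintro ⟨b, z | z⟩
    · rintro _ ⟨p, rfl⟩ h
      have h1 : p = 1 := by
        apply O.adm_nd
        intro q
        have h2 := h (Fr.Z (xs x y !b) q) ⟨q, rfl⟩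
        have h3 := br_ZZ hxy O b p q
        rw [commutatorElement_eq_one_iff_mul_comm.2 h2] at h3
        exact O.x_inj (xs_ne hxy b) h3.symm
      rw [h1, Fr.Z_one]
    · rintro _ ⟨s, rfl⟩ h
      have h2 := h (Fr.X (xs x y !b) (ng z.1) 1) ⟨1, rfl⟩
      have h3 := br_XX hxy O b z.2 s 1
      rw [commutatorElement_eq_one_iff_mul_comm.2 h2] at h3
      have h4 := O.x_inj (xs_ne hxy b) h3.symm
      rw [mul_one] at h4
      rw [h4, Fr.X_zero]
  sq := by
    rintro ⟨b, z | z⟩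
    · rintro _ ⟨p, rfl⟩; exact O.z_sq _ _
    · rintro _ ⟨t, rfl⟩; exact O.x_sq _ _ _
  TV := by
    rintro t ⟨⟨l, hl⟩, -⟩ ⟨b, z | z⟩
    · rintro _ ⟨p, rfl⟩
      exact ⟨_, O.conjZ hl p⟩
    · rintro _ ⟨s, rfl⟩
      exact ⟨_, O.conjX hl (z.2.ne' b) s⟩
  TZ := by
    rintro t ⟨⟨l, hl⟩, -⟩ z hz
    rw [ZZ_eq hxy] at hz ⊢
    obtain ⟨s, rfl⟩ := hz
    exact ⟨_, O.conjX hl hxy s⟩
  Tab := fun s hs t ht => O.dg_comm hs.1 ht.1
  Todd := by
    have h1 : Nat.card ↥(Dg Fr ⊓ G0 : Subgroup (V ≃ₗ[F] V)) ∣ Nat.card ↥(Dg Fr) := Subgroup.card_dvd_of_le inf_le_left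
    exact Nat.Coprime.coprime_dvd_left h1 O.dg_odd

/-! ### diagonal elements of `P` -/

theorem XG_le_PL (b : Bool) : XG Fr (xs x y b) (ng (xs x y !b)) ≤ PP Fr cs x y := by
  rintro _ ⟨t, rfl⟩; exact mem_PL hxy b t

/-- the diagonal element of `⟨X_a, X_{-a}⟩`, `a = ε_x - ε_y` -/
theorem kk_mem (b : Bool) (t : F) : hX Fr (xs x y b) (ng (xs x y !b)) t ∈ PP Fr cs x y := by
  have h0 : (ng (xs x y b)).1 ≠ (xs x y !b).1 := xs_ne hxy b
  refine (sup_le (XG_le_PL hxy b) ?_ : _ ≤ PP Fr cs x y) (hX_mem _ _ _)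
  rw [ng_ng, XG_swap Fr h0]
  have h1 := XG_le_PL (Fr := Fr) (cs := cs) hxy !b
  rwa [Bool.not_not] at h1

theorem kz_mem {z : Fin n × Bool} (hz : Out x y z) (p : Fr.Adm) (t : F) : hZ Fr z p t ∈ PP Fr cs x y := by
  refine (sup_le ?_ ?_ : _ ≤ PP Fr cs x y) (hZ_mem _ _ _)
  · rintro _ ⟨q, rfl⟩; exact mem_PZ hxy hz q
  · rintro _ ⟨q, rfl⟩; exact mem_PZ hxy hz.ng q

omit hxy in
theorem hX_G0 {p : ℕ} (hA : Nodes.WittAll.AmbT Fr p G0) (a b : Fin n × Bool) (t : F) : hX Fr a b t ∈ G0 := by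
  refine (sup_le ?_ ?_ : _ ≤ G0) (hX_mem _ _ _)
  · rintro _ ⟨q, rfl⟩; exact hA.X_mem _ _ _
  · rintro _ ⟨q, rfl⟩; exact hA.X_mem _ _ _

omit hxy in
theorem hZ_G0 {p : ℕ} (hA : Nodes.WittAll.AmbT Fr p G0) (a : Fin n × Bool) (q : Fr.Adm) (t : F) :
    hZ Fr a q t ∈ G0 := by
  refine (sup_le ?_ ?_ : _ ≤ G0) (hZ_mem _ _ _)
  · rintro _ ⟨q, rfl⟩; exact hA.Z_mem _ _
  · rintro _ ⟨q, rfl⟩; exact hA.Z_mem _ _

theorem lk_xs (b : Bool) {t : F} : lX (xs x y b) (ng (xs x y !b)) t (xs x y b) = t := lX_fst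

theorem lk_ng (b : Bool) {t : F} : lX (xs x y b) (ng (xs x y !b)) t (ng (xs x y !b)) = t := lX_snd

theorem lk_not (b : Bool) {t : F} : lX (xs x y b) (ng (xs x y !b)) t (xs x y !b) = t⁻¹ := by
  have h := lX_nsnd (a := xs x y b) (b := ng (xs x y !b)) (xs_ne hxy b) (t := t)
  rwa [ng_ng] at h

theorem lk_out (b : Bool) {z : Fin n × Bool} (hz : Out x y z) {t : F} :
    lX (xs x y b) (ng (xs x y !b)) t z = 1 := lX_of (b := ng (xs x y !b)) (hz.ne b) (hz.ne _)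

omit hxy in
theorem sq_ne (O : Orth Fr) {s : F} (h : s ≠ 1) : s * s ≠ 1 := by
  intro h1
  apply h
  have h2 : (s + 1) * (s + 1) = 0 := by
    have : (s + 1) * (s + 1) = s * s + 1 + 2 * s := by ring
    rw [this, h1, O.two, O.add_self]; ring
  exact O.eq_of_add (mul_self_eq_zero.1 h2)

omit hxy in
theorem inv_ne {s : F} (h : s ≠ 1) : s⁻¹ ≠ 1 := fun h1 => h (by rw [← inv_inv s, h1, inv_one])

/-! ### the hypotheses -/

variable (O : Orth Fr) {s : F} (hs0 : s ≠ 0) (hs1 : s ≠ 1)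

section Fields

include O hs0 hs1

/-- `fix` -/
theorem fix [Finite F] [Finite V] {T : Subgroup (V ≃ₗ[F] V)} {nn : Fin n → V ≃ₗ[F] V}
    (R : RGD cs (isCartan n) 2 T nn (rg Fr)) (b : Bool) (z : {z // Out x y z}) :
    Fix (PP Fr cs x y) (QQ Fr cs x y) (ZZ Fr x y) (VV Fr x y) ((b, some z) : Ix x y) := by
  refine (spec (G0 := ⊤) hxy O R).fix_of_gen _ le_rfl ?_
  obtain ⟨p0, hp0⟩ := O.p0
  have hss0 : s * s ≠ 0 := mul_ne_zero hs0 hs0
  have hss1 : s * s ≠ 1 := sq_ne O hs1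
  set k := hX Fr (xs x y b) (ng (xs x y !b)) (s * s) * hZ Fr z.1 p0 s⁻¹ with hk
  have hkP : k ∈ PP Fr cs x y := mul_mem (kk_mem hxy b _) (kz_mem hxy z.2 _ _)
  set l := fun u => lX (xs x y b) (ng (xs x y !b)) (s * s) u * lZ z.1 s⁻¹ u with hl
  have hco : Co Fr k l := (O.hX_co (a := xs x y b) (b := ng (xs x y !b)) (xs_ne hxy b) hss0).mul
    (O.hZ_co hp0 (inv_ne_zero hs0))
  have l1 : l (xs x y b) = s * s := by
    simp only [hl]; rw [lk_xs hxy, lZ_of (z.2.ne' _), mul_one]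
  have l2 : l (xs x y !b) = (s * s)⁻¹ := by
    simp only [hl]; rw [lk_not hxy, lZ_of (z.2.ne' _), mul_one]
  have l3 : l z.1 = (s * s)⁻¹ := by
    simp only [hl]; rw [lk_out hxy b z.2, lZ_self, one_mul, mul_inv]
  have l4 : l (ng z.1) = s * s := by
    simp only [hl]; rw [lk_out hxy b z.2.ng, lZ_ng, one_mul, mul_inv, inv_inv]
  have l5 : ∀ u, Out x y u → u.1 ≠ z.1.1 → l u = 1 := by
    intro u hu huz
    simp only [hl]; rw [lk_out hxy b hu, lZ_of huz, one_mul]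
  have hkV : ∀ v ∈ VV Fr x y ((b, some z) : Ix x y), k * v = v * k := by
    rintro _ ⟨t, rfl⟩
    have h1 := O.conjX hco (z.2.ne' b) t
    rw [l1, l3, mul_inv_cancel₀ hss0, one_mul] at h1
    exact mul_inv_eq_iff_eq_mul.1 h1
  rintro ⟨b', u | u⟩ hj
  · rintro _ ⟨p, rfl⟩
    refine Subgroup.mem_sup_left (Subgroup.subset_closure ?_)
    have hne : l (xs x y b') ≠ 1 := by
      rcases bool_cases b b' with rfl | rfl
      · rw [l1]; exact hss1
      · rw [l2]; exact inv_ne hss1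
    obtain ⟨q, hq⟩ := O.brZ hco hne p
    exact ⟨k, hkP, hkV, _, mem_QZ hxy b' q, hq.symm⟩
  · rintro _ ⟨t, rfl⟩
    refine Subgroup.mem_sup_left (Subgroup.subset_closure ?_)
    have hne : (b' = b ∧ u = z) ∨ l (xs x y b') * l u.1 ≠ 1 := by
      rcases bool_cases b b' with rfl | rfl
      · by_cases h1 : u = z
        · exact Or.inl ⟨rfl, h1⟩
        right
        by_cases h2 : u.1 = ng z.1
        · rw [h2, l1, l4]; exact sq_ne O hss1
        · rw [l1, l5 u.1 u.2 (fst_of_ne (fun h => h1 (Subtype.ext h)) h2), mul_one]; exact hss1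
      · right
        by_cases h1 : u.1 = z.1
        · rw [h1, l2, l3]; exact sq_ne O (inv_ne hss1)
        by_cases h2 : u.1 = ng z.1
        · exfalso
          apply hj
          show ((!b, some u) : Ix x y) = (!b, some ⟨ng z.1, z.2.ng⟩)
          congr 2
          exact Subtype.ext h2
        · rw [l2, l5 u.1 u.2 (fst_of_ne h1 h2), mul_one]; exact inv_ne hss1
    rcases hne with ⟨rfl, rfl⟩ | hne
    · refine ⟨_, mem_PL hxy b' 1, ?_, _, mem_QX hxy (!b') u.2 t, ?_⟩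
      · rintro _ ⟨t', rfl⟩
        exact (Fr.commute_XX (xs_ne_ng hxy _ _) (by
          show xs x y b' ≠ ng (ng (xs x y !b'))
          rw [ng_ng]; exact ne_of_fst (xs_ne hxy b')) (out_ne_ng u.2 _) (by
          show u.1 ≠ ng (ng (xs x y !b'))
          rw [ng_ng]; exact ne_of_fst (u.2.ne _)) _ _).eq
      · rw [O.xx' (xs_ne hxy b') (u.2.ne' _) (u.2.ne' _), one_mul]
    · obtain ⟨t', ht'⟩ := O.brX hco (u.2.ne' b') hne t
      exact ⟨k, hkP, hkV, _, mem_QX hxy b' u.2 t', ht'.symm⟩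

/-- `kap` -/
theorem kap {p : ℕ} (hA : Nodes.WittAll.AmbT Fr p G0) (j : Ix x y) : ∃ k ∈ (Dg Fr ⊓ G0 : Subgroup (V ≃ₗ[F] V)),
    k ∈ PP Fr cs x y ∧ ∀ v ∈ VV Fr x y j, k * v * k⁻¹ = v → v = 1 := by
  have hco := fun b => O.hX_co (a := xs x y b) (b := ng (xs x y !b)) (xs_ne hxy b) hs0
  obtain ⟨b, z | z⟩ := j
  · refine ⟨_, ⟨⟨_, hco b⟩, hX_G0 hA _ _ _⟩, kk_mem hxy b s, ?_⟩
    rintro _ ⟨p, rfl⟩ h
    rw [O.fixZ (hco b) (by rw [lk_xs hxy]; exact hs1) h, Fr.Z_one]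
  · refine ⟨_, ⟨⟨_, hco b⟩, hX_G0 hA _ _ _⟩, kk_mem hxy b s, ?_⟩
    rintro _ ⟨p, rfl⟩ h
    rw [O.fixX (hco b) (z.2.ne' b) (by rw [lk_xs hxy, lk_out hxy b z.2, mul_one]; exact hs1) h, Fr.X_zero]

/-- `perf` -/
theorem perf (z : {z // Out x y z}) : PP Fr cs x y ≤ ⁅PP Fr cs x y, PP Fr cs x y⁆ := by
  obtain ⟨p0, hp0⟩ := O.p0
  have hss1 : s * s ≠ 1 := sq_ne O hs1
  have hco := fun b => O.hX_co (a := xs x y b) (b := ng (xs x y !b)) (xs_ne hxy b) hs0
  have hQP : ∀ {g}, g ∈ QQ Fr cs x y → g ∈ PP Fr cs x y := fun h => QQ_le_PP hxy h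
  have hcz := fun u => O.hZ_co (a := u) hp0 hs0
  refine PP_le hxy ?_ ?_ ?_ ?_ ?_ ?_
  · rintro _ ⟨t, rfl⟩
    have h1 := br_XX hxy O true z.2 1 t
    rw [one_mul] at h1
    show Fr.X (xs x y true) (xs x y !true) t ∈ _
    rw [← h1]
    exact Subgroup.commutator_mem_commutator (hQP (mem_QX hxy _ z.2 _)) (hQP (mem_QX hxy _ z.2.ng _))
  · rintro b u hu _ ⟨t, rfl⟩
    obtain ⟨t', ht'⟩ := O.brX (hco b) (hu.ne' b) (by rw [lk_xs hxy, lk_out hxy b hu, mul_one]; exact hs1) t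
    rw [← ht']
    exact Subgroup.commutator_mem_commutator (kk_mem hxy b _) (hQP (mem_QX hxy _ hu _))
  · rintro b _ ⟨p, rfl⟩
    obtain ⟨t', ht'⟩ := O.brZ (hco b) (by rw [lk_xs hxy]; exact hs1) p
    rw [← ht']
    exact Subgroup.commutator_mem_commutator (kk_mem hxy b _) (hQP (mem_QZ hxy _ _))
  · rintro b _ ⟨t, rfl⟩
    obtain ⟨t', ht'⟩ := O.brX (hco b) (a := xs x y b) (b := ng (xs x y !b)) (xs_ne hxy b)
      (by rw [lk_xs hxy, lk_ng hxy]; exact hss1) t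
    rw [← ht']
    exact Subgroup.commutator_mem_commutator (kk_mem hxy b _) (mem_PL hxy _ _)
  · rintro u w hu hw huw _ ⟨t, rfl⟩
    obtain ⟨t', ht'⟩ := O.brX (hcz u) huw (by rw [lZ_self, lZ_of huw.symm, mul_one]; exact hss1) t
    rw [← ht']
    exact Subgroup.commutator_mem_commutator (kz_mem hxy hu _ _) (mem_PX hxy hu hw huw _)
  · rintro u hu _ ⟨p, rfl⟩
    obtain ⟨t', ht'⟩ := O.brZ (hcz u) (by rw [lZ_self]; exact hss1) p
    rw [← ht']
    exact Subgroup.commutator_mem_commutator (kz_mem hxy hu _ _) (mem_PZ hxy hu _)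

/-- `ncl` -/
theorem ncl [Finite F] [Finite V] {T : Subgroup (V ≃ₗ[F] V)} {nn : Fin n → V ≃ₗ[F] V}
    (R : RGD cs (isCartan n) 2 T nn (rg Fr)) (b : Bool) (z : {z // Out x y z}) {q : V ≃ₗ[F] V}
    (hq : q ∈ QQ Fr cs x y) (h : ∀ p ∈ PP Fr cs x y, ∀ v ∈ VV Fr x y ((b, some z) : Ix x y),
      q * (p * v * p⁻¹) = (p * v * p⁻¹) * q) : q ∈ ZZ Fr x y := by
  have S := spec (G0 := ⊤) hxy O R
  obtain ⟨p0, hp0⟩ := O.p0
  have hQP : ∀ {g}, g ∈ QQ Fr cs x y → g ∈ PP Fr cs x y := fun h => QQ_le_PP hxy h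
  let C : Subgroup (V ≃ₗ[F] V) :=
    { carrier := {v | ∀ p ∈ PP Fr cs x y, q * (p * v * p⁻¹) = (p * v * p⁻¹) * q}
      one_mem' := fun p _ => by simp
      mul_mem' := by
        intro u v hu hv p hp
        have h1 := hu p hp
        have h2 := hv p hp
        calc q * (p * (u * v) * p⁻¹) = (q * (p * u * p⁻¹)) * (p * v * p⁻¹) := by group
          _ = (p * u * p⁻¹) * (q * (p * v * p⁻¹)) := by rw [h1]; group
          _ = _ := by rw [h2]; group
      inv_mem' := by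
        intro u hu p hp
        have h1 : Commute q (p * u * p⁻¹) := hu p hp
        have h2 : p * u⁻¹ * p⁻¹ = (p * u * p⁻¹)⁻¹ := by group
        rw [h2]
        exact h1.inv_right.eq }
  have hconj : ∀ p ∈ PP Fr cs x y, ∀ v ∈ C, p * v * p⁻¹ ∈ C := by
    intro p hp v hv p' hp'
    have h1 := hv (p' * p) (mul_mem hp' hp)
    have h2 : p' * p * v * (p' * p)⁻¹ = p' * (p * v * p⁻¹) * p'⁻¹ := by group
    rwa [h2] at h1
  have hbr : ∀ p ∈ PP Fr cs x y, ∀ v ∈ C, ⁅p, v⁆ ∈ C := fun p hp v hv => by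
    rw [commutatorElement_def]
    exact mul_mem (hconj p hp v hv) (inv_mem hv)
  have hbr' : ∀ p ∈ PP Fr cs x y, ∀ v ∈ C, ⁅v, p⁆ ∈ C := fun p hp v hv => by
    rw [← commutatorElement_inv]
    exact inv_mem (hbr p hp v hv)
  have hZ : ∀ v ∈ ZZ Fr x y, v ∈ C := by
    intro v hv p hp
    have h1 : p * v * p⁻¹ = v := by rw [cen hxy O hp hv]; group
    rw [h1]
    exact cen hxy O (hQP hq) hv
  -- the pieces of one side
  have c0 : ∀ t, Fr.X (xs x y b) z.1 t ∈ C := fun t p hp => h p hp _ ⟨t, rfl⟩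
  have c1 : ∀ t, Fr.X (xs x y b) (ng z.1) t ∈ C := by
    have e1 := hbr' _ (mem_PZ hxy z.2.ng p0) _ (c0 s)
    rw [O.xz' (z.2.ne' b)] at e1
    have e2 := hbr' _ (mem_PZ hxy z.2.ng (Frame.Adm.smul s p0)) _ (c0 1)
    rw [O.xz' (z.2.ne' b), O.adm_c, mul_one, Frame.Adm.one_smul] at e2
    have e3 := mul_mem (inv_mem e1) e2
    have e4 : (Fr.Z (xs x y b) (Frame.Adm.smul s p0) * Fr.X (xs x y b) (ng z.1) (p0.c * s))⁻¹ *
        (Fr.Z (xs x y b) (Frame.Adm.smul s p0) * Fr.X (xs x y b) (ng z.1) (s * s * p0.c)) =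
        Fr.X (xs x y b) (ng z.1) (p0.c * s + s * s * p0.c) := by
      rw [Fr.X_add]
      have e5 : (Fr.X (xs x y b) (ng z.1) (p0.c * s))⁻¹ = Fr.X (xs x y b) (ng z.1) (p0.c * s) := by
        rw [← Fr.X_neg, O.neg]
      rw [mul_inv_rev, e5]; group
    rw [e4] at e3
    have h0 : p0.c * s + s * s * p0.c ≠ 0 := by
      have : p0.c * s + s * s * p0.c = p0.c * s * (s + 1) := by ring
      rw [this]
      exact mul_ne_zero (mul_ne_zero hp0 hs0) fun h => hs1 (O.eq_of_add h)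
    intro t
    by_cases ht : t = 0
    · rw [ht, Fr.X_zero]; exact one_mem _
    have hco := O.hX_co (a := xs x y b) (b := ng (xs x y !b)) (xs_ne hxy b)
      (mul_ne_zero ht (inv_ne_zero h0))
    have e6 := hconj _ (kk_mem hxy b (t * (p0.c * s + s * s * p0.c)⁻¹)) _ e3
    rw [O.conjX hco (z.2.ng.ne' b), lk_xs hxy, lk_out hxy b z.2.ng] at e6
    have e7 : t * (p0.c * s + s * s * p0.c)⁻¹ * 1 * (p0.c * s + s * s * p0.c) = t := by
      rw [mul_one, mul_assoc, inv_mul_cancel₀ h0, mul_one]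
    rwa [e7] at e6
  have c2 : ∀ p, Fr.Z (xs x y b) p ∈ C := by
    intro p
    have e2 := hbr' _ (mem_PZ hxy z.2.ng p) _ (c0 1)
    rw [O.xz' (z.2.ne' b), Frame.Adm.one_smul] at e2
    have e3 := mul_mem e2 (inv_mem (c1 (p.c * 1)))
    rwa [mul_inv_cancel_right] at e3
  have c3 : ∀ u, Out x y u → ∀ t, Fr.X (xs x y b) u t ∈ C := by
    intro u hu t
    by_cases h1 : u = z.1
    · rw [h1]; exact c0 t
    by_cases h2 : u = ng z.1
    · rw [h2]; exact c1 t
    have h3 := fst_of_ne h1 h2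
    have e2 := hbr' _ (mem_PX hxy z.2.ng hu h3.symm t) _ (c0 1)
    rwa [O.xx (z.2.ne' b) h3.symm (hu.ne' b), one_mul] at e2
  have c4 : ∀ u, Out x y u → ∀ t, Fr.X (xs x y !b) u t ∈ C := by
    intro u hu t
    have e2 := hbr _ (mem_PL hxy (!b) 1) _ (c3 u hu t)
    rw [Bool.not_not] at e2
    rwa [O.xx' (xs_ne hxy b).symm (hu.ne' _) (hu.ne' _), one_mul] at e2
  have c5 : ∀ p, Fr.Z (xs x y !b) p ∈ C := by
    intro p
    have e2 := hbr _ (mem_PL hxy (!b) 1) _ (c2 p)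
    rw [Bool.not_not] at e2
    rw [O.xz (xs_ne hxy b).symm, Frame.Adm.one_smul] at e2
    have e4 : Fr.X (xs x y !b) (xs x y b) (p.c * 1) ∈ C := by
      have := mem_ZZ (Fr := Fr) hxy (!b) (p.c * 1)
      rw [Bool.not_not] at this
      exact hZ _ this
    have e3 := mul_mem e2 (inv_mem e4)
    rwa [mul_inv_cancel_right] at e3
  refine S.mem_Z hq ?_
  rintro ⟨b', u | u⟩
  · rintro _ ⟨p, rfl⟩
    have e : Fr.Z (xs x y b') p ∈ C := by
      rcases bool_cases b b' with rfl | rfl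
      · exact c2 p
      · exact c5 p
    simpa using e 1 (one_mem _)
  · rintro _ ⟨t, rfl⟩
    have e : Fr.X (xs x y b') u.1 t ∈ C := by
      rcases bool_cases b b' with rfl | rfl
      · exact c3 _ u.2 t
      · exact c4 _ u.2 t
    simpa using e 1 (one_mem _)

end Fields

include O in
/-- `lin` -/
theorem lin {p : ℕ} (hA : Nodes.WittAll.AmbT Fr p G0) (b : Bool) (z : {z // Out x y z}) :
    Lin (PP Fr cs x y) (Dg Fr ⊓ G0) (VV Fr x y) ((b, some z) : Ix x y) := by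
  refine lin_of_trans (fun s hs t ht => O.dg_comm hs.1 ht.1) ?_
  rintro _ ⟨t, rfl⟩ _ ⟨t', rfl⟩ h1 h2
  have ht : t ≠ 0 := by rintro rfl; exact h1 (Fr.X_zero _ _)
  have ht' : t' ≠ 0 := by rintro rfl; exact h2 (Fr.X_zero _ _)
  have hco := O.hX_co (a := xs x y b) (b := ng (xs x y !b)) (xs_ne hxy b) (mul_ne_zero ht' (inv_ne_zero ht))
  refine ⟨_, ⟨⟨_, hco⟩, hX_G0 hA _ _ _⟩, kk_mem hxy b _, ?_⟩
  rw [O.conjX hco (z.2.ne' b), lk_xs hxy, lk_out hxy b z.2]
  congr 1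
  field_simp

/-! ### the torus of `⟨X_r, X_{-r}⟩` -/

theorem rg_neg : rg Fr (-rt x y) = XG Fr (ng x) (ng y) := by
  rw [← rt_ng, rg_rt (Or.inl hxy : Ok (ng x) (ng y)), PG_ne Fr (a := ng x) (b := ng y) hxy]

theorem sup_eq : rg Fr (rt x y) ⊔ rg Fr (-rt x y) = XG Fr x y ⊔ XG Fr (ng x) (ng y) := by
  rw [rg_neg hxy]
  congr 1
  exact ZZ_eq hxy

theorem sup_eq' (b : Bool) : rg Fr (rt x y) ⊔ rg Fr (-rt x y) =
    XG Fr (xs x y b) (xs x y !b) ⊔ XG Fr (ng (xs x y b)) (ng (xs x y !b)) := by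
  rw [sup_eq hxy]
  cases b
  · show _ = XG Fr y x ⊔ XG Fr (ng y) (ng x)
    rw [XG_swap Fr hxy, XG_swap Fr (show (ng x).1 ≠ (ng y).1 from hxy)]
  · rfl

/-- `⟨X_r, X_{-r}⟩` centralises the Levi factor. -/
theorem sup_comm (O : Orth Fr) {k : V ≃ₗ[F] V} (hk : k ∈ rg Fr (rt x y) ⊔ rg Fr (-rt x y)) :
    (∀ b t, k * Fr.X (xs x y b) (ng (xs x y !b)) t = Fr.X (xs x y b) (ng (xs x y !b)) t * k) ∧
    (∀ u w, Out x y u → Out x y w → ∀ t, k * Fr.X u w t = Fr.X u w t * k) ∧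
    (∀ u, Out x y u → ∀ p, k * Fr.Z u p = Fr.Z u p * k) ∧ ∀ w ∈ Fr.V0, k w = w := by
  refine ⟨fun b t => ?_, fun u w hu hw t => ?_, fun u hu p => ?_, fun w hw => ?_⟩
  · rw [sup_eq' hxy b] at hk
    have h1 : XG Fr (xs x y b) (xs x y !b) ⊔ XG Fr (ng (xs x y b)) (ng (xs x y !b)) ≤
        Subgroup.centralizer {Fr.X (xs x y b) (ng (xs x y !b)) t} := by
      refine sup_le ?_ ?_
      · rintro _ ⟨s, rfl⟩
        rw [Subgroup.mem_centralizer_singleton_iff]
        exact (O.xx0 (xs_ne hxy b) s t).eq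
      · rintro _ ⟨s, rfl⟩
        rw [Subgroup.mem_centralizer_singleton_iff, O.swap (x := ng (xs x y b)) (y := ng (xs x y !b)) (xs_ne hxy b),
          O.swap (x := xs x y b) (y := ng (xs x y !b)) (xs_ne hxy b)]
        have h2 := (O.xx0 (x := ng (xs x y !b)) (y := ng (xs x y b)) (xs_ne hxy b).symm s t).eq
        rwa [ng_ng] at h2
    exact Subgroup.mem_centralizer_singleton_iff.1 (h1 hk)
  · rw [sup_eq hxy] at hk
    have h1 : XG Fr x y ⊔ XG Fr (ng x) (ng y) ≤ Subgroup.centralizer {Fr.X u w t} := by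
      refine sup_le ?_ ?_
      · rintro _ ⟨s, rfl⟩
        rw [Subgroup.mem_centralizer_singleton_iff]
        exact (Fr.commute_XX (ne_ng_of_fst hu.1) (ne_ng_of_fst hu.2) (ne_ng_of_fst hw.1) (ne_ng_of_fst hw.2) s t).eq
      · rintro _ ⟨s, rfl⟩
        rw [Subgroup.mem_centralizer_singleton_iff]
        exact (Fr.commute_XX (x := ng x) (y := ng y) (ne_ng_of_fst hu.1) (ne_ng_of_fst hu.2) (ne_ng_of_fst hw.1)
          (ne_ng_of_fst hw.2) s t).eq
    exact Subgroup.mem_centralizer_singleton_iff.1 (h1 hk)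
  · rw [sup_eq hxy] at hk
    have h1 : XG Fr x y ⊔ XG Fr (ng x) (ng y) ≤ Subgroup.centralizer {Fr.Z u p} := by
      refine sup_le ?_ ?_
      · rintro _ ⟨s, rfl⟩
        rw [Subgroup.mem_centralizer_singleton_iff]
        exact (Fr.commute_ZX (x := u) (y := x) (z := y) (ne_ng_of_fst hu.1.symm) (ne_ng_of_fst hu.2.symm) p s).eq.symm
      · rintro _ ⟨s, rfl⟩
        rw [Subgroup.mem_centralizer_singleton_iff]
        exact (Fr.commute_ZX (x := u) (y := ng x) (z := ng y) (ne_ng_of_fst (a := ng x) hu.1.symm)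
          (ne_ng_of_fst (a := ng y) hu.2.symm) p s).eq.symm
    exact Subgroup.mem_centralizer_singleton_iff.1 (h1 hk)
  · rw [sup_eq hxy] at hk
    let S : Subgroup (V ≃ₗ[F] V) :=
      { carrier := {g | g w = w}
        one_mem' := rfl
        mul_mem' := by
          intro g g' hg hg'
          show (g * g') w = w
          have h1 : g w = w := hg
          have h2 : g' w = w := hg'
          rw [mul_apply', h2, h1]
        inv_mem' := fun {g} hg => inv_apply_of hg }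
    have h1 : XG Fr x y ⊔ XG Fr (ng x) (ng y) ≤ S := by
      refine sup_le ?_ ?_
      · rintro _ ⟨s, rfl⟩
        exact X_apply_V0 Fr hxy hw s
      · rintro _ ⟨s, rfl⟩
        exact X_apply_V0 Fr (x := ng x) (y := ng y) hxy hw s
    exact h1 hk

/-- `T0 ≤ Dg` -/
theorem T0_le {p : ℕ} (O : Orth Fr) (hA : Nodes.WittAll.AmbT Fr p G0) :
    Nodes.WittRGD.Tor Fr G0 ⊓ (rg Fr (rt x y) ⊔ rg Fr (-rt x y)) ≤ Dg Fr ⊓ G0 := by
  rintro k ⟨⟨hk1, hk2⟩, hk3⟩
  choose l hl using hk2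
  exact ⟨⟨l, ⟨hA.iso _ hk1, (sup_comm hxy O hk3).2.2.2, fun x => (hl x).1, fun x => (hl x).2⟩⟩, hk1⟩

/-- **`Full` for Witt frames of orthogonal type in characteristic two.** -/
theorem full (O : Orth Fr) [Finite F] [Finite V] (hs : ∃ s : F, s ≠ 0 ∧ s ≠ 1) (hA : Nodes.WittAll.AmbT Fr 2 G0)
    {T : Subgroup (V ≃ₗ[F] V)} {nn : Fin n → V ≃ₗ[F] V} (R : RGD cs (isCartan n) 2 T nn (rg Fr)) (b : Bool)
    (z : {z // Out x y z}) :
    Full (PP Fr cs x y) (QQ Fr cs x y) (ZZ Fr x y) (Dg Fr ⊓ G0)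
      (Nodes.WittRGD.Tor Fr G0 ⊓ (rg Fr (rt x y) ⊔ rg Fr (-rt x y))) (VV Fr x y) st ((b, some z) : Ix x y) where
  toSpec := spec hxy O R
  fix := by
    obtain ⟨s, hs0, hs1⟩ := hs
    exact fix hxy O hs0 hs1 R b z
  fix' := by
    obtain ⟨s, hs0, hs1⟩ := hs
    exact fix hxy O hs0 hs1 R (!b) ⟨ng z.1, z.2.ng⟩
  lin := lin hxy O hA b z
  lin' := lin hxy O hA (!b) ⟨ng z.1, z.2.ng⟩
  surj := by
    refine ⟨Fr.X (xs x y b) z.1 1, ⟨1, rfl⟩, fun w hw => ?_⟩
    rw [ZZ_eq' hxy b] at hw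
    obtain ⟨t, rfl⟩ := hw
    exact ⟨Fr.X (xs x y !b) (ng z.1) t, ⟨t, rfl⟩, by rw [br_XX hxy O b z.2, one_mul]⟩
  ncl := by
    obtain ⟨s, hs0, hs1⟩ := hs
    exact fun q hq h => ncl hxy O hs0 hs1 R b z hq h
  kap := by
    obtain ⟨s, hs0, hs1⟩ := hs
    exact kap hxy O hs0 hs1 hA
  perf := by
    obtain ⟨s, hs0, hs1⟩ := hs
    exact perf hxy O hs0 hs1 z
  T0T := T0_le hxy O hA
  T0Q := by
    have S := spec (G0 := G0) hxy O R
    intro k hk p hp
    have hT := T0_le hxy O hA hk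
    have hc := sup_comm hxy O hk.2
    let L : Subgroup (V ≃ₗ[F] V) :=
      { carrier := {p | p ∈ PP Fr cs x y ∧ k * p * k⁻¹ * p⁻¹ ∈ QQ Fr cs x y}
        one_mem' := ⟨one_mem _, by simp⟩
        mul_mem' := by
          rintro x y ⟨hx, hx'⟩ ⟨hy, hy'⟩
          refine ⟨mul_mem hx hy, ?_⟩
          have : k * (x * y) * k⁻¹ * (x * y)⁻¹ = (k * x * k⁻¹ * x⁻¹) * (x * (k * y * k⁻¹ * y⁻¹) * x⁻¹) := by group
          rw [this]
          exact mul_mem hx' (S.QN _ hx _ hy')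
        inv_mem' := by
          rintro x ⟨hx, hx'⟩
          refine ⟨inv_mem hx, ?_⟩
          have h1 : k * x⁻¹ * k⁻¹ * x⁻¹⁻¹ = x⁻¹ * (k * x * k⁻¹ * x⁻¹)⁻¹ * x := by group
          rw [h1]
          have := S.QN _ (inv_mem hx) _ (inv_mem hx')
          rwa [inv_inv] at this }
    have hL1 : ∀ {u : V ≃ₗ[F] V}, u ∈ PP Fr cs x y → k * u = u * k → u ∈ L := fun {u} hu h => by
      refine ⟨hu, ?_⟩
      have : k * u * k⁻¹ * u⁻¹ = 1 := by rw [h]; group
      rw [this]; exact one_mem _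
    have hL2 : ∀ i, VV Fr x y i ≤ L := fun i u hu =>
      ⟨S.QP (S.VQ i hu), mul_mem (S.VQ i (S.TV k hT i u hu)) (inv_mem (S.VQ i hu))⟩
    have hL : PP Fr cs x y ≤ L := by
      refine PP_le hxy ?_ (fun b z hz => hL2 (b, some ⟨z, hz⟩)) (fun b => hL2 (b, none)) ?_ ?_ ?_
      · rw [← ZZ_eq hxy]
        intro u hu
        exact ⟨S.QP (S.ZQ hu), mul_mem (S.ZQ (S.TZ k hT u hu)) (inv_mem (S.ZQ hu))⟩
      · rintro b _ ⟨t, rfl⟩
        exact hL1 (mem_PL hxy b t) (hc.1 b t)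
      · rintro u w hu hw huw _ ⟨t, rfl⟩
        exact hL1 (mem_PX hxy hu hw huw t) (hc.2.1 u w hu hw t)
      · rintro u hu _ ⟨p, rfl⟩
        exact hL1 (mem_PZ hxy hu p) (hc.2.2.1 u hu p)
    exact (hL hp).2
  tr := by
    intro u hu hu1 w hw hw1
    rw [ZZ_eq hxy] at hu hw
    obtain ⟨t, rfl⟩ := hu
    obtain ⟨t', rfl⟩ := hw
    have ht : t ≠ 0 := by rintro rfl; exact hu1 (Fr.X_zero _ _)
    have ht' : t' ≠ 0 := by rintro rfl; exact hw1 (Fr.X_zero _ _)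
    have hchar : ringChar F = 2 := by
      have : CharP F 2 := CharTwo.of_one_ne_zero_of_two_eq_zero one_ne_zero O.two
      exact ringChar.eq F 2
    obtain ⟨s, hs⟩ := FiniteField.isSquare_of_char_two hchar (t' * t⁻¹)
    have hs0 : s ≠ 0 := by
      rintro rfl
      rw [mul_zero] at hs
      exact mul_ne_zero ht' (inv_ne_zero ht) hs
    have hco := O.hX_co hxy hs0
    refine ⟨hX Fr x y s, ⟨⟨hX_G0 hA _ _ _, hco.mono⟩, ?_⟩, ?_⟩
    · rw [sup_eq hxy]; exact hX_mem _ _ _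
    · rw [O.conjX hco hxy, lX_fst, lX_snd, ← hs]
      congr 1
      field_simp
  big := by
    obtain ⟨s, hs0, hs1⟩ := hs
    refine ⟨Fr.X x y 1, by rw [ZZ_eq hxy]; exact ⟨1, rfl⟩, Fr.X x y s, by rw [ZZ_eq hxy]; exact ⟨s, rfl⟩,
      fun h => one_ne_zero (O.x_inj hxy h), fun h => hs0 (O.x_inj hxy h), fun h => hs1 ?_⟩
    have h1 : Fr.X x y (1 + s) = 1 := by rw [Fr.X_add, h, O.x_sq]
    exact (O.eq_of_add (O.x_inj hxy h1)).symm
  zsq := by
    intro u hu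
    rw [ZZ_eq hxy] at hu
    obtain ⟨t, rfl⟩ := hu
    exact O.x_sq _ _ _

end PQ

end Cfsg.Agent.KFacts.SpecWitt

end

-- merged: Cfsg.Agent.KFacts.SpecMinus
section

/-!
# `Full` for `PΩ⁻_{2m+2}(q)`, `q ≥ 4` even (ODD, D4, K-side; helper335)

* `φ_inj`, `ψ` : in characteristic two a model `Model Fr K` of orthogonal type is a subgroup of `GL(V)`;
* `full_model` : `Full` for the root group datum `WittAll.rgdC_model`;
* `orth_minus` : the Witt frame of `quadFormMinus`;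
* `full_PO_minus`.
-/

set_option autoImplicit false
set_option linter.unusedSectionVars false

namespace Cfsg.Agent.KFacts.SpecMinus

open CoxeterSystem Cfsg.Agent.ChevalleyStructure.CoxeterGeom Cfsg.Agent.Tits.Roots Cfsg.Agent.Nodes.TypeC
open Cfsg.Agent.Nodes.Comb Cfsg.Agent.Nodes.Reps Cfsg.Agent.Nodes.WittRoot Cfsg.Agent.Nodes.BNOf
  Cfsg.Agent.Nodes.StabComb Cfsg.Agent.Nodes.Coroot Cfsg.Agent.Nodes.KindBC Cfsg.Agent.Nodes.TypeCForm
open Cfsg.Agent Cfsg.Agent.TitsThree Cfsg.Agent.TitsThree.Siegel Cfsg.Agent.TitsThree.WittFrame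
  Cfsg.Agent.TitsThree.WittWeyl Cfsg.Agent.TitsThree.FrameCN Cfsg.Agent.TitsThree.LineBorel
open Cfsg.Agent.KFacts.WittOrth Cfsg.Agent.KFacts.SpecKfour Cfsg.Agent.KFacts.SpecLoc Cfsg.Agent.KFacts.RgdTI
  Cfsg.Agent.KFacts.RgdOdd Cfsg.Agent.KFacts.SpecWitt
open scoped commutatorElement

variable {F : Type*} [Field F] {V : Type*} [AddCommGroup V] [Module F V] {H : HForm F V} {n : ℕ}
  {Fr : Frame H (Fin n)} {K : Type*} [Group K] (M : Model Fr K) (O : Orth Fr)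

include O

/-- the kernel is trivial -/
theorem φ_inj (hI : ∀ g ∈ M.I, H.IsIso g) (hn : 0 < n) : Function.Injective M.φ := by
  rw [injective_iff_map_eq_one]
  intro g hg
  have hs : ∀ v, ∃ a : F, g.1 v = a • v := fun v => M.ker v g hg
  let x : Fin n × Bool := (⟨0, hn⟩, true)
  have hb : ∀ x, g.1 (Fr.b x) = Fr.b x := by
    intro x
    obtain ⟨a, ha⟩ := hs (Fr.b x)
    obtain ⟨c, hc⟩ := hs (Fr.b (ng x))
    obtain ⟨d, hd⟩ := hs (Fr.b x + Fr.b (ng x))
    rw [map_add, ha, hc, smul_add] at hd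
    have h1 := congrArg (fun v => H.h v (Fr.b (ng x))) hd
    have h2 := congrArg (fun v => H.h v (Fr.b x)) hd
    simp only [H.add_left, H.smul_left, O.hbb, O.hbb', Fr.hb_self, mul_one, mul_zero, add_zero, zero_add] at h1 h2
    have h3 := hI _ g.2 (Fr.b x) (Fr.b (ng x))
    rw [ha, hc, H.smul_left, H.smul_right, O.σ, O.hbb, mul_one, h1, h2] at h3
    have h4 : (d + 1) * (d + 1) = 0 := by
      have : (d + 1) * (d + 1) = d * d + 1 + 2 * d := by ring
      rw [this, h3, O.two, O.add_self]; ring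
    have h5 := O.eq_of_add (mul_self_eq_zero.1 h4)
    rw [ha, h1, h5, one_smul]
  have h0 : ∀ w ∈ Fr.V0, g.1 w = w := by
    intro w hw
    obtain ⟨d, hd⟩ := hs (w + Fr.b x)
    have h1 := congrArg (fun v => H.h v (Fr.b (ng x))) hd
    have h2 : H.h (g.1 w) (Fr.b (ng x)) = 0 := by
      have h3 := hI _ g.2 w (Fr.b (ng x))
      rwa [hb, Fr.h0' _ hw] at h3
    simp only [map_add, H.add_left, H.smul_left, O.hbb, hb, h2, Fr.h0' _ hw, mul_one, zero_add] at h1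
    rw [← h1, one_smul, map_add, hb] at hd
    exact add_right_cancel hd
  exact Subtype.ext (O.eq_one hb h0)

omit O in
theorem φ_surj {W : Type*} [Group W] (cs : CoxeterSystem (CoxeterMatrix.B n) W) (hn : 0 < n) :
    Function.Surjective M.φ := by
  rw [← MonoidHom.range_eq_top, eq_top_iff, ← Nodes.WittModel.G1_eq_top M hn cs]
  refine iSup_le fun z => ?_
  rintro _ ⟨g, -, rfl⟩
  exact ⟨g, rfl⟩

variable (hI : ∀ g ∈ M.I, H.IsIso g) (hn : 0 < n)

/-- `K` as a subgroup of `GL(V)` -/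
noncomputable def ψ {W : Type*} [Group W] (cs : CoxeterSystem (CoxeterMatrix.B n) W) : K →* (V ≃ₗ[F] V) :=
  M.I.subtype.comp (MulEquiv.ofBijective M.φ ⟨φ_inj M O hI hn, φ_surj M cs hn⟩).symm.toMonoidHom

section

variable {W : Type*} [Group W] (cs : CoxeterSystem (CoxeterMatrix.B n) W)

theorem ψ_φ (g : M.I) : ψ M O hI hn cs (M.φ g) = g.1 := by
  unfold ψ
  show M.I.subtype ((MulEquiv.ofBijective M.φ ⟨φ_inj M O hI hn, φ_surj M cs hn⟩).symm (M.φ g)) = g.1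
  have h1 : (MulEquiv.ofBijective M.φ ⟨φ_inj M O hI hn, φ_surj M cs hn⟩).symm (M.φ g) = g := by
    rw [MulEquiv.symm_apply_eq]
    rfl
  rw [h1]
  rfl

theorem ψ_inj : Function.Injective (ψ M O hI hn cs) :=
  Subtype.val_injective.comp (MulEquiv.injective _)

theorem map_ψ {A : Subgroup (V ≃ₗ[F] V)} (hA : A ≤ M.I) :
    ((A.subgroupOf M.I).map M.φ).map (ψ M O hI hn cs) = A := by
  ext g
  constructor
  · rintro ⟨_, ⟨k, hk, rfl⟩, rfl⟩
    rw [ψ_φ]
    exact hk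
  · intro hg
    exact ⟨M.φ ⟨g, hA hg⟩, ⟨⟨g, hA hg⟩, hg, rfl⟩, ψ_φ M O hI hn cs _⟩

/-- `K`-version of a subgroup of `GL(V)` -/
def dn (A : Subgroup (V ≃ₗ[F] V)) : Subgroup K := (A.subgroupOf M.I).map M.φ

omit O in
theorem PG_le_I {a b : Fin n × Bool} : PG Fr a b ≤ M.I := by
  unfold PG
  split_ifs
  · rintro _ ⟨p, rfl⟩; exact M.hZ _ _
  · rintro _ ⟨t, rfl⟩; exact M.hX _ _ _

omit O in
theorem rg_le_I (x : Fin n → ℤ) : rg Fr x ≤ M.I := iSup_le fun _ => PG_le_I M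

theorem map_X (x : Fin n → ℤ) : (Nodes.WittModel.X M x).map (ψ M O hI hn cs) = rg Fr x :=
  map_ψ M O hI hn cs (rg_le_I M x)

theorem map_Sup (S : Set (Fin n → ℤ)) :
    (RGD.Sup (Nodes.WittModel.X M) S).map (ψ M O hI hn cs) = RGD.Sup (rg Fr) S := by
  unfold RGD.Sup
  rw [Subgroup.map_iSup]
  exact iSup_congr fun z => map_X M O hI hn cs z.1

theorem map_T : (Nodes.WittModel.T M).map (ψ M O hI hn cs) = Nodes.WittRGD.Tor Fr M.I :=
  map_ψ M O hI hn cs fun _ hg => hg.1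

end

/-- **`Full` for models of orthogonal type in characteristic two.** -/
theorem full_model [Finite F] [Finite V] (hs : ∃ s : F, s ≠ 0 ∧ s ≠ 1) (hA : Nodes.WittAll.AmbT Fr 2 M.I)
    {W : Type*} [Group W] (cs : CoxeterSystem (CoxeterMatrix.B n) W) {x y : Fin n × Bool} (hxy : x.1 ≠ y.1) (b : Bool)
    (z : {z // Out x y z}) :
    Full (RGD.Sup (Nodes.WittModel.X M) (Ge cs (isCartan n) (rt x y)))
      (RGD.Sup (Nodes.WittModel.X M) (Rad cs (isCartan n) (rt x y))) (Nodes.WittModel.X M (rt x y))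
      (dn M (Dg Fr ⊓ M.I))
      (Nodes.WittModel.T M ⊓ (Nodes.WittModel.X M (rt x y) ⊔ Nodes.WittModel.X M (-rt x y)))
      (fun j => dn M (VV Fr x y j)) st ((b, some z) : Ix x y) := by
  have hn : 0 < n := lt_of_le_of_lt (Nat.zero_le _) x.1.2
  obtain ⟨p0, hp0⟩ := O.p0
  have : CharP F 2 := CharTwo.of_one_ne_zero_of_two_eq_zero one_ne_zero O.two
  have : Fact (Nat.Prime 2) := ⟨Nat.prime_two⟩
  have R := Nodes.WittAll.rgdC hA hp0 cs
  have h1 := full hxy O hs hA R b z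
  apply Full.of_map (ψ M O hA.iso hn cs) (ψ_inj M O hA.iso hn cs)
  have e1 := map_Sup M O hA.iso hn cs (Ge cs (isCartan n) (rt x y))
  have e2 := map_Sup M O hA.iso hn cs (Rad cs (isCartan n) (rt x y))
  have e3 := map_X M O hA.iso hn cs (rt x y)
  have e4 := map_X M O hA.iso hn cs (-rt x y)
  have e5 : (dn M (Dg Fr ⊓ M.I)).map (ψ M O hA.iso hn cs) = Dg Fr ⊓ M.I := map_ψ M O hA.iso hn cs inf_le_right
  have e6 : (fun j => (dn M (VV Fr x y j)).map (ψ M O hA.iso hn cs)) = VV Fr x y := by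
    funext j
    refine map_ψ M O hA.iso hn cs ?_
    obtain ⟨b, z | z⟩ := j
    · rintro _ ⟨p, rfl⟩; exact M.hZ _ _
    · rintro _ ⟨p, rfl⟩; exact M.hX _ _ _
  rw [e1, e2, e3, e5, e6, Subgroup.map_inf _ _ _ (ψ_inj M O hA.iso hn cs), Subgroup.map_sup, e3, e4,
    map_T M O hA.iso hn cs]
  exact h1

/-- `[T, T0] = 1`, ambient form -/
theorem tor_comm {p : ℕ} {G0 : Subgroup (V ≃ₗ[F] V)} (hA : Nodes.WittAll.AmbT Fr p G0) {s t : V ≃ₗ[F] V}
    (hs : s ∈ Nodes.WittRGD.Tor Fr G0) (ht : t ∈ Dg Fr) : s * t = t * s := by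
  obtain ⟨l, hl⟩ := ht
  have h1 : (t * s)⁻¹ * (s * t) = 1 := by
    apply O.eq_one
    · intro x
      rw [mul_apply']
      apply inv_apply_of
      obtain ⟨m, -, hm⟩ := hs.2 x
      have hm' : s (Fr.b x) = m • Fr.b x := hm
      rw [mul_apply', mul_apply', hm', hl.ap, map_smul, map_smul, hm', hl.ap, smul_smul, smul_smul, mul_comm]
    · intro w hw
      rw [mul_apply']
      apply inv_apply_of
      rw [mul_apply', mul_apply', hl.fx w hw]
      exact hl.fx _ (hA.map_V0 hs.1 hs.2 (ρ := id) (fun _ => rfl) hw)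
  exact (inv_mul_eq_one.1 h1).symm

section

variable [Finite F] [Finite V] (hs : ∃ s : F, s ≠ 0 ∧ s ≠ 1) (hA : Nodes.WittAll.AmbT Fr 2 M.I)
    {W : Type*} [Group W] (cs : CoxeterSystem (CoxeterMatrix.B n) W)

/-- `[T, T0] = 1` -/
theorem tc_model (hA : Nodes.WittAll.AmbT Fr 2 M.I) {x y : Fin n × Bool} (hxy : x.1 ≠ y.1) :
    ∀ s ∈ Nodes.WittModel.T M, ∀ t ∈ Nodes.WittModel.T M ⊓
      (Nodes.WittModel.X M (rt x y) ⊔ Nodes.WittModel.X M (-rt x y)), s * t = t * s := by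
  rintro _ ⟨s, hs, rfl⟩ t ht
  have hn : 0 < n := lt_of_le_of_lt (Nat.zero_le _) x.1.2
  have cs := (CoxeterMatrix.B n).toCoxeterSystem
  have h1 : ψ M O hA.iso hn cs t ∈ Dg Fr := by
    have h2 : ψ M O hA.iso hn cs t ∈ (Nodes.WittModel.T M ⊓
      (Nodes.WittModel.X M (rt x y) ⊔ Nodes.WittModel.X M (-rt x y))).map (ψ M O hA.iso hn cs) := ⟨t, ht, rfl⟩
    rw [Subgroup.map_inf _ _ _ (ψ_inj M O hA.iso hn cs), Subgroup.map_sup, map_X, map_X, map_T] at h2
    exact (T0_le hxy O hA h2).1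
  apply ψ_inj M O hA.iso hn cs
  rw [map_mul, map_mul, ψ_φ]
  exact tor_comm O hA hs h1

/-- long roots are `LR` -/
theorem lr_model {T : Subgroup K} {nn : Fin n → K} {x y : Fin n × Bool} (hxy : x.1 ≠ y.1)
    (R : RGD cs (isCartan n) 2 T nn (Nodes.WittModel.X M)) : LR R (rt x y) := by
  refine ⟨isRoot_rt cs (Or.inl hxy), fun a ha hc u hu v hv => ?_⟩
  obtain ⟨g, hg, rfl⟩ := hu
  obtain ⟨k, hk, rfl⟩ := hv
  rw [← map_mul, ← map_mul]
  congr 1
  apply Subtype.ext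
  exact cen (cs := cs) hxy O (RGD.le_Sup (X := rg Fr) (show a ∈ Ge cs (isCartan n) (rt x y) from ⟨ha, hc⟩)
    (Subgroup.mem_subgroupOf.1 hg)) (Subgroup.mem_subgroupOf.1 hk)

omit O in
theorem exists_out (hn : 3 ≤ n) (x y : Fin n × Bool) : ∃ z, Out x y z := by
  have h1 : ({x.1, y.1} : Finset (Fin n)).card < Fintype.card (Fin n) := by
    rw [Fintype.card_fin]
    exact lt_of_le_of_lt Finset.card_le_two hn
  obtain ⟨k, hk⟩ : ∃ k, k ∉ ({x.1, y.1} : Finset (Fin n)) := by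
    by_contra hcon
    push Not at hcon
    rw [← Finset.eq_univ_iff_forall] at hcon
    rw [hcon, Finset.card_univ] at h1
    exact lt_irrefl _ h1
  rw [Finset.mem_insert, Finset.mem_singleton, not_or] at hk
  exact ⟨(k, true), hk.1, hk.2⟩

include hs hA in
/-- **`HasFull` for the long roots of a model of orthogonal type in characteristic two.** -/
theorem hasFull_model (hn : 3 ≤ n) {r : Fin n → ℤ} (hr : r ∈ RB n) :
    RgdLocL.HasFull cs (isCartan n) (Nodes.WittModel.T M) (Nodes.WittModel.X M) r := by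
  obtain ⟨x, y, hxy, rfl⟩ := mem_RB.1 hr
  obtain ⟨z, hz⟩ := exists_out hn x y
  exact ⟨Ix x y, inferInstance, _, _, _, _, full_model M O hs hA cs hxy true ⟨z, hz⟩⟩

include hs hA in
/-- **`NorX`** -/
theorem norX_model {nn : Fin n → K} {r : Fin n → ℤ} (hr : r ∈ RB n)
    (R : RGD cs (isCartan n) 2 (Nodes.WittModel.T M) nn (Nodes.WittModel.X M)) :
    OddHalf.DblR.NorX (Nodes.Bruhat.GG cs (isCartan n) (Nodes.WittModel.T M) (Nodes.WittModel.X M))
      (RGD.Sup (Nodes.WittModel.X M) (Ge cs (isCartan n) r)) (Nodes.WittModel.X M r)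
      (Nodes.WittModel.T M ⊓ (Nodes.WittModel.X M r ⊔ Nodes.WittModel.X M (-r))) := by
  obtain ⟨x, y, hxy, rfl⟩ := mem_RB.1 hr
  have := finite_W cs
  exact RgdLocL.norX (lr_model M O cs hxy R) (tc_model M O hA hxy)

end

omit O

/-! ### the minus form -/

section Minus

open QuadraticMap
open Cfsg.Agent.LieClassical Cfsg.Agent.LieClassical.OrthCore Cfsg.Agent.LieClassical.OrthTrans
open Cfsg.Agent.LieClassical.OrthSimple Cfsg.Agent.LieClassical.OrthFinite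
open Cfsg.Agent.LieClassical.OrthForms
open Cfsg.Agent.TitsThree.KSideO Cfsg.Agent.TitsThree.StdData Cfsg.Agent.TitsThree.WBridge

theorem orth_minus [Finite F] (h2 : (2 : F) = 0) (m : ℕ) (a b : F)
    (hab : ∀ z₁ z₂ : F, z₁ ^ 2 + a * z₁ * z₂ + b * z₂ ^ 2 = 0 → z₁ = 0 ∧ z₂ = 0) :
    Orth (toFrame (wminus m F a b hab)) where
  two := h2
  σ _ := rfl
  ε := rfl
  ok0 w h := (wminus m F a b hab).aniso w h.1 h.2
  ok1 c h := by
    have h1 : c = -(minusForm m F a b) 0 := h.2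
    rw [h1, QuadraticMap.map_zero, neg_zero]
  full w hw := ⟨_, hw, rfl⟩
  nd := by
    intro w hw h
    refine nondeg_minusForm m F a b hab w fun v => ?_
    obtain ⟨x, y, w', hw', e⟩ := (wminus m F a b hab).span v
    have h6 : ∀ (s : Finset (Fin m)) (c : Fin m → F) (t : Fin m → ((Fin m ⊕ Fin m) ⊕ Fin 2 → F)),
        (∀ i, polar (minusForm m F a b) w (t i) = 0) → polar (minusForm m F a b) w (∑ i ∈ s, c i • t i) = 0 := by
      intro s c t ht
      induction s using Finset.induction_on with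
      | empty => simp
      | insert i s hi ih => rw [Finset.sum_insert hi, polar_add_right, ih, polar_smul_right, ht, smul_zero, add_zero]
    have h3 : polar (minusForm m F a b) w w' = 0 := h w' hw'
    rw [e, polar_add_right, polar_add_right, h6 _ _ _ fun i => (wminus m F a b hab).V0e w hw i,
      h6 _ _ _ fun i => (wminus m F a b hab).V0f w hw i, h3, zero_add, zero_add]
  V0 v h := Nodes.WittU.mem_V0_of_orth _ (fun i => h (i, true)) (fun i => h (i, false))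
  p0 := by
    have hp : ((embMinus m F a b hab).ngt ⟨(1, 0), -nf a b (1, 0), rfl⟩).c ≠ 0 := by
      change (1 : F)⁻¹ * (-nf a b (1, 0)) ≠ 0
      simp [nf]
    exact ⟨_, hp⟩

theorem good_minus [Finite F] {m : ℕ} (hm : 2 ≤ m) (a b : F)
    (hab : ∀ z₁ z₂ : F, z₁ ^ 2 + a * z₁ * z₂ + b * z₂ ^ 2 = 0 → z₁ = 0 ∧ z₂ = 0) : Good (minusForm m F a b) := by
  apply good_of_finite (nondeg_minusForm m F a b hab)
  rw [Module.finrank_fintype_fun_eq_card, Fintype.card_sum, Fintype.card_sum, Fintype.card_fin, Fintype.card_fin]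
  omega

theorem adm_minus (m : ℕ) (a b : F)
    (hab : ∀ z₁ z₂ : F, z₁ ^ 2 + a * z₁ * z₂ + b * z₂ ^ 2 = 0 → z₁ = 0 ∧ z₂ = 0) :
    ∃ p : (toFrame (wminus m F a b hab)).Adm, p.c ≠ 0 := by
  have hp : ((embMinus m F a b hab).ngt ⟨(1, 0), -nf a b (1, 0), rfl⟩).c ≠ 0 := by
    change (1 : F)⁻¹ * (-nf a b (1, 0)) ≠ 0
    simp [nf]
  exact ⟨_, hp⟩

/-- the model `E Q → PΩ Q` -/
noncomputable def modelMinus [Finite F] {m : ℕ} (hm : 2 ≤ m) (a b : F)
    (hab : ∀ z₁ z₂ : F, z₁ ^ 2 + a * z₁ * z₂ + b * z₂ ^ 2 = 0 → z₁ = 0 ∧ z₂ = 0) :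
    Model (toFrame (wminus m F a b hab)) (Cfsg.POmega F ⇑(minusForm m F a b)) :=
  model (wminus m F a b hab) (good_minus hm a b hab) (adm_minus m a b hab)

theorem ambT_minus [Finite F] (h2 : (2 : F) = 0) {m : ℕ} (hm : 2 ≤ m) (a b : F)
    (hab : ∀ z₁ z₂ : F, z₁ ^ 2 + a * z₁ * z₂ + b * z₂ ^ 2 = 0 → z₁ = 0 ∧ z₂ = 0) :
    Nodes.WittAll.AmbT (toFrame (wminus m F a b hab)) 2 (modelMinus hm a b hab).I :=
  Nodes.WittInst.ambT_O _ fun _ hg hg2 hb =>
    Nodes.WittInst.fixp_minus a b hab h2 hm (good_minus hm a b hab) hg hg2 hb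

/-- **`PΩ⁻_{2m+2}(F)`, `m ≥ 3`, `|F| ≥ 4` even: root group datum, `HasFull`, `LR`, `NorX` for the long roots.** -/
theorem main_minus [Finite F] (h2 : (2 : F) = 0) (hs : ∃ s : F, s ≠ 0 ∧ s ≠ 1) {m : ℕ} (hm : 3 ≤ m) (a b : F)
    (hab : ∀ z₁ z₂ : F, z₁ ^ 2 + a * z₁ * z₂ + b * z₂ ^ 2 = 0 → z₁ = 0 ∧ z₂ = 0) :
    ∃ (T : Subgroup (Cfsg.POmega F ⇑(minusForm m F a b))) (n : Fin m → Cfsg.POmega F ⇑(minusForm m F a b))
      (X : (Fin m → ℤ) → Subgroup (Cfsg.POmega F ⇑(minusForm m F a b)))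
      (R : RGD (CoxeterMatrix.B m).toCoxeterSystem (isCartan m) 2 T n X),
      Nodes.RGDLib.G1 (CoxeterMatrix.B m).toCoxeterSystem (isCartan m) X = ⊤ ∧
      ∀ r ∈ RB m, RgdLocL.HasFull (CoxeterMatrix.B m).toCoxeterSystem (isCartan m) T X r ∧ LR R r ∧
        OddHalf.DblR.NorX (Nodes.Bruhat.GG (CoxeterMatrix.B m).toCoxeterSystem (isCartan m) T X)
          (RGD.Sup X (Ge (CoxeterMatrix.B m).toCoxeterSystem (isCartan m) r)) (X r) (T ⊓ (X r ⊔ X (-r))) := by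
  have : CharP F 2 := CharTwo.of_one_ne_zero_of_two_eq_zero one_ne_zero h2
  have : Fact (Nat.Prime 2) := ⟨Nat.prime_two⟩
  have hm2 : 2 ≤ m := by omega
  have O := orth_minus h2 m a b hab
  have hA := ambT_minus h2 hm2 a b hab
  obtain ⟨p0, hp0⟩ := O.p0
  let cs := (CoxeterMatrix.B m).toCoxeterSystem
  have R := Nodes.WittAll.rgdC_model (modelMinus hm2 a b hab) hA hp0 cs
  refine ⟨_, _, _, R, Nodes.WittModel.G1_eq_top _ (by omega) cs, fun r hr => ⟨?_, ?_, ?_⟩⟩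
  · exact hasFull_model _ O hs hA cs hm hr
  · obtain ⟨x, y, hxy, rfl⟩ := mem_RB.1 hr
    exact lr_model _ O cs hxy R
  · exact norX_model _ O hs hA cs hr R

end Minus

end Cfsg.Agent.KFacts.SpecMinus

end

-- merged: Cfsg.Agent.OddHalf.DblR.OddIsom
section

/-!
# ODD, D4: isometries of odd order of an anisotropic plane in characteristic two commute

helper328. `comm_of_odd` : a reflection inverts every isometry of odd order.
-/

set_option autoImplicit false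

namespace Cfsg.Agent.OddHalf.DblR.OddIsom

variable {F E : Type*} [Field F] [AddCommGroup E] [Module F E]

/-- an anisotropic plane in characteristic two -/
structure Plane (q : E → F) (B : E → E → F) (v0 w0 : E) : Prop where
  two : (2 : F) = 0
  polar : ∀ v w, q (v + w) = q v + q w + B v w
  add : ∀ v v' w, B (v + v') w = B v w + B v' w
  smul : ∀ (c : F) v w, B (c • v) w = c * B v w
  symm : ∀ v w, B v w = B w v
  qsmul : ∀ (c : F) v, q (c • v) = c * c * q v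
  aniso : ∀ v, q v = 0 → v = 0
  pair : B v0 w0 = 1
  span : ∀ x, ∃ α β : F, x = α • v0 + β • w0

namespace Plane

variable {q : E → F} {B : E → E → F} {v0 w0 : E} (P : Plane q B v0 w0)

include P

theorem addF (c : F) : c + c = 0 := by rw [← two_mul, P.two, zero_mul]

theorem addE (v : E) : v + v = 0 := by rw [← two_smul F v, P.two, zero_smul]

theorem q0 : q 0 = 0 := by
  have := P.qsmul 0 0
  rwa [zero_smul, mul_zero, zero_mul] at this

theorem B_self (v : E) : B v v = 0 := by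
  have h := P.polar v v
  rw [P.addE, P.q0, P.addF, zero_add] at h
  exact h.symm

/-- the reflection -/
def refl (a : E) : Module.End F E where
  toFun v := v + (B v a / q a) • a
  map_add' v w := by
    rw [P.add, add_div, add_smul]; abel
  map_smul' c v := by
    rw [P.smul, RingHom.id_apply, smul_add, smul_smul, mul_div_assoc]

theorem refl_apply (a v : E) : P.refl a v = v + (B v a / q a) • a := rfl

theorem refl_sq (a : E) : P.refl a * P.refl a = 1 := by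
  ext v
  show P.refl a (P.refl a v) = v
  rw [refl_apply, refl_apply, P.add, P.smul, P.B_self, mul_zero, add_zero, add_assoc, P.addE, add_zero]

theorem q_refl {a : E} (ha : q a ≠ 0) (v : E) : q (P.refl a v) = q v := by
  have h1 : B v ((B v a / q a) • a) = (B v a / q a) * B v a := by
    rw [P.symm, P.smul, P.symm a v]
  rw [refl_apply, P.polar, P.qsmul, h1]
  have h2 : B v a / q a * (B v a / q a) * q a = B v a / q a * B v a := by
    field_simp
  rw [h2, add_assoc, P.addF, add_zero]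

theorem refl_swap {u v : E} (h : q u = q v) (hq : q (u + v) ≠ 0) : P.refl (u + v) u = v := by
  have h1 : B u (u + v) = q (u + v) := by
    rw [P.symm, P.add, P.B_self, zero_add, P.symm v u]
    have := P.polar u v
    rw [h, P.addF, zero_add] at this
    exact this.symm
  rw [refl_apply, h1, div_self hq, one_smul, ← add_assoc, P.addE, zero_add]

/-- isometries fixing `v0` -/
theorem eq_one_or {t : Module.End F E} (ht : ∀ v, q (t v) = q v) (h0 : t v0 = v0) : t = 1 ∨ t = P.refl v0 := by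
  have hv0 : v0 ≠ 0 := by
    rintro rfl
    have h1 := P.pair
    have h2 := P.smul 0 0 w0
    rw [zero_smul, zero_mul] at h2
    rw [h2] at h1
    exact zero_ne_one h1
  have hq0 : q v0 ≠ 0 := fun h => hv0 (P.aniso _ h)
  have hB : ∀ v w, B (t v) (t w) = B v w := by
    intro v w
    have h1 := P.polar (t v) (t w)
    rw [← map_add, ht, ht, ht] at h1
    have h2 := P.polar v w
    exact (add_left_cancel (h2.symm.trans h1)).symm
  obtain ⟨α, β, e⟩ := P.span (t w0)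
  have h1 : B v0 (t w0) = 1 := by
    conv_lhs => rw [← h0]
    rw [hB, P.pair]
  have hβ : β = 1 := by
    rw [e, P.symm, P.add, P.smul, P.smul, P.B_self, mul_zero, zero_add, P.symm w0 v0, P.pair, mul_one] at h1
    exact h1
  have h2 := ht w0
  rw [e, hβ, one_smul, P.polar, P.qsmul, P.smul, P.pair, mul_one] at h2
  have h3 : α * (α * q v0 + 1) = 0 := by
    have h4 : α * α * q v0 + q w0 + α - q w0 = 0 := by rw [h2, sub_self]
    linear_combination h4
  have hext : ∀ s : Module.End F E, s v0 = v0 → s w0 = t w0 → t = s := by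
    intro s hs hs'
    ext x
    obtain ⟨γ, δ, rfl⟩ := P.span x
    rw [map_add, map_add, map_smul, map_smul, map_smul, map_smul, h0, hs, hs']
  rcases mul_eq_zero.1 h3 with h4 | h4
  · left
    apply hext
    · rfl
    · rw [e, hβ, h4, zero_smul, zero_add, one_smul]; rfl
  · right
    apply hext
    · rw [refl_apply, P.B_self, zero_div, zero_smul, add_zero]
    · rw [refl_apply, P.symm, P.pair, e, hβ, one_smul, add_comm]
      congr 1
      have h5 : α * q v0 = 1 := by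
        have h6 := P.addF (1 : F)
        have h7 : α * q v0 + 1 = 1 + 1 := by rw [h4, h6]
        exact add_right_cancel h7
      rw [← h5, mul_div_assoc, div_self hq0, mul_one]

variable {Γ : Type*} [Group Γ] (ρ : Γ →* Module.End F E) (hρ : ∀ g v, q (ρ g v) = q v)
  (hodd : ∀ g : Γ, ∃ l : ℕ, Odd l ∧ g ^ l = 1)

include hρ hodd

/-- the reflection `r` in `v0` inverts `ρ g` -/
theorem inverts (g : Γ) : P.refl v0 * ρ g * P.refl v0 * ρ g = 1 := by
  have hr := P.refl_sq v0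
  by_cases hu : ρ g v0 = v0
  · rcases P.eq_one_or (hρ g) hu with h | h
    · rw [h, mul_one, mul_one, hr]
    · rw [h, hr, one_mul, hr]
  · have ha : q (ρ g v0 + v0) ≠ 0 := by
      intro h
      apply hu
      have h1 := P.aniso _ h
      have h2 := P.addE v0
      have h3 : ρ g v0 + v0 = v0 + v0 := by rw [h1, h2]
      exact add_right_cancel h3
    have hs := P.refl_sq (ρ g v0 + v0)
    have hsw : P.refl (ρ g v0 + v0) (ρ g v0) = v0 := P.refl_swap (hρ g v0) ha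
    have ht : ∀ v, q ((P.refl (ρ g v0 + v0) * ρ g) v) = q v := fun v => by
      show q (P.refl (ρ g v0 + v0) (ρ g v)) = q v
      rw [P.q_refl ha, hρ]
    have e : ρ g = P.refl (ρ g v0 + v0) * (P.refl (ρ g v0 + v0) * ρ g) := by
      rw [← mul_assoc, hs, one_mul]
    rcases P.eq_one_or ht hsw with h | h
    · exfalso
      rw [h, mul_one] at e
      have h1 : ρ g * ρ g = 1 := by
        conv_lhs => rw [e]
        exact hs
      obtain ⟨l, ⟨m, rfl⟩, hl⟩ := hodd g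
      have h2 : ρ g = 1 := by
        have h3 := congrArg ρ hl
        rw [map_pow, map_one, pow_add, pow_mul, pow_two, h1, one_pow, one_mul, pow_one] at h3
        exact h3
      apply hu
      rw [h2]; rfl
    · rw [h] at e
      set s := P.refl (ρ g v0 + v0)
      set r := P.refl v0
      calc r * ρ g * r * ρ g = r * (s * r) * r * (s * r) := by rw [← e]
        _ = r * s * (r * r) * s * r := by simp only [mul_assoc]
        _ = r * (s * s) * r := by rw [hr, mul_one]; simp only [mul_assoc]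
        _ = 1 := by rw [hs, mul_one, hr]

/-- **Isometries of odd order of an anisotropic plane in characteristic two commute.** -/
theorem comm_of_odd (g h : Γ) : ρ g * ρ h = ρ h * ρ g := by
  have hr := P.refl_sq v0
  set r := P.refl v0 with hrdef
  have key : ∀ x : Γ, r * ρ x * r = ρ x⁻¹ := by
    intro x
    have h1 := P.inverts ρ hρ hodd x
    calc r * ρ x * r = r * ρ x * r * (ρ x * ρ x⁻¹) := by rw [← map_mul, mul_inv_cancel, map_one, mul_one]
      _ = (r * ρ x * r * ρ x) * ρ x⁻¹ := by simp only [mul_assoc]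
      _ = ρ x⁻¹ := by rw [h1, one_mul]
  have h1 : ρ (g * h)⁻¹ = ρ (h * g)⁻¹ := by
    calc ρ (g * h)⁻¹ = r * ρ (g * h) * r := (key _).symm
      _ = r * (ρ g * (r * r) * ρ h) * r := by rw [hr, mul_one, map_mul]
      _ = (r * ρ g * r) * (r * ρ h * r) := by simp only [mul_assoc]
      _ = ρ g⁻¹ * ρ h⁻¹ := by rw [key, key]
      _ = ρ (h * g)⁻¹ := by rw [← map_mul, mul_inv_rev]
  calc ρ g * ρ h = ρ (g * h) * (ρ (h * g)⁻¹ * ρ (h * g)) := by
        rw [← map_mul, ← map_mul, inv_mul_cancel, map_one, mul_one]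
    _ = ρ (g * h) * ρ (g * h)⁻¹ * ρ (h * g) := by rw [h1, mul_assoc]
    _ = ρ h * ρ g := by rw [← map_mul, mul_inv_cancel, map_one, one_mul, map_mul]

end Plane

end Cfsg.Agent.OddHalf.DblR.OddIsom

end

-- merged: Cfsg.Agent.OddHalf.DblR.MinusTor
section

/-!
# ODD, D4: the torus of `PΩ⁻_{2m+2}(q)`, `q` even, is abelian

helper328.
-/

set_option autoImplicit false
set_option linter.unusedSectionVars false

namespace Cfsg.Agent.OddHalf.DblR.MinusTor

open CoxeterSystem Cfsg.Agent.ChevalleyStructure.CoxeterGeom Cfsg.Agent.Tits.Roots Cfsg.Agent.Nodes.TypeC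
open Cfsg.Agent.Nodes.Comb Cfsg.Agent.Nodes.Reps Cfsg.Agent.Nodes.WittRoot Cfsg.Agent.Nodes.BNOf
  Cfsg.Agent.Nodes.StabComb Cfsg.Agent.Nodes.Coroot Cfsg.Agent.Nodes.KindBC Cfsg.Agent.Nodes.TypeCForm
open Cfsg.Agent Cfsg.Agent.TitsThree Cfsg.Agent.TitsThree.Siegel Cfsg.Agent.TitsThree.WittFrame
  Cfsg.Agent.TitsThree.WittWeyl Cfsg.Agent.TitsThree.FrameCN Cfsg.Agent.TitsThree.LineBorel
open Cfsg.Agent.KFacts.WittOrth Cfsg.Agent.KFacts.SpecKfour Cfsg.Agent.KFacts.SpecLoc Cfsg.Agent.KFacts.RgdTI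
  Cfsg.Agent.KFacts.RgdOdd Cfsg.Agent.KFacts.SpecWitt Cfsg.Agent.KFacts.SpecMinus
open QuadraticMap
open Cfsg.Agent.LieClassical Cfsg.Agent.LieClassical.OrthCore Cfsg.Agent.LieClassical.OrthTrans
open Cfsg.Agent.LieClassical.OrthSimple Cfsg.Agent.LieClassical.OrthFinite
open Cfsg.Agent.LieClassical.OrthForms
open Cfsg.Agent.TitsThree.KSideO Cfsg.Agent.TitsThree.StdData Cfsg.Agent.TitsThree.WBridge
open OddIsom

/-! ### frames -/

section Frame

variable {F : Type*} [Field F] {V : Type*} [AddCommGroup V] [Module F V] {H : HForm F V} {n : ℕ}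
  {Fr : Frame H (Fin n)} (O : Orth Fr)

/-- the anisotropic part is a plane -/
def IsPlane (Fr : Frame H (Fin n)) : Prop :=
  ∃ (q : ↥Fr.V0 → F) (v0 w0 : ↥Fr.V0), Plane q (fun v w => H.h v.1 w.1) v0 w0 ∧
    ∀ w : ↥Fr.V0, ∀ c : F, Fr.ok w.1 c → q w = -c

include O

/-- the torus is abelian if the anisotropic part is a plane -/
theorem tor_comm [Finite V] (hP : IsPlane Fr) {G0 : Subgroup (V ≃ₗ[F] V)} (hA : Nodes.WittAll.AmbT Fr 2 G0)
    {s t : V ≃ₗ[F] V} (hs : s ∈ Nodes.WittRGD.Tor Fr G0) (ht : t ∈ Nodes.WittRGD.Tor Fr G0) : s * t = t * s := by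
  have : CharP F 2 := CharTwo.of_one_ne_zero_of_two_eq_zero one_ne_zero O.two
  have : Fact (Nat.Prime 2) := ⟨Nat.prime_two⟩
  have hV0 : ∀ g ∈ Nodes.WittRGD.Tor Fr G0, ∀ w ∈ Fr.V0, g w ∈ Fr.V0 := fun g hg w hw =>
    hA.map_V0 hg.1 hg.2 (ρ := id) (fun _ => rfl) hw
  -- the representation on `V0`
  let ρ : ↥(Nodes.WittRGD.Tor Fr G0) →* Module.End F ↥Fr.V0 :=
    { toFun g := (g.1 : V →ₗ[F] V).restrict (p := Fr.V0) (q := Fr.V0) fun w hw => hV0 g.1 g.2 w hw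
      map_one' := by ext w; rfl
      map_mul' g k := by ext w; rfl }
  have hρ : ∀ (g : ↥(Nodes.WittRGD.Tor Fr G0)) (w : ↥Fr.V0), ((ρ g w : ↥Fr.V0) : V) = g.1 w.1 := fun g w => rfl
  obtain ⟨q, v0, w0, P, hq⟩ := hP
  have hodd : ∀ g : ↥(Nodes.WittRGD.Tor Fr G0), ∃ l : ℕ, Odd l ∧ g ^ l = 1 := by
    intro g
    refine ⟨Nat.card ↥(Nodes.WittRGD.Tor Fr G0), ?_, pow_card_eq_one'⟩
    have h1 := hA.tcop
    rwa [Nat.coprime_two_right] at h1
  have hqρ : ∀ (g : ↥(Nodes.WittRGD.Tor Fr G0)) (w : ↥Fr.V0), q (ρ g w) = q w := by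
    intro g w
    obtain ⟨c, hc⟩ := O.full w.1 w.2
    rw [hq w c hc, hq (ρ g w) c (hA.ok g.1 g.2.1 w.1 c hc (hV0 g.1 g.2 w.1 w.2))]
  have hcomm := P.comm_of_odd ρ hqρ hodd ⟨s, hs⟩ ⟨t, ht⟩
  have h0 : ∀ w ∈ Fr.V0, s (t w) = t (s w) := by
    intro w hw
    have h1 := congrArg (fun f : Module.End F ↥Fr.V0 => ((f ⟨w, hw⟩ : ↥Fr.V0) : V)) hcomm
    exact h1
  have h1 : (t * s)⁻¹ * (s * t) = 1 := by
    apply O.eq_one
    · intro x
      rw [mul_apply']
      apply inv_apply_of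
      obtain ⟨l, -, hl⟩ := hs.2 x
      obtain ⟨m, -, hm⟩ := ht.2 x
      have hl' : s (Fr.b x) = l • Fr.b x := hl
      have hm' : t (Fr.b x) = m • Fr.b x := hm
      rw [mul_apply', mul_apply', hm', hl', map_smul, map_smul, hm', hl', smul_smul, smul_smul, mul_comm]
    · intro w hw
      rw [mul_apply']
      apply inv_apply_of
      rw [mul_apply', mul_apply', h0 w hw]
  exact (inv_mul_eq_one.1 h1).symm

/-- the torus of a model is abelian if the anisotropic part is a plane -/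
theorem tab_model [Finite V] (hP : IsPlane Fr) {K : Type*} [Group K] (M : Model Fr K)
    (hA : Nodes.WittAll.AmbT Fr 2 M.I) :
    ∀ s ∈ Nodes.WittModel.T M, ∀ t ∈ Nodes.WittModel.T M, s * t = t * s := by
  rintro _ ⟨s, hs, rfl⟩ _ ⟨t, ht, rfl⟩
  rw [← map_mul, ← map_mul]
  congr 1
  apply Subtype.ext
  exact tor_comm O hP hA (Subgroup.mem_subgroupOf.1 hs) (Subgroup.mem_subgroupOf.1 ht)

end Frame

/-! ### the minus form -/

section Minus

variable {F : Type*} [Field F] [Finite F]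

theorem a_ne_zero (h2 : (2 : F) = 0) {a b : F}
    (hab : ∀ z₁ z₂ : F, z₁ ^ 2 + a * z₁ * z₂ + b * z₂ ^ 2 = 0 → z₁ = 0 ∧ z₂ = 0) : a ≠ 0 := by
  rintro rfl
  have hchar : ringChar F = 2 := by
    have : CharP F 2 := CharTwo.of_one_ne_zero_of_two_eq_zero one_ne_zero h2
    exact ringChar.eq F 2
  have := Fintype.ofFinite F
  obtain ⟨s, hs⟩ := FiniteField.isSquare_of_char_two hchar b
  have h3 := hab s 1 (by
    rw [hs]
    have : s ^ 2 + 0 * s * 1 + s * s * 1 ^ 2 = 2 * (s * s) := by ring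
    rw [this, h2, zero_mul])
  exact one_ne_zero h3.2

theorem isPlane_minus (h2 : (2 : F) = 0) (m : ℕ) (a b : F)
    (hab : ∀ z₁ z₂ : F, z₁ ^ 2 + a * z₁ * z₂ + b * z₂ ^ 2 = 0 → z₁ = 0 ∧ z₂ = 0) :
    IsPlane (toFrame (wminus m F a b hab)) := by
  have ha := a_ne_zero h2 hab
  let v0 : (Fin m ⊕ Fin m) ⊕ Fin 2 → F := Sum.elim (fun _ => 0) ![1, 0]
  let w0 : (Fin m ⊕ Fin m) ⊕ Fin 2 → F := Sum.elim (fun _ => 0) ![0, a⁻¹]
  refine ⟨fun w => minusForm m F a b w.1, ⟨v0, fun j => rfl⟩, ⟨w0, fun j => rfl⟩, ?_, ?_⟩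
  · refine
      { two := h2
        polar := fun v w => ?_
        add := fun v v' w => ?_
        smul := fun c v w => ?_
        symm := fun v w => ?_
        qsmul := fun c v => ?_
        aniso := fun v hv => ?_
        pair := ?_
        span := fun x => ?_ }
    · show minusForm m F a b (v.1 + w.1) = minusForm m F a b v.1 + minusForm m F a b w.1 +
        QuadraticMap.polar (minusForm m F a b) v.1 w.1
      unfold QuadraticMap.polar
      ring
    · exact QuadraticMap.polar_add_left _ _ _ _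
    · exact QuadraticMap.polar_smul_left _ _ _ _
    · exact QuadraticMap.polar_comm _ _ _
    · exact QuadraticMap.map_smul _ _ _
    · exact Subtype.ext ((wminus m F a b hab).aniso v.1 v.2 ((sing_iff _).2 hv))
    · show QuadraticMap.polar (minusForm m F a b) v0 w0 = 1
      rw [polar_minusForm]
      simp [v0, w0, ha]
    · refine ⟨x.1 (Sum.inr 0), a * x.1 (Sum.inr 1), ?_⟩
      apply Subtype.ext
      funext j
      show x.1 j = x.1 (Sum.inr 0) * v0 j + a * x.1 (Sum.inr 1) * w0 j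
      rcases j with j | j
      · have h1 : x.1 (Sum.inl j) = 0 := x.2 j
        rw [h1]
        simp [v0, w0]
      · fin_cases j
        · simp [v0, w0]
        · simp only [v0, w0, Sum.elim_inr, Fin.mk_one, Matrix.cons_val_one, Matrix.cons_val_fin_one, mul_zero,
            zero_add]
          field_simp
  · intro w c hc
    have h1 : c = -(minusForm m F a b) w.1 := hc.2
    subst h1
    exact (_root_.neg_neg _).symm

end Minus

end Cfsg.Agent.OddHalf.DblR.MinusTor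

end
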