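import Cfsg.Agent.OddHalf.DblR.RowL
import Cfsg.Agent.KFacts.TwESix.Cent
import Cfsg.Agent.KFacts.TwESix.Tor
import Cfsg.Agent.Schreier.TwESix
import Cfsg.Agent.S1070
import Cfsg.Agent.KFacts.TwESix.Faith
import Cfsg.Agent.KFacts.TwESix.Dat
import Cfsg.Agent.KFacts.RgdLocL
import Cfsg.Agent.KFacts.SLRow.OmegaPlus

-- merged: Cfsg.Agent.OddHalf.DblR.SheetTwESix
section

/-!
# ODD, D4: `SheetL` for `²E₆(q)`, `q` even

helper328. `sheetL` : the facts for a root group datum of type `F₄` with `Facts.Dat`; `sheetL_twE6` : `²E₆(q)`.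
-/

set_option autoImplicit false
set_option linter.unusedSectionVars false

namespace Cfsg.Agent.OddHalf.DblR.SheetTwESix

open CoxeterSystem Cfsg.Agent.ChevalleyStructure.CoxeterGeom Cfsg.Agent.Tits.Roots Cfsg.Agent.Tits.Core
  Cfsg.Agent.Tits.RootComb Cfsg.Agent.Tits.Exchange Cfsg.Agent.Nodes.Reps Cfsg.Agent.Nodes.BNOf
  Cfsg.Agent.Nodes.StabComb Cfsg.Agent.Nodes.Bruhat Cfsg.Agent.Nodes.OppDec Cfsg.Agent.Nodes.LeviDec
  Cfsg.Agent.Nodes.Coroot Cfsg.Agent.Nodes.PosPair Cfsg.Agent.KFacts.RgdPar Cfsg.Agent.KFacts.RgdSL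
  Cfsg.Agent.KFacts.RgdTI Cfsg.Agent.KFacts.RgdCent Cfsg.Agent.KFacts.RgdEx
  Cfsg.Agent.KFacts.RgdCentW Cfsg.Agent.Nodes.RGDTwE6 Cfsg.Agent.KFacts.TwESix.Comb
  Cfsg.Agent.KFacts.TwESix.CombRho Cfsg.Agent.KFacts.TwESix.Facts
open scoped commutatorElement

variable {W Y : Type*} [Group W] [Group Y] {cs : CoxeterSystem CoxeterMatrix.F₄ W} {T : Subgroup Y} {n : Fin 4 → Y}
  {X : (Fin 4 → ℤ) → Subgroup Y} {R : RGD cs isCartan 2 T n X}

/-! ### combinatorics -/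

theorem short_orth : ∀ a ∈ rts, bf a a = 2 → ∃ y ∈ rts, bf y y = 2 ∧ bf a y = 0 := by decide +kernel

theorem long_le : ∀ a ∈ rts, bf a a = 4 → ∀ y ∈ rts, y = a ∨ bf y a ≤ 2 := by decide +kernel

theorem tri_comb : ∀ r ∈ rts, bf r r = 4 → ∃ s ∈ rts, (bf s s = 4 ∧ bf r s = -2) ∧
    (∃ g ∈ rts, (bf g g = 4 ∧ bf g s = 0) ∧ bf g r = -2) ∧
    ∃ g' ∈ rts, (bf g' g' = 4 ∧ bf g' r = 0) ∧ bf g' s = -2 := by decide +kernel

/-- `LG` = long -/
theorem long_of_LG (D : Dat R) {a : Fin 4 → ℤ} (L : LG R a) : bf a a = 4 := by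
  have : Finite W := finiteW cs
  rcases norm cs L.lr.root with h1 | h1
  · exact h1
  · exfalso
    obtain ⟨y, hy, h2, h3⟩ := short_orth a ((mem_rts cs).1 L.lr.root) h1
    have hyr := (mem_rts cs).2 hy
    obtain ⟨u, hu, hu1⟩ := exists_ne_one R L.lr.root
    obtain ⟨v, hv, h4⟩ := orth_nd D L.lr.root hyr h1 h2 h3 hu hu1
    have h5 := cpr_short cs y L.lr.root h1
    rw [bf_comm, h3] at h5
    exact h4 (L.lr.comm y hyr h5.ge v hv u hu).symm

theorem LG_of_long (D : Dat R) {a : Fin 4 → ℤ} (ha : IsRoot cs isCartan a) (hl : bf a a = 4) : LG R a := by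
  have : Finite W := finiteW cs
  refine LG.of_le (D.lr a ha hl) fun y hy hne => ?_
  have h1 := cpr_long cs y ha hl
  rcases long_le a ((mem_rts cs).1 ha) hl y ((mem_rts cs).1 hy) with h2 | h2
  · exact absurd h2 hne
  · omega

/-- **`SheetL`** for a root group datum of type `F₄` with `Facts.Dat`. -/
theorem sheetL [Finite W] (D : Dat R) (top : RGD.Sup X {x | IsRoot cs isCartan x} = ⊤)
    (tab : ∀ s ∈ T, ∀ t ∈ T, s * t = t * s) (hN : NoCent cs isCartan T X)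
    (out : ∀ H : Subgroup (MulAut Y), H ≤ ⁅H, H⁆ → ∀ α ∈ H, ∃ y, α = MulAut.conj y)
    {r : Fin 4 → ℤ} (hr : IsRoot cs isCartan r) (hl : bf r r = 4) : SheetL R r where
  top := top
  tab := tab
  long := LG_of_long D hr hl
  tri := by
    obtain ⟨s, hs, ⟨h1, h2⟩, ⟨g, hg, ⟨h3, h4⟩, h5⟩, g', hg', ⟨h6, h7⟩, h8⟩ := tri_comb r ((mem_rts cs).1 hr) hl
    have hs' := (mem_rts cs).2 hs
    have hgr := (mem_rts cs).2 hg
    have hgr' := (mem_rts cs).2 hg'
    refine ⟨s, g, g', a2 cs hr hs' (by rw [hl, h1]) (by rw [h2, hl]; norm_num),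
      torTr_of_A2 R ?_ (a2 cs hgr hr (by rw [h3, hl]) (by rw [h5, h3]; norm_num)),
      torTr_of_A2 R ?_ (a2 cs hgr' hs' (by rw [h6, h1]) (by rw [h8, h6]; norm_num))⟩
    · have := cpr_long cs g hs' h1
      omega
    · have := cpr_long cs g' hr hl
      omega
  k1 := by
    intro a La α hα
    exact Cfsg.Agent.KFacts.TwESix.Cent.aut_k1 D La.lr.root (long_of_LG D La) hN top
      fun b hb hba v hv => hα b ⟨hb, hba⟩ v hv
  k2 := by
    intro a b La Lb hab α hα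
    have ha := La.lr.root
    have hb := Lb.lr.root
    have hal := long_of_LG D La
    have hbl := long_of_LG D Lb
    have h1 := cpr_long cs a hb hbl
    have hab2 : bf a b = 2 := by omega
    obtain ⟨x, hx, y, hy, e⟩ := Cfsg.Agent.KFacts.TwESix.Cent.aut_k2 D ha hal hb hbl hab2 hN top
      (fun c hc hcab v hv => by
        have h2 := cpr_long cs c ha hal
        have h3 := cpr_long cs c hb hbl
        obtain ⟨h4, h5⟩ := Cfsg.Agent.KFacts.TwESix.CentComb.g2 a ((mem_rts cs).1 ha) hal b ((mem_rts cs).1 hb) hbl hab2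
          c ((mem_rts cs).1 hc) (by omega)
        exact hα c ⟨hc, by omega, by omega⟩ v hv)
    exact ⟨x * y, mul_mem (Subgroup.mem_sup_left hx) (Subgroup.mem_sup_right hy), e⟩
  perf := by
    obtain ⟨w, hw⟩ := exists_rep_long cs hr hl
    obtain ⟨w', hw'⟩ := exists_rep_long cs (rho_root cs) rho_long
    have h1 : rep cs isCartan (w * w'⁻¹) rho = r := by
      rw [rep_mul_apply]
      conv_lhs => rw [← hw']
      rw [rep_inv_apply, hw]
    obtain ⟨k, hk⟩ := exists_rp cs R.nsys (w * w'⁻¹)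
    have h2 : cj k (RGD.Sup X (Ge cs isCartan rho)) = RGD.Sup X (Ge cs isCartan r) := by
      rw [cj_Sup_Ge R (rho_root cs) hk, h1]
    have h3 := (Cfsg.Agent.KFacts.TwESix.QRho.perfect D).ge
    rw [← h2, ← cj_commutator]
    exact cj_mono k h3
  out := out

section Model

open Cfsg.Lie Cfsg.Agent.Nodes.RGDTwGen Cfsg.Agent.Nodes.RGDFold Cfsg.Agent.Nodes.RGDFoldSL

universe u

variable {K : Type u} [Field K] [Fintype K] {q : ℕ} {φ : K →+* K}

theorem isPrimePow_q (hK : Fintype.card K = q ^ 2) : IsPrimePow q := by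
  have h1 : IsPrimePow (Fintype.card K) := FiniteField.isPrimePow_card K
  rw [hK] at h1
  exact (isPrimePow_pow_iff (by norm_num)).1 h1

theorem center_eq_bot (hK : Fintype.card K = q ^ 2) : Subgroup.center ↥(twistedE6 K q) = ⊥ := by
  obtain ⟨h1, h2⟩ := Cfsg.Agent.S1070.result (isPrimePow_q hK) hK
  rcases h1.eq_bot_or_eq_top_of_normal (Subgroup.center ↥(twistedE6 K q)) inferInstance with h3 | h3
  · exact h3
  · exfalso
    apply h2
    refine ⟨⟨fun a b => ?_⟩⟩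
    have : a ∈ Subgroup.center ↥(twistedE6 K q) := by rw [h3]; trivial
    exact (Subgroup.mem_center_iff.1 this b).symm

/-- **`SheetL` for `²E₆(q)`, `q` even.** -/
theorem sheetL_twE6 [CharP K 2] (cs : CoxeterSystem CoxeterMatrix.F₄ W) [Finite W] (hφ : ∀ x, φ x = x ^ q)
    (hqq : ∀ t : K, (t ^ q) ^ q = t) (hK : Fintype.card K = q ^ 2) (hq1 : 1 < q) {r : Fin 4 → ℤ}
    (hr : IsRoot cs isCartan r) (hl : bf r r = 4) : SheetL (rgd cs hφ hqq 2) r := by
  have top := Cfsg.Agent.KFacts.TwESix.OutTwo.G1_top cs hφ hqq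
  refine sheetL (Cfsg.Agent.KFacts.TwESix.Dat.dat cs hφ hqq hK hq1) top
    (Cfsg.Agent.KFacts.TwESix.Tor.T_comm (K := K) (q := q)) ?_ ?_ hr hl
  · refine noCent_of_center (rgd cs hφ hqq 2) ?_ (center_eq_bot hK)
    exact top
  · intro H hH α hα
    have h1 := Cfsg.Agent.Schreier.TwESix.sch (isPrimePow_q hK) hK H (le_antisymm (Subgroup.commutator_le_self _) hH) hα
    obtain ⟨y, hy⟩ := h1
    exact ⟨y, hy.symm⟩

end Model

end Cfsg.Agent.OddHalf.DblR.SheetTwESix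

end

-- merged: Cfsg.Agent.OddHalf.DblR.SheetTwE6
section

/-!
# ODD, D4: the sheet of `²E₆(q)`, `q = 2^a ≥ 4`, long roots (helper552)

* `sheetL` : `SheetL R ρ` from `Facts.Dat R`, `NoCent`, Schreier property;
* `full` : `KFacts.SpecLoc.Full` at `ρ`, the `V b` are the `X b` with `⟨b, ρ^∨⟩ = 1`;
* `HasSheetL Y` : some root group datum of `Y` has `SheetL` and `Full`;
* **`hasSheetL_twE6`**.
-/

set_option autoImplicit false
set_option linter.unusedSectionVars false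

namespace Cfsg.Agent.OddHalf.DblR.SheetTwE6

open CoxeterSystem Cfsg.Agent.ChevalleyStructure.CoxeterGeom Cfsg.Agent.Tits.Roots Cfsg.Agent.Tits.Core
  Cfsg.Agent.Tits.RootComb Cfsg.Agent.Tits.Exchange Cfsg.Agent.Nodes.Reps Cfsg.Agent.Nodes.BNOf
  Cfsg.Agent.Nodes.StabComb Cfsg.Agent.Nodes.Bruhat Cfsg.Agent.Nodes.OppDec
  Cfsg.Agent.Nodes.Coroot Cfsg.Agent.KFacts.RgdSL Cfsg.Agent.KFacts.RgdTI Cfsg.Agent.KFacts.RgdOdd
  Cfsg.Agent.KFacts.RgdCent Cfsg.Agent.KFacts.RgdEx Cfsg.Agent.KFacts.RgdPar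
  Cfsg.Agent.Nodes.RGDTwE6 Cfsg.Agent.KFacts.TwESix.Comb Cfsg.Agent.KFacts.TwESix.CombRho
  Cfsg.Agent.KFacts.TwESix.Facts Cfsg.Agent.KFacts.TwESix.QRho Cfsg.Agent.KFacts.TwESix.Tor
  Cfsg.Agent.KFacts.SpecKfour Cfsg.Agent.KFacts.SpecLoc Cfsg.Agent.Schreier.Basic
open scoped commutatorElement

/-! ### Combinatorics -/

set_option maxRecDepth 20000 in
theorem gen_comb : ∀ b ∈ rts, b 0 = 1 → bf b b = 4 → ∀ j ∈ rts, j 0 = 1 → j ≠ rho - b → ∃ d ∈ rts, d 0 = 0 ∧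
    0 ≤ bf d b ∧ j - d ∈ rts ∧ bf d d = bf j j ∧ bf (j - d) (j - d) = bf j j ∧ 2 * bf d (j - d) = - bf j j := by
  decide +kernel

set_option maxRecDepth 20000 in
theorem kap_comb : ∀ b ∈ rts, b 0 = 1 → ∃ d ∈ rts, d 0 = 0 ∧ bf d d = bf b b ∧ 2 * bf d b = - bf d d := by
  decide +kernel

set_option maxRecDepth 20000 in
theorem tri_comb : ∃ s ∈ rts, bf s s = 4 ∧ 2 * bf rho s = -4 ∧ (∃ g ∈ rts, bf g g = 4 ∧ 2 * bf g rho = -4 ∧ bf g s = 0) ∧
    ∃ g ∈ rts, bf g g = 4 ∧ 2 * bf g s = -4 ∧ bf g rho = 0 := by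
  decide +kernel

set_option maxRecDepth 20000 in
theorem short_comb : ∀ b ∈ rts, bf b b = 2 → ∃ y ∈ rts, y ≠ b ∧ bf y y = 4 ∧ bf y b = 2 := by
  decide +kernel

set_option maxRecDepth 20000 in
theorem psi_comb : ∀ a ∈ rts, ∀ r ∈ rts, bf r r = 4 → ∀ s ∈ rts, bf s s = 4 → bf r s = 2 → 0 < bf a r + bf a s →
    0 ≤ bf a r ∧ 0 ≤ bf a s := by
  decide +kernel

theorem i0_mem : (![1, 2, 2, 0] : Fin 4 → ℤ) ∈ rts ∧ (![1, 2, 2, 0] : Fin 4 → ℤ) 0 = 1 := by decide +kernel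

/-- the long root `(1, 2, 2, 0)` -/
def i0 : Ix := ⟨![1, 2, 2, 0], i0_mem⟩

theorem i0_long : bf i0.1 i0.1 = 4 := by decide +kernel

section

variable {W Y : Type*} [Group W] [Group Y] {cs : CoxeterSystem CoxeterMatrix.F₄ W} {T : Subgroup Y} {n : Fin 4 → Y}
  {X : (Fin 4 → ℤ) → Subgroup Y} {R : RGD cs isCartan 2 T n X}

/-- the long roots -/
theorem lg_iff (D : Dat R) {a : Fin 4 → ℤ} : LG R a ↔ IsRoot cs isCartan a ∧ bf a a = 4 :=
  ⟨fun L => ⟨L.lr.root, Cfsg.Agent.OddHalf.DblR.SheetTwESix.long_of_LG D L⟩,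
    fun h => Cfsg.Agent.OddHalf.DblR.SheetTwESix.LG_of_long D h.1 h.2⟩

/-- **`SheetL` at `ρ`.** -/
theorem sheetL [Finite W] (D : Dat R) (hN : NoCent cs isCartan T X) (hG1 : RGD.Sup X {x | IsRoot cs isCartan x} = ⊤)
    (hab : ∀ s ∈ T, ∀ t ∈ T, s * t = t * s) (hout : Sch Y) :
    SheetL R rho := by
  obtain ⟨s, hs, hss, hrs, ⟨g, hg, hgg, hgr, hgs⟩, g', hg', hgg', hgs', hgr'⟩ := tri_comb
  have hsr := (mem_rts cs).2 hs
  have hgR := (mem_rts cs).2 hg
  have hgR' := (mem_rts cs).2 hg'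
  have hrho := rho_root cs
  have hrl : bf rho rho = 4 := rho_long
  have c0 : ∀ {x y : Fin 4 → ℤ}, IsRoot cs isCartan y → bf y y = 4 → bf x y = 0 → cpr cs isCartan x y = 0 := by
    intro x y hy hyy hxy
    have h1 := two_bf cs x hy
    rw [hyy, hxy] at h1
    omega
  refine
    { top := hG1
      tab := hab
      long := (lg_iff D).2 ⟨hrho, hrl⟩
      tri := ⟨s, g, g', a2 cs hrho hsr (by rw [hrl, hss]) (by rw [hrl, hrs]),
        torTr_of_A2 R (c0 hsr hss hgs) (a2 cs hgR hrho (by rw [hgg, hrl]) (by rw [hgg, hgr])),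
        torTr_of_A2 R (c0 hrho hrl hgr') (a2 cs hgR' hsr (by rw [hgg', hss]) (by rw [hgg', hgs']))⟩
      k1 := ?_
      k2 := ?_
      perf := (Cfsg.Agent.KFacts.TwESix.QRho.perfect D).ge
      out := ?_ }
  · intro r hr α hα
    obtain ⟨h1, h2⟩ := (lg_iff D).1 hr
    exact Cfsg.Agent.KFacts.TwESix.Cent.aut_k1 D h1 h2 hN hG1 fun a ha ha0 v hv => hα a ⟨ha, by omega⟩ v hv
  · intro r s hr hs hrs α hα
    obtain ⟨h1, h2⟩ := (lg_iff D).1 hr
    obtain ⟨h3, h4⟩ := (lg_iff D).1 hs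
    have h5 : bf r s = 2 := by
      have := two_bf cs r h3
      rw [hrs, h4] at this
      omega
    obtain ⟨x, hx, y, hy, e⟩ := Cfsg.Agent.KFacts.TwESix.Cent.aut_k2 D h1 h2 h3 h4 h5 hN hG1 (α := α)
      (by
        intro a ha ha0 v hv
        have e1 := two_bf cs a h1
        have e2 := two_bf cs a h3
        rw [h2] at e1
        rw [h4] at e2
        obtain ⟨h6, h7⟩ := psi_comb a ((mem_rts cs).1 ha) r ((mem_rts cs).1 h1) h2 s ((mem_rts cs).1 h3) h4 h5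
          (by omega)
        exact hα a ⟨ha, by omega, by omega⟩ v hv)
    exact ⟨x * y, mul_mem (Subgroup.mem_sup_left hx) (Subgroup.mem_sup_right hy), e⟩
  · intro H hH α hα
    have h1 : ⁅H, H⁆ = H := le_antisymm (Subgroup.commutator_le_self H) hH
    obtain ⟨y, hy⟩ := hout H h1 hα
    exact ⟨y, hy.symm⟩

/-- the local structure at `ρ` -/
theorem spec (D : Dat R) (hab : ∀ s ∈ T, ∀ t ∈ T, s * t = t * s) :
    Spec (PP cs X) (QQ cs X) (X rho) T (fun b : Ix => X b.1) op := by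
  have : Finite W := finiteW cs
  refine
    { QP := QQ_le_PP
      ZQ := le_QQ (rho_root cs) (by decide)
      VQ := fun b => le_QQ (root b) (by rw [b.2.2])
      gen := ?_
      cen := fun p hp z hz => (cen_PP D hz hp).symm
      QN := fun p hp q hq => (Subgroup.mem_normalizer_iff.1 (PP_normalizer R hp) q).1 hq
      stst := fun b => Subtype.ext (by rw [op_val, op_val]; abel)
      ab := fun b u hu v hv => abel R (root b) hu hv
      comm1 := fun a b hab u hu v hv => comm1' D hab hu hv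
      br := ?_
      nd := ?_
      sq := fun b u hu => sq R (root b) hu
      TV := fun t ht b v hv => tor_mem R (root b) ht hv
      TZ := fun t ht z hz => tor_mem R (rho_root cs) ht hz
      Tab := hab
      Todd := R.tcop }
  · refine QQ_le fun b hb h1 => ?_
    have h2 := zero_le b ((mem_rts cs).1 hb)
    by_cases h3 : b 0 = 2
    · rw [eq_rho b ((mem_rts cs).1 hb) h3]
      exact le_sup_right
    · exact le_trans (le_iSup (fun b : Ix => X b.1) ⟨b, (mem_rts cs).1 hb, by omega⟩) le_sup_left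
  · -- br
    intro a x hx y hy
    rw [← add_op a]
    by_cases ha : bf a.1 a.1 = 4
    · exact (a2_op D ha).comm_mem R hx hy
    · obtain ⟨h1, h2, h3⟩ := orth_op D ha
      exact orth_mem R (root a) (root (op a)) h1 h2 h3 hx hy
  · -- nd
    intro a x hx hc
    by_contra hx1
    by_cases ha : bf a.1 a.1 = 4
    · obtain ⟨y, hy, hy1⟩ := exists_ne_one R (root (cs := cs) (op a))
      exact (a2_op D ha).comm_ne_one R hx hx1 hy hy1 (commutatorElement_eq_one_iff_mul_comm.2 (hc y hy))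
    · obtain ⟨h1, h2, h3⟩ := orth_op D ha
      obtain ⟨y, hy, hne⟩ := orth_nd D (root a) (root (op a)) h1 h2 h3 hx hx1
      exact hne (hc y hy)

/-- the fixed points of `C_P(X b)`, `b` long -/
theorem fix (D : Dat R) (hab : ∀ s ∈ T, ∀ t ∈ T, s * t = t * s) {b : Ix} (hb : bf b.1 b.1 = 4) :
    Fix (PP cs X) (QQ cs X) (X rho) (fun b : Ix => X b.1) b := by
  have : Finite W := finiteW cs
  refine (spec D hab).fix_of_gen _ le_rfl fun j hj w hw => ?_
  obtain ⟨d, hd, hd0, hdb, hjd, h1, h2, h3⟩ := gen_comb b.1 b.2.1 b.2.2 hb j.1 j.2.1 j.2.2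
    (fun h => hj (Subtype.ext h))
  have hdr := (mem_rts cs).2 hd
  have hA : A2 cs isCartan d (j.1 - d) := a2 cs hdr ((mem_rts cs).2 hjd) (by rw [h1, h2]) (by rw [h3, h1])
  obtain ⟨u, hu, hu1⟩ := exists_ne_one R hdr
  obtain ⟨v, hv, e⟩ := hA.comm_surj R hu hu1 (w := w) (by rw [add_sub_cancel]; exact hw)
  refine Subgroup.mem_sup_left (Subgroup.subset_closure ⟨u, le_PP hdr (by rw [hd0]) hu, fun x hx => ?_, v, ?_, e.symm⟩)
  · exact comm_long D hdr (root b) hb hdb hu hx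
  · exact le_QQ ((mem_rts cs).2 hjd) (by rw [Pi.sub_apply, j.2.2, hd0]; norm_num) hv

/-- transitivity of the torus of `P` -/
theorem tran (b : Ix) {u v : Y} (hu : u ∈ X b.1) (hv : v ∈ X b.1) (hu1 : u ≠ 1) (hv1 : v ≠ 1)
    (R : RGD cs isCartan 2 T n X) : ∃ k ∈ T, k ∈ PP cs X ∧ k * u * k⁻¹ = v := by
  have : Finite W := finiteW cs
  obtain ⟨d, hd, hd0, hdd, h1⟩ := kap_comb b.1 b.2.1 b.2.2
  have hdr := (mem_rts cs).2 hd
  have hA : A2 cs isCartan d b.1 := a2 cs hdr (root b) hdd h1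
  obtain ⟨t, ht, e⟩ := hA.tor_trans R hu hu1 hv hv1
  refine ⟨t, ht.1, ?_, e⟩
  refine (sup_le (le_PP hdr (by rw [hd0])) (le_PP hdr.neg ?_)) ht.2
  rw [Pi.neg_apply, hd0]; norm_num

/-- **`Full` at `ρ`.** -/
theorem full [Finite T] (D : Dat R) (hab : ∀ s ∈ T, ∀ t ∈ T, s * t = t * s)
    (big : ∀ b, IsRoot cs isCartan b → ∃ u ∈ X b, ∃ v ∈ X b, u ≠ 1 ∧ v ≠ 1 ∧ u ≠ v) :
    Full (PP cs X) (QQ cs X) (X rho) T (T ⊓ (X rho ⊔ X (-rho))) (fun b : Ix => X b.1) op i0 := by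
  have : Finite W := finiteW cs
  have hop : bf (op i0).1 (op i0).1 = 4 := by decide +kernel
  have S := spec D hab
  refine
    { toSpec := S
      fix := fix D hab i0_long
      fix' := fix D hab hop
      lin := lin_of_trans hab fun u hu v hv hu1 hv1 => tran i0 hu hv hu1 hv1 R
      lin' := lin_of_trans hab fun u hu v hv hu1 hv1 => tran (op i0) hu hv hu1 hv1 R
      surj := ?_
      ncl := ?_
      kap := ?_
      perf := (Cfsg.Agent.KFacts.TwESix.QRho.perfect D).ge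
      T0T := inf_le_left
      T0Q := ?_
      tr := fun x hx hx1 y hy hy1 => tor_self R hab (rho_root cs) hx hx1 hy hy1
      big := ?_
      zsq := fun z hz => sq R (rho_root cs) hz }
  · -- surj
    obtain ⟨x, hx, hx1⟩ := exists_ne_one R (root (cs := cs) i0)
    refine ⟨x, hx, fun z hz => ?_⟩
    rw [← add_op i0] at hz
    obtain ⟨v, hv, e⟩ := (a2_op D i0_long).comm_surj R hx hx1 hz
    exact ⟨v, hv, e⟩
  · -- ncl
    intro q hq hc
    refine S.mem_Z hq fun j w hw => ?_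
    have h1 : QQ cs X ≤ Subgroup.centralizer {q} := by
      rw [Cfsg.Agent.KFacts.TwESix.Faith.Q_eq D (root i0) i0.2.2]
      refine sup_le (fun z hz => ?_) (iSup_le fun p y hy => ?_)
      · rw [Subgroup.mem_centralizer_singleton_iff]
        exact (S.cenQ hq hz).symm
      · rw [mem_cj] at hy
        rw [Subgroup.mem_centralizer_singleton_iff]
        have h2 := hc p p.2 _ hy
        have e : (p : Y) * ((p : Y)⁻¹ * y * p) * (p : Y)⁻¹ = y := by group
        rw [e] at h2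
        exact h2.symm
    exact (Subgroup.mem_centralizer_singleton_iff.1 (h1 (S.VQ j hw))).symm
  · -- kap
    intro j
    obtain ⟨u, hu, v, hv, hu1, hv1, huv⟩ := big j.1 (root j)
    obtain ⟨k, hk, hkP, e⟩ := tran j hu hv hu1 hv1 R
    refine ⟨k, hk, hkP, fun w hw he => ?_⟩
    by_contra hw1
    obtain ⟨m, hm, -, e2⟩ := tran j hw hu hw1 hu1 R
    have h1 := hab k hk m hm
    apply huv
    rw [← e, ← e2]
    symm
    calc k * (m * w * m⁻¹) * k⁻¹ = (k * m) * w * (k * m)⁻¹ := by group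
      _ = m * (k * w * k⁻¹) * m⁻¹ := by rw [h1]; group
      _ = m * w * m⁻¹ := by rw [he]
  · -- T0Q
    intro t ht p hp
    let L : Subgroup Y :=
      { carrier := {p | p ∈ PP cs X ∧ t * p * t⁻¹ * p⁻¹ ∈ QQ cs X}
        one_mem' := ⟨one_mem _, by rw [mul_one, mul_inv_cancel, inv_one, mul_one]; exact one_mem _⟩
        mul_mem' := by
          rintro a b ⟨ha, ha2⟩ ⟨hb, hb2⟩
          refine ⟨mul_mem ha hb, ?_⟩
          have h1 := S.QN a ha _ hb2
          have e : t * (a * b) * t⁻¹ * (a * b)⁻¹ = (t * a * t⁻¹ * a⁻¹) * (a * (t * b * t⁻¹ * b⁻¹) * a⁻¹) := by group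
          rw [e]
          exact mul_mem ha2 h1
        inv_mem' := by
          rintro a ⟨ha, ha2⟩
          refine ⟨inv_mem ha, ?_⟩
          have h1 := S.QN _ (inv_mem ha) _ (inv_mem ha2)
          have e : t * a⁻¹ * t⁻¹ * a⁻¹⁻¹ = a⁻¹ * (t * a * t⁻¹ * a⁻¹)⁻¹ * a⁻¹⁻¹ := by group
          rw [e]
          exact h1 }
    have hL : PP cs X ≤ L := by
      refine PP_le fun b hb hb0 v hv => ?_
      refine ⟨le_PP hb hb0 hv, ?_⟩
      by_cases h0 : b 0 = 0
      · have h1 : bf b rho = 0 := by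
          have h2 := two_bf cs b (rho_root cs)
          rw [cpr_rho, h0, rho_long] at h2
          omega
        rw [orth_comm R D.lr (rho_root cs) rho_long hb h1 ht.2 hv, mul_inv_cancel_right, mul_inv_cancel]
        exact one_mem _
      · have h1 : 1 ≤ b 0 := by omega
        exact mul_mem (le_QQ hb h1 (tor_mem R hb ht.1 hv)) (inv_mem (le_QQ hb h1 hv))
    exact (hL hp).2
  · obtain ⟨u, hu, v, hv, hu1, hv1, huv⟩ := big rho (rho_root cs)
    exact ⟨u, hu, v, hv, hu1, hv1, huv⟩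

/-- `HasFull` at `ρ` -/
theorem hasFull [Finite T] (D : Dat R) (hab : ∀ s ∈ T, ∀ t ∈ T, s * t = t * s)
    (big : ∀ b, IsRoot cs isCartan b → ∃ u ∈ X b, ∃ v ∈ X b, u ≠ 1 ∧ v ≠ 1 ∧ u ≠ v) :
    Cfsg.Agent.KFacts.RgdLocL.HasFull cs isCartan T X rho :=
  ⟨Ix, inferInstance, _, op, i0, T, full D hab big⟩

end

/-- A subgroup with more than two elements. -/
theorem exists_two {Y : Type*} [Group Y] {A : Subgroup Y} [Finite A] (h : 2 < Nat.card A) :
    ∃ u ∈ A, ∃ v ∈ A, u ≠ 1 ∧ v ≠ 1 ∧ u ≠ v := by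
  classical
  have : Fintype ↥A := Fintype.ofFinite _
  rw [Nat.card_eq_fintype_card] at h
  obtain ⟨u, v, w, huv, huw, hvw⟩ := Fintype.two_lt_card_iff.1 h
  have key : ∃ a b : ↥A, a ≠ 1 ∧ b ≠ 1 ∧ a ≠ b := by
    by_cases hu : u = 1
    · subst hu
      exact ⟨v, w, huv.symm, huw.symm, hvw⟩
    · by_cases hv : v = 1
      · subst hv
        exact ⟨u, w, hu, hvw.symm, huw⟩
      · exact ⟨u, v, hu, hv, huv⟩
  obtain ⟨a, b, ha, hb, hab⟩ := key
  exact ⟨a, a.2, b, b.2, fun h => ha (Subtype.ext h), fun h => hb (Subtype.ext h), fun h => hab (Subtype.ext h)⟩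

/-- Some root group datum of `Y` has a long root `r` with `SheetL` and `HasFull`. -/
def HasSheetL (Y : Type*) [Group Y] : Prop :=
  ∃ (l : ℕ) (M : CoxeterMatrix (Fin l)) (A : Fin l → Fin l → ℤ) (h : IsCartan M A) (T : Subgroup Y) (n : Fin l → Y)
    (X : (Fin l → ℤ) → Subgroup Y) (_ : Finite M.Group) (R : RGD M.toCoxeterSystem h 2 T n X) (r : Fin l → ℤ),
    SheetL R r ∧ Cfsg.Agent.KFacts.RgdLocL.HasFull M.toCoxeterSystem h T X r

section Inst

open Cfsg.Lie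

universe u

variable {F : Type u} [Field F] [Fintype F] {q : ℕ} {φ : F →+* F}

theorem center_eq_bot (hq : IsPrimePow q) (hF : Fintype.card F = q ^ 2) :
    Subgroup.center ↥(twistedE6 F q) = ⊥ := by
  obtain ⟨h1, h2⟩ := Cfsg.Agent.S1070.result (K := F) hq hF
  rcases (inferInstance : (Subgroup.center ↥(twistedE6 F q)).Normal).eq_bot_or_eq_top with h | h
  · exact h
  · exfalso
    apply h2
    refine ⟨⟨fun a b => ?_⟩⟩
    have : b ∈ Subgroup.center ↥(twistedE6 F q) := by rw [h]; exact Subgroup.mem_top b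
    rw [Subgroup.mem_center_iff] at this
    exact this a

variable {W : Type*} [Group W] (cs : CoxeterSystem CoxeterMatrix.F₄ W) [CharP F 2]

theorem noCent (hφ : ∀ x, φ x = x ^ q) (hqq : ∀ t : F, (t ^ q) ^ q = t) (hq : IsPrimePow q)
    (hF : Fintype.card F = q ^ 2) : NoCent cs isCartan (Cfsg.Agent.Nodes.RGDTwE6.T F q) (X φ q) :=
  Cfsg.Agent.KFacts.SLRow.OmegaPlus.noCent_of_center (G1_eq_top cs hφ hqq) (center_eq_bot hq hF)

/-- **`SheetL` for the root group datum of `²E₆(q)`, `q` even.** -/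
theorem sheetL_inst [Finite W] (hφ : ∀ x, φ x = x ^ q) (hqq : ∀ t : F, (t ^ q) ^ q = t) (hq : IsPrimePow q)
    (hF : Fintype.card F = q ^ 2) : SheetL (rgd cs hφ hqq 2) rho :=
  sheetL (Cfsg.Agent.KFacts.TwESix.Dat.dat cs hφ hqq hF hq.one_lt) (noCent cs hφ hqq hq hF) (G1_eq_top cs hφ hqq)
    T_comm (Cfsg.Agent.Schreier.TwESix.sch hq hF)

/-- **`HasFull` for `²E₆(q)`, `q ≥ 4` even.** -/
theorem hasFull_inst (hφ : ∀ x, φ x = x ^ q) (hqq : ∀ t : F, (t ^ q) ^ q = t) (hq : IsPrimePow q)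
    (hF : Fintype.card F = q ^ 2) (hq2 : 2 < q) :
    Cfsg.Agent.KFacts.RgdLocL.HasFull cs isCartan (Cfsg.Agent.Nodes.RGDTwE6.T F q) (X φ q) rho := by
  refine hasFull (Cfsg.Agent.KFacts.TwESix.Dat.dat cs hφ hqq hF hq.one_lt) T_comm fun b hb => exists_two ?_
  rcases norm cs hb with h | h
  · rw [card_long cs hφ hqq hF hq.one_lt hb h]
    exact hq2
  · rw [card_short cs hφ hqq hF hb h]
    nlinarith

omit [CharP F 2] in
/-- **The sheet of `²E₆(2^a)`, `a ≥ 2`.** -/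
theorem hasSheetL_twE6 {a : ℕ} (ha : 2 ≤ a) (hF : Fintype.card F = 4 ^ a) : HasSheetL ↥(twistedE6 F (2 ^ a)) := by
  have hF' : Fintype.card F = (2 ^ a) ^ 2 := by rw [hF, ← pow_mul, mul_comm, pow_mul]; norm_num
  have hq : IsPrimePow (2 ^ a) := (Nat.prime_two.isPrimePow).pow (by omega)
  have : Fact (Nat.Prime 2) := ⟨Nat.prime_two⟩
  have hc : CharP F 2 := by
    obtain ⟨p, hp⟩ := CharP.exists F
    have hpp : p.Prime := (CharP.char_is_prime_or_zero F p).resolve_right (CharP.char_ne_zero_of_finite F p)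
    have : Fact p.Prime := ⟨hpp⟩
    obtain ⟨n, hn⟩ := FiniteField.card F p
    have h2 : p ∣ 2 := by
      apply hpp.dvd_of_dvd_pow (n := 2 * a)
      rw [pow_mul]
      norm_num
      rw [← hF, hn.2]
      exact dvd_pow_self p n.ne_zero
    have h3 : p = 2 := (Nat.prime_dvd_prime_iff_eq hpp Nat.prime_two).1 h2
    rwa [h3] at hp
  obtain ⟨φ, hφ, hqq⟩ := Cfsg.Agent.ChevalleyStructure.TwE6Basic.exists_frob hq hF'
  have hW : Finite CoxeterMatrix.F₄.Group := finiteW CoxeterMatrix.F₄.toCoxeterSystem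
  have hq2 : 2 < 2 ^ a := by
    calc 2 < 2 ^ 2 := by norm_num
      _ ≤ 2 ^ a := Nat.pow_le_pow_right (by norm_num) ha
  exact ⟨4, CoxeterMatrix.F₄, _, isCartan, _, _, _, hW, _, rho,
    sheetL_inst CoxeterMatrix.F₄.toCoxeterSystem hφ hqq hq hF', hasFull_inst _ hφ hqq hq hF' hq2⟩

end Inst

end Cfsg.Agent.OddHalf.DblR.SheetTwE6

end
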