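import Cfsg.Agent.Nodes.KindBC
import Cfsg.Agent.KFacts.RgdSL
import Cfsg.Agent.KFacts.RgdTI
import Cfsg.Agent.KFacts.RgdPar
import Cfsg.Agent.OddHalf.DblR.RowL
import Cfsg.Agent.OddHalf.DblR.MinusTor
import Cfsg.Agent.KFacts.RgdCentW
import Cfsg.Agent.Schreier.ClassPOmega
import Cfsg.Agent.S0297

-- merged: Cfsg.Agent.OddHalf.DblR.MinusComb
section

/-!
# ODD, D4: the root system `B_n` with the labels `C_n`, combinatorics of the roots `± ε_i ± ε_j`

helper328.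

* `ev v x` : the coordinate of `v` at the signed index `x`; `dl c x` : its value for `wt c`;
* `a2_rt` : `rt x y`, `rt (ng y) z` form an `A2`-pair;
* `two_rt` : the only root at acute angles with both is the sum.
-/

set_option autoImplicit false
set_option linter.unusedSectionVars false

namespace Cfsg.Agent.OddHalf.DblR.MinusComb

open CoxeterSystem Cfsg.Agent.ChevalleyStructure.CoxeterGeom Cfsg.Agent.Tits.Roots Cfsg.Agent.Tits.Core
  Cfsg.Agent.Tits.RootComb Cfsg.Agent.Nodes.TypeC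
  Cfsg.Agent.Nodes.Comb Cfsg.Agent.Nodes.Reps Cfsg.Agent.Nodes.BNOf
  Cfsg.Agent.Nodes.StabComb Cfsg.Agent.Nodes.Coroot Cfsg.Agent.Nodes.KindBC Cfsg.Agent.Nodes.TypeCForm
  Cfsg.Agent.Nodes.PosPair Cfsg.Agent.KFacts.RgdSL Cfsg.Agent.KFacts.RgdTI Cfsg.Agent.KFacts.RgdPar

variable {n : ℕ}

/-- the coordinate of `v` at the signed index `x` -/
def ev (v : Fin n → ℤ) (x : Fin n × Bool) : ℤ := ee v x.1 * sn x

/-- the coordinate of `wt c` at the signed index `x` -/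
def dl (c x : Fin n × Bool) : ℤ := if c = x then 1 else if c = ng x then -1 else 0

theorem sn_ng (x : Fin n × Bool) : sn (ng x) = -sn x := by
  unfold sn
  rcases x with ⟨i, b⟩
  cases b <;> rfl

theorem sn_sq (x : Fin n × Bool) : sn x * sn x = 1 := by
  rcases sn_eq_one_or x with h | h <;> rw [h] <;> norm_num

theorem dl_self (x : Fin n × Bool) : dl x x = 1 := if_pos rfl

theorem ng_ne (x : Fin n × Bool) : ng x ≠ x := by
  intro h
  have := congrArg Prod.snd h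
  rcases x with ⟨i, b⟩
  cases b <;> simp [ng] at this

theorem dl_ng (x : Fin n × Bool) : dl (ng x) x = -1 := by
  unfold dl
  rw [if_neg (ng_ne x), if_pos rfl]

theorem dl_of_ne {c x : Fin n × Bool} (h : c.1 ≠ x.1) : dl c x = 0 := by
  unfold dl
  rw [if_neg (by rintro rfl; exact h rfl), if_neg (by rintro rfl; exact h rfl)]

theorem cases_eq {c x : Fin n × Bool} (h : c.1 = x.1) : c = x ∨ c = ng x := by
  rcases c with ⟨i, b⟩
  rcases x with ⟨j, b'⟩
  simp only at h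
  subst h
  cases b <;> cases b' <;> simp [ng]

theorem dl_cases (c x : Fin n × Bool) : (c = x ∧ dl c x = 1) ∨ (c = ng x ∧ dl c x = -1) ∨ (c.1 ≠ x.1 ∧ dl c x = 0) := by
  by_cases h : c.1 = x.1
  · rcases cases_eq h with rfl | rfl
    · exact Or.inl ⟨rfl, dl_self _⟩
    · exact Or.inr (Or.inl ⟨rfl, dl_ng _⟩)
  · exact Or.inr (Or.inr ⟨h, dl_of_ne h⟩)

theorem dl_ng_right (c x : Fin n × Bool) : dl c (ng x) = -dl c x := by
  rcases dl_cases c x with ⟨rfl, h⟩ | ⟨rfl, h⟩ | ⟨h1, h⟩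
  · rw [h]
    have := dl_ng (ng c)
    rwa [ng_ng] at this
  · rw [h, dl_self]; norm_num
  · rw [h, dl_of_ne (x := ng x) h1]; norm_num

theorem wt_ev (c x : Fin n × Bool) : wt c x.1 * sn x = dl c x := by
  rcases dl_cases c x with ⟨rfl, h⟩ | ⟨rfl, h⟩ | ⟨h1, h⟩
  · rw [h, wt_apply_self, sn_sq]
  · rw [h, wt_ng, Pi.neg_apply, wt_apply_self, neg_mul, sn_sq]
  · rw [h, wt_apply_ne (Ne.symm h1), zero_mul]

theorem ev_rt (c d x : Fin n × Bool) : ev (rt c d) x = dl c x + dl d x := by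
  unfold ev
  rw [ee_rt, Pi.add_apply, add_mul, wt_ev, wt_ev]

theorem ev_add (v w : Fin n → ℤ) (x : Fin n × Bool) : ev (v + w) x = ev v x + ev w x := by
  unfold ev
  rw [ee_add, Pi.add_apply, add_mul]

theorem ev_smul (m : ℤ) (v : Fin n → ℤ) (x : Fin n × Bool) : ev (m • v) x = m * ev v x := by
  unfold ev
  rw [ee_smul, Pi.smul_apply, smul_eq_mul, mul_assoc]

theorem ev_neg (v : Fin n → ℤ) (x : Fin n × Bool) : ev (-v) x = -ev v x := by
  unfold ev
  rw [ee_neg, Pi.neg_apply, neg_mul]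

theorem ok_iff {c d : Fin n × Bool} : Ok c d ↔ d ≠ ng c := by
  constructor
  · rintro (h | rfl) h'
    · rw [h'] at h; exact h rfl
    · exact ng_ne c h'.symm
  · intro h
    by_cases h1 : d.1 = c.1
    · rcases cases_eq h1 with rfl | rfl
      · exact Or.inr rfl
      · exact absurd rfl h
    · exact Or.inl (Ne.symm h1)

theorem rt_add {x y z : Fin n × Bool} : rt x y + rt (ng y) z = rt x z := by
  apply ee_injective
  rw [ee_add, ee_rt, ee_rt, ee_rt, wt_ng]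
  abel

theorem neg_rt (x y : Fin n × Bool) : -rt x y = rt (ng x) (ng y) := (rt_ng x y).symm

/-- position of a signed index with respect to two others -/
theorem cases2 {x y : Fin n × Bool} (hxy : x.1 ≠ y.1) (c : Fin n × Bool) :
    (c = x ∧ dl c x = 1 ∧ dl c y = 0) ∨ (c = ng x ∧ dl c x = -1 ∧ dl c y = 0) ∨
    (c = y ∧ dl c x = 0 ∧ dl c y = 1) ∨ (c = ng y ∧ dl c x = 0 ∧ dl c y = -1) ∨
    ((c.1 ≠ x.1 ∧ c.1 ≠ y.1) ∧ dl c x = 0 ∧ dl c y = 0) := by
  rcases dl_cases c x with ⟨h, h1⟩ | ⟨h, h1⟩ | ⟨h, h1⟩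
  · exact Or.inl ⟨h, h1, dl_of_ne (by rw [h]; exact hxy)⟩
  · exact Or.inr (Or.inl ⟨h, h1, dl_of_ne (by rw [h]; exact hxy)⟩)
  · rcases dl_cases c y with ⟨h2, h3⟩ | ⟨h2, h3⟩ | ⟨h2, h3⟩
    · exact Or.inr (Or.inr (Or.inl ⟨h2, h1, h3⟩))
    · exact Or.inr (Or.inr (Or.inr (Or.inl ⟨h2, h1, h3⟩)))
    · exact Or.inr (Or.inr (Or.inr (Or.inr ⟨⟨h, h2⟩, h1, h3⟩)))

/-- position of a signed index with respect to three others -/
theorem cases3 {x y z : Fin n × Bool} (hxy : x.1 ≠ y.1) (hxz : x.1 ≠ z.1) (hyz : y.1 ≠ z.1) (c : Fin n × Bool) :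
    (c = x ∧ dl c x = 1 ∧ dl c y = 0 ∧ dl c z = 0) ∨ (c = ng x ∧ dl c x = -1 ∧ dl c y = 0 ∧ dl c z = 0) ∨
    (c = y ∧ dl c x = 0 ∧ dl c y = 1 ∧ dl c z = 0) ∨ (c = ng y ∧ dl c x = 0 ∧ dl c y = -1 ∧ dl c z = 0) ∨
    (c = z ∧ dl c x = 0 ∧ dl c y = 0 ∧ dl c z = 1) ∨ (c = ng z ∧ dl c x = 0 ∧ dl c y = 0 ∧ dl c z = -1) ∨
    ((c.1 ≠ x.1 ∧ c.1 ≠ y.1 ∧ c.1 ≠ z.1) ∧ dl c x = 0 ∧ dl c y = 0 ∧ dl c z = 0) := by
  rcases dl_cases c z with ⟨h, h1⟩ | ⟨h, h1⟩ | ⟨h, h1⟩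
  · exact Or.inr (Or.inr (Or.inr (Or.inr (Or.inl ⟨h, dl_of_ne (by rw [h]; exact hxz.symm),
      dl_of_ne (by rw [h]; exact hyz.symm), h1⟩))))
  · exact Or.inr (Or.inr (Or.inr (Or.inr (Or.inr (Or.inl ⟨h, dl_of_ne (by rw [h]; exact hxz.symm),
      dl_of_ne (by rw [h]; exact hyz.symm), h1⟩)))))
  · rcases cases2 hxy c with ⟨h2, h3, h4⟩ | ⟨h2, h3, h4⟩ | ⟨h2, h3, h4⟩ | ⟨h2, h3, h4⟩ | ⟨⟨h2, h2'⟩, h3, h4⟩
    · exact Or.inl ⟨h2, h3, h4, h1⟩
    · exact Or.inr (Or.inl ⟨h2, h3, h4, h1⟩)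
    · exact Or.inr (Or.inr (Or.inl ⟨h2, h3, h4, h1⟩))
    · exact Or.inr (Or.inr (Or.inr (Or.inl ⟨h2, h3, h4, h1⟩)))
    · exact Or.inr (Or.inr (Or.inr (Or.inr (Or.inr (Or.inr ⟨⟨h2, h2', h⟩, h3, h4, h1⟩)))))

/-- two signed indices with positive coordinates at `x` and `z` -/
theorem pos_two {x z : Fin n × Bool} (hxz : x.1 ≠ z.1) {c d : Fin n × Bool} (h1 : 0 < dl c x + dl d x)
    (h2 : 0 < dl c z + dl d z) : (c = x ∧ d = z) ∨ (c = z ∧ d = x) := by
  rcases cases2 hxz c with ⟨hc, h3, h4⟩ | ⟨hc, h3, h4⟩ | ⟨hc, h3, h4⟩ | ⟨hc, h3, h4⟩ | ⟨hc, h3, h4⟩ <;>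
  rcases cases2 hxz d with ⟨hd, h5, h6⟩ | ⟨hd, h5, h6⟩ | ⟨hd, h5, h6⟩ | ⟨hd, h5, h6⟩ | ⟨hd, h5, h6⟩ <;>
  first
  | exact Or.inl ⟨hc, hd⟩
  | exact Or.inr ⟨hc, hd⟩
  | (exfalso; omega)

section

variable {W : Type*} [Group W] (cs : CoxeterSystem (CoxeterMatrix.B n) W)

theorem cpr_ne [Finite W] (v : Fin n → ℤ) {x y : Fin n × Bool} (h : x.1 ≠ y.1) :
    cpr cs (isCartan n) v (rt x y) = ev v x + ev v y := cpr_rt cs v h

theorem cpr_same [Finite W] (v : Fin n → ℤ) (x : Fin n × Bool) :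
    cpr cs (isCartan n) v (rt x x) = ev v x := cpr_rt_self cs v x

theorem btwn_one {x y z : Fin n × Bool} (hxy : x.1 ≠ y.1) (hxz : x.1 ≠ z.1) (hyz : y.1 ≠ z.1) {v : Fin n → ℤ}
    (hv : Btwn cs (isCartan n) (rt x y) (rt (ng y) z) v) : v = rt x z := by
  obtain ⟨hvr, m, a, b, hm, ha, hb, he⟩ := hv
  obtain ⟨c, d, -, rfl⟩ := exists_rt hvr
  have key : ∀ w, m * (dl c w + dl d w) = a * (dl x w + dl y w) + b * (dl (ng y) w + dl z w) := by
    intro w
    have := congrArg (fun v => ev v w) he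
    simp only [ev_add, ev_smul, ev_rt] at this
    exact this
  have k1 := key x
  have k2 := key z
  rw [dl_self, dl_of_ne hxy.symm, dl_of_ne (c := ng y) hxy.symm, dl_of_ne hxz.symm] at k1
  rw [dl_self, dl_of_ne hxz, dl_of_ne hyz, dl_of_ne (c := ng y) hyz] at k2
  have h1 : 0 < dl c x + dl d x := by
    have : 0 < m * (dl c x + dl d x) := by rw [k1]; omega
    exact (mul_pos_iff_of_pos_left hm).1 this
  have h2 : 0 < dl c z + dl d z := by
    have : 0 < m * (dl c z + dl d z) := by rw [k2]; omega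
    exact (mul_pos_iff_of_pos_left hm).1 this
  rcases pos_two hxz h1 h2 with ⟨rfl, rfl⟩ | ⟨rfl, rfl⟩
  · rfl
  · exact rt_comm _ _

theorem btwn_two {x y z : Fin n × Bool} (hxy : x.1 ≠ y.1) (hxz : x.1 ≠ z.1) (hyz : y.1 ≠ z.1) {v : Fin n → ℤ} :
    ¬ Btwn cs (isCartan n) (-rt x y) (rt (ng y) z) v := by
  rintro ⟨hvr, m, a, b, hm, ha, hb, he⟩
  obtain ⟨c, d, -, rfl⟩ := exists_rt hvr
  have key : ∀ w, m * (dl c w + dl d w) = -a * (dl x w + dl y w) + b * (dl (ng y) w + dl z w) := by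
    intro w
    have := congrArg (fun v => ev v w) he
    simp only [ev_add, ev_smul, ev_rt, ev_neg] at this
    linarith
  have k1 := key (ng x)
  have k2 := key z
  have k3 := key (ng y)
  have n1 : dl (ng y) (ng x) = 0 := dl_of_ne (c := ng y) (x := ng x) hxy.symm
  have n2 : dl z (ng x) = 0 := dl_of_ne (c := z) (x := ng x) hxz.symm
  have n3 : dl z (ng y) = 0 := dl_of_ne (c := z) (x := ng y) hyz.symm
  rw [n1, n2, dl_ng_right x x, dl_self, dl_ng_right y x, dl_of_ne hxy.symm] at k1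
  rw [dl_self, dl_of_ne hxz, dl_of_ne hyz, dl_of_ne (c := ng y) hyz] at k2
  rw [n3, dl_self, dl_ng_right x y, dl_of_ne hxy, dl_ng_right y y, dl_self] at k3
  have h1 : 0 < dl c (ng x) + dl d (ng x) := by
    have : 0 < m * (dl c (ng x) + dl d (ng x)) := by rw [k1]; omega
    exact (mul_pos_iff_of_pos_left hm).1 this
  have h2 : 0 < dl c z + dl d z := by
    have : 0 < m * (dl c z + dl d z) := by rw [k2]; omega
    exact (mul_pos_iff_of_pos_left hm).1 this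
  have h3 : 0 < dl c (ng y) + dl d (ng y) := by
    have : 0 < m * (dl c (ng y) + dl d (ng y)) := by rw [k3]; omega
    exact (mul_pos_iff_of_pos_left hm).1 this
  rcases pos_two (x := ng x) (z := z) hxz h1 h2 with ⟨rfl, rfl⟩ | ⟨rfl, rfl⟩
  · rw [dl_of_ne (c := ng x) (x := ng y) hxy, n3] at h3
    omega
  · rw [dl_of_ne (c := ng x) (x := ng y) hxy, n3] at h3
    omega

/-- **`A2`-pairs.** -/
theorem a2_rt [Finite W] {x y z : Fin n × Bool} (hxy : x.1 ≠ y.1) (hxz : x.1 ≠ z.1) (hyz : y.1 ≠ z.1) :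
    A2 cs (isCartan n) (rt x y) (rt (ng y) z) where
  rx := isRoot_rt cs (Or.inl hxy)
  ry := isRoot_rt cs (Or.inl hyz)
  cxy := by
    rw [cpr_ne cs _ (x := ng y) (y := z) hyz, ev_rt, ev_rt, dl_ng_right, dl_ng_right, dl_of_ne hxy, dl_self,
      dl_of_ne hxz, dl_of_ne hyz]; norm_num
  cyx := by
    rw [cpr_ne cs _ hxy, ev_rt, ev_rt, dl_of_ne (c := ng y) hxy.symm, dl_of_ne hxz.symm, dl_ng,
      dl_of_ne hyz.symm]; norm_num
  b1 v hv := by rw [rt_add]; exact btwn_one cs hxy hxz hyz hv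
  b2 v := btwn_two cs hxy hxz hyz
  b3 v hv := by
    rw [rt_add, neg_rt, rt_comm (ng x) (ng y)] at hv
    have h1 : Btwn cs (isCartan n) (rt (ng y) (ng x)) (rt (ng (ng x)) z) v := by rwa [ng_ng]
    exact btwn_one cs (x := ng y) (y := ng x) (z := z) hxy.symm hyz hxz h1
  b4 v hv := by
    rw [rt_add, neg_rt, ng_ng, rt_comm x z] at hv
    have h1 : Btwn cs (isCartan n) (rt y (ng z)) (rt (ng (ng z)) x) v := by rwa [ng_ng]
    rw [btwn_one cs (x := y) (y := ng z) (z := x) hyz hxy.symm hxz.symm h1, rt_comm]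
  b5 v hv := by
    rw [rt_add] at hv
    have h1 : Btwn cs (isCartan n) (-rt (ng x) (ng z)) (rt (ng (ng z)) (ng y)) v := by
      rw [neg_rt, ng_ng, ng_ng, rt_comm z (ng y)]
      exact hv
    exact btwn_two cs (x := ng x) (y := ng z) (z := ng y) hxz hxy hyz.symm h1
  b6 v hv := by
    rw [rt_add] at hv
    have h1 : Btwn cs (isCartan n) (-rt (ng z) (ng x)) (rt (ng (ng x)) y) v := by
      rw [neg_rt, ng_ng, ng_ng, rt_comm z x]
      exact hv
    exact btwn_two cs (x := ng z) (y := ng x) (z := y) hxz.symm hyz.symm hxy h1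

/-- two roots `± ε_i ± ε_j` at 120 degrees -/
theorem exists_z [Finite W] {x y : Fin n × Bool} (hxy : x.1 ≠ y.1) {b : Fin n → ℤ} (hb : IsRoot cs (isCartan n) b)
    (h : cpr cs (isCartan n) b (rt x y) = -1) : ∃ z : Fin n × Bool, (z.1 ≠ x.1 ∧ z.1 ≠ y.1) ∧
      (b = rt (ng y) z ∨ b = rt (ng x) z) := by
  obtain ⟨c, d, hcd, rfl⟩ := exists_rt hb
  rw [cpr_ne cs _ hxy, ev_rt, ev_rt] at h
  rcases cases2 hxy c with ⟨hc, h3, h4⟩ | ⟨hc, h3, h4⟩ | ⟨hc, h3, h4⟩ | ⟨hc, h3, h4⟩ | ⟨hc, h3, h4⟩ <;>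
  rcases cases2 hxy d with ⟨hd, h5, h6⟩ | ⟨hd, h5, h6⟩ | ⟨hd, h5, h6⟩ | ⟨hd, h5, h6⟩ | ⟨hd, h5, h6⟩ <;>
  first
  | (exfalso; omega)
  | (refine ⟨d, hd, Or.inr ?_⟩; rw [hc]; done)
  | (refine ⟨d, hd, Or.inl ?_⟩; rw [hc]; done)
  | (refine ⟨c, hc, Or.inr ?_⟩; rw [hd, rt_comm]; done)
  | (refine ⟨c, hc, Or.inl ?_⟩; rw [hd, rt_comm]; done)

/-- two roots `± ε_i ± ε_j` at 60 degrees -/
theorem exists_z_pos [Finite W] {r s : Fin n → ℤ} (hr : r ∈ RB n) (hs : IsRoot cs (isCartan n) s)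
    (h : cpr cs (isCartan n) s r = 1) : ∃ x y z : Fin n × Bool, (x.1 ≠ y.1 ∧ x.1 ≠ z.1 ∧ y.1 ≠ z.1) ∧
      r = rt x y ∧ s = rt x z := by
  obtain ⟨x, y, hxy, rfl⟩ := mem_RB.1 hr
  obtain ⟨c, d, hcd, rfl⟩ := exists_rt hs
  rw [cpr_ne cs _ hxy, ev_rt, ev_rt] at h
  rcases cases2 hxy c with ⟨hc, h3, h4⟩ | ⟨hc, h3, h4⟩ | ⟨hc, h3, h4⟩ | ⟨hc, h3, h4⟩ | ⟨hc, h3, h4⟩ <;>
  rcases cases2 hxy d with ⟨hd, h5, h6⟩ | ⟨hd, h5, h6⟩ | ⟨hd, h5, h6⟩ | ⟨hd, h5, h6⟩ | ⟨hd, h5, h6⟩ <;>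
  first
  | (exfalso; omega)
  | (refine ⟨x, y, d, ⟨hxy, hd.1.symm, hd.2.symm⟩, rfl, ?_⟩; rw [hc]; done)
  | (refine ⟨y, x, d, ⟨hxy.symm, hd.2.symm, hd.1.symm⟩, rt_comm _ _, ?_⟩; rw [hc]; done)
  | (refine ⟨x, y, c, ⟨hxy, hc.1.symm, hc.2.symm⟩, rfl, ?_⟩; rw [hd, rt_comm]; done)
  | (refine ⟨y, x, c, ⟨hxy.symm, hc.2.symm, hc.1.symm⟩, rt_comm _ _, ?_⟩; rw [hd, rt_comm]; done)

theorem two_aux [Finite W] {x y z : Fin n × Bool} (hxy : x.1 ≠ y.1) (hxz : x.1 ≠ z.1) (hyz : y.1 ≠ z.1)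
    {v : Fin n → ℤ} (hv : IsRoot cs (isCartan n) v) (h1 : 0 < cpr cs (isCartan n) v (rt x y))
    (h2 : 0 < cpr cs (isCartan n) v (rt (ng y) z)) : v = rt x z := by
  obtain ⟨c, d, hcd, rfl⟩ := exists_rt hv
  rw [cpr_ne cs _ hxy, ev_rt, ev_rt] at h1
  rw [cpr_ne cs _ (x := ng y) (y := z) hyz, ev_rt, ev_rt, dl_ng_right, dl_ng_right] at h2
  rcases cases3 hxy hxz hyz c with ⟨hc, h3, h4, h7⟩ | ⟨hc, h3, h4, h7⟩ | ⟨hc, h3, h4, h7⟩ | ⟨hc, h3, h4, h7⟩ |
    ⟨hc, h3, h4, h7⟩ | ⟨hc, h3, h4, h7⟩ | ⟨hc, h3, h4, h7⟩ <;>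
  rcases cases3 hxy hxz hyz d with ⟨hd, h5, h6, h8⟩ | ⟨hd, h5, h6, h8⟩ | ⟨hd, h5, h6, h8⟩ | ⟨hd, h5, h6, h8⟩ |
    ⟨hd, h5, h6, h8⟩ | ⟨hd, h5, h6, h8⟩ | ⟨hd, h5, h6, h8⟩ <;>
  first
  | (exfalso; omega)
  | (rw [hc, hd]; done)
  | (rw [hc, hd, rt_comm]; done)

/-- **The only root at acute angles with two roots at 120 degrees is the sum.** -/
theorem two_rt [Finite W] {a : Fin n → ℤ} (ha : a ∈ RB n) {b : Fin n → ℤ} (hb : IsRoot cs (isCartan n) b)
    (hba : cpr cs (isCartan n) b a = -1) {v : Fin n → ℤ} (hv : IsRoot cs (isCartan n) v)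
    (h1 : 0 < cpr cs (isCartan n) v a) (h2 : 0 < cpr cs (isCartan n) v b) : v = a + b := by
  obtain ⟨x, y, hxy, rfl⟩ := mem_RB.1 ha
  obtain ⟨z, ⟨hzx, hzy⟩, rfl | rfl⟩ := exists_z cs hxy hb hba
  · rw [rt_add]
    exact two_aux cs hxy hzx.symm hzy.symm hv h1 h2
  · rw [rt_comm x y, rt_add]
    rw [rt_comm] at h1
    exact two_aux cs hxy.symm hzy.symm hzx.symm hv h1 h2

end

end Cfsg.Agent.OddHalf.DblR.MinusComb

end

-- merged: Cfsg.Agent.OddHalf.DblR.MinusCfg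
section

/-!
# ODD, D4: `B_n` with the labels `C_n`: the configurations for the centralisers (K1), (K2), combinatorics

helper328.
-/

set_option autoImplicit false
set_option linter.unusedSectionVars false

namespace Cfsg.Agent.OddHalf.DblR.MinusComb

open CoxeterSystem Cfsg.Agent.ChevalleyStructure.CoxeterGeom Cfsg.Agent.Tits.Roots Cfsg.Agent.Tits.Core
  Cfsg.Agent.Tits.RootComb Cfsg.Agent.Nodes.TypeC
  Cfsg.Agent.Nodes.Comb Cfsg.Agent.Nodes.Reps Cfsg.Agent.Nodes.BNOf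
  Cfsg.Agent.Nodes.StabComb Cfsg.Agent.Nodes.Coroot Cfsg.Agent.Nodes.KindBC Cfsg.Agent.Nodes.TypeCForm
  Cfsg.Agent.Nodes.PosPair Cfsg.Agent.KFacts.RgdSL Cfsg.Agent.KFacts.RgdTI Cfsg.Agent.KFacts.RgdPar

variable {n : ℕ}

theorem exists_out (hn : 3 ≤ n) (x y : Fin n × Bool) : ∃ z : Fin n × Bool, z.1 ≠ x.1 ∧ z.1 ≠ y.1 := by
  have h1 : ({x.1, y.1} : Finset (Fin n)).card < Fintype.card (Fin n) := by
    rw [Fintype.card_fin]
    exact lt_of_le_of_lt Finset.card_le_two hn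
  obtain ⟨k, hk⟩ : ∃ k, k ∉ ({x.1, y.1} : Finset (Fin n)) := by
    by_contra hcon
    push Not at hcon
    rw [← Finset.eq_univ_iff_forall] at hcon
    rw [hcon, Finset.card_univ] at h1
    exact lt_irrefl _ h1
  rw [Finset.mem_insert, Finset.mem_singleton, not_or] at hk
  exact ⟨(k, true), hk.1, hk.2⟩

/-- the coordinate of `rt c d` at `c` -/
theorem pos_self {c d : Fin n × Bool} (hcd : Ok c d) : 1 ≤ dl c c + dl d c := by
  have h1 := ok_iff.1 hcd
  rw [dl_self]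
  rcases dl_cases d c with ⟨h, h2⟩ | ⟨h, h2⟩ | ⟨h, h2⟩
  · omega
  · exact absurd h h1
  · omega

theorem pos_self' {c d : Fin n × Bool} (hcd : Ok c d) : 1 ≤ dl c d + dl d d := by
  have := pos_self hcd.symm
  omega

section

variable {W : Type*} [Group W] (cs : CoxeterSystem (CoxeterMatrix.B n) W) [Finite W]

theorem star_one (hn : 3 ≤ n) {x y : Fin n × Bool} (hxy : x.1 ≠ y.1) {b : Fin n → ℤ} (hb : IsRoot cs (isCartan n) b)
    (h : ∀ a ∈ RB n, 0 < cpr cs (isCartan n) a (rt x y) → 0 ≤ cpr cs (isCartan n) b a) :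
    b = rt x y ∨ b = rt x x ∨ b = rt y y := by
  obtain ⟨c, d, hcd, rfl⟩ := exists_rt hb
  have hok := ok_iff.1 hcd
  have hok' := ok_iff.1 hcd.symm
  -- `D_x ± D_z ≥ 0`
  have key : ∀ z : Fin n × Bool, z.1 ≠ x.1 → z.1 ≠ y.1 → 0 ≤ dl c x + dl d x + (dl c z + dl d z) ∧
      0 ≤ dl c y + dl d y + (dl c z + dl d z) := by
    intro z hzx hzy
    have h1 := h (rt x z) (rt_mem_RB (Ne.symm hzx)) (by
      rw [cpr_ne cs _ hxy, ev_rt, ev_rt, dl_self, dl_of_ne hzx, dl_of_ne hxy, dl_of_ne hzy]; norm_num)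
    have h2 := h (rt y z) (rt_mem_RB (Ne.symm hzy)) (by
      rw [cpr_ne cs _ hxy, ev_rt, ev_rt, dl_self, dl_of_ne hzx, dl_of_ne hxy.symm, dl_of_ne hzy]; norm_num)
    rw [cpr_ne cs _ (Ne.symm hzx), ev_rt, ev_rt] at h1
    rw [cpr_ne cs _ (Ne.symm hzy), ev_rt, ev_rt] at h2
    exact ⟨h1, h2⟩
  have key2 : ∀ z : Fin n × Bool, z.1 ≠ x.1 → z.1 ≠ y.1 → 0 ≤ dl c x + dl d x - (dl c z + dl d z) ∧
      0 ≤ dl c y + dl d y - (dl c z + dl d z) := by
    intro z hzx hzy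
    have h1 := key (ng z) hzx hzy
    rw [dl_ng_right, dl_ng_right] at h1
    omega
  obtain ⟨z0, hz1, hz2⟩ := exists_out hn x y
  have k1 := key z0 hz1 hz2
  have k2 := key2 z0 hz1 hz2
  rcases cases2 hxy c with ⟨hc, h3, h4⟩ | ⟨hc, h3, h4⟩ | ⟨hc, h3, h4⟩ | ⟨hc, h3, h4⟩ | ⟨hc, h3, h4⟩
  on_goal 5 =>
    exfalso
    have h5 := key2 c hc.1 hc.2
    have h6 := pos_self hcd
    rcases cases2 hxy d with ⟨hd, h7, h8⟩ | ⟨hd, h7, h8⟩ | ⟨hd, h7, h8⟩ | ⟨hd, h7, h8⟩ | ⟨hd, h7, h8⟩ <;> omega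
  all_goals
    rcases cases2 hxy d with ⟨hd, h5, h6⟩ | ⟨hd, h5, h6⟩ | ⟨hd, h5, h6⟩ | ⟨hd, h5, h6⟩ | ⟨hd, h5, h6⟩
  on_goal 20 =>
    exfalso
    have h7 := key2 d hd.1 hd.2
    have h8 := pos_self' hcd
    omega
  on_goal 15 =>
    exfalso
    have h7 := key2 d hd.1 hd.2
    have h8 := pos_self' hcd
    omega
  on_goal 10 =>
    exfalso
    have h7 := key2 d hd.1 hd.2
    have h8 := pos_self' hcd
    omega
  on_goal 5 =>
    exfalso
    have h7 := key2 d hd.1 hd.2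
    have h8 := pos_self' hcd
    omega
  all_goals
    first
    | (exfalso; omega)
    | (exfalso; apply hok; rw [hc, hd]; done)
    | (exfalso; apply hok'; rw [hc, hd]; done)
    | (left; rw [hc, hd]; done)
    | (left; rw [hc, hd, rt_comm]; done)
    | (right; left; rw [hc, hd]; done)
    | (right; right; rw [hc, hd]; done)

theorem star_two {x y z : Fin n × Bool} (hxy : x.1 ≠ y.1) (hxz : x.1 ≠ z.1) (hyz : y.1 ≠ z.1) {b : Fin n → ℤ}
    (hb : IsRoot cs (isCartan n) b)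
    (h : ∀ a ∈ RB n, 0 < cpr cs (isCartan n) a (rt x y) + cpr cs (isCartan n) a (rt x z) →
      0 ≤ cpr cs (isCartan n) b a) :
    b = rt x y ∨ b = rt x z ∨ b = rt x x := by
  obtain ⟨c, d, hcd, rfl⟩ := exists_rt hb
  have hok := ok_iff.1 hcd
  have hok' := ok_iff.1 hcd.symm
  have gen : ∀ {u v : Fin n × Bool}, u.1 ≠ v.1 → 0 < 2 * (dl u x + dl v x) + (dl u y + dl v y) + (dl u z + dl v z) →
      0 ≤ dl c u + dl d u + (dl c v + dl d v) := by
    intro u v huv h0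
    have h1 := h (rt u v) (rt_mem_RB huv) (by
      rw [cpr_ne cs _ hxy, cpr_ne cs _ hxz, ev_rt, ev_rt, ev_rt]; omega)
    rwa [cpr_ne cs _ huv, ev_rt, ev_rt] at h1
  have sxx := dl_self x
  have sxy := dl_of_ne hxy
  have sxz := dl_of_ne hxz
  have syx := dl_of_ne hxy.symm
  have syy := dl_self y
  have syz := dl_of_ne hyz
  have szx := dl_of_ne hxz.symm
  have szy := dl_of_ne hyz.symm
  have szz := dl_self z
  have a1 := gen hxy (by omega)
  have a2 := gen (u := x) (v := ng y) hxy (by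
    have e1 : dl (ng y) x = 0 := dl_of_ne (c := ng y) hxy.symm
    have e2 : dl (ng y) y = -1 := dl_ng y
    have e3 : dl (ng y) z = 0 := dl_of_ne (c := ng y) hyz
    omega)
  have a3 := gen hxz (by omega)
  have a4 := gen (u := x) (v := ng z) hxz (by
    have e1 : dl (ng z) x = 0 := dl_of_ne (c := ng z) hxz.symm
    have e2 : dl (ng z) y = 0 := dl_of_ne (c := ng z) hyz.symm
    have e3 : dl (ng z) z = -1 := dl_ng z
    omega)
  have a5 := gen hyz (by omega)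
  rw [dl_ng_right, dl_ng_right] at a2 a4
  -- `w` outside
  have out : ∀ w : Fin n × Bool, w.1 ≠ x.1 → w.1 ≠ y.1 → w.1 ≠ z.1 →
      0 ≤ dl c x + dl d x - (dl c w + dl d w) ∧ 0 ≤ dl c y + dl d y - (dl c w + dl d w) := by
    intro w h1 h2 h3
    have e1 : dl (ng w) x = 0 := dl_of_ne (c := ng w) h1
    have e2 : dl (ng w) y = 0 := dl_of_ne (c := ng w) h2
    have e3 : dl (ng w) z = 0 := dl_of_ne (c := ng w) h3
    have b1 := gen (u := x) (v := ng w) (Ne.symm h1) (by omega)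
    have b2 := gen (u := y) (v := ng w) (Ne.symm h2) (by omega)
    rw [dl_ng_right, dl_ng_right] at b1 b2
    omega
  rcases cases3 hxy hxz hyz c with ⟨hc, h3, h4, h7⟩ | ⟨hc, h3, h4, h7⟩ | ⟨hc, h3, h4, h7⟩ | ⟨hc, h3, h4, h7⟩ |
    ⟨hc, h3, h4, h7⟩ | ⟨hc, h3, h4, h7⟩ | ⟨hc, h3, h4, h7⟩
  on_goal 7 =>
    exfalso
    have b1 := out c hc.1 hc.2.1 hc.2.2
    have b2 := pos_self hcd
    rcases cases2 hxy d with ⟨hd, h7, h8⟩ | ⟨hd, h7, h8⟩ | ⟨hd, h7, h8⟩ | ⟨hd, h7, h8⟩ | ⟨hd, h7, h8⟩ <;> omega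
  all_goals
    rcases cases3 hxy hxz hyz d with ⟨hd, h5, h6, h8⟩ | ⟨hd, h5, h6, h8⟩ | ⟨hd, h5, h6, h8⟩ | ⟨hd, h5, h6, h8⟩ |
      ⟨hd, h5, h6, h8⟩ | ⟨hd, h5, h6, h8⟩ | ⟨hd, h5, h6, h8⟩
  all_goals
    first
    | (exfalso; omega)
    | (exfalso; apply hok; rw [hc, hd]; done)
    | (exfalso; apply hok'; rw [hc, hd]; done)
    | (left; rw [hc, hd]; done)
    | (left; rw [hc, hd, rt_comm]; done)
    | (right; left; rw [hc, hd]; done)
    | (right; left; rw [hc, hd, rt_comm]; done)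
    | (right; right; rw [hc, hd]; done)
    | (exfalso
       have b1 := out d hd.1 hd.2.1 hd.2.2
       have b2 := pos_self' hcd
       omega)

theorem not_btwn_xx {x y : Fin n × Bool} (hxy : x.1 ≠ y.1) {v : Fin n → ℤ} :
    ¬ Btwn cs (isCartan n) (rt x x) (rt x y) v := by
  rintro ⟨hvr, m, a, b, hm, ha, hb, he⟩
  obtain ⟨c, d, -, rfl⟩ := exists_rt hvr
  have key : ∀ w, m * (dl c w + dl d w) = a * (dl x w + dl x w) + b * (dl x w + dl y w) := by
    intro w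
    have := congrArg (fun v => ev v w) he
    simp only [ev_add, ev_smul, ev_rt] at this
    exact this
  have k1 := key x
  have k2 := key y
  rw [dl_self, dl_of_ne hxy.symm] at k1
  rw [dl_self, dl_of_ne hxy] at k2
  have h1 : 0 < dl c x + dl d x := by
    have : 0 < m * (dl c x + dl d x) := by rw [k1]; omega
    exact (mul_pos_iff_of_pos_left hm).1 this
  have h2 : 0 < dl c y + dl d y := by
    have : 0 < m * (dl c y + dl d y) := by rw [k2]; omega
    exact (mul_pos_iff_of_pos_left hm).1 this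
  rcases pos_two hxy h1 h2 with ⟨rfl, rfl⟩ | ⟨rfl, rfl⟩
  · rw [dl_self, dl_of_ne hxy.symm] at k1
    rw [dl_self, dl_of_ne hxy] at k2
    omega
  · rw [dl_self, dl_of_ne hxy.symm] at k1
    rw [dl_self, dl_of_ne hxy] at k2
    omega

theorem btwn_xx_yy {x y : Fin n × Bool} (hxy : x.1 ≠ y.1) {v : Fin n → ℤ}
    (hv : Btwn cs (isCartan n) (rt x x) (rt y y) v) : v = rt x y := by
  obtain ⟨hvr, m, a, b, hm, ha, hb, he⟩ := hv
  obtain ⟨c, d, -, rfl⟩ := exists_rt hvr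
  have key : ∀ w, m * (dl c w + dl d w) = a * (dl x w + dl x w) + b * (dl y w + dl y w) := by
    intro w
    have := congrArg (fun v => ev v w) he
    simp only [ev_add, ev_smul, ev_rt] at this
    exact this
  have k1 := key x
  have k2 := key y
  rw [dl_self, dl_of_ne hxy.symm] at k1
  rw [dl_self, dl_of_ne hxy] at k2
  have h1 : 0 < dl c x + dl d x := by
    have : 0 < m * (dl c x + dl d x) := by rw [k1]; omega
    exact (mul_pos_iff_of_pos_left hm).1 this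
  have h2 : 0 < dl c y + dl d y := by
    have : 0 < m * (dl c y + dl d y) := by rw [k2]; omega
    exact (mul_pos_iff_of_pos_left hm).1 this
  rcases pos_two hxy h1 h2 with ⟨rfl, rfl⟩ | ⟨rfl, rfl⟩
  · rfl
  · exact rt_comm _ _

theorem rt_ne_neg {x y c d : Fin n × Bool} {w : Fin n × Bool} (h : dl x w + dl y w ≠ -(dl c w + dl d w)) :
    rt x y ≠ -rt c d := by
  intro h0
  apply h
  have := congrArg (fun v => ev v w) h0
  simp only [ev_neg, ev_rt] at this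
  exact this

/-- roots orthogonal to `{f > 0}` -/
theorem zero_of {b : Fin n → ℤ} (hb : IsRoot cs (isCartan n) b) (h : ∀ w : Fin n × Bool, ev b w = 0) : False := by
  obtain ⟨c, d, hcd, rfl⟩ := exists_rt hb
  have h1 := h c
  rw [ev_rt] at h1
  have := pos_self hcd
  omega

theorem nonneg_of {x y z : Fin n × Bool} (hxy : x.1 ≠ y.1) (hxz : x.1 ≠ z.1) (hyz : y.1 ≠ z.1) {a : Fin n → ℤ}
    (ha : IsRoot cs (isCartan n) a) (h : 0 < cpr cs (isCartan n) a (rt x y) + cpr cs (isCartan n) a (rt x z)) :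
    0 ≤ cpr cs (isCartan n) a (rt x y) ∧ 0 ≤ cpr cs (isCartan n) a (rt x z) := by
  obtain ⟨c, d, hcd, rfl⟩ := exists_rt ha
  have hok := ok_iff.1 hcd
  have hok' := ok_iff.1 hcd.symm
  rw [cpr_ne cs _ hxy, cpr_ne cs _ hxz, ev_rt, ev_rt, ev_rt] at *
  rcases cases3 hxy hxz hyz c with ⟨hc, h3, h4, h7⟩ | ⟨hc, h3, h4, h7⟩ | ⟨hc, h3, h4, h7⟩ | ⟨hc, h3, h4, h7⟩ |
    ⟨hc, h3, h4, h7⟩ | ⟨hc, h3, h4, h7⟩ | ⟨hc, h3, h4, h7⟩ <;>
  rcases cases3 hxy hxz hyz d with ⟨hd, h5, h6, h8⟩ | ⟨hd, h5, h6, h8⟩ | ⟨hd, h5, h6, h8⟩ | ⟨hd, h5, h6, h8⟩ |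
      ⟨hd, h5, h6, h8⟩ | ⟨hd, h5, h6, h8⟩ | ⟨hd, h5, h6, h8⟩ <;> omega

end

end Cfsg.Agent.OddHalf.DblR.MinusComb

end

-- merged: Cfsg.Agent.OddHalf.DblR.SheetMinus
section

/-!
# ODD, D4: `SheetL` for `PΩ⁻_{2m+2}(q)`, `q ≥ 4` even

helper328.

* `cfg1`, `cfg2` : the configurations for (K1), (K2) over a model of orthogonal type in characteristic two;
* `sheetL_model` : `SheetL` for a model;
* `sheetL_minus` : `SheetL` for `PΩ⁻_{2m+2}(F)`.
-/

set_option autoImplicit false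
set_option linter.unusedSectionVars false

namespace Cfsg.Agent.OddHalf.DblR.SheetMinus

open CoxeterSystem Cfsg.Agent.ChevalleyStructure.CoxeterGeom Cfsg.Agent.Tits.Roots Cfsg.Agent.Nodes.TypeC
  Cfsg.Agent.Tits.RootComb
open Cfsg.Agent.Nodes.Comb Cfsg.Agent.Nodes.Reps Cfsg.Agent.Nodes.WittRoot Cfsg.Agent.Nodes.BNOf
  Cfsg.Agent.Nodes.StabComb Cfsg.Agent.Nodes.Coroot Cfsg.Agent.Nodes.KindBC Cfsg.Agent.Nodes.TypeCForm
  Cfsg.Agent.Nodes.Bruhat Cfsg.Agent.Nodes.PosPair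
open Cfsg.Agent Cfsg.Agent.TitsThree Cfsg.Agent.TitsThree.Siegel Cfsg.Agent.TitsThree.WittFrame
  Cfsg.Agent.TitsThree.WittWeyl Cfsg.Agent.TitsThree.FrameCN Cfsg.Agent.TitsThree.LineBorel
open Cfsg.Agent.KFacts.WittOrth Cfsg.Agent.KFacts.RgdTI Cfsg.Agent.KFacts.RgdPar
  Cfsg.Agent.KFacts.RgdOdd Cfsg.Agent.KFacts.RgdSL Cfsg.Agent.KFacts.RgdCent Cfsg.Agent.KFacts.RgdCentW
  Cfsg.Agent.OddHalf.DblR.MinusComb
open scoped commutatorElement

section Model

variable {F : Type*} [Field F] {V : Type*} [AddCommGroup V] [Module F V] {H : HForm F V} {n : ℕ}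
  {Fr : Frame H (Fin n)} {K : Type*} [Group K] (M : Model Fr K)

theorem mem_X_self {x : Fin n × Bool} {u : K} : u ∈ Nodes.WittModel.X M (rt x x) ↔ ∃ p, u = M.Z x p := by
  rw [Nodes.WittModel.mem_X]
  constructor
  · rintro ⟨g, hg, h, rfl⟩
    rw [KFacts.SpecWitt.rg_rt (Or.inr rfl : Ok x x), PG_self] at h
    obtain ⟨p, rfl⟩ := h
    exact ⟨p, rfl⟩
  · rintro ⟨p, rfl⟩
    refine ⟨Fr.Z x p, M.hZ x p, ?_, rfl⟩
    rw [KFacts.SpecWitt.rg_rt (Or.inr rfl : Ok x x), PG_self]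
    exact ⟨p, rfl⟩

theorem mem_X_ne {x y : Fin n × Bool} (hxy : x.1 ≠ y.1) {u : K} :
    u ∈ Nodes.WittModel.X M (rt x y) ↔ ∃ t, u = M.X x y t := by
  rw [Nodes.WittModel.mem_X]
  constructor
  · rintro ⟨g, hg, h, rfl⟩
    rw [KFacts.SpecWitt.rg_rt (Or.inl hxy : Ok x y), PG_ne Fr hxy] at h
    obtain ⟨p, rfl⟩ := h
    exact ⟨p, rfl⟩
  · rintro ⟨p, rfl⟩
    refine ⟨Fr.X x y p, M.hX x y p, ?_, rfl⟩
    rw [KFacts.SpecWitt.rg_rt (Or.inl hxy : Ok x y), PG_ne Fr hxy]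
    exact ⟨p, rfl⟩

variable (O : Orth Fr)

include O

theorem Z_comm (x : Fin n × Bool) (p q : Fr.Adm) : M.Z x p * M.Z x q = M.Z x q * M.Z x p := by
  show M.φ _ * M.φ _ = M.φ _ * M.φ _
  rw [← map_mul, ← map_mul]
  exact congrArg M.φ (Subtype.ext (O.z_comm x p q).eq)

theorem Z_br {x y : Fin n × Bool} (hxy : x.1 ≠ y.1) (p q : Fr.Adm) :
    ⁅M.Z x p, M.Z y q⁆ = M.X x y (H.h p.w q.w) := by
  show ⁅M.φ _, M.φ _⁆ = M.φ _
  rw [← map_commutatorElement]
  exact congrArg M.φ (Subtype.ext (O.zz hxy p q))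

theorem Z_nd {x y : Fin n × Bool} (hxy : x.1 ≠ y.1) (hI : ∀ g ∈ M.I, H.IsIso g) (hn : 0 < n) {p : Fr.Adm}
    (h : ∀ q : Fr.Adm, M.Z x p * M.Z y q = M.Z y q * M.Z x p) : p = 1 := by
  apply O.adm_nd
  intro q
  have h1 := Z_br M O hxy p q
  rw [commutatorElement_eq_one_iff_mul_comm.2 (h q)] at h1
  have h2 : (⟨Fr.X x y (H.h p.w q.w), M.hX _ _ _⟩ : M.I) = 1 := by
    apply KFacts.SpecMinus.φ_inj M O hI hn
    rw [map_one]
    exact h1.symm
  exact O.x_inj hxy (congrArg Subtype.val h2)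

variable {W : Type*} [Group W] (cs : CoxeterSystem (CoxeterMatrix.B n) W) [Finite W]

/-- root groups are abelian -/
theorem X_abel {x y : Fin n × Bool} (hxy : Ok x y) {u v : K} (hu : u ∈ Nodes.WittModel.X M (rt x y))
    (hv : v ∈ Nodes.WittModel.X M (rt x y)) : u * v = v * u := by
  rcases hxy with hxy | rfl
  · obtain ⟨s, rfl⟩ := (mem_X_ne M hxy).1 hu
    obtain ⟨t, rfl⟩ := (mem_X_ne M hxy).1 hv
    show M.φ _ * M.φ _ = M.φ _ * M.φ _
    rw [← map_mul, ← map_mul]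
    refine congrArg M.φ (Subtype.ext ?_)
    show Fr.X x y s * Fr.X x y t = Fr.X x y t * Fr.X x y s
    rw [← Fr.X_add, ← Fr.X_add, add_comm]
  · obtain ⟨s, rfl⟩ := (mem_X_self M).1 hu
    obtain ⟨t, rfl⟩ := (mem_X_self M).1 hv
    exact Z_comm M O x s t

variable {T : Subgroup K} {nn : Fin n → K} (R : RGD cs (isCartan n) 2 T nn (Nodes.WittModel.X M))
  (hA : Nodes.WittAll.AmbT Fr 2 M.I)

variable {cs} [Finite F] [Finite V]

theorem LG_of_RB {r : Fin n → ℤ} (hr : r ∈ RB n) : LG R r := by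
  refine ⟨?_, fun b hb _ h2 v hv h3 h4 => two_rt cs hr hb h2 hv h3 h4⟩
  obtain ⟨x, y, hxy, rfl⟩ := mem_RB.1 hr
  exact KFacts.SpecMinus.lr_model M O cs hxy R

theorem lr_of_RB {r : Fin n → ℤ} (hr : r ∈ RB n) : LR R r := (LG_of_RB M O R hr).lr

include hA

theorem RB_of_LR (hn : 3 ≤ n) {r : Fin n → ℤ} (L : LR R r) : r ∈ RB n := by
  rcases (isRoot_iff_mem cs).1 L.root with h | h
  · exact h
  · exfalso
    obtain ⟨x, rfl⟩ := mem_RC.1 h
    obtain ⟨y, hy, -⟩ := MinusComb.exists_out hn x x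
    obtain ⟨p0, hp0⟩ := O.p0
    have h1 : p0 = 1 := by
      refine Z_nd M O (x := x) (y := y) (Ne.symm hy) hA.iso (by omega) fun q => ?_
      have h2 : 0 ≤ cpr cs (isCartan n) (rt y y) (rt x x) := by
        rw [cpr_same, ev_rt, dl_of_ne hy]; norm_num
      exact (L.comm (rt y y) (isRoot_rt cs (Or.inr rfl)) h2 _ ((mem_X_self M).2 ⟨q, rfl⟩) _
        ((mem_X_self M).2 ⟨p0, rfl⟩)).symm
    rw [h1] at hp0
    exact hp0 Frame.Adm.one_c

/-- the partner data -/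
theorem part_aux (hn : 3 ≤ n) {x y : Fin n × Bool} (hxy : x.1 ≠ y.1) :
    (∀ u ∈ Nodes.WittModel.X M (rt x x), ∀ v ∈ Nodes.WittModel.X M (rt y y), ⁅u, v⁆ ∈ Nodes.WittModel.X M (rt x y)) ∧
    ∀ u ∈ Nodes.WittModel.X M (rt x x), (∀ v ∈ Nodes.WittModel.X M (rt y y), u * v = v * u) → u = 1 := by
  constructor
  · intro u hu v hv
    obtain ⟨p, rfl⟩ := (mem_X_self M).1 hu
    obtain ⟨q, rfl⟩ := (mem_X_self M).1 hv
    rw [Z_br M O hxy]
    exact (mem_X_ne M hxy).2 ⟨_, rfl⟩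
  · intro u hu h
    obtain ⟨p, rfl⟩ := (mem_X_self M).1 hu
    have h1 : p = 1 := Z_nd M O hxy hA.iso (by omega) fun q => h _ ((mem_X_self M).2 ⟨q, rfl⟩)
    rw [h1]
    show M.φ _ = 1
    have h2 : (⟨Fr.Z x 1, M.hZ _ _⟩ : M.I) = 1 := Subtype.ext (Fr.Z_one x)
    rw [h2, map_one]

/-- **the configuration for (K1)** -/
theorem cfg1 (hn : 3 ≤ n) {x y : Fin n × Bool} (hxy : x.1 ≠ y.1) (hr : IsRoot cs (isCartan n) (rt x y)) :
    Cfg R (ell cs (isCartan n) hr) {a | a ∈ RB n ∧ 0 < cpr cs (isCartan n) a (rt x y)} {rt x y}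
      {rt x x, rt y y} where
  lr a ha := lr_of_RB M O R ha.1
  pos a ha := ha.2
  star := by
    rintro b ⟨hb, hb2⟩
    rcases star_one cs hn hxy hb fun a ha h0 => hb2 a ⟨ha, h0⟩ with h | h | h
    · exact Or.inl h
    · exact Or.inr (Or.inl h)
    · exact Or.inr (Or.inr h)
  zroot z hz := by rw [Set.mem_singleton_iff] at hz; rw [hz]; exact hr
  broot b hb := by
    rcases hb with rfl | hb
    · exact isRoot_rt cs (Or.inr rfl)
    · rw [Set.mem_singleton_iff] at hb; rw [hb]; exact isRoot_rt cs (Or.inr rfl)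
  disj b hb h1 := by
    rw [Set.mem_singleton_iff] at h1
    rw [h1] at hb
    rcases hb with h2 | h2
    · have := congrArg (fun v => ev v y) h2
      simp only [ev_rt] at this
      rw [dl_self, dl_of_ne hxy] at this
      omega
    · rw [Set.mem_singleton_iff] at h2
      have := congrArg (fun v => ev v x) h2
      simp only [ev_rt] at this
      rw [dl_self, dl_of_ne hxy.symm] at this
      omega
  zcomm z hz a ha hfa u hu v hv := by
    rw [Set.mem_singleton_iff] at hz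
    rw [hz] at hu
    exact ((lr_of_RB M O R (rt_mem_RB hxy)).comm a ha (le_of_lt hfa) v hv u hu).symm
  closed b hb y' hy' hne := by
    have nxx : ∀ {c d : Fin n × Bool}, c.1 ≠ d.1 → rt c c ≠ -rt c d ∧ rt c c ≠ -rt d d := by
      intro c d hcd
      constructor
      · refine rt_ne_neg (w := c) ?_
        rw [dl_self, dl_of_ne hcd.symm]; norm_num
      · refine rt_ne_neg (w := c) ?_
        rw [dl_self, dl_of_ne hcd.symm]; norm_num
    rcases hb with rfl | hb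
    · rcases hy' with h1 | h1 | h1
      · rw [Set.mem_singleton_iff] at h1
        rw [h1]
        exact ⟨(nxx hxy).1, fun v hv => absurd hv (not_btwn_xx cs hxy)⟩
      · exact absurd h1 hne
      · rw [Set.mem_singleton_iff] at h1
        rw [h1]
        exact ⟨(nxx hxy).2, fun v hv => btwn_xx_yy cs hxy hv⟩
    · rw [Set.mem_singleton_iff] at hb
      subst hb
      rcases hy' with h1 | h1 | h1
      · rw [Set.mem_singleton_iff] at h1
        rw [h1, rt_comm x y]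
        exact ⟨(nxx hxy.symm).1, fun v hv => absurd hv (not_btwn_xx cs hxy.symm)⟩
      · rw [h1]
        refine ⟨(nxx hxy.symm).2, fun v hv => ?_⟩
        rw [Set.mem_singleton_iff, rt_comm x y]
        exact btwn_xx_yy cs hxy.symm hv
      · exact absurd h1 hne
  part b hb := by
    have key : ∀ {c d : Fin n × Bool}, c.1 ≠ d.1 → (∀ e ∈ ({rt c c, rt d d} : Set (Fin n → ℤ)), e ≠ rt c c → e = rt d d) := by
      rintro c d - e (h | h) h'
      · exact absurd h h'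
      · exact h
    rcases hb with rfl | hb
    · refine ⟨rt y y, isRoot_rt cs (Or.inr rfl), ?_, ?_, ⟨rt x y, rfl, ?_, (part_aux M O hA hn hxy).1⟩,
        (part_aux M O hA hn hxy).2⟩
      · rw [ell_apply, cpr_ne cs _ hxy, ev_rt, ev_rt, dl_self, dl_of_ne hxy.symm]; norm_num
      · intro c hc hcb u hu v hv
        rw [key hxy c hc hcb] at hu
        exact X_abel M O (Or.inr rfl) hu hv
      · intro h1
        have := congrArg (fun v => ev v x) h1
        simp only [ev_rt] at this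
        rw [dl_self, dl_of_ne hxy.symm] at this
        omega
    · rw [Set.mem_singleton_iff] at hb
      subst hb
      refine ⟨rt x x, isRoot_rt cs (Or.inr rfl), ?_, ?_, ⟨rt x y, rfl, ?_, ?_⟩,
        (part_aux M O hA hn hxy.symm).2⟩
      · rw [ell_apply, cpr_ne cs _ hxy, ev_rt, ev_rt, dl_self, dl_of_ne hxy]; norm_num
      · intro c hc hcb u hu v hv
        have h1 : c = rt x x := by
          rcases hc with h | h
          · exact h
          · exact absurd h hcb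
        rw [h1] at hu
        exact X_abel M O (Or.inr rfl) hu hv
      · intro h1
        have := congrArg (fun v => ev v y) h1
        simp only [ev_rt] at this
        rw [dl_self, dl_of_ne hxy] at this
        omega
      · rw [rt_comm x y]
        exact (part_aux M O hA hn hxy.symm).1
  zero b hb h0 := by
    by_contra hcon
    push Not at hcon
    have key : ∀ c d : Fin n × Bool, c.1 ≠ d.1 → 0 < dl c x + dl d x + (dl c y + dl d y) → ev b c + ev b d = 0 := by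
      intro c d hcd h1
      have h2 := hcon (rt c d) (isRoot_rt cs (Or.inl hcd)) (by
        rw [ell_apply, cpr_ne cs _ hxy, ev_rt, ev_rt]; omega)
      rwa [cpr_ne cs _ hcd] at h2
    obtain ⟨z, hzx, hzy⟩ := MinusComb.exists_out hn x y
    have e1 := dl_self x
    have e2 := dl_self y
    have e3 := dl_of_ne hxy
    have e4 := dl_of_ne hxy.symm
    have hx : ∀ w : Fin n × Bool, w.1 ≠ x.1 → w.1 ≠ y.1 → ev b x + ev b w = 0 ∧ ev b y + ev b w = 0 := by
      intro w h1 h2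
      have f1 := dl_of_ne h1
      have f2 := dl_of_ne h2
      exact ⟨key x w (Ne.symm h1) (by omega), key y w (Ne.symm h2) (by omega)⟩
    have hng : ∀ w : Fin n × Bool, ev b (ng w) = -ev b w := by
      intro w
      unfold ev
      rw [MinusComb.sn_ng]
      show ee b w.1 * -sn w = -(ee b w.1 * sn w)
      ring
    have g1 := hx z hzx hzy
    have g2 := hx (ng z) hzx hzy
    rw [hng] at g2
    refine zero_of cs hb fun w => ?_
    by_cases h1 : w.1 = x.1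
    · rcases cases_eq h1 with rfl | rfl
      · omega
      · rw [hng]; omega
    · by_cases h2 : w.1 = y.1
      · rcases cases_eq h2 with rfl | rfl
        · omega
        · rw [hng]; omega
      · have := hx w h1 h2
        omega

/-- **the configuration for (K2)** -/
theorem cfg2 (hn : 3 ≤ n) {x y z : Fin n × Bool} (hxy : x.1 ≠ y.1) (hxz : x.1 ≠ z.1) (hyz : y.1 ≠ z.1)
    (hr : IsRoot cs (isCartan n) (rt x y)) (hs : IsRoot cs (isCartan n) (rt x z)) :
    Cfg R (ell cs (isCartan n) hr + ell cs (isCartan n) hs)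
      {a | a ∈ RB n ∧ 0 < cpr cs (isCartan n) a (rt x y) + cpr cs (isCartan n) a (rt x z)} {rt x y, rt x z}
      {rt x x} where
  lr a ha := lr_of_RB M O R ha.1
  pos a ha := ha.2
  star := by
    rintro b ⟨hb, hb2⟩
    rcases star_two cs hxy hxz hyz hb fun a ha h0 => hb2 a ⟨ha, h0⟩ with h | h | h
    · exact Or.inl (Or.inl h)
    · exact Or.inl (Or.inr h)
    · exact Or.inr h
  zroot v hv := by
    rcases hv with rfl | hv
    · exact hr
    · rw [Set.mem_singleton_iff] at hv; rw [hv]; exact hs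
  broot b hb := by rw [Set.mem_singleton_iff] at hb; rw [hb]; exact isRoot_rt cs (Or.inr rfl)
  disj b hb h1 := by
    rw [Set.mem_singleton_iff] at hb
    rw [hb] at h1
    rcases h1 with h2 | h2
    · have := congrArg (fun v => ev v x) h2
      simp only [ev_rt] at this
      rw [dl_self, dl_of_ne hxy.symm] at this
      omega
    · rw [Set.mem_singleton_iff] at h2
      have := congrArg (fun v => ev v x) h2
      simp only [ev_rt] at this
      rw [dl_self, dl_of_ne hxz.symm] at this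
      omega
  zcomm v hv a ha hfa u hu w hw := by
    have h1 := nonneg_of cs hxy hxz hyz ha hfa
    rcases hv with rfl | hv
    · exact ((lr_of_RB M O R (rt_mem_RB hxy)).comm a ha h1.1 w hw u hu).symm
    · rw [Set.mem_singleton_iff] at hv
      rw [hv] at hu
      exact ((lr_of_RB M O R (rt_mem_RB hxz)).comm a ha h1.2 w hw u hu).symm
  closed b hb y' hy' hne := by
    rw [Set.mem_singleton_iff] at hb
    subst hb
    have nxx : ∀ {d : Fin n × Bool}, x.1 ≠ d.1 → rt x x ≠ -rt x d := by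
      intro d hcd
      refine rt_ne_neg (w := x) ?_
      rw [dl_self, dl_of_ne hcd.symm]; norm_num
    rcases hy' with (h1 | h1) | h1
    · rw [h1]
      exact ⟨nxx hxy, fun v hv => absurd hv (not_btwn_xx cs hxy)⟩
    · rw [Set.mem_singleton_iff] at h1
      rw [h1]
      exact ⟨nxx hxz, fun v hv => absurd hv (not_btwn_xx cs hxz)⟩
    · exact absurd h1 hne
  part b hb := by
    rw [Set.mem_singleton_iff] at hb
    subst hb
    refine ⟨rt y y, isRoot_rt cs (Or.inr rfl), ?_, ?_, ⟨rt x y, Or.inl rfl, ?_, (part_aux M O hA hn hxy).1⟩,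
      (part_aux M O hA hn hxy).2⟩
    · show 0 < cpr cs (isCartan n) _ _ + cpr cs (isCartan n) _ _
      rw [cpr_ne cs _ hxy, cpr_ne cs _ hxz, ev_rt, ev_rt, ev_rt, dl_self, dl_of_ne hxy.symm, dl_of_ne hyz]
      norm_num
    · intro c hc hcb
      exact absurd hc hcb
    · intro h1
      have := congrArg (fun v => ev v x) h1
      simp only [ev_rt] at this
      rw [dl_self, dl_of_ne hxy.symm] at this
      omega
  zero b hb h0 := by
    by_contra hcon
    push Not at hcon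
    have key : ∀ c d : Fin n × Bool, c.1 ≠ d.1 →
        0 < dl c x + dl d x + (dl c y + dl d y) + (dl c x + dl d x + (dl c z + dl d z)) → ev b c + ev b d = 0 := by
      intro c d hcd h1
      have h2 := hcon (rt c d) (isRoot_rt cs (Or.inl hcd)) (by
        show 0 < cpr cs (isCartan n) _ _ + cpr cs (isCartan n) _ _
        rw [cpr_ne cs _ hxy, cpr_ne cs _ hxz, ev_rt, ev_rt, ev_rt]; omega)
      rwa [cpr_ne cs _ hcd] at h2
    have e1 := dl_self x
    have e2 := dl_self y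
    have e3 := dl_of_ne hxy
    have e4 := dl_of_ne hxy.symm
    have e5 := dl_of_ne hxz
    have e6 := dl_of_ne hxz.symm
    have e7 := dl_of_ne hyz
    have e8 := dl_of_ne hyz.symm
    have e9 := dl_self z
    have hng : ∀ w : Fin n × Bool, ev b (ng w) = -ev b w := by
      intro w
      unfold ev
      rw [MinusComb.sn_ng]
      show ee b w.1 * -sn w = -(ee b w.1 * sn w)
      ring
    have g1 := key x y hxy (by omega)
    have g2 := key x (ng y) hxy (by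
      have f1 : dl (ng y) x = 0 := dl_of_ne (c := ng y) hxy.symm
      have f2 : dl (ng y) y = -1 := dl_ng y
      have f3 : dl (ng y) z = 0 := dl_of_ne (c := ng y) hyz
      omega)
    rw [hng] at g2
    have g3 := key x z hxz (by omega)
    refine zero_of cs hb fun w => ?_
    by_cases h1 : w.1 = x.1
    · rcases cases_eq h1 with rfl | rfl
      · omega
      · rw [hng]; omega
    · by_cases h2 : w.1 = y.1
      · rcases cases_eq h2 with rfl | rfl
        · omega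
        · rw [hng]; omega
      · by_cases h3 : w.1 = z.1
        · rcases cases_eq h3 with rfl | rfl
          · omega
          · rw [hng]; omega
        · have f1 := dl_of_ne h1
          have f2 := dl_of_ne h2
          have f3 := dl_of_ne h3
          have := key x w (Ne.symm h1) (by omega)
          omega

/-! ### `SheetL` -/

include O R in
/-- the `A₂`-data -/
theorem tri_model (hn : 3 ≤ n) {r : Fin n → ℤ} (hr : r ∈ RB n) : ∃ s g g', A2 cs (isCartan n) r s ∧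
    TorTr cs (isCartan n) T (Nodes.WittModel.X M) g r s ∧ TorTr cs (isCartan n) T (Nodes.WittModel.X M) g' s r := by
  obtain ⟨x, y, hxy, rfl⟩ := mem_RB.1 hr
  obtain ⟨z, hzx, hzy⟩ := MinusComb.exists_out hn x y
  have h1 := a2_rt cs (x := ng z) (y := ng y) (z := x) hzy hzx hxy.symm
  rw [ng_ng, rt_comm (ng z) (ng y), rt_comm y x] at h1
  have h2 := a2_rt cs (x := ng x) (y := y) (z := z) hxy (Ne.symm hzx) (Ne.symm hzy)
  rw [rt_comm (ng x) y] at h2
  refine ⟨rt (ng y) z, rt (ng y) (ng z), rt y (ng x), a2_rt cs hxy (Ne.symm hzx) (Ne.symm hzy),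
    torTr_of_A2 R ?_ h1, torTr_of_A2 R ?_ h2⟩
  · have e1 : dl (ng z) (ng y) = 0 := dl_of_ne (c := ng z) (x := ng y) hzy
    have e2 : dl (ng y) z = 0 := dl_of_ne (c := ng y) (Ne.symm hzy)
    rw [cpr_ne cs _ (x := ng y) (y := z) (Ne.symm hzy), ev_rt, ev_rt, dl_self, dl_ng, e1, e2]
    norm_num
  · have e1 : dl (ng x) y = 0 := dl_of_ne (c := ng x) hxy
    rw [cpr_ne cs _ hxy, ev_rt, ev_rt, dl_self, dl_ng, e1, dl_of_ne hxy.symm]
    norm_num

include O hA in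
theorem k1_model (hn : 3 ≤ n) (hN : NoCent cs (isCartan n) T (Nodes.WittModel.X M))
    (hG1 : RGD.Sup (Nodes.WittModel.X M) {x | IsRoot cs (isCartan n) x} = ⊤) {r : Fin n → ℤ} (L : LG R r)
    {α : MulAut K} (hα : ∀ a ∈ Rad cs (isCartan n) r, ∀ x ∈ Nodes.WittModel.X M a, α x = x) :
    ∃ z ∈ Nodes.WittModel.X M r, α = MulAut.conj z := by
  obtain ⟨x, y, hxy, rfl⟩ := mem_RB.1 (RB_of_LR M O R hA hn L.lr)
  obtain ⟨z, hzx, hzy⟩ := MinusComb.exists_out hn x y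
  have hr : IsRoot cs (isCartan n) (rt x y) := isRoot_rt cs (Or.inl hxy)
  obtain ⟨v, hv, e⟩ := aut R (cfg1 M O R hA hn hxy hr) hN hG1
    (fun i a ha b hb => by
      rw [sr_eq_rt] at ha hb
      exact X_abel M O (ok_nx i) ha hb)
    (fun c hc => by
      rw [Set.mem_singleton_iff] at hc
      rw [hc]
      refine ⟨rt x z, rt (ng z) y, isRoot_rt cs (Or.inl (Ne.symm hzx)), isRoot_rt cs (Or.inl hzy), ?_, ?_, rt_add.symm⟩
      · rw [ell_apply, cpr_ne cs _ hxy, ev_rt, ev_rt, dl_self, dl_of_ne hzx, dl_of_ne hxy, dl_of_ne hzy]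
        norm_num
      · have e1 : dl (ng z) x = 0 := dl_of_ne (c := ng z) hzx
        have e2 : dl (ng z) y = 0 := dl_of_ne (c := ng z) hzy
        rw [ell_apply, cpr_ne cs _ hxy, ev_rt, ev_rt, dl_self, e1, e2, dl_of_ne hxy.symm]
        norm_num)
    (fun a ha h0 v hv => hα a ⟨ha, h0⟩ v hv)
  refine ⟨v, ?_, e⟩
  exact RGD.Sup_le (fun c hc => by rw [Set.mem_singleton_iff] at hc; rw [hc]) hv

include O hA in
theorem k2_model (hn : 3 ≤ n) (hN : NoCent cs (isCartan n) T (Nodes.WittModel.X M))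
    (hG1 : RGD.Sup (Nodes.WittModel.X M) {x | IsRoot cs (isCartan n) x} = ⊤) {r s : Fin n → ℤ} (Lr : LG R r)
    (Ls : LG R s) (hrs : cpr cs (isCartan n) r s = 1)
    {α : MulAut K} (hα : ∀ a ∈ Psi cs (isCartan n) r s, ∀ x ∈ Nodes.WittModel.X M a, α x = x) :
    ∃ z ∈ Nodes.WittModel.X M r ⊔ Nodes.WittModel.X M s, α = MulAut.conj z := by
  obtain ⟨x, y, z, ⟨hxy, hxz, hyz⟩, rfl, rfl⟩ := exists_z_pos cs (RB_of_LR M O R hA hn Ls.lr) Lr.lr.root hrs
  -- `s = rt x y`, `r = rt x z`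
  have hs : IsRoot cs (isCartan n) (rt x y) := isRoot_rt cs (Or.inl hxy)
  have hr : IsRoot cs (isCartan n) (rt x z) := isRoot_rt cs (Or.inl hxz)
  have key : ∀ a, (ell cs (isCartan n) hs + ell cs (isCartan n) hr) a =
      cpr cs (isCartan n) a (rt x y) + cpr cs (isCartan n) a (rt x z) := fun a => rfl
  obtain ⟨v, hv, e⟩ := aut R (cfg2 M O R hA hn hxy hxz hyz hs hr) hN hG1
    (fun i a ha b hb => by
      rw [sr_eq_rt] at ha hb
      exact X_abel M O (ok_nx i) ha hb)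
    (fun c hc => by
      rcases hc with rfl | hc
      · refine ⟨rt x (ng z), rt z y, isRoot_rt cs (Or.inl hxz), isRoot_rt cs (Or.inl (Ne.symm hyz)), ?_, ?_, ?_⟩
        · rw [key, cpr_ne cs _ hxy, cpr_ne cs _ hxz, ev_rt, ev_rt, ev_rt]
          have e1 : dl (ng z) x = 0 := dl_of_ne (c := ng z) (Ne.symm hxz)
          have e2 : dl (ng z) y = 0 := dl_of_ne (c := ng z) (Ne.symm hyz)
          rw [dl_self, e1, dl_of_ne hxy, e2, dl_of_ne hxz, dl_ng]
          norm_num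
        · rw [key, cpr_ne cs _ hxy, cpr_ne cs _ hxz, ev_rt, ev_rt, ev_rt]
          rw [dl_self, dl_self, dl_of_ne (Ne.symm hxz), dl_of_ne (Ne.symm hxy), dl_of_ne (Ne.symm hyz), dl_of_ne hyz]
          norm_num
        · have h1 := rt_add (x := x) (y := ng z) (z := y)
          rw [ng_ng] at h1
          exact h1.symm
      · rw [Set.mem_singleton_iff] at hc
        rw [hc]
        refine ⟨rt x (ng y), rt y z, isRoot_rt cs (Or.inl hxy), isRoot_rt cs (Or.inl hyz), ?_, ?_, ?_⟩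
        · rw [key, cpr_ne cs _ hxy, cpr_ne cs _ hxz, ev_rt, ev_rt, ev_rt]
          have e1 : dl (ng y) x = 0 := dl_of_ne (c := ng y) (Ne.symm hxy)
          have e2 : dl (ng y) z = 0 := dl_of_ne (c := ng y) hyz
          rw [dl_self, e1, dl_of_ne hxy, dl_ng, dl_of_ne hxz, e2]
          norm_num
        · rw [key, cpr_ne cs _ hxy, cpr_ne cs _ hxz, ev_rt, ev_rt, ev_rt]
          rw [dl_self, dl_self, dl_of_ne (Ne.symm hxz), dl_of_ne (Ne.symm hxy), dl_of_ne (Ne.symm hyz), dl_of_ne hyz]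
          norm_num
        · have h1 := rt_add (x := x) (y := ng y) (z := z)
          rw [ng_ng] at h1
          exact h1.symm)
    (fun a ha h0 v hv => by
      rw [key] at h0
      have h1 := nonneg_of cs hxy hxz hyz ha h0
      exact hα a ⟨ha, h1.2, h1.1⟩ v hv)
  refine ⟨v, ?_, e⟩
  refine RGD.Sup_le (fun c hc => ?_) hv
  rcases hc with rfl | hc
  · exact le_sup_right
  · rw [Set.mem_singleton_iff] at hc
    rw [hc]
    exact le_sup_left

/-- **`SheetL` for a model of orthogonal type in characteristic two.** -/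
theorem sheetL_model (hP : MinusTor.IsPlane Fr) (hs : ∃ s : F, s ≠ 0 ∧ s ≠ 1) (hn : 3 ≤ n) (hsimp : IsSimpleGroup K)
    (hnc : ∃ a b : K, a * b ≠ b * a)
    (out : ∀ H : Subgroup (MulAut K), H ≤ ⁅H, H⁆ → ∀ α ∈ H, ∃ y, α = MulAut.conj y)
    {nn : Fin n → K} (R : RGD cs (isCartan n) 2 (Nodes.WittModel.T M) nn (Nodes.WittModel.X M))
    {r : Fin n → ℤ} (hr : r ∈ RB n) : SheetL R r := by
  have top : RGD.Sup (Nodes.WittModel.X M) {x | IsRoot cs (isCartan n) x} = ⊤ :=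
    Nodes.WittModel.G1_eq_top M (by omega) cs
  have hZ : Subgroup.center K = ⊥ := by
    rcases hsimp.eq_bot_or_eq_top_of_normal (Subgroup.center K) inferInstance with h3 | h3
    · exact h3
    · exfalso
      obtain ⟨a, b, hab⟩ := hnc
      have : a ∈ Subgroup.center K := by rw [h3]; trivial
      exact hab (Subgroup.mem_center_iff.1 this b).symm
  have hN : NoCent cs (isCartan n) (Nodes.WittModel.T M) (Nodes.WittModel.X M) := noCent_of_center R top hZ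
  exact
    { top := top
      tab := MinusTor.tab_model O hP M hA
      long := LG_of_RB M O R hr
      tri := tri_model M O R hA hn hr
      k1 := fun r L α hα => k1_model M O R hA hn hN top L hα
      k2 := fun r s Lr Ls h α hα => k2_model M O R hA hn hN top Lr Ls h hα
      perf := (KFacts.SpecMinus.hasFull_model M O hs hA cs hn hr).perfect
      out := out }

end Model

/-! ### the minus form -/

section Minus

open QuadraticMap
open Cfsg.Agent.LieClassical Cfsg.Agent.LieClassical.OrthCore Cfsg.Agent.LieClassical.OrthTrans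
open Cfsg.Agent.LieClassical.OrthSimple Cfsg.Agent.LieClassical.OrthFinite
open Cfsg.Agent.LieClassical.OrthForms
open Cfsg.Agent.TitsThree.KSideO Cfsg.Agent.TitsThree.StdData Cfsg.Agent.TitsThree.WBridge

variable {F : Type*} [Field F] [Finite F]

theorem simple_minus {m : ℕ} (hm : 3 ≤ m) (a b : F)
    (hab : ∀ z₁ z₂ : F, z₁ ^ 2 + a * z₁ * z₂ + b * z₂ ^ 2 = 0 → z₁ = 0 ∧ z₂ = 0) :
    IsSimpleGroup (Cfsg.POmega F ⇑(minusForm m F a b)) := by
  have := Fintype.ofFinite F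
  have h1 := S0297.result (m + 1) (by omega) a b hab
  rw [Nat.add_sub_cancel] at h1
  rwa [coe_minusForm]

theorem sch_minus' {m : ℕ} (hm : 3 ≤ m) (a b : F)
    (hab : ∀ z₁ z₂ : F, z₁ ^ 2 + a * z₁ * z₂ + b * z₂ ^ 2 = 0 → z₁ = 0 ∧ z₂ = 0) :
    Schreier.Basic.Sch (Cfsg.POmega F ⇑(minusForm m F a b)) := by
  have h1 := Schreier.ClassPOmega.sch_minus (m := m + 1) (by omega) a b hab
  rw [Nat.add_sub_cancel] at h1
  rwa [coe_minusForm]

/-- **`SheetL` for `PΩ⁻_{2m+2}(F)`, `m ≥ 3`, `|F| ≥ 4` even.** -/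
theorem sheetL_minus (h2 : (2 : F) = 0) (hs : ∃ s : F, s ≠ 0 ∧ s ≠ 1) {m : ℕ} (hm : 3 ≤ m) (a b : F)
    (hab : ∀ z₁ z₂ : F, z₁ ^ 2 + a * z₁ * z₂ + b * z₂ ^ 2 = 0 → z₁ = 0 ∧ z₂ = 0)
    {W : Type*} [Group W] [Finite W] (cs : CoxeterSystem (CoxeterMatrix.B m) W)
    {nn : Fin m → Cfsg.POmega F ⇑(minusForm m F a b)}
    (R : RGD cs (isCartan m) 2
      (Nodes.WittModel.T (KFacts.SpecMinus.modelMinus (m := m) (by omega) a b hab)) nn
      (Nodes.WittModel.X (KFacts.SpecMinus.modelMinus (m := m) (by omega) a b hab)))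
    {r : Fin m → ℤ} (hr : r ∈ RB m) : SheetL R r := by
  have hm2 : 2 ≤ m := by omega
  have O := KFacts.SpecMinus.orth_minus h2 m a b hab
  have hA := KFacts.SpecMinus.ambT_minus h2 hm2 a b hab
  have hsimp := simple_minus hm a b hab
  refine sheetL_model (KFacts.SpecMinus.modelMinus hm2 a b hab) O hA (MinusTor.isPlane_minus h2 m a b hab) hs hm hsimp
    ?_ ?_ R hr
  · -- noncommutative
    by_contra hcon
    push Not at hcon
    have hn : 0 < m := by omega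
    let x : Fin m × Bool := (⟨0, hn⟩, true)
    let y : Fin m × Bool := (⟨1, by omega⟩, true)
    have hxy : x.1 ≠ y.1 := by
      intro h
      have := congrArg Fin.val h
      simp [x, y] at this
    obtain ⟨p0, hp0⟩ := O.p0
    have h1 := Z_nd (KFacts.SpecMinus.modelMinus hm2 a b hab) O (x := x) (y := y) hxy hA.iso hn (p := p0)
      fun q => hcon _ _
    rw [h1] at hp0
    exact hp0 Frame.Adm.one_c
  · intro H hH α hα
    obtain ⟨y, hy⟩ := sch_minus' hm a b hab H (le_antisymm (Subgroup.commutator_le_self _) hH) hα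
    exact ⟨y, hy.symm⟩

end Minus

end Cfsg.Agent.OddHalf.DblR.SheetMinus

end
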