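import Cfsg.Agent.OddHalf.DblR.Exist
import Cfsg.Agent.OddHalf.DblR.Fam

-- merged: Cfsg.Agent.OddHalf.DblR.ExistS
section

/-!
# ODD, D4: existence of the doubled root group under weaker hypotheses (helper350)

`LocS` : as `Loc`, but instead of (k4) and (B) it is only required that
* `sc` : an element `e` normalising `P`, `Q`, `X` and trivial on `P / Q` commutes with `T0` on `Q / X`;
* `B` : a 2-element trivial on `P / Q`, `Q / X` and `X` acts on `P` as an element of `Q`;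
* `X ≤ [Q, Q]`.
(For `U_4(q)` property (B) of `Loc` is false: field automorphism.)
**`LocS.exists_dw`** : existence of the doubled root group.
-/

set_option autoImplicit false

namespace Cfsg.Agent.OddHalf.DblR.Exist.Env

open scoped commutatorElement

variable {G : Type*} [Group G] {K R X P Q T0 : Subgroup G}

/-- an element of `Y` which does not centralise `R` -/
theorem exists_n0 [Finite G] (E : Env K R X P Q T0)
    (hk4 : ∀ e : G, (∀ p ∈ P, e * p * e⁻¹ ∈ P) → (∀ p ∈ Q, e * p * e⁻¹ ∈ Q) → (∀ x ∈ X, e * x * e⁻¹ ∈ X) →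
      (∀ p ∈ P, e * p * e⁻¹ * p⁻¹ ∈ Q) → ∃ h ∈ T0, ∀ x ∈ X, e * x * e⁻¹ = h * x * h⁻¹)
    {g : G} (gP : ∀ p ∈ P, g * p * g⁻¹ ∈ P) (gQ : ∀ p ∈ Q, g * p * g⁻¹ ∈ Q) (gX : ∀ x ∈ X, g * x * g⁻¹ ∈ X)
    (gR : ∀ a ∈ R, ∃ b ∈ R, ∃ x ∈ X, g * a * g⁻¹ = b * x) (hg : ∃ a ∈ R, g * a * g⁻¹ ∉ R) :
    ∃ n0 ∈ E.Y, ∃ r ∈ R, δ r n0 ≠ 1 := by
  obtain ⟨h1, hh1, x1, hx1, hne1⟩ := E.Tne
  have hfp : ∀ y ∈ X, y ≠ 1 → h1 * y * h1⁻¹ ≠ y := fun y hy hy1 => E.fpf hh1 hx1 hne1 hy hy1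
  have gX' := conj_inv_mem gX
  have gP' := conj_inv_mem gP
  set e := g * h1 * g⁻¹ with he
  obtain ⟨a, ha, haR⟩ := hg
  obtain ⟨b, hb, x, hx, hab⟩ := gR a ha
  have hxne : x ≠ 1 := by
    rintro rfl
    rw [mul_one] at hab
    exact haR (by rw [hab]; exact hb)
  -- `e` commutes with the conjugates of elements of `R`
  have hea : ∀ a ∈ R, e * (g * a * g⁻¹) = (g * a * g⁻¹) * e := by
    intro a ha
    have := E.TR hh1 ha
    calc e * (g * a * g⁻¹) = g * (h1 * a) * g⁻¹ := by rw [he]; group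
      _ = g * (a * h1) * g⁻¹ := by rw [this]
      _ = (g * a * g⁻¹) * e := by rw [he]; group
  -- action of `e` on `X`
  have heX : ∀ x ∈ X, e * x * e⁻¹ ∈ X := by
    intro x hx
    have := gX _ (E.TX h1 hh1 _ (gX' x hx))
    rwa [show g * (h1 * (g⁻¹ * x * g) * h1⁻¹) * g⁻¹ = e * x * e⁻¹ by rw [he]; group] at this
  have hefp : ∀ x ∈ X, x ≠ 1 → e * x * e⁻¹ ≠ x := by
    intro x hx hx1 hex
    refine hfp (g⁻¹ * x * g) (gX' x hx) ?_ ?_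
    · intro h
      apply hx1
      rw [show x = g * (g⁻¹ * x * g) * g⁻¹ by group, h]; group
    · calc h1 * (g⁻¹ * x * g) * h1⁻¹ = g⁻¹ * (e * x * e⁻¹) * g := by rw [he]; group
        _ = g⁻¹ * x * g := by rw [hex]
  -- action of `e` on `P`
  have hePQ : ∀ p ∈ P, e * p * e⁻¹ * p⁻¹ ∈ Q := by
    intro p hp
    have := gQ _ (E.TPQ h1 hh1 _ (gP' p hp))
    rwa [show g * (h1 * (g⁻¹ * p * g) * h1⁻¹ * (g⁻¹ * p * g)⁻¹) * g⁻¹ = e * p * e⁻¹ * p⁻¹ by rw [he]; group] at this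
  have heP : ∀ p ∈ P, e * p * e⁻¹ ∈ P := fun p hp => by
    have := P.mul_mem (E.QP (hePQ p hp)) hp
    rwa [inv_mul_cancel_right] at this
  have heQ : ∀ p ∈ Q, e * p * e⁻¹ ∈ Q := fun p hp => by
    have := Q.mul_mem (hePQ p (E.QP hp)) hp
    rwa [inv_mul_cancel_right] at this
  -- `e` does not commute with `b`
  have heb : e * b ≠ b * e := by
    intro h
    refine hefp x hx hxne ?_
    have h1 := hea a ha
    rw [hab] at h1
    have h2 : e * x = x * e := by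
      calc e * x = e * (b⁻¹ * (b * x)) := by group
        _ = (e * b⁻¹) * (b * x) := by group
        _ = (b⁻¹ * (b * e) * b⁻¹) * (b * x) := by group
        _ = (b⁻¹ * (e * b) * b⁻¹) * (b * x) := by rw [h]
        _ = b⁻¹ * (e * (b * x)) := by group
        _ = b⁻¹ * ((b * x) * e) := by rw [h1]
        _ = x * e := by group
    rw [h2, mul_inv_cancel_right]
  -- `[e, R] ≤ X`
  have heR : ∀ r ∈ R, e * r * e⁻¹ * r⁻¹ ∈ X := by
    intro r hr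
    -- `r = (g s g⁻¹) y`
    obtain ⟨s, hs, y, hy, hrs⟩ : ∃ s ∈ R, ∃ y ∈ X, r = (g * s * g⁻¹) * y := by
      let RX : Subgroup G :=
        { carrier := {z | ∃ s ∈ R, ∃ y ∈ X, z = s * y}
          one_mem' := ⟨1, one_mem _, 1, one_mem _, by group⟩
          mul_mem' := by
            rintro _ _ ⟨s, hs, y, hy, rfl⟩ ⟨s', hs', y', hy', rfl⟩
            refine ⟨s * s', mul_mem hs hs', y * y', mul_mem hy hy', ?_⟩
            have := E.RX hs' hy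
            calc s * y * (s' * y') = s * (y * s') * y' := by group
              _ = s * (s' * y) * y' := by rw [this]
              _ = _ := by group
          inv_mem' := by
            rintro _ ⟨s, hs, y, hy, rfl⟩
            refine ⟨s⁻¹, inv_mem hs, y⁻¹, inv_mem hy, ?_⟩
            rw [mul_inv_rev, E.RX (inv_mem hs) (inv_mem hy)] }
      have hRX : ∀ z ∈ RX, g * z * g⁻¹ ∈ RX := by
        rintro _ ⟨s, hs, y, hy, rfl⟩
        obtain ⟨b, hb, x, hx, h⟩ := gR s hs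
        refine ⟨b, hb, x * (g * y * g⁻¹), mul_mem hx (gX y hy), ?_⟩
        calc g * (s * y) * g⁻¹ = (g * s * g⁻¹) * (g * y * g⁻¹) := by group
          _ = b * (x * (g * y * g⁻¹)) := by rw [h]; group
      obtain ⟨s, hs, y, hy, h⟩ := conj_inv_mem hRX r ⟨r, hr, 1, one_mem _, by group⟩
      refine ⟨s, hs, g * y * g⁻¹, gX y hy, ?_⟩
      calc r = g * (g⁻¹ * r * g) * g⁻¹ := by group
        _ = (g * s * g⁻¹) * (g * y * g⁻¹) := by rw [h]; group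
    have e1 : r = y * (g * s * g⁻¹) := by
      have : g * s * g⁻¹ = r * y⁻¹ := by rw [hrs]; group
      rw [this, ← mul_assoc, ← E.RX hr hy]; group
    have e2 := hea s hs
    have e3 : e * r * e⁻¹ * r⁻¹ = (e * y * e⁻¹) * y⁻¹ := by
      nth_rewrite 1 [e1]
      calc e * (y * (g * s * g⁻¹)) * e⁻¹ * r⁻¹ = e * y * ((g * s * g⁻¹) * e⁻¹) * r⁻¹ := by group
        _ = e * y * (e⁻¹ * (e * (g * s * g⁻¹)) * e⁻¹) * r⁻¹ := by group
        _ = e * y * e⁻¹ * (g * s * g⁻¹) * r⁻¹ := by rw [e2]; group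
        _ = (e * y * e⁻¹) * y⁻¹ := by rw [e1]; group
    rw [e3]
    exact mul_mem (heX y hy) (inv_mem hy)
  obtain ⟨h, hh, hhe⟩ := hk4 e heP heQ heX hePQ
  have hh' := inv_mem hh
  -- `n0 = h⁻¹ e`
  have hn0X : ∀ x ∈ X, h⁻¹ * e * x = x * (h⁻¹ * e) := by
    intro x hx
    have := hhe x hx
    calc h⁻¹ * e * x = h⁻¹ * (e * x * e⁻¹) * e := by group
      _ = x * (h⁻¹ * e) := by rw [this]; group
  have hn0 : h⁻¹ * e ∈ E.Y := by
    refine ⟨hn0X, fun p hp => ?_, fun r hr => ?_⟩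
    · have h2 := hePQ p hp
      have h3 := E.TQ hh' h2
      have h4 := E.TPQ _ hh' p hp
      have := Q.mul_mem h3 h4
      rwa [show h⁻¹ * (e * p * e⁻¹ * p⁻¹) * h⁻¹⁻¹ * (h⁻¹ * p * h⁻¹⁻¹ * p⁻¹) = h⁻¹ * e * p * (h⁻¹ * e)⁻¹ * p⁻¹ by group]
        at this
    · have h2 := E.TX _ hh' _ (heR r hr)
      have h3 : h⁻¹ * r * h = r := by rw [mul_assoc, E.TR hh hr, inv_mul_cancel_left]
      have h4 : δ r (h⁻¹ * e) = h⁻¹ * (e * r * e⁻¹ * r⁻¹) * h⁻¹⁻¹ := by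
        unfold δ
        calc h⁻¹ * e * r * (h⁻¹ * e)⁻¹ * r⁻¹ = h⁻¹ * (e * r * e⁻¹) * h * r⁻¹ := by group
          _ = h⁻¹ * (e * r * e⁻¹) * h * (h⁻¹ * r * h)⁻¹ := by rw [h3]
          _ = _ := by group
      rw [h4]; exact h2
  have hn0b : δ b (h⁻¹ * e) ≠ 1 := by
    rw [Ne, δ_eq_one_iff]
    intro h2
    apply heb
    calc e * b = h * (h⁻¹ * e * b) := by group
      _ = (h * b) * (h⁻¹ * e) := by rw [h2]; group
      _ = b * e := by rw [← E.TR hh hb]; group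
  exact ⟨h⁻¹ * e, hn0, b, hb, hn0b⟩

/-- `T0` normalises `Y` -/
theorem T_Y [Finite G] (E : Env K R X P Q T0) {h y : G} (hh : h ∈ T0) (hy : y ∈ E.Y) : h * y * h⁻¹ ∈ E.Y := by
  obtain ⟨h1, h2, h3⟩ := hy
  have hX : ∀ x ∈ X, h⁻¹ * x * h ∈ X := fun x hx => by
    have := E.TX _ (inv_mem hh) x hx
    rwa [inv_inv] at this
  have hP : ∀ p ∈ P, h⁻¹ * p * h ∈ P := fun p hp => by
    have := E.TP (inv_mem hh) hp
    rwa [inv_inv] at this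
  refine ⟨fun x hx => ?_, fun p hp => ?_, fun r hr => ?_⟩
  · have h4 := h1 _ (hX x hx)
    calc h * y * h⁻¹ * x = h * (y * (h⁻¹ * x * h)) * h⁻¹ := by group
      _ = h * ((h⁻¹ * x * h) * y) * h⁻¹ := by rw [h4]
      _ = _ := by group
  · have h4 := E.TQ hh (h2 _ (hP p hp))
    have e : h * y * h⁻¹ * p * (h * y * h⁻¹)⁻¹ * p⁻¹ =
        h * (y * (h⁻¹ * p * h) * y⁻¹ * (h⁻¹ * p * h)⁻¹) * h⁻¹ := by group
    rw [e]; exact h4
  · rw [δ_conj (E.TR hh hr).symm]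
    exact E.TX h hh _ (h3 r hr)

/-- `δ` on `Y` -/
theorem δ_mul_Y [Finite G] (E : Env K R X P Q T0) {t a b : G} (ht : t ∈ R) (ha : a ∈ E.Y) (hb : b ∈ E.Y) :
    δ t (a * b) = δ t a * δ t b := by
  rw [δ_mul (ha.1 _ (hb.2.2 t ht)), E.XX (hb.2.2 t ht) (ha.2.2 t ht)]

theorem δ_inv_Y [Finite G] (E : Env K R X P Q T0) {t a : G} (ht : t ∈ R) (ha : a ∈ E.Y) :
    δ t a⁻¹ = (δ t a)⁻¹ := δ_inv (ha.1 _ (ha.2.2 t ht))

/-- elements of `Y` acting trivially on `Q / X` -/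
def Y1 [Finite G] (E : Env K R X P Q T0) : Subgroup G where
  carrier := {y | y ∈ E.Y ∧ ∀ v ∈ Q, y * v * y⁻¹ * v⁻¹ ∈ X}
  one_mem' := ⟨one_mem _, fun v _ => by
    rw [show (1 : G) * v * 1⁻¹ * v⁻¹ = 1 by group]; exact one_mem _⟩
  mul_mem' := by
    rintro a b ⟨ha, ha'⟩ ⟨hb, hb'⟩
    refine ⟨mul_mem ha hb, fun v hv => ?_⟩
    have h1 := hb' v hv
    have h2 : a * (b * v * b⁻¹ * v⁻¹) * a⁻¹ = b * v * b⁻¹ * v⁻¹ := by rw [ha.1 _ h1]; group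
    have e : a * b * v * (a * b)⁻¹ * v⁻¹ = (a * (b * v * b⁻¹ * v⁻¹) * a⁻¹) * (a * v * a⁻¹ * v⁻¹) := by group
    rw [e, h2]
    exact mul_mem h1 (ha' v hv)
  inv_mem' := by
    rintro a ⟨ha, ha'⟩
    refine ⟨inv_mem ha, fun v hv => ?_⟩
    have h1 := ha' v hv
    have h2 : a⁻¹ * (a * v * a⁻¹ * v⁻¹) * a = a * v * a⁻¹ * v⁻¹ := by
      have h3 := (inv_mem ha).1 _ h1
      rw [h3]; group
    have e : a⁻¹ * v * a⁻¹⁻¹ * v⁻¹ = (a⁻¹ * (a * v * a⁻¹ * v⁻¹) * a)⁻¹ := by group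
    rw [e, h2]
    exact inv_mem h1

/-- an element of `V` which does not centralise `R` -/
theorem exists_v0S [Finite G] (E : Env K R X P Q T0) (QN : ∀ p ∈ P, ∀ q ∈ Q, p * q * p⁻¹ ∈ Q)
    (sc : ∀ e : G, (∀ p ∈ P, e * p * e⁻¹ ∈ P) → (∀ p ∈ Q, e * p * e⁻¹ ∈ Q) → (∀ x ∈ X, e * x * e⁻¹ ∈ X) →
      (∀ p ∈ P, e * p * e⁻¹ * p⁻¹ ∈ Q) → ∀ h ∈ T0, ∀ v ∈ Q,
        h * (e * v * e⁻¹) * h⁻¹ * (e * (h * v * h⁻¹) * e⁻¹)⁻¹ ∈ X)
    (hgen : X ≤ ⁅Q, Q⁆)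
    (hB : ∀ y : G, IsPGroup 2 (Subgroup.zpowers y) → (∀ p ∈ P, y * p * y⁻¹ * p⁻¹ ∈ Q) →
      (∀ v ∈ Q, y * v * y⁻¹ * v⁻¹ ∈ X) → (∀ x ∈ X, y * x = x * y) → ∃ q ∈ Q, ∀ p ∈ P, y * p * y⁻¹ = q * p * q⁻¹)
    {g : G} (gP : ∀ p ∈ P, g * p * g⁻¹ ∈ P) (gQ : ∀ p ∈ Q, g * p * g⁻¹ ∈ Q) (gX : ∀ x ∈ X, g * x * g⁻¹ ∈ X)
    (gR : ∀ a ∈ R, ∃ b ∈ R, ∃ x ∈ X, g * a * g⁻¹ = b * x) (hg : ∃ a ∈ R, g * a * g⁻¹ ∉ R) :
    ∃ v0 ∈ E.V, ∃ r ∈ R, δ r v0 ≠ 1 := by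
  -- commutators only depend on the classes modulo `X`
  have comX : ∀ {x v w : G}, x ∈ X → v ∈ Q → w ∈ Q → ⁅x * v, w⁆ = ⁅v, w⁆ ∧ ⁅w, x * v⁆ = ⁅w, v⁆ := by
    intro x v w hx hv hw
    have h1 := E.XPc x hx w (E.QP hw)
    have h2 := E.XPc x hx v (E.QP hv)
    have c1 : Commute x w := h1
    have c2 : Commute x v := h2
    constructor
    · rw [commutatorElement_def, commutatorElement_def]
      calc x * v * w * (x * v)⁻¹ * w⁻¹ = x * (v * w * v⁻¹) * x⁻¹ * w⁻¹ := by group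
        _ = (v * w * v⁻¹) * x * x⁻¹ * w⁻¹ := by rw [((c2.mul_right c1).mul_right c2.inv_right).eq]
        _ = _ := by group
    · rw [commutatorElement_def, commutatorElement_def]
      calc w * (x * v) * w⁻¹ * (x * v)⁻¹ = (w * x) * v * w⁻¹ * v⁻¹ * x⁻¹ := by group
        _ = x * (w * v * w⁻¹ * v⁻¹) * x⁻¹ := by rw [← h1]; group
        _ = (w * v * w⁻¹ * v⁻¹) * x * x⁻¹ := by
          rw [(((c1.mul_right c2).mul_right c1.inv_right).mul_right c2.inv_right).eq]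
        _ = _ := by group
  -- (k4)
  have hk4 : ∀ e : G, (∀ p ∈ P, e * p * e⁻¹ ∈ P) → (∀ p ∈ Q, e * p * e⁻¹ ∈ Q) → (∀ x ∈ X, e * x * e⁻¹ ∈ X) →
      (∀ p ∈ P, e * p * e⁻¹ * p⁻¹ ∈ Q) → ∃ h ∈ T0, ∀ x ∈ X, e * x * e⁻¹ = h * x * h⁻¹ := by
    intro e h1 h2 h3 h4
    -- `e` commutes with `T0` on `X`
    have hc : ∀ h ∈ T0, ∀ x ∈ X, h * (e * x * e⁻¹) * h⁻¹ = e * (h * x * h⁻¹) * e⁻¹ := by
      intro h hh
      let M : Subgroup G :=
        { carrier := {x | h * (e * x * e⁻¹) * h⁻¹ = e * (h * x * h⁻¹) * e⁻¹}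
          one_mem' := by show h * (e * 1 * e⁻¹) * h⁻¹ = e * (h * 1 * h⁻¹) * e⁻¹; group
          mul_mem' := by
            intro a b (ha : h * (e * a * e⁻¹) * h⁻¹ = e * (h * a * h⁻¹) * e⁻¹)
              (hb : h * (e * b * e⁻¹) * h⁻¹ = e * (h * b * h⁻¹) * e⁻¹)
            show h * (e * (a * b) * e⁻¹) * h⁻¹ = e * (h * (a * b) * h⁻¹) * e⁻¹
            calc h * (e * (a * b) * e⁻¹) * h⁻¹ = (h * (e * a * e⁻¹) * h⁻¹) * (h * (e * b * e⁻¹) * h⁻¹) := by group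
              _ = _ := by rw [ha, hb]; group
          inv_mem' := by
            intro a (ha : h * (e * a * e⁻¹) * h⁻¹ = e * (h * a * h⁻¹) * e⁻¹)
            show h * (e * a⁻¹ * e⁻¹) * h⁻¹ = e * (h * a⁻¹ * h⁻¹) * e⁻¹
            calc h * (e * a⁻¹ * e⁻¹) * h⁻¹ = (h * (e * a * e⁻¹) * h⁻¹)⁻¹ := by group
              _ = _ := by rw [ha]; group }
      have hM : ⁅Q, Q⁆ ≤ M := by
        rw [Subgroup.commutator_le]
        intro v hv w hw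
        show h * (e * ⁅v, w⁆ * e⁻¹) * h⁻¹ = e * (h * ⁅v, w⁆ * h⁻¹) * e⁻¹
        have s1 := sc e h1 h2 h3 h4 h hh v hv
        have s2 := sc e h1 h2 h3 h4 h hh w hw
        set v1 := e * (h * v * h⁻¹) * e⁻¹ with hv1
        set w1 := e * (h * w * h⁻¹) * e⁻¹ with hw1
        have q1 : v1 ∈ Q := h2 _ (E.TQ hh hv)
        have q2 : w1 ∈ Q := h2 _ (E.TQ hh hw)
        obtain ⟨x, hx, ex⟩ : ∃ x ∈ X, h * (e * v * e⁻¹) * h⁻¹ = x * v1 := ⟨_, s1, by group⟩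
        obtain ⟨y, hy, ey⟩ : ∃ y ∈ X, h * (e * w * e⁻¹) * h⁻¹ = y * w1 := ⟨_, s2, by group⟩
        have e1 : h * (e * ⁅v, w⁆ * e⁻¹) * h⁻¹ = ⁅h * (e * v * e⁻¹) * h⁻¹, h * (e * w * e⁻¹) * h⁻¹⁆ := by
          rw [commutatorElement_def, commutatorElement_def]; group
        have e2 : e * (h * ⁅v, w⁆ * h⁻¹) * e⁻¹ = ⁅v1, w1⁆ := by
          rw [commutatorElement_def, commutatorElement_def, hv1, hw1]; group
        rw [e1, e2, ex, ey]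
        have hyw : y * w1 ∈ Q := by
          rw [← ey]
          exact E.TQ hh (h2 _ hw)
        rw [(comX hx q1 hyw).1, (comX hy q2 q1).2]
      exact fun x hx => hM (hgen hx)
    obtain ⟨h0, hh0, x0, hx0, hne⟩ := E.Tne
    have hx01 : x0 ≠ 1 := by rintro rfl; apply hne; group
    have hex : e * x0 * e⁻¹ ≠ 1 := by
      intro h
      apply hx01
      calc x0 = e⁻¹ * (e * x0 * e⁻¹) * e := by group
        _ = 1 := by rw [h]; group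
    obtain ⟨h, hh, eh⟩ := E.Ttr x0 hx0 hx01 _ (h3 x0 hx0) hex
    refine ⟨h, hh, fun x hx => ?_⟩
    by_cases hx1 : x = 1
    · subst hx1; group
    obtain ⟨k, hk, rfl⟩ := E.Ttr x0 hx0 hx01 x hx hx1
    rw [← hc k hk x0 hx0, ← eh]
    have hab := E.Tc h hh k hk
    calc k * (h * x0 * h⁻¹) * k⁻¹ = (k * h) * x0 * (k * h)⁻¹ := by group
      _ = (h * k) * x0 * (h * k)⁻¹ := by rw [hab]
      _ = _ := by group
  obtain ⟨n0, hn0, b, hb, hn0b⟩ := E.exists_n0 hk4 gP gQ gX gR hg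
  obtain ⟨h1, hh1, x1, hx1, hne1⟩ := E.Tne
  have hfp : ∀ y ∈ X, y ≠ 1 → h1 * y * h1⁻¹ ≠ y := fun y hy hy1 => E.fpf hh1 hx1 hne1 hy hy1
  -- `y = [h1, n0]`
  have hn0P : ∀ p ∈ P, n0 * p * n0⁻¹ ∈ P := fun p hp => by
    have := P.mul_mem (E.QP (hn0.2.1 p hp)) hp
    rwa [inv_mul_cancel_right] at this
  have hn0Q : ∀ p ∈ Q, n0 * p * n0⁻¹ ∈ Q := fun p hp => by
    have := Q.mul_mem (hn0.2.1 p (E.QP hp)) hp
    rwa [inv_mul_cancel_right] at this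
  have hn0X : ∀ x ∈ X, n0 * x * n0⁻¹ ∈ X := fun x hx => by
    rw [hn0.1 x hx, mul_inv_cancel_right]; exact hx
  have hn0Q' := conj_inv_mem hn0Q
  have hs := sc n0 hn0P hn0Q hn0X hn0.2.1 h1 hh1
  have hyY : h1 * n0 * h1⁻¹ * n0⁻¹ ∈ E.Y := mul_mem (E.T_Y hh1 hn0) (inv_mem hn0)
  have hy1 : h1 * n0 * h1⁻¹ * n0⁻¹ ∈ E.Y1 := by
    refine ⟨hyY, fun w hw => ?_⟩
    have hv : h1⁻¹ * (n0⁻¹ * w * n0) * h1 ∈ Q := by
      have := E.TQ (inv_mem hh1) (hn0Q' w hw)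
      rwa [inv_inv] at this
    have := hs _ hv
    have e : h1 * (n0 * (h1⁻¹ * (n0⁻¹ * w * n0) * h1) * n0⁻¹) * h1⁻¹ *
        (n0 * (h1 * (h1⁻¹ * (n0⁻¹ * w * n0) * h1) * h1⁻¹) * n0⁻¹)⁻¹ =
        h1 * n0 * h1⁻¹ * n0⁻¹ * w * (h1 * n0 * h1⁻¹ * n0⁻¹)⁻¹ * w⁻¹ := by group
    rwa [e] at this
  have hyb : δ b (h1 * n0 * h1⁻¹ * n0⁻¹) ≠ 1 := by
    rw [E.δ_mul_Y hb (E.T_Y hh1 hn0) (inv_mem hn0), E.δ_inv_Y hb hn0, δ_conj (E.TR hh1 hb).symm]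
    intro h
    exact hfp _ (hn0.2.2 b hb) hn0b (mul_inv_eq_one.1 h)
  obtain ⟨m, j, hj, hm1, hm2⟩ := E.exists_two hy1 (hyY.2.2 b hb) hyY.1
  set y := (h1 * n0 * h1⁻¹ * n0⁻¹) ^ m with hy
  obtain ⟨q, hq, hqy⟩ := hB y (isPGroup_zpowers hj) hm1.1.2.1 hm1.2 hm1.1.1
  have hqR : ∀ r ∈ R, q⁻¹ * r = r * q⁻¹ := fun r hr => (E.RK r hr _ (E.PK (E.QP (inv_mem hq)))).symm
  have hqδ : ∀ r ∈ R, δ r (q⁻¹ * y) = δ r y := by
    intro r hr
    have h2 : q⁻¹ * δ r y = δ r y * q⁻¹ := (E.XPc _ (hm1.1.2.2 r hr) _ (E.QP (inv_mem hq))).symm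
    rw [δ_mul h2, δ_eq_one_iff.2 (hqR r hr), mul_one]
  refine ⟨q⁻¹ * y, ⟨fun p hp => ?_, fun r hr => ?_⟩, b, hb, ?_⟩
  · have := hqy p hp
    calc q⁻¹ * y * p = q⁻¹ * (y * p * y⁻¹) * y := by group
      _ = p * (q⁻¹ * y) := by rw [this]; group
  · rw [hqδ r hr]; exact hm1.1.2.2 r hr
  · rw [hqδ b hb, hm2]; exact hyb

end Cfsg.Agent.OddHalf.DblR.Exist.Env

namespace Cfsg.Agent.OddHalf.DblR

variable {G : Type*} [Group G]

/-- The local situation at a long root group `X` of `K`, weaker hypotheses. -/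
structure LocS (K R P Q X T0 : Subgroup G) : Prop where
  amb : Amb K R
  PK : P ≤ K
  QP : Q ≤ P
  XQ : X ≤ Q
  XX : ∀ x ∈ X, x * x = 1
  XZ : ∀ x ∈ X, ∀ p ∈ P, x * p = p * x
  QN : ∀ p ∈ P, ∀ q ∈ Q, p * q * p⁻¹ ∈ Q
  TK : T0 ≤ K
  TX : ∀ h ∈ T0, ∀ x ∈ X, h * x * h⁻¹ ∈ X
  TQ : ∀ h ∈ T0, ∀ p ∈ P, h * p * h⁻¹ * p⁻¹ ∈ Q
  Tab : ∀ h ∈ T0, ∀ k ∈ T0, h * k = k * h
  Ttr : ∀ x ∈ X, x ≠ 1 → ∀ y ∈ X, y ≠ 1 → ∃ h ∈ T0, h * x * h⁻¹ = y
  big : ∃ x ∈ X, ∃ y ∈ X, x ≠ 1 ∧ y ≠ 1 ∧ x ≠ y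
  two : ∀ c ∈ C1 K R, IsPGroup 2 (Subgroup.zpowers c) → c ∈ R
  k3 : ∀ c : G, (∀ a ∈ R, c * a = a * c) → (∀ p ∈ P, c * p = p * c) → ∃ x ∈ X, x⁻¹ * c ∈ C1 K R
  sc : ∀ e : G, (∀ p ∈ P, e * p * e⁻¹ ∈ P) → (∀ p ∈ Q, e * p * e⁻¹ ∈ Q) → (∀ x ∈ X, e * x * e⁻¹ ∈ X) →
    (∀ p ∈ P, e * p * e⁻¹ * p⁻¹ ∈ Q) → ∀ h ∈ T0, ∀ v ∈ Q,
      h * (e * v * e⁻¹) * h⁻¹ * (e * (h * v * h⁻¹) * e⁻¹)⁻¹ ∈ X
  gen : X ≤ ⁅Q, Q⁆
  B : ∀ y : G, IsPGroup 2 (Subgroup.zpowers y) → (∀ p ∈ P, y * p * y⁻¹ * p⁻¹ ∈ Q) →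
    (∀ v ∈ Q, y * v * y⁻¹ * v⁻¹ ∈ X) → (∀ x ∈ X, y * x = x * y) → ∃ q ∈ Q, ∀ p ∈ P, y * p * y⁻¹ = q * p * q⁻¹

namespace LocS

variable {K R P Q X T0 : Subgroup G}

open Exist Exist.Env

theorem env (L : LocS K R P Q X T0) : Env K R X P Q T0 where
  RK := L.amb.comm
  Rsq := L.amb.tt
  C1R := fun c h1 h2 _ hj => L.two c (mem_C1.2 ⟨h1, h2⟩) (isPGroup_zpowers hj)
  PK := L.PK
  QP := L.QP
  TK := L.TK
  XP := L.XQ.trans L.QP
  Xsq := L.XX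
  XPc := L.XZ
  Xc := fun x hx h => L.amb.ctr x (L.PK (L.QP (L.XQ hx))) h
  TX := L.TX
  TPQ := L.TQ
  Tc := L.Tab
  Ttr := L.Ttr
  Tne := by
    obtain ⟨x, hx, y, hy, hx1, hy1, hxy⟩ := L.big
    obtain ⟨h, hh, e⟩ := L.Ttr x hx hx1 y hy hy1
    exact ⟨h, hh, x, hx, by rw [e]; exact hxy.symm⟩
  tight := by
    intro g t ht ht1 hg h
    refine L.amb.tight ht ht1 hg fun a ha => ?_
    have hg' : g⁻¹ * t = t * g⁻¹ := by
      calc g⁻¹ * t = g⁻¹ * (t * g) * g⁻¹ := by group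
        _ = g⁻¹ * (g * t) * g⁻¹ := by rw [hg]
        _ = t * g⁻¹ := by group
    have h1 := L.amb.nor t ht ht1 g⁻¹ hg' _ (L.PK (L.QP (L.XQ (h a ha))))
    have h2 : br a g = (g⁻¹ * (g * a * g⁻¹ * a⁻¹) * g⁻¹⁻¹)⁻¹ := by unfold br; group
    rw [h2]
    exact inv_mem h1
  k3 := by
    intro c h1 h2
    obtain ⟨x, hx, hc⟩ := L.k3 c h2 h1
    exact ⟨x, hx, (mem_C1.1 hc).1⟩

/-- **(EX)**: existence of the doubled root group. -/
theorem exists_dw [Finite G] (L : LocS K R P Q X T0) {g : G} (gP : ∀ p ∈ P, g * p * g⁻¹ ∈ P)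
    (gQ : ∀ p ∈ Q, g * p * g⁻¹ ∈ Q) (gX : ∀ x ∈ X, g * x * g⁻¹ ∈ X)
    (gR : ∀ a ∈ R, ∃ b ∈ R, ∃ x ∈ X, g * a * g⁻¹ = b * x) (hg : ∃ a ∈ R, g * a * g⁻¹ ∉ R) :
    ∃ h0 ∈ T0, (∀ x ∈ X, x ≠ 1 → h0 * x * h0⁻¹ ≠ x) ∧ ∃ W : Subgroup G, DW K R P X W ∧ (∀ w ∈ W, w * w ∈ X) ∧
      (∀ c ∈ C1 K R, ∀ w ∈ W, w * c * w⁻¹ * c⁻¹ ∈ X) ∧ (∀ h ∈ T0, ∀ w ∈ W, h * w * h⁻¹ ∈ W) ∧
      ∀ k ∈ K, (∃ p ∈ P, k * h0 * k⁻¹ = h0 * p) → (∀ p ∈ P, k * p * k⁻¹ ∈ P) → (∀ x ∈ X, k * x * k⁻¹ ∈ X) →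
        ∀ w ∈ W, k * w * k⁻¹ ∈ W := by
  have E := L.env
  obtain ⟨v0, hv0, r, hr, h0⟩ := E.exists_v0S L.QN L.sc L.gen L.B gP gQ gX gR hg
  obtain ⟨h, hh, x1, hx1, hne1⟩ := E.Tne
  have hfp : ∀ y ∈ X, y ≠ 1 → h * y * h⁻¹ ≠ y := fun y hy hy1 => E.fpf hh hx1 hne1 hy hy1
  have hR : ∃ t ∈ R, t ≠ 1 := ⟨r, hr, by
    rintro rfl
    exact h0 (δ_eq_one_iff.2 (by rw [mul_one, one_mul]))⟩
  have hall : ∀ t ∈ R, t ≠ 1 → δ t v0 ≠ 1 := fun t ht ht1 he =>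
    h0 (δ_eq_one_iff.2 (E.V_comm hv0 ht ht1 (δ_eq_one_iff.1 he) r hr))
  have hbr : ∀ {t w : G}, br t w = δ t w⁻¹ := by
    intro t w; unfold br δ; group
  have hWV : ∀ w ∈ E.W hR hh, w ∈ E.V := fun w hw => E.V2_le hR (E.W_le hR hh hw)
  refine ⟨h, hh, hfp, E.W hR hh, ?_, fun w hw => (E.W_le hR hh hw).2,
    fun c hc w hw => (E.W_le hR hh hw).1.2 c (mem_C1.1 hc), fun k hk w hw => E.W_T hR hh hk hw, ?_⟩
  · refine ⟨E.XP, E.PK, E.X_le_W hR hh, E.Xsq, fun w hw p hp => E.V_P (hWV w hw) hp, ?_, ?_, ?_, ?_⟩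
    · intro t ht w hw
      rw [hbr]
      exact E.V_δ (inv_mem (hWV w hw)) ht
    · intro t ht ht1 w hw h1
      exact E.W_fix hR hh hfp hw ht ht1 h1.symm
    · intro t ht ht1 x hx
      obtain ⟨w, hw, hwx⟩ := E.W_surj hR hh hfp hv0 ht ht1 (hall t ht ht1) x hx
      refine ⟨w, hw, ?_⟩
      rw [hbr, E.δ_inv' ht (hWV w hw), hwx, E.xx_inv hx]
    · intro c hc w hw
      have h1 : c * w * c⁻¹ = w * δ c w⁻¹ := by unfold δ; group
      rw [h1]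
      exact mul_mem hw (E.X_le_W hR hh ((inv_mem (E.W_le hR hh hw) : w⁻¹ ∈ E.V2 hR).1.2 c (mem_C1.1 hc)))
  · rintro k hk ⟨p, hp, hkh⟩ hkP hkX w hw
    exact E.W_conj hR hh hk (conj_inv_mem hkP) hkX hp hkh hw

end LocS

end Cfsg.Agent.OddHalf.DblR

end

-- merged: Cfsg.Agent.OddHalf.DblR.BaseS
section

/-!
# ODD, D4: from a pair of root type to the doubled root group (helper350)

* `DW.comm` : the doubled root group is abelian if the torus acts transitively on `X`;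
* `DW.upgrade` : `W` centralises elements of odd order centralising `X`;
* `LocS.exists_base`, **`LocS.base_of_pair`** : `R^g ≤ R X`, `R ≤ (R X)^(k g)`, `g` moves `R` gives the doubled root
  group, invariant under `N_K(X)`, abelian.
-/

set_option autoImplicit false

namespace Cfsg.Agent.OddHalf.DblR

open Cfsg.Agent.Nodes.Reps

variable {G : Type*} [Group G]

/-- `W` is abelian -/
theorem DW.comm {K R P X W T0 : Subgroup G} (A : Amb K R) (D : DW K R P X W) (TK : T0 ≤ K)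
    (TW : ∀ h ∈ T0, ∀ w ∈ W, h * w * h⁻¹ ∈ W) (Tab : ∀ h ∈ T0, ∀ k ∈ T0, h * k = k * h)
    (Ttr : ∀ x ∈ X, x ≠ 1 → ∀ y ∈ X, y ≠ 1 → ∃ h ∈ T0, h * x * h⁻¹ = y)
    (hsq : ∀ w ∈ W, w * w ∈ X) {t : G} (ht : t ∈ R) (ht1 : t ≠ 1) : ∀ v ∈ W, ∀ w ∈ W, v * w = w * v := by
  by_cases h0 : ∀ w ∈ W, w * w = 1
  · intro v hv w hw
    have h1 := h0 _ (mul_mem hv hw)
    have h2 : ∀ w ∈ W, w⁻¹ = w := fun w hw => inv_eq_of_mul_eq_one_left (h0 w hw)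
    calc v * w = (v * w)⁻¹ := (h2 _ (mul_mem hv hw)).symm
      _ = w⁻¹ * v⁻¹ := by group
      _ = w * v := by rw [h2 w hw, h2 v hv]
  push Not at h0
  obtain ⟨w0, hw0, hne⟩ := h0
  have hx0 := D.brk t ht w0 hw0
  have hx01 : br t w0 ≠ 1 := by
    intro h
    exact hne (D.XX _ (D.fix t ht ht1 w0 hw0 (br_eq_one.mp h)))
  obtain ⟨k, hk, ek⟩ := Ttr _ hx0 hx01 _ (hsq w0 hw0) hne
  have key : ∀ w ∈ W, w * w = k * br t w * k⁻¹ := by
    intro w hw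
    by_cases hb : br t w = 1
    · rw [hb, D.XX _ (D.fix t ht ht1 w hw (br_eq_one.mp hb))]; group
    · obtain ⟨h, hh, eh⟩ := Ttr _ hx0 hx01 _ (D.brk t ht w hw) hb
      have h1 : br t (h * w0 * h⁻¹) = br t w := by rw [br_conj (A.comm t ht h (TK hh)), eh]
      have h2 := D.eq_of_br ht ht1 hw (TW h hh w0 hw0) h1.symm
      obtain ⟨x, hx, ex⟩ : ∃ x ∈ X, w = x * (h * w0 * h⁻¹) := ⟨_, h2, by group⟩
      have h3 : (h * w0 * h⁻¹) * x = x * (h * w0 * h⁻¹) := D.wx (TW h hh w0 hw0) hx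
      have hab := Tab h hh k hk
      calc w * w = x * ((h * w0 * h⁻¹) * x) * (h * w0 * h⁻¹) := by rw [ex]; group
        _ = (x * x) * (h * (w0 * w0) * h⁻¹) := by rw [h3]; group
        _ = h * (k * br t w0 * k⁻¹) * h⁻¹ := by rw [D.XX x hx, ek]; group
        _ = (h * k) * br t w0 * (h * k)⁻¹ := by group
        _ = (k * h) * br t w0 * (k * h)⁻¹ := by rw [hab]
        _ = k * (h * br t w0 * h⁻¹) * k⁻¹ := by group
        _ = k * br t w * k⁻¹ := by rw [eh]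
  intro v hv w hw
  have h1 := key _ (mul_mem hv hw)
  rw [D.br_mul ht hv hw] at h1
  have h2 : k * (br t v * br t w) * k⁻¹ = (k * br t v * k⁻¹) * (k * br t w * k⁻¹) := by group
  rw [h2, ← key v hv, ← key w hw] at h1
  have h3 : v⁻¹ * (v * w * (v * w)) * w⁻¹ = v⁻¹ * (v * v * (w * w)) * w⁻¹ := by rw [h1]
  calc v * w = v⁻¹ * (v * v * (w * w)) * w⁻¹ := by group
    _ = v⁻¹ * (v * w * (v * w)) * w⁻¹ := h3.symm
    _ = w * v := by group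

/-- `W` centralises elements of odd order centralising `X` and normalising `W` -/
theorem DW.upgrade {K R P P' X W : Subgroup G} (A : Amb K R) (D : DW K R P X W) {t : G} (ht : t ∈ R) (ht1 : t ≠ 1)
    (hPP : P ≤ P') (hPK : P' ≤ K)
    (h : ∀ p ∈ P', ∃ a ∈ P, ∃ τ ∈ K, p = a * τ ∧ (∀ x ∈ X, τ * x = x * τ) ∧ (∀ w ∈ W, τ * w * τ⁻¹ ∈ W) ∧
      ∃ m : ℕ, Odd m ∧ τ ^ m = 1) : DW K R P' X W where
  XP := D.XP.trans hPP
  PK := hPK
  XW := D.XW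
  XX := D.XX
  WP := by
    intro w hw p hp
    obtain ⟨a, ha, τ, hτ, rfl, h1, h2, m, hm, hτm⟩ := h p hp
    have h3 := D.WP w hw a ha
    have h4 := D.cen A ht ht1 hτ h2 h1 hm hτm w hw
    calc w * (a * τ) = (w * a) * τ := by group
      _ = a * (w * τ) := by rw [h3]; group
      _ = a * τ * w := by rw [← h4]; group
  brk := D.brk
  fix := D.fix
  surj := D.surj
  C1W := D.C1W

/-- the doubled root group, abelian and invariant under `N_K(X)` -/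
theorem LocS.exists_base [Finite G] {K R P Q X T0 : Subgroup G} (L : LocS K R P Q X T0) (N : NorX K P X T0) {g : G}
    (gP : cj g P = P) (gQ : cj g Q = Q) (gX : cj g X = X)
    (gR : ∀ a ∈ R, ∃ b ∈ R, ∃ x ∈ X, g * a * g⁻¹ = b * x) (hg : ∃ a ∈ R, g * a * g⁻¹ ∉ R) :
    ∃ W, Base K R P X W ∧ ∀ v ∈ W, ∀ w ∈ W, v * w = w * v := by
  have invX : ∀ {k x : G} {A : Subgroup G}, cj k A = A → x ∈ A → k * x * k⁻¹ ∈ A := by
    intro k x A h hx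
    have := conj_mem_cj (g := k).2 hx
    rwa [h] at this
  obtain ⟨t, ht, ht1⟩ : ∃ t ∈ R, t ≠ 1 := by
    obtain ⟨a, ha, h⟩ := hg
    refine ⟨a, ha, ?_⟩
    rintro rfl
    apply h
    have e : g * 1 * g⁻¹ = (1 : G) := by group
    rw [e]; exact one_mem _
  obtain ⟨h0, hh0, -, W, D, hsq, -, hTW, hW⟩ := L.exists_dw (fun p hp => invX gP hp) (fun p hp => invX gQ hp)
    (fun p hp => invX gX hp) gR hg
  have B : Base K R P X W := by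
    refine ⟨D, ?_⟩
    have key : ∀ k ∈ K, cj k X = X → cj k W ≤ W := by
      intro k hk hX
      rintro w hw
      rw [mem_cj] at hw
      obtain ⟨p, hp, e⟩ := N.nh k hk hX h0 hh0
      have := hW k hk ⟨p, hp, e⟩ (fun p hp => invX (N.nP k hk hX) hp) (fun x hx => invX hX hx) _ hw
      have e2 : k * (k⁻¹ * w * k) * k⁻¹ = w := by group
      rwa [e2] at this
    intro k hk hX
    apply le_antisymm (key k hk hX)
    have hX' : cj k⁻¹ X = X := by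
      conv_lhs => rw [← hX]
      exact cj_inv_cj k X
    have := cj_mono k (key k⁻¹ (inv_mem hk) hX')
    rwa [cj_cj_inv] at this
  exact ⟨W, B, D.comm L.amb L.TK hTW L.Tab L.Ttr hsq ht ht1⟩

/-- **From a pair of root type to the doubled root group.** -/
theorem LocS.base_of_pair [Finite G] {K R P Q X T0 : Subgroup G} (L : LocS K R P Q X T0) (N : NorX K P X T0)
    (res : Subgroup G → Subgroup G) (hres : ∀ (g : G) (S : Subgroup G), res (cj g S) = cj g (res S))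
    (hresP : ∀ S : Subgroup G, R ≤ S → S ≤ R ⊔ X → ¬ S ≤ R → res S = P)
    (hPQ : ∀ g : G, cj g P = P → cj g Q = Q ∧ cj g X = X)
    {g k : G} (hk : k ∈ K) (hg1 : cj g R ≤ R ⊔ X) (hg2 : R ≤ cj g (R ⊔ cj k X)) (hg3 : ¬ cj g R ≤ R) :
    ∃ W, Base K R P X W ∧ ∀ v ∈ W, ∀ w ∈ W, v * w = w * v := by
  have hkR : cj k R = R := by
    apply le_antisymm
    · intro x hx
      rw [mem_cj] at hx
      have h1 := L.amb.comm _ hx k hk
      have : x = k⁻¹ * x * k := by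
        calc x = k * (k⁻¹ * x * k) * k⁻¹ := by group
          _ = (k⁻¹ * x * k) * k * k⁻¹ := by rw [← h1]
          _ = _ := by group
      rw [this]; exact hx
    · intro x hx
      rw [mem_cj]
      have h1 := L.amb.comm x hx k hk
      have : k⁻¹ * x * k = x := by rw [mul_assoc, h1]; group
      rwa [this]
  set S := R ⊔ cj g R with hS
  have h1 : res S = P := hresP S le_sup_left (sup_le le_sup_left hg1) fun h => hg3 (le_sup_right.trans h)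
  -- conjugate back
  have hgk : cj (g * k) R = cj g R := by rw [cj_mul, hkR]
  have h2 : res (cj (g * k)⁻¹ S) = P := by
    apply hresP
    · rw [← cj_le_cj_iff (g * k), cj_cj_inv, hgk]; exact le_sup_right
    · rw [← cj_le_cj_iff (g * k), cj_cj_inv, cj_sup, hgk]
      refine sup_le ?_ le_sup_left
      refine hg2.trans ?_
      rw [cj_sup, cj_mul]
    · intro h0
      have h3 := cj_mono (g * k) h0
      rw [cj_cj_inv, hgk] at h3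
      apply hg3
      -- `R ≤ cj g R`, equality by cardinality
      have h4 : R ≤ cj g R := le_sup_left.trans h3
      have h5 : Nat.card ↥(cj g R) = Nat.card ↥R :=
        (Nat.card_congr (R.equivMapOfInjective _ (MulAut.conj g).injective).toEquiv).symm
      exact (Subgroup.eq_of_le_of_card_ge h4 h5.le).ge
  have h3 : cj (g * k) P = P := by
    rw [hres, h1] at h2
    conv_lhs => rw [← h2]
    exact cj_cj_inv _ _
  obtain ⟨h4, h5⟩ := hPQ _ h3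
  refine L.exists_base N (g := g * k) h3 h4 h5 ?_ ?_
  · intro a ha
    have h6 : g * k * a * (g * k)⁻¹ ∈ R ⊔ X := by
      apply hg1
      rw [← hgk]
      exact conj_mem_cj.2 ha
    have h7 : R ≤ Subgroup.normalizer (X : Set G) := by
      intro r hr
      rw [mem_normalizer_iff_cj]
      have key : ∀ r ∈ R, cj r X ≤ X := by
        intro r hr x hx
        rw [mem_cj] at hx
        have h8 := L.amb.comm r hr _ (L.PK (L.QP (L.XQ hx)))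
        have : x = r⁻¹ * x * r := by
          calc x = r * (r⁻¹ * x * r) * r⁻¹ := by group
            _ = (r⁻¹ * x * r) * r * r⁻¹ := by rw [h8]
            _ = _ := by group
        rw [this]; exact hx
      apply le_antisymm (key r hr)
      have := cj_mono r (key r⁻¹ (inv_mem hr))
      rwa [cj_cj_inv] at this
    have h8 : g * k * a * (g * k)⁻¹ ∈ ((R ⊔ X : Subgroup G) : Set G) := h6
    rw [Subgroup.coe_mul_of_left_le_normalizer_right R X h7] at h8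
    obtain ⟨b, hb, x, hx, e⟩ := h8
    exact ⟨b, hb, x, hx, e.symm⟩
  · by_contra hcon
    push Not at hcon
    apply hg3
    intro x hx
    rw [← hgk, mem_cj] at hx
    have := hcon _ hx
    have e : g * k * ((g * k)⁻¹ * x * (g * k)) * (g * k)⁻¹ = x := by group
    rwa [e] at this

end Cfsg.Agent.OddHalf.DblR

end
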