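import Cfsg.Agent.KFacts.RgdEx
import Cfsg.Agent.OddHalf.DblR.Fam
import Cfsg.Agent.OddHalf.DblR.Res

-- merged: Cfsg.Agent.OddHalf.DblR.RgdTri
section

/-!
# ODD, D4: the hypotheses `KTri` from a simply laced root group datum

`ktri` : for two roots `r`, `s` with `⟨r, s⟩ = -1` such that some roots `g ⊥ s`, `g' ⊥ r` satisfy `⟨g, r⟩ = -1`,
`⟨g', s⟩ = -1`; the centraliser facts `K1`, `K2` are hypotheses.
-/

set_option autoImplicit false
set_option linter.unusedSectionVars false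

namespace Cfsg.Agent.OddHalf.DblR

open CoxeterSystem Cfsg.Agent.ChevalleyStructure.CoxeterGeom Cfsg.Agent.Tits.Roots Cfsg.Agent.Tits.Core
  Cfsg.Agent.Tits.RootComb Cfsg.Agent.Tits.Exchange Cfsg.Agent.Nodes.Reps Cfsg.Agent.Nodes.BNOf
  Cfsg.Agent.Nodes.StabComb Cfsg.Agent.Nodes.Bruhat Cfsg.Agent.Nodes.OppDec Cfsg.Agent.Nodes.LeviDec
  Cfsg.Agent.Nodes.NormX Cfsg.Agent.Nodes.Coroot Cfsg.Agent.Nodes.PosPair Cfsg.Agent.KFacts.RgdPar
  Cfsg.Agent.KFacts.RgdSL Cfsg.Agent.KFacts.RgdTI Cfsg.Agent.KFacts.RgdCent Cfsg.Agent.KFacts.RgdOdd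
  Cfsg.Agent.KFacts.RgdEx
open scoped commutatorElement

variable {I W Y : Type*} [Fintype I] [DecidableEq I] [Group W] [Group Y] {M : CoxeterMatrix I}
  {cs : CoxeterSystem M W} {A : I → I → ℤ} {h : IsCartan M A} {T : Subgroup Y} {n : I → Y}
  {X : (I → ℤ) → Subgroup Y}

/-- the centraliser fact (K2) in `C_G(E)` -/
def FactTwo (cs : CoxeterSystem M W) (h : IsCartan M A) (T : Subgroup Y) (X : (I → ℤ) → Subgroup Y)
    (E : Subgroup Y) : Prop :=
  ∀ a b, IsRoot cs h a → IsRoot cs h b → cpr cs h a b = 1 → ∀ c : Y, (∀ e ∈ E, c * e = e * c) →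
    (∀ x ∈ Psi cs h a b, ∀ v ∈ X x, c * v = v * c) → ∃ x ∈ X a, ∃ z ∈ X b, (x * z)⁻¹ * c ∈ C1 (GG cs h T X) E

/-- the centraliser fact (K1) in `C_G(E)` -/
def FactOne (cs : CoxeterSystem M W) (h : IsCartan M A) (T : Subgroup Y) (X : (I → ℤ) → Subgroup Y)
    (E : Subgroup Y) : Prop :=
  ∀ a, IsRoot cs h a → ∀ c : Y, (∀ e ∈ E, c * e = e * c) →
    (∀ x ∈ Rad cs h a, ∀ v ∈ X x, c * v = v * c) → ∃ z ∈ X a, z⁻¹ * c ∈ C1 (GG cs h T X) E

section

variable [Finite W] (Rd : RGD cs h 2 T n X) (hs : SL cs h) (hL : ∀ a, IsRoot cs h a → LR Rd a)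

include Rd

omit [Finite W] in
theorem T_odd {t : Y} (ht : t ∈ T) : ∃ l : ℕ, Odd l ∧ t ^ l = 1 := by
  refine ⟨Nat.card ↥T, ?_, ?_⟩
  · have := Rd.tcop
    rwa [Nat.coprime_two_right] at this
  · have h1 : (⟨t, ht⟩ : ↥T) ^ Nat.card ↥T = 1 := pow_card_eq_one'
    exact congrArg Subtype.val h1

/-- the element over the reflection in `s` -/
theorem exists_refl {r s : I → ℤ} (hA : A2 cs h r s) :
    ∃ m ∈ X s ⊔ X (-s), cj m (X r) = X (r + s) ∧
      cj m (RGD.Sup X (Ge cs h r)) = RGD.Sup X (Ge cs h (r + s)) := by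
  obtain ⟨⟨u, hu⟩, hu1⟩ := (Subgroup.ne_bot_iff_exists_ne_one).1 (X_ne_bot Rd hA.ry)
  obtain ⟨w, hw, m, hm, hmw, -⟩ := hA.symm.exists_mu' Rd hu (fun h0 => hu1 (Subtype.ext h0))
  refine ⟨m, hm, ?_, ?_⟩
  · rw [Rd.conj_rp hmw hA.rx, hw, hA.cxy, neg_one_smul, sub_neg_eq_add]
  · rw [cj_Sup_Ge Rd hA.rx hmw, hw, hA.cxy, neg_one_smul, sub_neg_eq_add]

include hs

/-- `X s` normalises `⟨X a : (a, r) ≥ 0, (a, r + s) ≥ 0⟩` -/
theorem norm_psi (hL : ∀ a, IsRoot cs h a → LR Rd a) {r s : I → ℤ} (hA : A2 cs h r s) {x y : Y} (hx : x ∈ X s)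
    (hy : y ∈ RGD.Sup X (Psi cs h r (r + s))) : x * y * x⁻¹ ∈ RGD.Sup X (Psi cs h r (r + s)) := by
  have hxi : x ∈ Subgroup.normalizer (RGD.Sup X (Psi cs h r (r + s)) : Set Y) := by
    rw [mem_normalizer_iff_cj]
    have key : ∀ x ∈ X s, cj x (RGD.Sup X (Psi cs h r (r + s))) ≤ RGD.Sup X (Psi cs h r (r + s)) := by
      intro x hx
      rw [RGD.cj_Sup]
      refine iSup_le ?_
      rintro ⟨z, hz⟩ v hv
      rw [mem_cj] at hv
      obtain ⟨u, hu, rfl⟩ : ∃ u ∈ X z, v = x * u * x⁻¹ := ⟨_, hv, by group⟩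
      have hzr := hz.1
      have hd : IsRoot cs h (r + s) := hA.rxy
      have e1 : cpr cs h z (r + s) = cpr cs h z r + cpr cs h z s := by
        rw [hs z _ hzr hd, cpr_add cs h _ _ hzr, hs r z hA.rx hzr, hs s z hA.ry hzr]
      have h1 := hz.2.1
      have h2 := hz.2.2
      rw [e1] at h2
      rcases hs.cases hzr hA.ry with h3 | h3 | h3
      · exfalso
        rw [h3.1, hA.cyx] at h1
        omega
      · exfalso
        rw [h3.1, cpr_neg_left _ hA.rx, hA.cyx, cpr_neg_left _ hA.ry, cpr_self cs h hA.ry] at h2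
        omega
      · rcases h3.2.2.1.lt_or_eq with h4 | h4
        · -- commute
          have h5 := (hL s hA.ry).comm z hzr (by omega) u hu x hx
          have : x * u * x⁻¹ = u := by rw [← h5]; group
          rw [this]
          exact RGD.le_Sup hz hu
        · have h5 : A2 cs h s z := by
            apply hs.a2 hA.ry hzr
            rw [hs s z hA.ry hzr, ← h4]
          have h6 : ⁅x, u⁆ ∈ X (s + z) := h5.comm_mem Rd hx hu
          have h7 : s + z ∈ Psi cs h r (r + s) := by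
            refine ⟨h5.rxy, ?_, ?_⟩
            · rw [cpr_add cs h _ _ hA.rx, hA.cyx]
              omega
            · have e2 : cpr cs h s (r + s) = 1 := by
                rw [hs s _ hA.ry hd, cpr_add cs h _ _ hA.ry, hA.cxy, cpr_self cs h hA.ry]; norm_num
              rw [cpr_add cs h _ _ hd, e2, e1]
              omega
          have : x * u * x⁻¹ = ⁅x, u⁆ * u := by rw [commutatorElement_def]; group
          rw [this]
          exact mul_mem (RGD.le_Sup h7 h6) (RGD.le_Sup hz hu)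
    apply le_antisymm (key x hx)
    have := cj_mono x (key x⁻¹ (inv_mem hx))
    rwa [cj_cj_inv] at this
  exact (Subgroup.mem_normalizer_iff.1 hxi y).1 hy

theorem exists_h_of_root {r s g : I → ℤ} (hA : A2 cs h r s)
    (hgs : cpr cs h s g = 0) (hgr : A2 cs h g r) {m : Y} (hm : m ∈ X s ⊔ X (-s)) :
    ∀ x ∈ X r, x ≠ 1 → ∀ x' ∈ X r, x' ≠ 1 →
      ∃ t ∈ T, (∀ y ∈ X s, t * y = y * t) ∧ t * m = m * t ∧ t * x * t⁻¹ = x' := by
  intro x hx hx1 x' hx' hx1'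
  obtain ⟨t, ht, e⟩ := hgr.tor_trans Rd hx hx1 hx' hx1'
  refine ⟨t, ht.1, fun y hy => orth_comm Rd hs hgr.rx hA.ry hgs ht.2 hy, ?_, e⟩
  have h1 : X s ⊔ X (-s) ≤ Subgroup.centralizer {t} := by
    refine sup_le ?_ ?_
    · intro u hu
      rw [Subgroup.mem_centralizer_singleton_iff]
      exact (orth_comm Rd hs hgr.rx hA.ry hgs ht.2 hu).symm
    · intro u hu
      rw [Subgroup.mem_centralizer_singleton_iff]
      refine (orth_comm Rd hs hgr.rx hA.ry.neg ?_ ht.2 hu).symm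
      rw [cpr_neg_left _ hgr.rx, hgs, neg_zero]
  exact (Subgroup.mem_centralizer_singleton_iff.1 (h1 hm)).symm

/-- **`KTri` for a simply laced root group datum.** -/
theorem ktri (hL : ∀ a, IsRoot cs h a → LR Rd a) (Tab : ∀ t ∈ T, ∀ t' ∈ T, t * t' = t' * t) {E : Subgroup Y}
    (F1 : FactOne cs h T X E) (F2 : FactTwo cs h T X E)
    {r s g g' : I → ℤ} (hA : A2 cs h r s) (hgs : cpr cs h s g = 0) (hgr : A2 cs h g r)
    (hgs' : cpr cs h r g' = 0) (hgr' : A2 cs h g' s)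
    (big : ∃ x ∈ X r, ∃ x' ∈ X r, x ≠ 1 ∧ x' ≠ 1 ∧ x ≠ x') :
    ∃ k m : Y, KTri (GG cs h T X) E T (X r) (X s) (X (r + s)) (RGD.Sup X (Ge cs h r)) (RGD.Sup X (Ge cs h s))
      (RGD.Sup X (Ge cs h (r + s))) (RGD.Sup X (Psi cs h r (r + s))) (RGD.Sup X (Psi cs h s (r + s)))
      (RGD.Sup X (Psi cs h r s)) k m ∧ cj k (RGD.Sup X (Ge cs h r)) = RGD.Sup X (Ge cs h (r + s)) ∧
      cj m (RGD.Sup X (Ge cs h s)) = RGD.Sup X (Ge cs h (r + s)) := by
  obtain ⟨k, hk, ek, ek2⟩ := exists_refl Rd hA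
  obtain ⟨m, hm, em, em2⟩ := exists_refl Rd hA.symm
  rw [add_comm s r] at em em2
  have hr := hA.rx
  have hsr := hA.ry
  have hd := hA.rxy
  have ersd : ∀ z, IsRoot cs h z → cpr cs h z (r + s) = cpr cs h z r + cpr cs h z s := by
    intro z hz
    rw [hs z _ hz hd, cpr_add cs h _ _ hz, hs r z hr hz, hs s z hsr hz]
  have c1 : cpr cs h r (r + s) = 1 := by rw [ersd r hr, cpr_self cs h hr, hA.cxy]; norm_num
  have c2 : cpr cs h s (r + s) = 1 := by rw [ersd s hsr, hA.cyx, cpr_self cs h hsr]; norm_num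
  have c3 : cpr cs h (r + s) r = 1 := by rw [← hs r _ hr hd, c1]
  have c4 : cpr cs h (r + s) s = 1 := by rw [← hs s _ hsr hd, c2]
  have hG : ∀ z, IsRoot cs h z → X z ≤ GG cs h T X := fun z hz => le_trans (RGD.le_Sup hz) le_sup_right
  have hG2 : ∀ z, IsRoot cs h z → X z ⊔ X (-z) ≤ GG cs h T X := fun z hz => sup_le (hG z hz) (hG (-z) hz.neg)
  have hsub : ∀ a b, Psi cs h a b ⊆ Ge cs h a := fun a b x hx => ⟨hx.1, hx.2.1⟩
  have hsub' : ∀ a b, Psi cs h a b ⊆ Ge cs h b := fun a b x hx => ⟨hx.1, hx.2.2⟩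
  have hdis : ∀ a b, IsRoot cs h a → IsRoot cs h b → a ≠ b → ∀ x ∈ X a, x ∈ X b → x = 1 := by
    intro a b ha hb hab x hx hx'
    have h0 := X_inf_X Rd ha hb hab
    have h1 : x ∈ X a ⊓ X b := ⟨hx, hx'⟩
    rw [h0] at h1
    exact Subgroup.mem_bot.1 h1
  have hSup : ∀ (S : Set (I → ℤ)) (c : Y), (∀ y ∈ RGD.Sup X S, c * y = y * c) → ∀ x ∈ S, ∀ v ∈ X x, c * v = v * c :=
    fun S c hc x hx v hv => hc v (RGD.le_Sup hx hv)
  refine ⟨k, m, ?_, ek2, em2⟩
  exact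
    { XrPd := RGD.le_Sup ⟨hr, by rw [c1]; norm_num⟩
      XsPd := RGD.le_Sup ⟨hsr, by rw [c2]; norm_num⟩
      XdPr := RGD.le_Sup ⟨hd, by rw [c3]; norm_num⟩
      XdPs := RGD.le_Sup ⟨hd, by rw [c4]; norm_num⟩
      TK := le_sup_left
      Tab := Tab
      Todd := fun t ht => T_odd Rd ht
      TXr := fun t ht => Rd.tor r hr t ht
      TXs := fun t ht => Rd.tor s hsr t ht
      TXd := fun t ht => Rd.tor _ hd t ht
      nK := hG2 s hsr hk
      nX := ek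
      mK := hG2 r hr hm
      mX := em
      trr := exists_h_of_root Rd hs hA hgs hgr hk
      trs := exists_h_of_root Rd hs hA.symm hgs' hgr' hm
      cmX := fun x hx y hy => by
        have := hA.comm_mem Rd hx hy
        rwa [commutatorElement_def] at this
      nd := fun x hx y hy hc => by
        by_contra hcon
        push Not at hcon
        exact hA.comm_ne_one Rd hx hcon.1 hy hcon.2 (commutatorElement_eq_one_iff_mul_comm.2 hc)
      big := big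
      disr := hdis r (r + s) hr hd (by
        intro h0
        apply hsr.ne_zero
        have : r + s = r + 0 := by rw [← h0, add_zero]
        exact add_left_cancel this)
      diss := hdis s (r + s) hsr hd (by
        intro h0
        apply hr.ne_zero
        have : r + s = 0 + s := by rw [← h0, zero_add]
        exact add_right_cancel this)
      YrPr := RGD.Sup_mono (hsub _ _)
      YrPd := RGD.Sup_mono (hsub' _ _)
      YrN := fun x hx y hy => norm_psi Rd hs hL hA hx hy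
      K2r := fun c hc hcY => F2 r (r + s) hr hd c1 c hc (hSup _ c hcY)
      YsPs := RGD.Sup_mono (hsub _ _)
      YsPd := RGD.Sup_mono (hsub' _ _)
      YsN := fun x hx y hy => by
        have e : r + s = s + r := add_comm r s
        rw [e] at hy ⊢
        exact norm_psi Rd hs hL hA.symm hx hy
      K2s := fun c hc hcY => F2 s (r + s) hsr hd c2 c hc (hSup _ c hcY)
      YPr := RGD.Sup_mono (hsub _ _)
      YPs := RGD.Sup_mono (hsub' _ _)
      YPd := RGD.Sup_mono fun z hz => ⟨hz.1, by rw [ersd z hz.1]; exact add_nonneg hz.2.1 hz.2.2⟩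
      K1 := fun c hc hcr hcs hcY => by
        apply F1 (r + s) hd c hc
        intro z hz v hv
        by_cases h1 : z = r
        · exact hcr v (h1 ▸ hv)
        by_cases h2 : z = s
        · exact hcs v (h2 ▸ hv)
        -- `(z, r), (z, s) ≥ 0`
        have hz2 := hz.2
        rw [ersd z hz.1] at hz2
        have b1 : cpr cs h z r ≤ 1 := by
          by_contra h3
          exact h1 (hs.eq_of_cpr hz.1 hr (by omega))
        have b2 : cpr cs h z s ≤ 1 := by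
          by_contra h3
          exact h2 (hs.eq_of_cpr hz.1 hsr (by omega))
        have h5 : z ∈ Psi cs h r s := ⟨hz.1, by omega, by omega⟩
        exact hcY v (RGD.le_Sup h5 hv) }

end

end Cfsg.Agent.OddHalf.DblR

end

-- merged: Cfsg.Agent.OddHalf.DblR.RgdPair
section

/-!
# ODD, D4: no commuting pair of root type for a simply laced `K`

`no_pair_rgd` : `KTri.no_pair` for a simply laced root group datum.
-/

set_option autoImplicit false
set_option linter.unusedSectionVars false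

namespace Cfsg.Agent.OddHalf.DblR

open CoxeterSystem Cfsg.Agent.ChevalleyStructure.CoxeterGeom Cfsg.Agent.Tits.Roots Cfsg.Agent.Tits.Core
  Cfsg.Agent.Tits.RootComb Cfsg.Agent.Tits.Exchange Cfsg.Agent.Nodes.Reps Cfsg.Agent.Nodes.BNOf
  Cfsg.Agent.Nodes.StabComb Cfsg.Agent.Nodes.Bruhat Cfsg.Agent.Nodes.OppDec Cfsg.Agent.Nodes.LeviDec
  Cfsg.Agent.Nodes.NormX Cfsg.Agent.Nodes.Coroot Cfsg.Agent.Nodes.PosPair Cfsg.Agent.KFacts.RgdPar
  Cfsg.Agent.KFacts.RgdSL Cfsg.Agent.KFacts.RgdTI Cfsg.Agent.KFacts.RgdCent Cfsg.Agent.KFacts.RgdOdd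
  Cfsg.Agent.KFacts.RgdEx
open scoped commutatorElement

variable {I W Y : Type*} [Fintype I] [DecidableEq I] [Group W] [Group Y] {M : CoxeterMatrix I}
  {cs : CoxeterSystem M W} {A : I → I → ℤ} {h : IsCartan M A} {T : Subgroup Y} {n : I → Y}
  {X : (I → ℤ) → Subgroup Y}

theorem cj_eq_of_le {g : Y} {S : Subgroup Y} (h1 : cj g S ≤ S) (h2 : cj g⁻¹ S ≤ S) : cj g S = S := by
  apply le_antisymm h1
  have := cj_mono g h2
  rwa [cj_cj_inv] at this

theorem cj_inv_eq {g : Y} {S : Subgroup Y} (h1 : cj g S = S) : cj g⁻¹ S = S := by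
  conv_lhs => rw [← h1]
  exact cj_inv_cj g S

section

variable [Finite W] (Rd : RGD cs h 2 T n X)

include Rd

/-- `T P` -/
theorem mem_PS {r : I → ℤ} {k : Y} (hk : k ∈ PS T X (Ge cs h r)) :
    ∃ t ∈ T, ∃ p ∈ RGD.Sup X (Ge cs h r), k = t * p := by
  have hT : T ≤ Subgroup.normalizer (RGD.Sup X (Ge cs h r) : Set Y) := Rd.T_le_normalizer fun x hx => hx.1
  have h1 : k ∈ ((T ⊔ RGD.Sup X (Ge cs h r) : Subgroup Y) : Set Y) := hk
  rw [Subgroup.coe_mul_of_left_le_normalizer_right _ _ hT, Set.mem_mul] at h1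
  obtain ⟨t, ht, u, hu, e⟩ := h1
  exact ⟨t, ht, u, hu, e.symm⟩

theorem conj_T_P {r : I → ℤ} {t p : Y} (ht : t ∈ T) (hp : p ∈ RGD.Sup X (Ge cs h r)) :
    t * p * t⁻¹ ∈ RGD.Sup X (Ge cs h r) := by
  have hT : T ≤ Subgroup.normalizer (RGD.Sup X (Ge cs h r) : Set Y) := Rd.T_le_normalizer fun x hx => hx.1
  exact (Subgroup.mem_normalizer_iff.1 (hT ht) p).1 hp

theorem conj_T_P' {r : I → ℤ} {t p : Y} (ht : t ∈ T) (hp : p ∈ RGD.Sup X (Ge cs h r)) :
    t⁻¹ * p * t ∈ RGD.Sup X (Ge cs h r) := by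
  have := conj_T_P Rd (inv_mem ht) hp
  rwa [inv_inv] at this

theorem norX {r : I → ℤ} (L : LR Rd r) (Tab : ∀ t ∈ T, ∀ t' ∈ T, t * t' = t' * t) {T0 : Subgroup Y} (hT0 : T0 ≤ T) :
    NorX (GG cs h T X) (RGD.Sup X (Ge cs h r)) (X r) T0 := by
  have key : ∀ k ∈ GG cs h T X, cj k (X r) = X r → ∃ t ∈ T, ∃ p ∈ RGD.Sup X (Ge cs h r), k = t * p := by
    intro k hk hkX
    apply mem_PS Rd
    rw [← L.normalizer]
    exact ⟨mem_normalizer_iff_cj.2 hkX, hk⟩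
  refine ⟨?_, ?_⟩
  · intro k hk hkX
    obtain ⟨t, ht, p, hp, rfl⟩ := key k hk hkX
    have hT : T ≤ Subgroup.normalizer (RGD.Sup X (Ge cs h r) : Set Y) := Rd.T_le_normalizer fun x hx => hx.1
    rw [cj_mul, cj_eq_of_mem hp, mem_normalizer_iff_cj.1 (hT ht)]
  · intro k hk hkX a ha
    obtain ⟨t, ht, p, hp, rfl⟩ := key k hk hkX
    have haT := hT0 ha
    have hta := Tab t ht a haT
    refine ⟨t * (a⁻¹ * p * a * p⁻¹) * t⁻¹, conj_T_P Rd ht (mul_mem (conj_T_P' Rd haT hp) (inv_mem hp)), ?_⟩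
    calc t * p * a * (t * p)⁻¹ = (t * a) * (a⁻¹ * p * a * p⁻¹) * t⁻¹ := by group
      _ = a * (t * (a⁻¹ * p * a * p⁻¹) * t⁻¹) := by rw [hta]; group

/-- perfect subgroups of `C(x)` -/
theorem le_P_of_perfect {r : I → ℤ} (L : LR Rd r) (Tab : ∀ t ∈ T, ∀ t' ∈ T, t * t' = t' * t) {x : Y}
    (hx : x ∈ X r) (hx1 : x ≠ 1) {H : Subgroup Y} (hH : H ≤ GG cs h T X) (hHx : ∀ y ∈ H, y * x = x * y)
    (hp : H ≤ ⁅H, H⁆) : H ≤ RGD.Sup X (Ge cs h r) := by
  refine hp.trans ?_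
  rw [Subgroup.commutator_le]
  intro y hy y' hy'
  obtain ⟨t, ht, -, q, hq, rfl⟩ := (L.mem_centralizer (hH hy) hx hx1).1 (hHx y hy)
  obtain ⟨t', ht', -, q', hq', rfl⟩ := (L.mem_centralizer (hH hy') hx hx1).1 (hHx y' hy')
  have e := Tab t ht t' ht'
  have h1 : t'⁻¹ * q * t' * q' ∈ RGD.Sup X (Ge cs h r) := mul_mem (conj_T_P' Rd ht' hq) hq'
  have h2 : t⁻¹ * q' * t * q ∈ RGD.Sup X (Ge cs h r) := mul_mem (conj_T_P' Rd ht hq') hq
  have h3 := conj_T_P Rd (mul_mem ht ht') (mul_mem h1 (inv_mem h2))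
  have e2 : ⁅t * q, t' * q'⁆ = t * t' * (t'⁻¹ * q * t' * q' * (t⁻¹ * q' * t * q)⁻¹) * (t * t')⁻¹ := by
    rw [commutatorElement_def]
    calc t * q * (t' * q') * (t * q)⁻¹ * (t' * q')⁻¹
        = t * t' * (t'⁻¹ * q * t' * q') * (t' * q' * t * q)⁻¹ := by group
      _ = t * t' * (t'⁻¹ * q * t' * q') * ((t' * t) * (t⁻¹ * q' * t * q))⁻¹ := by group
      _ = t * t' * (t'⁻¹ * q * t' * q') * ((t * t') * (t⁻¹ * q' * t * q))⁻¹ := by rw [e]
      _ = _ := by group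
  rw [e2]
  exact h3

theorem isPGroup_rad {r : I → ℤ} (hr : IsRoot cs h r) : IsPGroup 2 ↥(RGD.Sup X (Rad cs h r)) := by
  obtain ⟨w, hw⟩ := exists_dom (cs := cs) (h := h) (ell cs h hr)
  obtain ⟨k, hk⟩ := exists_rp cs Rd.nsys w⁻¹
  have h1 := cj_Sup_Rad Rd hr hk
  have h2 : RGD.Sup X (Rad cs h (rep cs h w⁻¹ r)) ≤ RGD.Sup X (RGD.Pos cs h) := by
    apply RGD.Sup_mono
    intro x hx
    refine ⟨hx.1, ?_⟩
    rcases hx.1.pos_or_neg with h3 | h3
    · exact h3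
    · exfalso
      have h4 : 0 ≤ (pull cs h (ell cs h hr) w) (-x) := dom_nonneg hw (by
        intro k
        have := h3 k
        simp only [Pi.zero_apply, Pi.neg_apply] at this ⊢
        omega)
      have h5 : (pull cs h (ell cs h hr) w) (-x) = -cpr cs h x (rep cs h w⁻¹ r) := by
        rw [map_neg, pull_apply]
        congr 1
        exact cpr_rep_left w x hr
      rw [h5] at h4
      have := hx.2
      omega
  have h3 : IsPGroup 2 ↥(cj k (RGD.Sup X (Rad cs h r))) := by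
    rw [h1]
    exact Rd.isPGroup_Upos.to_le h2
  have h4 : RGD.Sup X (Rad cs h r) = cj k⁻¹ (cj k (RGD.Sup X (Rad cs h r))) := (cj_inv_cj _ _).symm
  rw [h4]
  exact h3.map _

/-- `P_r` determines `Q_r` and `X_r` -/
theorem cj_of_cj_P [Finite Y] (hs : SL cs h) (hL : ∀ a, IsRoot cs h a → LR Rd a) (hN : NoCent cs h T X)
    {r : I → ℤ} (hr : IsRoot cs h r)
    (QN : ∀ p ∈ RGD.Sup X (Ge cs h r), ∀ q ∈ RGD.Sup X (Rad cs h r), p * q * p⁻¹ ∈ RGD.Sup X (Rad cs h r))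
    {g : Y} (hg : cj g (RGD.Sup X (Ge cs h r)) = RGD.Sup X (Ge cs h r)) :
    cj g (RGD.Sup X (Rad cs h r)) = RGD.Sup X (Rad cs h r) ∧ cj g (X r) = X r := by
  have L := hL r hr
  have hXP : X r ≤ RGD.Sup X (Ge cs h r) := RGD.le_Sup ⟨hr, by rw [cpr_self cs h hr]; norm_num⟩
  have hPG : RGD.Sup X (Ge cs h r) ≤ GG cs h T X := le_trans (RGD.Sup_mono fun x hx => hx.1) le_sup_right
  have hQP : RGD.Sup X (Rad cs h r) ≤ RGD.Sup X (Ge cs h r) := RGD.Sup_mono fun x hx => ⟨hx.1, by have := hx.2; omega⟩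
  have key1 : ∀ g : Y, cj g (RGD.Sup X (Ge cs h r)) = RGD.Sup X (Ge cs h r) → cj g (X r) ≤ X r := by
    intro g hg x hx
    rw [mem_cj] at hx
    have hxP : x ∈ RGD.Sup X (Ge cs h r) := by
      rw [← hg, mem_cj]
      exact hXP hx
    refine f3_self Rd hs hL hN hr (hPG hxP) ?_
    intro a ha v hv
    have hvP : v ∈ RGD.Sup X (Ge cs h r) := RGD.le_Sup (S := Ge cs h r) ⟨ha.1, ha.2.1⟩ hv
    have h1 : g⁻¹ * v * g ∈ RGD.Sup X (Ge cs h r) := by
      rw [← mem_cj, hg]; exact hvP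
    have h2 := L.comm' h1 hx
    calc x * v = g * ((g⁻¹ * x * g) * (g⁻¹ * v * g)) * g⁻¹ := by group
      _ = g * ((g⁻¹ * v * g) * (g⁻¹ * x * g)) * g⁻¹ := by rw [h2]
      _ = v * x := by group
  have key2 : ∀ g : Y, cj g (RGD.Sup X (Ge cs h r)) = RGD.Sup X (Ge cs h r) →
      cj g (RGD.Sup X (Rad cs h r)) ≤ RGD.Sup X (Rad cs h r) := by
    intro g hg
    have : Fact (Nat.Prime 2) := ⟨Nat.prime_two⟩
    refine core_le Rd hr ?_ ((isPGroup_rad Rd hr).map _) ?_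
    · refine le_trans (cj_mono g hQP) ?_
      rw [hg]; exact hPG
    · intro u hu
      have hQn : ∀ p ∈ RGD.Sup X (Ge cs h r), cj p (RGD.Sup X (Rad cs h r)) = RGD.Sup X (Rad cs h r) := by
        intro p hp
        have key : ∀ p ∈ RGD.Sup X (Ge cs h r), cj p (RGD.Sup X (Rad cs h r)) ≤ RGD.Sup X (Rad cs h r) := by
          intro p hp x hx
          rw [mem_cj] at hx
          have := QN p hp _ hx
          have e : p * (p⁻¹ * x * p) * p⁻¹ = x := by group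
          rwa [e] at this
        exact cj_eq_of_le (key p hp) (key p⁻¹ (inv_mem hp))
      have h1 : g⁻¹ * u * g ∈ RGD.Sup X (Ge cs h r) := by
        rw [← mem_cj, hg]; exact hu
      have h2 : u * g = g * (g⁻¹ * u * g) := by group
      rw [← cj_mul, h2, cj_mul, hQn _ h1]
  have hgi := cj_inv_eq hg
  exact ⟨cj_eq_of_le (key2 g hg) (key2 g⁻¹ hgi), cj_eq_of_le (key1 g hg) (key1 g⁻¹ hgi)⟩

/-- **No commuting pair of root type**, simply laced root group datum. -/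
theorem no_pair_rgd [Finite Y] (hs : SL cs h) (hL : ∀ a, IsRoot cs h a → LR Rd a) (hN : NoCent cs h T X)
    (Tab : ∀ t ∈ T, ∀ t' ∈ T, t * t' = t' * t) {E T0 : Subgroup Y}
    (F1 : FactOne cs h T X E) (F2 : FactTwo cs h T X E)
    {r s g g' : I → ℤ} (hA : A2 cs h r s) (hgs : cpr cs h s g = 0) (hgr : A2 cs h g r)
    (hgs' : cpr cs h r g' = 0) (hgr' : A2 cs h g' s)
    (hT0 : T0 ≤ T) (L : Loc (GG cs h T X) E (RGD.Sup X (Ge cs h r)) (RGD.Sup X (Rad cs h r)) (X r) T0)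
    (hPp : RGD.Sup X (Ge cs h r) ≤ ⁅RGD.Sup X (Ge cs h r), RGD.Sup X (Ge cs h r)⁆)
    (hout : ∀ H : Subgroup Y, H ≤ Subgroup.normalizer (GG cs h T X : Set Y) → H ≤ ⁅H, H⁆ →
      ∀ x ∈ H, ∃ k ∈ GG cs h T X, ∃ c : Y, (∀ y ∈ GG cs h T X, c * y = y * c) ∧ x = k * c)
    (hC1 : ∀ H : Subgroup Y, H ≤ C1 (GG cs h T X) E → H ≤ ⁅H, H⁆ → H = ⊥)
    {t t' : Y} (ht : t ∈ E) (ht1 : t ≠ 1) (ht' : t' ∈ E) (ht1' : t' ≠ 1) (hne : t' ≠ t)
    {γ k : Y} (hk : k ∈ GG cs h T X) (hg1 : cj γ E ≤ E ⊔ X r) (hg2 : E ≤ cj γ (E ⊔ cj k (X r)))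
    (hg3 : ¬ cj γ E ≤ E) : False := by
  obtain ⟨k1, m1, H, ek, em⟩ := ktri Rd hs hL Tab F1 F2 hA hgs hgr hgs' hgr' L.big
  have hL' := hL r hA.rx
  have hkm : m1⁻¹ * k1 ∈ GG cs h T X := mul_mem (inv_mem H.mK) H.nK
  refine H.no_pair L (norX Rd hL' Tab hT0) (a := 1) (b := m1⁻¹ * k1) (c := k1) (one_mem _) hkm H.nK (cj_one _) ?_ H.nX
    (cj_one _) ?_ ek ht ht1 ht' ht1' hne res res_cj ?_ (fun g hg => cj_of_cj_P Rd hs hL hN hA.rx L.QN hg)
    hk hg1 hg2 hg3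
  · rw [cj_mul, H.nX, ← H.mX, cj_inv_cj]
  · rw [cj_mul, ek, ← em, cj_inv_cj]
  · refine res_eq L.amb (fun p hp x hx => (L.XZ x hx p hp).symm) L.PK (le_trans L.XQ (le_trans L.QP L.PK))
      ⟨t, ht, ht1⟩ hPp hout hC1 ?_
    intro x hx hx1 H hH hHx hHp
    exact le_P_of_perfect Rd hL' Tab hx hx1 hH hHx hHp

end

end Cfsg.Agent.OddHalf.DblR

end
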