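import Cfsg.Agent.KFacts.RgdLoc
import Cfsg.Agent.OddHalf.DblR.Fam
import Cfsg.Agent.KFacts.RgdAutChev
import Cfsg.Agent.OddHalf.DblR.RgdPair

-- merged: Cfsg.Agent.OddHalf.DblR.RgdPerf
section

/-!
# ODD, D4: `P_r = ⟨X a : (a, r) ≥ 0⟩` is perfect, `q > 2`
-/

set_option autoImplicit false
set_option linter.unusedSectionVars false

namespace Cfsg.Agent.OddHalf.DblR

open CoxeterSystem Cfsg.Agent.ChevalleyStructure.CoxeterGeom Cfsg.Agent.Tits.Roots Cfsg.Agent.Tits.Core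
  Cfsg.Agent.Tits.Exchange Cfsg.Agent.Nodes.Reps Cfsg.Agent.Nodes.BNOf Cfsg.Agent.Nodes.StabComb
  Cfsg.Agent.Nodes.Bruhat Cfsg.Agent.Nodes.OppDec Cfsg.Agent.Nodes.PosPair Cfsg.Agent.Nodes.Coroot
  Cfsg.Agent.KFacts.RgdPar Cfsg.Agent.KFacts.RgdSL Cfsg.Agent.KFacts.RgdTI Cfsg.Agent.KFacts.RgdCent
  Cfsg.Agent.KFacts.RgdOdd Cfsg.Agent.KFacts.RgdEx Cfsg.Agent.KFacts.RgdTor Cfsg.Agent.KFacts.RgdKfour
open scoped commutatorElement

variable {I W Y : Type*} [Fintype I] [DecidableEq I] [Group W] [Group Y] {M : CoxeterMatrix I}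
  {cs : CoxeterSystem M W} {A : I → I → ℤ} {h : IsCartan M A} {T : Subgroup Y} {n : I → Y}
  {X : (I → ℤ) → Subgroup Y}

/-- every element of `X x` is a commutator of an element of `X x` with an element of `T ∩ ⟨X x, X (-x)⟩` -/
theorem exists_tor_comm [Finite W] [Finite Y] (R : RGD cs h 2 T n X) (tab : ∀ s ∈ T, ∀ t ∈ T, s * t = t * s)
    {x y : I → ℤ} (hA : A2 cs h x y) (big : ∃ u ∈ X x, ∃ u' ∈ X x, u ≠ 1 ∧ u' ≠ 1 ∧ u ≠ u') :
    ∃ t ∈ T ⊓ (X x ⊔ X (-x)), ∀ u ∈ X x, ∃ v ∈ X x, u = ⁅v, t⁆ := by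
  obtain ⟨u0, hu0, u1, hu1, h0, h1, hne⟩ := big
  obtain ⟨t, ht, e⟩ := tor_self hA R tab hu0 h0 hu1 h1
  have hfr : ∀ u ∈ X x, t * u = u * t → u = 1 := by
    intro u hu hc
    by_contra hu1'
    apply hne
    have h2 : t * u0 * t⁻¹ = 1 * u0 * 1⁻¹ :=
      eq_of_trans (T := T) (S := {v | v ∈ X x ∧ v ≠ 1}) tab (by
        rintro v ⟨hv, hv1⟩ v' ⟨hv', hv1'⟩
        obtain ⟨s, hs, es⟩ := tor_self hA R tab hv hv1 hv' hv1'
        exact ⟨s, hs.1, es⟩) ht.1 (one_mem _) ⟨hu, hu1'⟩ ⟨hu0, h0⟩ (by rw [hc]; group)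
    rw [← e, h2]; group
  refine ⟨t, ht, fun u hu => ?_⟩
  obtain ⟨v, hv, ev⟩ := onto' (X := X x) (κ := t) (fun v hv => tor_mem R hA.rx ht.1 hv) hfr u hu
  refine ⟨v⁻¹, inv_mem hv, ?_⟩
  rw [ev, commutatorElement_def]; group

theorem perfect [Finite W] [Finite Y] {R : RGD cs h 2 T n X} {r : I → ℤ} (H : Hyp R r)
    (big : ∀ b, IsRoot cs h b → ∃ u ∈ X b, ∃ u' ∈ X b, u ≠ 1 ∧ u' ≠ 1 ∧ u ≠ u') :
    RGD.Sup X (Ge cs h r) ≤ ⁅RGD.Sup X (Ge cs h r), RGD.Sup X (Ge cs h r)⁆ := by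
  -- a root that is the sum of two roots of `Ge`
  have key : ∀ {a b : I → ℤ}, A2 cs h a b → a ∈ Ge cs h r → b ∈ Ge cs h r →
      X (a + b) ≤ ⁅RGD.Sup X (Ge cs h r), RGD.Sup X (Ge cs h r)⁆ := by
    intro a b hA ha hb w hw
    obtain ⟨u, hu, hu1⟩ := exists_ne R hA.rx
    obtain ⟨v, hv, rfl⟩ := hA.comm_surj R hu hu1 hw
    exact Subgroup.commutator_mem_commutator (RGD.le_Sup ha hu) (RGD.le_Sup hb hv)
  refine RGD.Sup_le fun a ha => ?_
  rcases lt_or_ge 0 (cpr cs h a r) with h0 | h0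
  · rcases H.rad_cases (b := a) ⟨ha.1, by omega⟩ with rfl | h1
    · -- `a = r`
      obtain ⟨b, hb⟩ := H.ex
      have h2 := key (H.a2 hb) (H.phi1_ge hb) (H.phi1_ge (H.sub_mem hb))
      rwa [add_sub_cancel] at h2
    · obtain ⟨d, hd, hdr, had, -⟩ := H.sep a (r - a) h1 (H.sub_mem h1) (H.sub_ne h1).symm
      have hda : cpr cs h d a = 1 := by rw [H.sl d a hd h1.1, had]
      have hA : A2 cs h (a - d) d := by
        refine H.sl.a2 (isRoot_sub h1.1 hd had) hd ?_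
        rw [cpr_sub_left H.sl hd hd hd, had, cpr_self cs h hd]; norm_num
      have h2 := key hA ⟨hA.rx, by
        rw [cpr_sub_left H.sl hd hd H.root, h1.2, hdr]; norm_num⟩ ⟨hd, by rw [hdr]⟩
      rwa [sub_add_cancel] at h2
  · -- `a` orthogonal to `r`
    have h1 : cpr cs h a r = 0 := le_antisymm h0 ha.2
    obtain ⟨b, hb, hab⟩ := H.nb a ha.1
    have hA : A2 cs h a (-b) := by
      refine H.sl.a2 ha.1 hb.neg ?_
      rw [cpr_neg_right cs h _ hb, hab]
    obtain ⟨t, ht, hall⟩ := exists_tor_comm R H.tab hA (big a ha.1)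
    intro u hu
    obtain ⟨v, hv, rfl⟩ := hall u hu
    refine Subgroup.commutator_mem_commutator (RGD.le_Sup ha hv) ?_
    have h3 : X a ⊔ X (-a) ≤ RGD.Sup X (Ge cs h r) := by
      refine sup_le (RGD.le_Sup ha) (RGD.le_Sup ⟨ha.1.neg, ?_⟩)
      rw [cpr_neg_left _ H.root, h1, neg_zero]
    exact h3 ht.2

end Cfsg.Agent.OddHalf.DblR

end

-- merged: Cfsg.Agent.OddHalf.DblR.Row
section

/-!
# ODD, D4: rows, `K` simply laced of rank at least 3 (not `A₃`) over a field with at least 4 elements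

* `Sheet R` : the facts on the group `Y = ⟨X r⟩` with the root group datum `R`;
* `Std1 K` : the properties of a standard subgroup of `G` which are used;
* **`Sheet.row`** : `f : Y →* G` injective with image `K`, `E` a Sylow 2-subgroup of `C_G(K)` of order at least 4:
  there is no commuting pair of root type.
-/

set_option autoImplicit false
set_option linter.unusedSectionVars false

namespace Cfsg.Agent.OddHalf.DblR

open CoxeterSystem Cfsg.Agent.ChevalleyStructure.CoxeterGeom Cfsg.Agent.Tits.Roots Cfsg.Agent.Tits.Core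
  Cfsg.Agent.Tits.RootComb Cfsg.Agent.Tits.Exchange Cfsg.Agent.Nodes.Reps Cfsg.Agent.Nodes.BNOf
  Cfsg.Agent.Nodes.StabComb Cfsg.Agent.Nodes.Bruhat Cfsg.Agent.Nodes.OppDec Cfsg.Agent.Nodes.LeviDec
  Cfsg.Agent.Nodes.NormX Cfsg.Agent.Nodes.Coroot Cfsg.Agent.Nodes.PosPair Cfsg.Agent.KFacts.RgdPar
  Cfsg.Agent.KFacts.RgdSL Cfsg.Agent.KFacts.RgdTI Cfsg.Agent.KFacts.RgdCent Cfsg.Agent.KFacts.RgdOdd
  Cfsg.Agent.KFacts.RgdEx Cfsg.Agent.KFacts.RgdTor Cfsg.Agent.KFacts.RgdKfour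
open scoped commutatorElement

variable {I W Y : Type*} [Fintype I] [DecidableEq I] [Group W] [Group Y] {M : CoxeterMatrix I}
  {cs : CoxeterSystem M W} {A : I → I → ℤ} {h : IsCartan M A} {T : Subgroup Y} {n : I → Y}
  {X : (I → ℤ) → Subgroup Y}

/-- The facts on `Y`. -/
structure Sheet [Finite W] (R : RGD cs h 2 T n X) : Prop where
  top : RGD.Sup X {x | IsRoot cs h x} = ⊤
  sl : SL cs h
  tab : ∀ s ∈ T, ∀ t ∈ T, s * t = t * s
  sep : ∀ r, IsRoot cs h r → Sep cs h r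
  nb : ∀ a, IsRoot cs h a → ∃ b, IsRoot cs h b ∧ cpr cs h a b = 1
  three : ∀ r s, IsRoot cs h r → IsRoot cs h s → cpr cs h r s = 1 →
    ∃ c, IsRoot cs h c ∧ cpr cs h c r = 1 ∧ cpr cs h c s = 1
  nocent : NoCent cs h T X
  big : ∀ b, IsRoot cs h b → ∃ u ∈ X b, ∃ v ∈ X b, u ≠ 1 ∧ v ≠ 1 ∧ u ≠ v
  k1 : ∀ r, IsRoot cs h r → ∀ α : MulAut Y, (∀ a ∈ Rad cs h r, ∀ x ∈ X a, α x = x) → ∃ z ∈ X r, α = MulAut.conj z
  k2 : ∀ r s, IsRoot cs h r → IsRoot cs h s → cpr cs h r s = 1 → ∀ α : MulAut Y,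
    (∀ a ∈ Psi cs h r s, ∀ x ∈ X a, α x = x) → ∃ z ∈ X r ⊔ X s, α = MulAut.conj z
  /-- perfect groups of automorphisms are inner -/
  out : ∀ H : Subgroup (MulAut Y), H ≤ ⁅H, H⁆ → ∀ α ∈ H, ∃ y, α = MulAut.conj y

theorem Sheet.hyp [Finite W] {R : RGD cs h 2 T n X} (S : Sheet R) {r : I → ℤ} (hr : IsRoot cs h r) : Hyp R r :=
  ⟨S.sl, hr, S.tab, S.sep r hr, S.nb⟩

/-- What is used of a standard subgroup `K` of `G`. -/
structure Std1 {G : Type*} [Group G] (K : Subgroup G) : Prop where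
  /-- centralisers of involutions of `C(K)` normalise `K` -/
  nor : ∀ t ∈ Subgroup.centralizer (K : Set G), t * t = 1 → t ≠ 1 → ∀ g : G, g * t = t * g →
    ∀ k ∈ K, g * k * g⁻¹ ∈ K
  /-- tight embedding -/
  te : ∀ t ∈ Subgroup.centralizer (K : Set G), t * t = 1 → t ≠ 1 → ∀ g : G,
    g * t * g⁻¹ ∈ Subgroup.centralizer (K : Set G) → cj g K = K
  ctr : ∀ k ∈ K, (∀ x ∈ K, k * x = x * k) → k = 1

section

variable [Finite W] {R : RGD cs h 2 T n X} {G : Type*} [Group G] (f : Y →* G)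

theorem map_Sup (S : Set (I → ℤ)) : (RGD.Sup X S).map f = RGD.Sup (fun x => (X x).map f) S := by
  unfold RGD.Sup
  rw [Subgroup.map_iSup]

theorem map_GG : (GG cs h T X).map f = GG cs h (T.map f) (fun x => (X x).map f) := by
  unfold GG
  rw [Subgroup.map_sup, map_Sup]

theorem map_hyp {r : I → ℤ} (R' : RGD cs h 2 (T.map f) (fun i => f (n i)) (fun x => (X x).map f)) (H : Hyp R r) :
    Hyp R' r := by
  refine ⟨H.sl, H.root, ?_, H.sep, H.nb⟩
  rintro _ ⟨s, hs, rfl⟩ _ ⟨t, ht, rfl⟩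
  rw [← map_mul, ← map_mul, H.tab s hs t ht]

theorem map_nocent (hf : Function.Injective f) (hN : NoCent cs h T X) :
    NoCent cs h (T.map f) (fun x => (X x).map f) := by
  rintro _ ⟨t, ht, rfl⟩ h1
  have : t = 1 := by
    apply hN t ht
    intro b hb v hv
    apply hf
    rw [map_mul, map_mul]
    exact h1 b hb (f v) ⟨v, hv, rfl⟩
  rw [this, map_one]

theorem map_big (hf : Function.Injective f)
    (big : ∀ b, IsRoot cs h b → ∃ u ∈ X b, ∃ v ∈ X b, u ≠ 1 ∧ v ≠ 1 ∧ u ≠ v) :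
    ∀ b, IsRoot cs h b → ∃ u ∈ (X b).map f, ∃ v ∈ (X b).map f, u ≠ 1 ∧ v ≠ 1 ∧ u ≠ v := by
  intro b hb
  obtain ⟨u, hu, v, hv, h1, h2, h3⟩ := big b hb
  refine ⟨f u, ⟨u, hu, rfl⟩, f v, ⟨v, hv, rfl⟩, ?_, ?_, ?_⟩
  · intro h0; exact h1 (hf (by rw [h0, map_one]))
  · intro h0; exact h2 (hf (by rw [h0, map_one]))
  · intro h0; exact h3 (hf h0)

/-- the two roots `g`, `g'` -/
theorem exists_tri (sl : SL cs h) (nb : ∀ a, IsRoot cs h a → ∃ b, IsRoot cs h b ∧ cpr cs h a b = 1)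
    (three : ∀ r s, IsRoot cs h r → IsRoot cs h s → cpr cs h r s = 1 →
      ∃ c, IsRoot cs h c ∧ cpr cs h c r = 1 ∧ cpr cs h c s = 1) {r : I → ℤ} (hr : IsRoot cs h r) :
    ∃ s g g', A2 cs h r s ∧ cpr cs h s g = 0 ∧ A2 cs h g r ∧ cpr cs h r g' = 0 ∧ A2 cs h g' s := by
  obtain ⟨b, hb, hrb⟩ := nb r hr
  obtain ⟨c, hc, hcr, hcb⟩ := three r b hr hb hrb
  have hrc : cpr cs h r c = 1 := by rw [sl r c hr hc, hcr]
  have hcs : cpr cs h c (-b) = -1 := by rw [cpr_neg_right cs h _ hb, hcb]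
  have hbr : cpr cs h b r = 1 := by rw [sl b r hb hr, hrb]
  have hbc : cpr cs h b c = 1 := by rw [sl b c hb hc, hcb]
  have hA : A2 cs h r (-b) := sl.a2 hr hb.neg (by rw [cpr_neg_right cs h _ hb, hrb])
  have hg : IsRoot cs h (c - r) := isRoot_sub hc hr hcr
  have hcb' : IsRoot cs h (c - b) := isRoot_sub hc hb hcb
  refine ⟨-b, c - r, -(c - b), hA, ?_, ?_, ?_, ?_⟩
  · rw [sl _ _ hb.neg hg, cpr_neg_right cs h _ hb, cpr_sub_left sl hb hb hb, hcb, hrb]; norm_num
  · refine sl.a2 hg hr ?_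
    rw [cpr_sub_left sl hr hr hr, hcr, cpr_self cs h hr]; norm_num
  · rw [cpr_neg_right cs h _ hcb', sl r _ hr hcb', cpr_sub_left sl hr hr hr, hcr, hbr]; norm_num
  · refine sl.a2 hcb'.neg hb.neg ?_
    rw [cpr_neg_left _ hb.neg, cpr_neg_right cs h _ hb, cpr_sub_left sl hb hb hb, hcb, cpr_self cs h hb]; norm_num

/-- **Row.** No commuting pair of root type. -/
theorem Sheet.row [Finite Y] [Finite G] (S : Sheet R) (hf : Function.Injective f) {K : Subgroup G} (hK : f.range = K)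
    (St : Std1 K) {E : Subgroup G} (hE : E ≤ Subgroup.centralizer (K : Set G)) (hE2 : IsPGroup 2 ↥E)
    (hEmax : ∀ D : Subgroup G, E ≤ D → D ≤ Subgroup.centralizer (K : Set G) → IsPGroup 2 ↥D → D ≤ E)
    (hC1 : ∀ H : Subgroup G, H ≤ C1 K E → H ≤ ⁅H, H⁆ → H = ⊥)
    {t t' : G} (ht : t ∈ E) (ht1 : t ≠ 1) (ht' : t' ∈ E) (ht1' : t' ≠ 1) (hne : t' ≠ t)
    {r : I → ℤ} (hr : IsRoot cs h r) {γ k : G} (hk : k ∈ K) (hg1 : cj γ E ≤ E ⊔ (X r).map f)
    (hg2 : E ≤ cj γ (E ⊔ cj k ((X r).map f))) (hg3 : ¬ cj γ E ≤ E) : False := by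
  subst hK
  have H := S.hyp hr
  set R' := Cfsg.Agent.Nodes.RGDLib.rgd_map_of_injective R f hf with hR'
  have H' : Hyp R' r := map_hyp f R' H
  have hGG : GG cs h (T.map f) (fun x => (X x).map f) = f.range := by
    rw [← map_GG, Cfsg.Agent.KFacts.RgdRigid.GG_eq_top S.top, ← MonoidHom.range_eq_map]
  have hXK : ∀ x, (X x).map f ≤ f.range := by
    rintro x _ ⟨y, -, rfl⟩
    exact ⟨y, rfl⟩
  have hKc : ∀ e ∈ E, ∀ y ∈ f.range, e * y = y * e := fun e he y hy =>
    ((Subgroup.mem_centralizer_iff.1 (hE he)) y hy).symm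
  -- `E` and `cj γ E` have trivial intersection
  have hEγ : ∀ y ∈ cj γ E, y ∈ E → y = 1 := by
    intro y hy hyE
    by_contra hy1
    -- an involution in the intersection
    obtain ⟨m, hm⟩ := hE2 ⟨y, hyE⟩
    have hm' : y ^ 2 ^ m = 1 := congrArg Subtype.val hm
    obtain ⟨j, hj1, hj2⟩ : ∃ j : ℕ, y ^ 2 ^ j ≠ 1 ∧ y ^ 2 ^ (j + 1) = 1 := by
      by_contra hcon
      push Not at hcon
      have key : ∀ j : ℕ, y ^ 2 ^ j ≠ 1 := by
        intro j
        induction j with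
        | zero => simpa using hy1
        | succ j ih => exact hcon j ih
      exact key m hm'
    set z := y ^ 2 ^ j with hz
    have hzz : z * z = 1 := by
      rw [hz, ← pow_two, ← pow_mul, ← pow_succ]; exact hj2
    have hzE : z ∈ E := pow_mem hyE _
    have hzγ : z ∈ cj γ E := pow_mem hy _
    rw [mem_cj] at hzγ
    have h1 : (γ⁻¹ * z * γ) * (γ⁻¹ * z * γ) = 1 := by
      calc (γ⁻¹ * z * γ) * (γ⁻¹ * z * γ) = γ⁻¹ * (z * z) * γ := by group
        _ = 1 := by rw [hzz]; group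
    have h2 : γ⁻¹ * z * γ ≠ 1 := by
      intro h0
      apply hj1
      calc z = γ * (γ⁻¹ * z * γ) * γ⁻¹ := by group
        _ = 1 := by rw [h0]; group
    have h3 : cj γ f.range = f.range := by
      apply St.te _ (hE hzγ) h1 h2 γ
      have : γ * (γ⁻¹ * z * γ) * γ⁻¹ = z := by group
      rw [this]
      exact hE hzE
    apply hg3
    -- `cj γ E ≤ C(K)`, so `cj γ E ≤ E`
    intro x hx
    obtain ⟨e, he, u, hu, rfl⟩ : ∃ e ∈ E, ∃ u ∈ (X r).map f, x = e * u := by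
      have h4 := hg1 hx
      have h8 : x ∈ ((E ⊔ (X r).map f : Subgroup G) : Set G) := h4
      have h7 : (X r).map f ≤ Subgroup.normalizer (E : Set G) := by
        intro u hu
        rw [Subgroup.mem_normalizer_iff]
        intro e
        constructor
        · intro he
          have := hKc e he u (hXK r hu)
          have e2 : u * e * u⁻¹ = e := by rw [← this]; group
          rwa [e2]
        · intro he
          have := hKc _ he u (hXK r hu)
          have e2 : e = u * e * u⁻¹ := by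
            calc e = u⁻¹ * ((u * e * u⁻¹) * u) := by group
              _ = u⁻¹ * (u * (u * e * u⁻¹)) := by rw [this]
              _ = _ := by group
          rw [e2]; exact he
      rw [Subgroup.coe_mul_of_right_le_normalizer_left _ _ h7] at h8
      obtain ⟨e, he, u, hu, e3⟩ := h8
      exact ⟨e, he, u, hu, e3.symm⟩
    have h5 : e * u ∈ Subgroup.centralizer (f.range : Set G) := by
      rw [← h3, ← cj_centralizer]
      exact cj_mono γ hE hx
    have h6 : u ∈ Subgroup.centralizer (f.range : Set G) := by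
      have : u = e⁻¹ * (e * u) := by group
      rw [this]
      exact mul_mem (inv_mem (hE he)) h5
    have h7 : u = 1 := St.ctr u (hXK r hu) fun x hx => ((Subgroup.mem_centralizer_iff.1 h6) x hx).symm
    rw [h7, mul_one]; exact he
  -- `E` is elementary abelian
  have hsplit : ∀ x ∈ E ⊔ (X r).map f, ∃ e ∈ E, ∃ u ∈ (X r).map f, x = e * u := by
    intro x h4
    have h8 : x ∈ ((E ⊔ (X r).map f : Subgroup G) : Set G) := h4
    have h7 : (X r).map f ≤ Subgroup.normalizer (E : Set G) := by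
      intro u hu
      rw [Subgroup.mem_normalizer_iff]
      intro e
      constructor
      · intro he
        have := hKc e he u (hXK r hu)
        have e2 : u * e * u⁻¹ = e := by rw [← this]; group
        rwa [e2]
      · intro he
        have := hKc _ he u (hXK r hu)
        have e2 : e = u * e * u⁻¹ := by
          calc e = u⁻¹ * ((u * e * u⁻¹) * u) := by group
            _ = u⁻¹ * (u * (u * e * u⁻¹)) := by rw [this]
            _ = _ := by group
        rw [e2]; exact he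
    rw [Subgroup.coe_mul_of_right_le_normalizer_left _ _ h7] at h8
    obtain ⟨e, he, u, hu, e3⟩ := h8
    exact ⟨e, he, u, hu, e3.symm⟩
  have hEE : ∀ x ∈ E, x * x = 1 := by
    intro x hx
    have h1 : γ * x * γ⁻¹ ∈ cj γ E := conj_mem_cj.2 hx
    obtain ⟨e, he, u, hu, e1⟩ := hsplit _ (hg1 h1)
    have h2 := hKc e he u (hXK r hu)
    have h3 : u * u = 1 := H'.r_sq hu
    have h4 : (γ * x * γ⁻¹) * (γ * x * γ⁻¹) = e * e := by
      rw [e1]
      calc e * u * (e * u) = e * (u * e) * u := by group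
        _ = e * e * (u * u) := by rw [← h2]; group
        _ = e * e := by rw [h3, mul_one]
    have h5 := hEγ _ (mul_mem h1 h1) (by rw [h4]; exact mul_mem he he)
    calc x * x = γ⁻¹ * ((γ * x * γ⁻¹) * (γ * x * γ⁻¹)) * γ := by group
      _ = 1 := by rw [h5]; group
  have amb : Amb f.range E := ⟨hEE, hKc, fun t ht ht1 g hg k hk => St.nor t (hE ht) (hEE t ht) ht1 g hg k hk, St.ctr⟩
  have two : ∀ c ∈ C1 f.range E, IsPGroup 2 (Subgroup.zpowers c) → c ∈ E := by
    intro c hc hc2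
    have h1 := mem_C1.1 hc
    have h2 : Subgroup.zpowers c ≤ Subgroup.normalizer (E : Set G) := by
      rw [Subgroup.zpowers_le, mem_normalizer_iff_cj]
      have key : ∀ c : G, (∀ t ∈ E, c * t = t * c) → cj c E ≤ E := by
        intro c hc x hx
        rw [mem_cj] at hx
        have h3 := hc _ hx
        have : x = c⁻¹ * x * c := by
          calc x = (c * (c⁻¹ * x * c)) * c⁻¹ := by group
            _ = ((c⁻¹ * x * c) * c) * c⁻¹ := by rw [h3]
            _ = _ := by group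
        rw [this]; exact hx
      exact cj_eq_of_le (key c h1.2) (key c⁻¹ fun t ht => comm_inv (h1.2 t ht))
    have h3 : IsPGroup 2 ↥(E ⊔ Subgroup.zpowers c) := hE2.to_sup_of_normal_left' hc2 h2
    refine hEmax _ le_sup_left ?_ h3 (Subgroup.mem_sup_right (Subgroup.mem_zpowers c))
    refine sup_le hE ?_
    rw [Subgroup.zpowers_le, Subgroup.mem_centralizer_iff]
    exact fun y hy => (h1.1 y hy).symm
  -- elements of `C_G(E)` normalise `K`
  have hnorm : ∀ c : G, (∀ a ∈ E, c * a = a * c) → c ∈ Subgroup.normalizer (f.range : Set G) := by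
    intro c hc
    rw [mem_normalizer_iff_cj]
    have key : ∀ c : G, (∀ a ∈ E, c * a = a * c) → cj c f.range ≤ f.range := by
      intro c hc x hx
      rw [mem_cj] at hx
      have := amb.nor t ht ht1 c (hc t ht) _ hx
      have e2 : c * (c⁻¹ * x * c) * c⁻¹ = x := by group
      rwa [e2] at this
    exact cj_eq_of_le (key c hc) (key c⁻¹ fun t ht => comm_inv (hc t ht))
  have inC1 : ∀ (c : G) (z : Y), (∀ a ∈ E, c * a = a * c) → (∀ y, (f z)⁻¹ * c * f y = f y * ((f z)⁻¹ * c)) →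
      (f z)⁻¹ * c ∈ C1 f.range E := by
    intro c z hc hz
    rw [mem_C1]
    refine ⟨?_, ?_⟩
    · rintro _ ⟨y, rfl⟩
      exact hz y
    · intro a ha
      have h1 := comm_inv' (hKc a ha (f z) ⟨z, rfl⟩)
      calc (f z)⁻¹ * c * a = (f z)⁻¹ * (c * a) := by group
        _ = ((f z)⁻¹ * a) * c := by rw [hc a ha]; group
        _ = a * ((f z)⁻¹ * c) := by rw [← h1]; group
  have F1 : FactOne cs h (T.map f) (fun x => (X x).map f) E := by
    intro a ha c hc hcP
    rw [hGG]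
    obtain ⟨z, hz, hzc⟩ := Cfsg.Agent.KFacts.RgdAutChev.exists_of_aut f hf (S := {y | ∃ b ∈ Rad cs h a, y ∈ X b}) (Z := X a)
      (fun α hα => S.k1 a ha α fun b hb x hx => hα x ⟨b, hb, hx⟩) (hnorm c hc)
      (by rintro x ⟨b, hb, hx⟩; exact hcP b hb _ ⟨x, hx, rfl⟩)
    exact ⟨f z, ⟨z, hz, rfl⟩, inC1 c z hc hzc⟩
  have F2 : FactTwo cs h (T.map f) (fun x => (X x).map f) E := by
    intro a b ha hb hab c hc hcP
    rw [hGG]
    obtain ⟨z, hz, hzc⟩ := Cfsg.Agent.KFacts.RgdAutChev.exists_of_aut f hf (S := {y | ∃ d ∈ Psi cs h a b, y ∈ X d}) (Z := X a ⊔ X b)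
      (fun α hα => S.k2 a b ha hb hab α fun b hb x hx => hα x ⟨b, hb, hx⟩) (hnorm c hc)
      (by rintro x ⟨b, hb, hx⟩; exact hcP b hb _ ⟨x, hx, rfl⟩)
    have hcomm : ∀ x ∈ X a, ∀ y ∈ X b, x * y = y * x := fun x hx y hy =>
      ((S.hyp ha).lr b hb).comm a ha (by rw [hab]; norm_num) x hx y hy
    have h8 : z ∈ ((X a ⊔ X b : Subgroup Y) : Set Y) := hz
    have h7 : X a ≤ Subgroup.normalizer (X b : Set Y) := by
      intro u hu
      rw [mem_normalizer_iff_cj]
      have key : ∀ u ∈ X a, cj u (X b) ≤ X b := by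
        intro u hu x hx
        rw [mem_cj] at hx
        have h3 := hcomm u hu _ hx
        have : x = u⁻¹ * x * u := by
          calc x = (u * (u⁻¹ * x * u)) * u⁻¹ := by group
            _ = ((u⁻¹ * x * u) * u) * u⁻¹ := by rw [h3]
            _ = _ := by group
        rw [this]; exact hx
      exact cj_eq_of_le (key u hu) (key u⁻¹ (inv_mem hu))
    rw [Subgroup.coe_mul_of_left_le_normalizer_right _ _ h7] at h8
    obtain ⟨x, hx, y, hy, rfl⟩ := h8
    refine ⟨f x, ⟨x, hx, rfl⟩, f y, ⟨y, hy, rfl⟩, ?_⟩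
    rw [← map_mul]
    exact inC1 c (x * y) hc hzc
  have k3 : ∀ c : G, (∀ a ∈ E, c * a = a * c) →
      (∀ p ∈ RGD.Sup (fun x => (X x).map f) (Ge cs h r), c * p = p * c) →
      ∃ x ∈ (X r).map f, x⁻¹ * c ∈ C1 (GG cs h (T.map f) (fun x => (X x).map f)) E := by
    intro c hc hcP
    apply F1 r hr c hc
    intro b hb v hv
    have hb' : b ∈ Ge cs h r := ⟨hb.1, le_trans zero_le_one hb.2⟩
    exact hcP v (RGD.le_Sup (X := fun x => (X x).map f) hb' hv)
  obtain ⟨s, g, g', hA, c1, hgr, c2, hgr'⟩ := exists_tri S.sl S.nb S.three hr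
  have big' := map_big (cs := cs) (h := h) f hf S.big
  have L := Cfsg.Agent.KFacts.RgdLoc.loc H' big' (Rr := E) (by rw [hGG]; exact amb) (by rw [hGG]; exact two) k3
  refine no_pair_rgd R' S.sl (fun a ha => H'.lr a ha) (map_nocent f hf S.nocent) H'.tab F1 F2 hA c1 hgr c2 hgr'
    inf_le_left L (perfect H' big') ?_ ?_ ht ht1 ht' ht1' hne (γ := γ) (k := k) (by rw [hGG]; exact hk) hg1 hg2 hg3
  · -- Schreier
    rw [hGG]
    intro H hHN hHp x hx
    -- the action of the normaliser on `Y`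
    let e : Y ≃* ↥f.range := MonoidHom.ofInjective hf
    let φ : ↥(Subgroup.normalizer (f.range : Set G)) →* MulAut Y :=
      (MulAut.congr e.symm).toMonoidHom.comp (Subgroup.normalizerMonoidHom f.range)
    have hφ : ∀ (c : ↥(Subgroup.normalizer (f.range : Set G))) (y : Y), f (φ c y) = c * f y * (c : G)⁻¹ := by
      intro c y
      have h1 : φ c y = e.symm (Subgroup.normalizerMonoidHom f.range c (e y)) := rfl
      have h2 : ∀ z : ↥f.range, f (e.symm z) = z := by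
        intro z
        have : ((e (e.symm z) : ↥f.range) : G) = z := by rw [MulEquiv.apply_symm_apply]
        exact this
      rw [h1, h2]
      rfl
    have h1 : ((H.subgroupOf (Subgroup.normalizer (f.range : Set G))).map φ) ≤
        ⁅(H.subgroupOf (Subgroup.normalizer (f.range : Set G))).map φ,
          (H.subgroupOf (Subgroup.normalizer (f.range : Set G))).map φ⁆ := by
      rw [← Subgroup.map_commutator]
      apply Subgroup.map_mono
      intro y hy
      have hy' : (y : G) ∈ ⁅H, H⁆ := hHp (Subgroup.mem_subgroupOf.1 hy)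
      have h2 : ⁅H, H⁆ = ⁅H.subgroupOf (Subgroup.normalizer (f.range : Set G)),
          H.subgroupOf (Subgroup.normalizer (f.range : Set G))⁆.map (Subgroup.normalizer (f.range : Set G)).subtype := by
        rw [Subgroup.map_commutator, Subgroup.map_subgroupOf_eq_of_le hHN]
      rw [h2] at hy'
      obtain ⟨y', hy1, hy2⟩ := hy'
      have : y' = y := Subtype.ext hy2
      rwa [← this]
    have h2 : φ ⟨x, hHN hx⟩ ∈ (H.subgroupOf (Subgroup.normalizer (f.range : Set G))).map φ :=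
      ⟨⟨x, hHN hx⟩, hx, rfl⟩
    obtain ⟨y, hy⟩ := S.out _ h1 _ h2
    refine ⟨f y, ⟨y, rfl⟩, (f y)⁻¹ * x, ?_, by group⟩
    rintro _ ⟨z, rfl⟩
    have h3 := hφ ⟨x, hHN hx⟩ z
    rw [hy, MulAut.conj_apply, map_mul, map_mul, map_inv] at h3
    have h4 : f y * f z * (f y)⁻¹ = x * f z * x⁻¹ := h3
    calc (f y)⁻¹ * x * f z = (f y)⁻¹ * (x * f z * x⁻¹) * x := by group
      _ = f z * ((f y)⁻¹ * x) := by rw [← h4]; group
  · rw [hGG]; exact hC1

end

end Cfsg.Agent.OddHalf.DblR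

end
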