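import Mathlib
import Cfsg.Agent.OddHalf.D4.Input
import Cfsg.Agent.OddHalf.DblR.RowCore
import Cfsg.Agent.OddHalf.DblR.RowL
import Cfsg.Agent.KFacts.RgdLocL
import Cfsg.Agent.KFacts.RgdAutFacts
import Cfsg.Agent.OddHalf.D4.KP
import Cfsg.Agent.OddHalf.DblR.SheetTwE6
import Cfsg.Agent.OddHalf.DblR.SheetMinus
import Cfsg.Agent.OddHalf.D4.StartFree

-- merged: Cfsg.Agent.OddHalf.DblR.YInput
section

/-!
# ODD, D4: LEMMA INPUT, the facts on the abstract group `Y` (helper552)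

* `YInp S X H` : the facts of `Input.Inp` as facts on the group `Y` alone;
* `YInp.inp` : `Inp f.range (S.map f) (X.map f) (H.map f)` for `f : Y →* G` injective;
* `ind_of_trans` (K-free) : a perfect group `H` generated by 2-elements, `S` Sylow in `H`, `Z(S) ≤ X`, some group of
  automorphisms of `H` transitive on `X ∖ 1` ⟹ `H` is directly indecomposable.
-/

set_option autoImplicit false

namespace Cfsg.Agent.OddHalf.DblR.YInput

open Subgroup Cfsg.Agent.OddHalf.D4 Cfsg.Agent.OddHalf.D4.Basic Cfsg.Agent.OddHalf.D4.Input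
open Cfsg.Agent.OddHalf.D4.CommConj (cj mem_cj cj_mul card_cj mem_cj_mul)
open scoped commutatorElement

/-! ### Direct decompositions -/

section Dir

variable {G : Type*} [Group G]

/-- `H = A × B` -/
structure Dir (H A B : Subgroup G) : Prop where
  le1 : A ≤ H
  le2 : B ≤ H
  com : ∀ a ∈ A, ∀ b ∈ B, a * b = b * a
  dis : ∀ x ∈ A, x ∈ B → x = 1
  dec : ∀ y ∈ H, ∃ a ∈ A, ∃ b ∈ B, y = a * b

variable {H A B A' B' : Subgroup G}

theorem Dir.symm (h : Dir H A B) : Dir H B A :=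
  ⟨h.le2, h.le1, fun b hb a ha => (h.com a ha b hb).symm, fun x h1 h2 => h.dis x h2 h1, fun y hy => by
    obtain ⟨a, ha, b, hb, e⟩ := h.dec y hy
    exact ⟨b, hb, a, ha, by rw [e, h.com a ha b hb]⟩⟩

theorem Dir.nrm (h : Dir H A B) : ∀ y ∈ H, ∀ a ∈ A, y * a * y⁻¹ ∈ A := by
  intro y hy a ha
  obtain ⟨a', ha', b, hb, rfl⟩ := h.dec y hy
  have e : a' * b * a * (a' * b)⁻¹ = a' * a * a'⁻¹ := by
    have h1 := h.com a ha b hb
    calc a' * b * a * (a' * b)⁻¹ = a' * (b * a) * b⁻¹ * a'⁻¹ := by group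
      _ = a' * (a * b) * b⁻¹ * a'⁻¹ := by rw [h1]
      _ = _ := by group
  rw [e]
  exact mul_mem (mul_mem ha' ha) (inv_mem ha')

theorem Dir.perf (h : Dir H A B) (hp : H ≤ ⁅H, H⁆) : A ≤ ⁅A, A⁆ := by
  have h1 := proj_perf (L := B) (D := A) h.symm.com h.symm.dec hp (fun x h1 h2 => h.dis x h2 h1)
  have h2 : proj h.symm.com H = A := by
    apply le_antisymm (fun a ha => ha.1)
    intro a ha
    exact ⟨ha, 1, one_mem _, by rw [one_mul]; exact h.le1 ha⟩
  rwa [h2] at h1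

/-- a perfect group is the product of its intersections with the factors of a second decomposition -/
theorem Dir.refine (h : Dir H A B) (h' : Dir H A' B') (hp : H ≤ ⁅H, H⁆) :
    ∀ a ∈ A, ∃ x ∈ A ⊓ A', ∃ y ∈ A ⊓ B', a = x * y := by
  -- the product is a subgroup
  let P : Subgroup G :=
    { carrier := {a | ∃ x ∈ A ⊓ A', ∃ y ∈ A ⊓ B', a = x * y}
      one_mem' := ⟨1, one_mem _, 1, one_mem _, by rw [one_mul]⟩
      mul_mem' := by
        rintro _ _ ⟨x, hx, y, hy, rfl⟩ ⟨x', hx', y', hy', rfl⟩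
        refine ⟨x * x', mul_mem hx hx', y * y', mul_mem hy hy', ?_⟩
        have h1 := h'.com x' (Subgroup.mem_inf.1 hx').2 y (Subgroup.mem_inf.1 hy).2
        calc x * y * (x' * y') = x * (y * x') * y' := by group
          _ = x * (x' * y) * y' := by rw [h1]
          _ = _ := by group
      inv_mem' := by
        rintro _ ⟨x, hx, y, hy, rfl⟩
        refine ⟨x⁻¹, inv_mem hx, y⁻¹, inv_mem hy, ?_⟩
        have h1 := h'.com x⁻¹ (inv_mem (Subgroup.mem_inf.1 hx).2) y⁻¹ (inv_mem (Subgroup.mem_inf.1 hy).2)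
        rw [h1]; group }
  have h1 : A ≤ P := by
    refine (h.perf hp).trans ?_
    rw [Subgroup.commutator_le]
    intro a ha c hc
    obtain ⟨x, hx, y, hy, rfl⟩ := h'.dec c (h.le1 hc)
    have hxH := h'.le1 hx
    have hyH := h'.le2 hy
    refine ⟨⁅a, x⁆, ?_, x * ⁅a, y⁆ * x⁻¹, ?_, ?_⟩
    · refine Subgroup.mem_inf.2 ⟨?_, ?_⟩
      · have e : ⁅a, x⁆ = a * (x * a⁻¹ * x⁻¹) := by rw [commutatorElement_def]; group
        rw [e]; exact mul_mem ha (h.nrm x hxH _ (inv_mem ha))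
      · rw [commutatorElement_def]
        exact mul_mem (h'.nrm a (h.le1 ha) x hx) (inv_mem hx)
    · refine Subgroup.mem_inf.2 ⟨?_, ?_⟩
      · have e : ⁅a, y⁆ = a * (y * a⁻¹ * y⁻¹) := by rw [commutatorElement_def]; group
        rw [e]; exact h.nrm x hxH _ (mul_mem ha (h.nrm y hyH _ (inv_mem ha)))
      · rw [commutatorElement_def]
        exact h'.symm.nrm x hxH _ (mul_mem (h'.symm.nrm a (h.le1 ha) y hy) (inv_mem hy))
    · simp only [commutatorElement_def]; group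
  exact fun a ha => h1 ha

/-- the intersection of two direct factors of a perfect group is a direct factor -/
theorem Dir.inf (h : Dir H A B) (h' : Dir H A' B') (hp : H ≤ ⁅H, H⁆) : Dir H (A ⊓ A') ((A ⊓ B') ⊔ B) := by
  have hcom : ∀ y ∈ A ⊓ B', ∀ b ∈ B, y * b = b * y := fun y hy b hb => h.com y (Subgroup.mem_inf.1 hy).1 b hb
  have hsup : ∀ z ∈ (A ⊓ B') ⊔ B, ∃ y ∈ A ⊓ B', ∃ b ∈ B, z = y * b := by
    intro z hz
    have h7 : A ⊓ B' ≤ Subgroup.normalizer (B : Set G) := by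
      intro u hu
      rw [Subgroup.mem_normalizer_iff]
      intro e
      constructor
      · intro he
        have e2 : u * e * u⁻¹ = e := by rw [hcom u hu e he]; group
        rwa [e2]
      · intro he
        have h1 := hcom u⁻¹ (inv_mem hu) _ he
        have e2 : e = u * e * u⁻¹ := by
          calc e = (u⁻¹ * (u * e * u⁻¹)) * u := by group
            _ = ((u * e * u⁻¹) * u⁻¹) * u := by rw [h1]
            _ = _ := by group
        rw [e2]; exact he
    have h8 : z ∈ (((A ⊓ B') ⊔ B : Subgroup G) : Set G) := hz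
    rw [Subgroup.coe_mul_of_left_le_normalizer_right _ _ h7] at h8
    obtain ⟨y, hy, b, hb, e⟩ := h8
    exact ⟨y, hy, b, hb, e.symm⟩
  refine ⟨inf_le_left.trans h.le1, sup_le (inf_le_left.trans h.le1) h.le2, ?_, ?_, ?_⟩
  · rintro x ⟨hx, hx'⟩ z hz
    obtain ⟨y, hy, b, hb, rfl⟩ := hsup z hz
    have h1 := h'.com x hx' y hy.2
    have h2 := h.com x hx b hb
    calc x * (y * b) = (x * y) * b := by group
      _ = y * (x * b) := by rw [h1]; group
      _ = _ := by rw [h2]; group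
  · rintro x ⟨hx, hx'⟩ hz
    obtain ⟨y, hy, b, hb, rfl⟩ := hsup x hz
    have h1 : b = 1 := h.dis b (by
      have : b = y⁻¹ * (y * b) := by group
      rw [this]
      exact mul_mem (inv_mem hy.1) hx) hb
    rw [h1, mul_one] at hx' ⊢
    exact h'.dis y hx' hy.2
  · intro z hz
    obtain ⟨a, ha, b, hb, rfl⟩ := h.dec z hz
    obtain ⟨x, hx, y, hy, rfl⟩ := h.refine h' hp a ha
    exact ⟨x, hx, y * b, mul_mem (Subgroup.mem_sup_left hy) (Subgroup.mem_sup_right hb), by group⟩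

theorem Dir.cj (h : Dir H A B) {t : G} (ht : CommConj.cj t H = H) :
    Dir H (CommConj.cj t A) (CommConj.cj t B) := by
  have h1 : ∀ C : Subgroup G, C ≤ H → CommConj.cj t C ≤ H := fun C hC => by
    rw [← ht]; exact map_mono hC
  refine ⟨h1 A h.le1, h1 B h.le2, ?_, ?_, ?_⟩
  · intro a ha b hb
    rw [mem_cj] at ha hb
    have h2 := h.com _ ha _ hb
    calc a * b = t * ((t⁻¹ * a * t) * (t⁻¹ * b * t)) * t⁻¹ := by group
      _ = t * ((t⁻¹ * b * t) * (t⁻¹ * a * t)) * t⁻¹ := by rw [h2]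
      _ = _ := by group
  · intro x hx hx'
    rw [mem_cj] at hx hx'
    have h2 := h.dis _ hx hx'
    calc x = t * (t⁻¹ * x * t) * t⁻¹ := by group
      _ = 1 := by rw [h2]; group
  · intro y hy
    rw [← ht, mem_cj] at hy
    obtain ⟨a, ha, b, hb, e⟩ := h.dec _ hy
    refine ⟨t * a * t⁻¹, mem_cj_mul ha, t * b * t⁻¹, mem_cj_mul hb, ?_⟩
    calc y = t * (t⁻¹ * y * t) * t⁻¹ := by group
      _ = _ := by rw [e]; group

/-- **Direct indecomposability from transitivity on `X ∖ 1`.** -/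
theorem dir_of_trans [Finite G] {H S X : Subgroup G} (perf : H ≤ ⁅H, H⁆)
    (gen : H ≤ Subgroup.closure {x | x ∈ H ∧ ∃ k : ℕ, x ^ 2 ^ k = 1}) (hS : IsSyl S H)
    (hX : ∀ w ∈ S, (∀ s ∈ S, s * w = w * s) → w ∈ X)
    (tr : ∀ x ∈ X, ∀ y ∈ X, x ≠ 1 → y ≠ 1 → ∃ t : G, CommConj.cj t H = H ∧ t * x * t⁻¹ = y)
    {A B : Subgroup G} (h : Dir H A B) : A = ⊥ ∨ B = ⊥ := by
  -- every nontrivial factor meets `X`
  have key : ∀ A B : Subgroup G, Dir H A B → A ≠ ⊥ → ∃ w ∈ A, w ∈ X ∧ w ≠ 1 := by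
    intro A B h hA
    -- a 2-element of `A`
    obtain ⟨a, ha, ha1, k, hak⟩ : ∃ a ∈ A, a ≠ 1 ∧ ∃ k : ℕ, a ^ 2 ^ k = 1 := by
      by_contra hcon
      push Not at hcon
      apply hA
      have h1 : H ≤ B := by
        refine gen.trans ((Subgroup.closure_le _).2 ?_)
        rintro x ⟨hx, k, hk⟩
        obtain ⟨a, ha, b, hb, rfl⟩ := h.dec x hx
        have h2 : (a * b) ^ 2 ^ k = a ^ 2 ^ k * b ^ 2 ^ k := Commute.mul_pow (h.com a ha b hb) _
        have h3 : a ^ 2 ^ k = 1 := by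
          apply h.dis _ (pow_mem ha _)
          rw [h2] at hk
          rw [eq_inv_of_mul_eq_one_left hk]
          exact inv_mem (pow_mem hb _)
        have h4 : a = 1 := by
          by_contra h5
          exact hcon a ha h5 k h3
        rw [h4, one_mul]; exact hb
      rw [Subgroup.eq_bot_iff_forall]
      intro x hx
      exact h.dis x hx (h1 (h.le1 hx))
    -- a conjugate of it in `S`
    have hz : IsPGroup 2 ↥(Subgroup.zpowers a) := by
      rintro ⟨x, hx⟩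
      obtain ⟨m, rfl⟩ := Subgroup.mem_zpowers_iff.1 hx
      refine ⟨k, Subtype.ext ?_⟩
      show (a ^ m) ^ 2 ^ k = 1
      rw [← zpow_natCast, ← zpow_mul, mul_comm, zpow_mul, zpow_natCast, hak, one_zpow]
    obtain ⟨m, hm, hmS⟩ := hS.conj_into hz (by rw [Subgroup.zpowers_le]; exact h.le1 ha)
    have h1 := hmS a (Subgroup.mem_zpowers a)
    have h2 : m * a * m⁻¹ ∈ A := h.nrm m hm a ha
    obtain ⟨w, ⟨hwS, hwA⟩, hw2, hwc⟩ := exists_central_invol (T := S) (N := S ⊓ A) hS.two inf_le_left (by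
      intro h3
      have h4 : m * a * m⁻¹ ∈ S ⊓ A := ⟨h1, h2⟩
      rw [h3, Subgroup.mem_bot] at h4
      apply ha1
      calc a = m⁻¹ * (m * a * m⁻¹) * m := by group
        _ = 1 := by rw [h4]; group) (by
      rintro t ht x ⟨hx1, hx2⟩
      exact Subgroup.mem_inf.2 ⟨mul_mem (mul_mem ht hx1) (inv_mem ht), h.nrm t (hS.le ht) x hx2⟩)
    refine ⟨w, hwA, hX w hwS hwc, ?_⟩
    rintro rfl
    rw [orderOf_one] at hw2
    exact absurd hw2 (by norm_num)
  -- a nontrivial factor of minimal order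
  by_contra hcon
  push Not at hcon
  obtain ⟨hA, hB⟩ := hcon
  have hex : ∃ m : ℕ, ∃ A B : Subgroup G, Dir H A B ∧ A ≠ ⊥ ∧ Nat.card ↥A = m := ⟨_, A, B, h, hA, rfl⟩
  classical
  obtain ⟨C, D, hCD, hC, hcard⟩ := Nat.find_spec hex
  have hmin : ∀ A B : Subgroup G, Dir H A B → A ≠ ⊥ → Nat.card ↥C ≤ Nat.card ↥A := by
    intro A B h hA
    rw [hcard]
    exact Nat.find_min' hex ⟨A, B, h, hA, rfl⟩
  have hD : D ≠ ⊥ := by
    rintro rfl
    have h1 : H ≤ C := by
      intro y hy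
      obtain ⟨a, ha, b, hb, rfl⟩ := hCD.dec y hy
      rw [Subgroup.mem_bot] at hb
      rw [hb, mul_one]; exact ha
    have h2 : A = H := by
      apply Subgroup.eq_of_le_of_card_ge h.le1
      exact (Subgroup.card_le_of_le h1).trans (hmin A B h hA)
    apply hB
    rw [Subgroup.eq_bot_iff_forall]
    intro x hx
    exact h.dis x (by rw [h2]; exact h.le2 hx) hx
  obtain ⟨w, hwC, hwX, hw1⟩ := key C D hCD hC
  obtain ⟨v, hvD, hvX, hv1⟩ := key D C hCD.symm hD
  have hwv1 : w * v ≠ 1 := by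
    intro h0
    apply hw1
    apply hCD.dis w hwC
    rw [eq_inv_of_mul_eq_one_left h0]
    exact inv_mem hvD
  obtain ⟨t, ht, e⟩ := tr w hwX (w * v) (mul_mem hwX hvX) hw1 hwv1
  have hT := hCD.cj ht
  have hwt : w * v ∈ CommConj.cj t C := by rw [← e]; exact mem_cj_mul hwC
  by_cases h1 : C ⊓ CommConj.cj t C = ⊥
  · -- `C^t ≤ D`
    obtain ⟨x, hx, y, hy, e2⟩ := hT.refine hCD perf _ hwt
    have hx1 : x = 1 := by
      rw [← Subgroup.mem_bot, ← h1]
      exact ⟨hx.2, hx.1⟩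
    rw [hx1, one_mul] at e2
    apply hw1
    apply hCD.dis w hwC
    have : w = (w * v) * v⁻¹ := by group
    rw [this, e2]
    exact mul_mem hy.2 (inv_mem hvD)
  · have h2 := hmin _ _ (hCD.inf hT perf) h1
    have h3 : C ⊓ CommConj.cj t C = C := Subgroup.eq_of_le_of_card_ge inf_le_left h2
    have h4 : C ≤ CommConj.cj t C := inf_eq_left.1 h3
    have h5 : C = CommConj.cj t C := Subgroup.eq_of_le_of_card_ge h4 (by rw [card_cj])
    rw [← h5] at hwt
    apply hv1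
    apply hCD.dis v _ hvD
    have : v = w⁻¹ * (w * v) := by group
    rw [this]
    exact mul_mem (inv_mem hwC) hwt

end Dir

/-! ### The facts on `Y` -/

/-- The facts of LEMMA INPUT on the group `Y`: `S` a Sylow 2-subgroup, `X` its centre, `H` the largest perfect subgroup
of `C(w)`, `1 ≠ w ∈ X`. -/
structure YInp {Y : Type*} [Group Y] (S X H : Subgroup Y) : Prop where
  syl : IsSyl S ⊤
  ctr : ∀ x : Y, (∀ y : Y, x * y = y * x) → x = 1
  simp : ∀ N : Subgroup Y, N.Normal → N = ⊥ ∨ N = ⊤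
  XS : X ≤ S
  SH : S ≤ H
  HX : ∀ y ∈ H, ∀ x ∈ X, y * x = x * y
  perf : H ≤ ⁅H, H⁆
  cen : ∀ α : MulAut Y, (∃ k : ℕ, α ^ 2 ^ k = 1) → (∀ s ∈ S, α s = s) → ∃ x ∈ X, α = MulAut.conj x
  res : ∀ w ∈ X, w ≠ 1 → ∀ P : Subgroup Y, P ≤ ⁅P, P⁆ → (∀ y ∈ P, y * w = w * y) → P ≤ H
  out : ∀ P : Subgroup (MulAut Y), P ≤ ⁅P, P⁆ → ∀ α ∈ P, ∃ y, α = MulAut.conj y
  ind : ∀ A B : Subgroup Y, Dir H A B → A = ⊥ ∨ B = ⊥
  gen : ∀ J : Subgroup Y, (∀ x ∈ H, x * x = 1 → x ≠ 1 → ∀ k, k * x = x * k → k ∈ J) → J = ⊤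

section Map

variable {Y G : Type*} [Group Y] [Group G] {S X H : Subgroup Y} (f : Y →* G) (hf : Function.Injective f)

include hf

theorem map_comap_of_le {N : Subgroup G} (hN : N ≤ f.range) : (N.comap f).map f = N := by
  rw [Subgroup.map_comap_eq]
  exact inf_eq_right.2 hN

theorem comap_perf {P : Subgroup G} (hP : P ≤ f.range) (hPP : P ≤ ⁅P, P⁆) :
    P.comap f ≤ ⁅P.comap f, P.comap f⁆ := by
  intro x hx
  have h1 := hPP (Subgroup.mem_comap.1 hx)
  have h2 : ⁅P, P⁆ = (⁅P.comap f, P.comap f⁆).map f := by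
    rw [Subgroup.map_commutator, map_comap_of_le f hf hP]
  rw [h2] at h1
  obtain ⟨y, hy, e⟩ := h1
  rwa [← hf e]

/-- the automorphism induced by an element of the normaliser of the range -/
theorem exists_aut {g : G} (hg : g ∈ Subgroup.normalizer (f.range : Set G)) :
    ∃ α : MulAut Y, (∀ y, f (α y) = g * f y * g⁻¹) ∧ ∀ k : ℕ, g ^ k = 1 → α ^ k = 1 := by
  let e : Y ≃* ↥f.range := MonoidHom.ofInjective hf
  let θ : ↥(normalizer (f.range : Set G)) →* MulAut Y :=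
    (MulAut.congr e.symm).toMonoidHom.comp (Subgroup.normalizerMonoidHom f.range)
  have hθ : ∀ (g : ↥(normalizer (f.range : Set G))) (y : Y), f (θ g y) = (g : G) * f y * (g : G)⁻¹ := by
    intro g y
    have h1 : θ g y = e.symm (Subgroup.normalizerMonoidHom f.range g (e y)) := rfl
    have h2 : ∀ z : ↥f.range, f (e.symm z) = (z : G) := by
      intro z
      have h3 : f (e.symm z) = ((e (e.symm z) : ↥f.range) : G) := rfl
      rw [h3, MulEquiv.apply_symm_apply]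
    rw [h1, h2]
    rfl
  refine ⟨θ ⟨g, hg⟩, hθ ⟨g, hg⟩, fun k hk => ?_⟩
  rw [← map_pow]
  have : (⟨g, hg⟩ : ↥(normalizer (f.range : Set G))) ^ k = 1 := Subtype.ext hk
  rw [this, map_one]

/-- **`Inp` from the facts on `Y`.** -/
theorem YInp.inp (h : YInp S X H) (tight : TightAt f.range)
    (even : Even (Nat.card ↥(centralizer (f.range : Set G))))
    (std : ∀ g : G, ¬ ∀ k ∈ f.range, ∀ l ∈ CommConj.cj g f.range, k * l = l * k)
    (core : ∀ Q : Subgroup G, IsSyl Q (centralizer (f.range : Set G)) → ∀ P : Subgroup G,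
      P ≤ centralizer (f.range : Set G) → (∀ x ∈ P, ∀ q ∈ Q, x * q = q * x) → P ≤ ⁅P, P⁆ → P = ⊥) :
    Inp f.range (S.map f) (X.map f) (H.map f) where
  syl := by
    refine ⟨h.syl.two.map f, ?_, ?_⟩
    · rintro _ ⟨y, -, rfl⟩; exact ⟨y, rfl⟩
    · intro Q hQ hle hQf
      have h1 : Q.comap f ≤ S := by
        apply h.syl.max _ _ _ le_top
        · rintro ⟨x, hx⟩
          obtain ⟨k, hk⟩ := hQ ⟨f x, hx⟩
          refine ⟨k, Subtype.ext (hf ?_)⟩
          have h1 : (f x) ^ 2 ^ k = 1 := congrArg Subtype.val hk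
          change f (x ^ 2 ^ k) = f 1
          rw [map_pow, h1, map_one]
        · intro s hs
          exact hle ⟨s, hs, rfl⟩
      rw [← map_comap_of_le f hf hQf]
      exact map_mono h1
  tight := tight
  even := even
  ctr := by
    rintro _ ⟨x, rfl⟩ hx
    rw [h.ctr x, map_one]
    intro y
    apply hf
    rw [map_mul, map_mul]
    exact (mem_centralizer_iff.1 hx (f y) ⟨y, rfl⟩).symm
  std := std
  simp := by
    intro N hN hNn
    have h2 : (N.comap f).Normal := by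
      constructor
      intro x hx y
      show f (y * x * y⁻¹) ∈ N
      rw [map_mul, map_mul, map_inv]
      exact hNn (f y) ⟨y, rfl⟩ _ hx
    rcases h.simp (N.comap f) h2 with h3 | h3
    · left
      rw [← map_comap_of_le f hf hN, h3, Subgroup.map_bot]
    · right
      rw [← map_comap_of_le f hf hN, h3, ← MonoidHom.range_eq_map]
  XS := map_mono h.XS
  SH := map_mono h.SH
  HK := by
    rintro _ ⟨y, -, rfl⟩
    exact ⟨y, rfl⟩
  HX := by
    rintro _ ⟨y, hy, rfl⟩ _ ⟨x, hx, rfl⟩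
    rw [← map_mul, ← map_mul, h.HX y hy x hx]
  perf := by
    rw [← Subgroup.map_commutator]
    exact map_mono h.perf
  cen := by
    rintro y hy ⟨k, hk⟩ hyS
    obtain ⟨α, hα, hαk⟩ := exists_aut f hf hy
    obtain ⟨x, hx, e⟩ := h.cen α ⟨k, hαk _ hk⟩ (fun s hs => by
      apply hf
      rw [hα, ← hyS (f s) ⟨s, hs, rfl⟩, mul_inv_cancel_right])
    have hcz : ∀ z : Y, (f x)⁻¹ * y * f z = f z * ((f x)⁻¹ * y) := by
      intro z
      have h1 := hα z
      rw [e, MulAut.conj_apply, map_mul, map_mul, map_inv] at h1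
      calc (f x)⁻¹ * y * f z = (f x)⁻¹ * (y * f z * y⁻¹) * y := by group
        _ = (f x)⁻¹ * (f x * f z * (f x)⁻¹) * y := by rw [h1]
        _ = _ := by group
    have h2 : (f x)⁻¹ * y ∈ centralizer (f.range : Set G) := by
      rw [mem_centralizer_iff]
      rintro _ ⟨z, rfl⟩
      exact (hcz z).symm
    refine ⟨(f x)⁻¹ * y, h2, f x, ⟨x, hx, rfl⟩, ?_⟩
    have h3 := mem_centralizer_iff.1 h2 (f x) ⟨x, rfl⟩
    rw [← h3]; group
  res := by
    rintro _ ⟨w, hw, rfl⟩ hw1 P hPK hPP hPw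
    rw [← map_comap_of_le f hf hPK]
    apply map_mono
    apply h.res w hw (fun h0 => hw1 (by rw [h0, map_one])) _ (comap_perf f hf hPK hPP)
    intro y hy
    apply hf
    rw [map_mul, map_mul]
    exact hPw (f y) hy
  out := by
    intro P hP hPP x hx
    obtain ⟨k, hk, c, hc, e⟩ := schreier f hf h.out P hP hPP x hx
    rw [e]
    exact mul_mem_sup hk (mem_centralizer_iff.2 fun y hy => (hc y hy).symm)
  ind := by
    intro A B hA hB hAB hdis hdec
    have hr : H.map f ≤ f.range := by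
      rintro _ ⟨y, -, rfl⟩
      exact ⟨y, rfl⟩
    have hAr := hA.trans hr
    have hBr := hB.trans hr
    have hle : ∀ C : Subgroup G, C ≤ H.map f → C.comap f ≤ H := by
      intro C hC x hx
      obtain ⟨y, hy, e⟩ := hC hx
      rwa [← hf e]
    rcases h.ind (A.comap f) (B.comap f) ⟨hle A hA, hle B hB, by
        intro a ha b hb
        apply hf
        rw [map_mul, map_mul]
        exact hAB _ ha _ hb, by
        intro x hx hx'
        apply hf
        rw [map_one, ← Subgroup.mem_bot, ← hdis]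
        exact ⟨hx, hx'⟩, by
        intro y hy
        obtain ⟨a, ha, b, hb, e⟩ := hdec (f y) ⟨y, hy, rfl⟩
        obtain ⟨a', rfl⟩ := hAr ha
        obtain ⟨b', rfl⟩ := hBr hb
        exact ⟨a', ha, b', hb, hf (by rw [e, map_mul])⟩⟩ with h1 | h1
    · left
      rw [← map_comap_of_le f hf hAr, h1, Subgroup.map_bot]
    · right
      rw [← map_comap_of_le f hf hBr, h1, Subgroup.map_bot]
  gen := by
    intro J hJ
    have h2 : J.comap f = ⊤ := by
      apply h.gen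
      intro x hx hxx hx1 k hkx
      refine hJ (f x) ⟨x, hx, rfl⟩ ?_ ?_ (f k) ⟨k, rfl⟩ ?_
      · rw [← map_mul, hxx, map_one]
      · intro h0
        exact hx1 (hf (h0.trans (map_one f).symm))
      · rw [← map_mul, hkx, map_mul]
    rintro _ ⟨y, rfl⟩
    have h3 : y ∈ J.comap f := by rw [h2]; trivial
    exact h3
  core := core

end Map

end Cfsg.Agent.OddHalf.DblR.YInput

end

-- merged: Cfsg.Agent.OddHalf.DblR.OneLong
section

/-!
# ODD, D4: LEMMA INPUT and the end of case (a) for a root group datum with `SheetL` (helper552)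

* `OneL R r` : `SheetL`, `HasFull`, `r` dominant, some root orthogonal to `r`, no type `G₂`;
* `OneL.yinp` : `YInp U (X r) ⟨X a : ⟨a, r^∨⟩ ≥ 0⟩`;
* `HasOneL Y`;
* **`HasOneL.false_of_pair`** : no full pair `(K, L)` with a Sylow 2-subgroup of `K` contained in `N(L)`.
-/

set_option autoImplicit false
set_option linter.unusedSectionVars false

namespace Cfsg.Agent.OddHalf.DblR.OneLong

open CoxeterSystem Cfsg.Agent.ChevalleyStructure.CoxeterGeom Cfsg.Agent.Tits.Roots Cfsg.Agent.Tits.Core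
  Cfsg.Agent.Tits.RootComb Cfsg.Agent.Tits.Exchange Cfsg.Agent.Nodes.Reps Cfsg.Agent.Nodes.BNOf
  Cfsg.Agent.Nodes.StabComb Cfsg.Agent.Nodes.Bruhat Cfsg.Agent.Nodes.OppDec Cfsg.Agent.Nodes.LeviDec
  Cfsg.Agent.Nodes.NormX Cfsg.Agent.Nodes.Coroot Cfsg.Agent.Nodes.PosPair Cfsg.Agent.KFacts.RgdPar
  Cfsg.Agent.KFacts.RgdSL Cfsg.Agent.KFacts.RgdTI Cfsg.Agent.KFacts.RgdCent Cfsg.Agent.KFacts.RgdOdd
  Cfsg.Agent.KFacts.RgdEx Cfsg.Agent.KFacts.RgdTor Cfsg.Agent.KFacts.RgdKfour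
  Cfsg.Agent.OddHalf.DblR.YInput
open scoped commutatorElement

variable {I W Y : Type*} [Fintype I] [DecidableEq I] [Group W] [Group Y] {M : CoxeterMatrix I}
  {cs : CoxeterSystem M W} {A : I → I → ℤ} {h : IsCartan M A} {T : Subgroup Y} {n : I → Y}
  {X : (I → ℤ) → Subgroup Y}

/-- `SheetL`, `HasFull`, `r` dominant. -/
structure OneL [Finite W] (R : RGD cs h 2 T n X) (r : I → ℤ) : Prop where
  sheet : SheetL R r
  full : Cfsg.Agent.KFacts.RgdLocL.HasFull cs h T X r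
  dom : ∀ i, 0 ≤ cpr cs h (sr i) r
  orth : ∃ g, IsRoot cs h g ∧ cpr cs h g r = 0
  two : ∀ c, IsRoot cs h c → cpr cs h c r < 0 → c ≠ -r → cpr cs h c r * cpr cs h r c ≤ 2

namespace OneL

variable [Finite W] {R : RGD cs h 2 T n X} {r : I → ℤ} (O : OneL R r)

include O

theorem root : IsRoot cs h r := O.sheet.long.root

theorem GG_top : GG cs h T X = ⊤ := by
  rw [eq_top_iff, ← O.sheet.top]
  exact le_sup_right

theorem nonneg {a : I → ℤ} (ha : 0 ≤ a) : 0 ≤ cpr cs h a r := dom_nonneg (f := ell cs h O.root) O.dom ha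

theorem r_pos : 0 ≤ r := by
  rcases O.root.pos_or_neg with h1 | h1
  · exact h1
  · exfalso
    have h2 := O.nonneg (a := -r) (neg_nonneg.2 h1)
    rw [cpr_neg_left _ O.root, cpr_self cs h O.root] at h2
    omega

theorem rad_pos {a : I → ℤ} (ha : a ∈ Rad cs h r) : a ∈ RGD.Pos cs h := by
  refine ⟨ha.1, ?_⟩
  rcases ha.1.pos_or_neg with h1 | h1
  · exact h1
  · exfalso
    have h2 := O.nonneg (a := -a) (neg_nonneg.2 h1)
    rw [cpr_neg_left _ O.root] at h2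
    have := ha.2
    omega

theorem U_le : RGD.Sup X (RGD.Pos cs h) ≤ RGD.Sup X (Ge cs h r) :=
  RGD.Sup_mono fun _ ha => ⟨ha.1, O.nonneg ha.2⟩

theorem r_ge : r ∈ Ge cs h r := ⟨O.root, by rw [cpr_self cs h O.root]; norm_num⟩

theorem cj_T {t : Y} (ht : t ∈ T) : cj t (RGD.Sup X (Ge cs h r)) = RGD.Sup X (Ge cs h r) := by
  have key : ∀ t ∈ T, cj t (RGD.Sup X (Ge cs h r)) ≤ RGD.Sup X (Ge cs h r) := by
    intro t ht x hx
    rw [mem_cj] at hx
    have h1 := Cfsg.Agent.KFacts.RgdLocL.t_conj_P R ht hx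
    have e : t * (t⁻¹ * x * t) * t⁻¹ = x := by group
    rwa [e] at h1
  exact cj_eq_of_le (key t ht) (key t⁻¹ (inv_mem ht))

theorem exists_tr {x y : Y} (hx : x ∈ X r) (hy : y ∈ X r) (hx1 : x ≠ 1) (hy1 : y ≠ 1) :
    ∃ t ∈ T, t * x * t⁻¹ = y := by
  obtain ⟨ι, _, V, st, i, T', H⟩ := O.full
  obtain ⟨t, ht, e⟩ := H.tr x hx hx1 y hy hy1
  exact ⟨t, ht.1, e⟩

theorem sq {x : Y} (hx : x ∈ X r) : x * x = 1 := by
  obtain ⟨ι, _, V, st, i, T', H⟩ := O.full
  exact H.zsq x hx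

theorem isSyl [Finite Y] : Cfsg.Agent.OddHalf.D4.Basic.IsSyl (RGD.Sup X (RGD.Pos cs h)) ⊤ := by
  have : Fact (Nat.Prime 2) := ⟨Nat.prime_two⟩
  obtain ⟨S, hS⟩ := Cfsg.Agent.KFacts.RgdAutFacts.exists_sylow R O.GG_top
  refine ⟨R.isPGroup_Upos, le_top, fun Q hQ hle _ => ?_⟩
  rw [← hS] at hle ⊢
  exact (S.is_maximal' hQ hle).le

theorem center [IsSimpleGroup Y] (x : Y) (hx : ∀ y : Y, x * y = y * x) : x = 1 := by
  have h1 : x ∈ Subgroup.center Y := Subgroup.mem_center_iff.2 fun y => (hx y).symm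
  rcases (inferInstance : (Subgroup.center Y).Normal).eq_bot_or_eq_top with h2 | h2
  · rwa [h2, Subgroup.mem_bot] at h1
  · exfalso
    obtain ⟨z, hz, hz1⟩ := exists_ne R O.root
    apply hz1
    have h3 := O.sheet.perf (RGD.le_Sup O.r_ge hz)
    have h4 : ⁅RGD.Sup X (Ge cs h r), RGD.Sup X (Ge cs h r)⁆ = ⊥ := by
      rw [Subgroup.commutator_eq_bot_iff_le_centralizer]
      intro a _
      rw [Subgroup.mem_centralizer_iff]
      intro b _
      have : b ∈ Subgroup.center Y := by rw [h2]; trivial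
      exact (Subgroup.mem_center_iff.1 this a).symm
    rwa [h4, Subgroup.mem_bot] at h3

/-- automorphisms centralising `U` -/
theorem cen (α : MulAut Y) (hα : ∀ s ∈ RGD.Sup X (RGD.Pos cs h), α s = s) : ∃ x ∈ X r, α = MulAut.conj x :=
  O.sheet.k1 r O.sheet.long α fun _ ha x hx => hα x (RGD.le_Sup (O.rad_pos ha) hx)

/-- the reflection in a root, as an element of the Weyl group -/
theorem exists_rfl {c : I → ℤ} (hc : IsRoot cs h c) : ∃ w : W, ∀ x, rep cs h w x = x - cpr cs h x c • c := by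
  obtain ⟨w, i, hw⟩ := id hc
  refine ⟨w * cs.simple i * w⁻¹, fun x => ?_⟩
  have h6 := rep_rfl'_eq cs h w i x
  rw [← hw] at h6
  exact h6

/-- **generation by centralisers of involutions of `P_r`** -/
theorem gen [Finite Y] (J : Subgroup Y)
    (hJ : ∀ x ∈ RGD.Sup X (Ge cs h r), x * x = 1 → x ≠ 1 → ∀ k, k * x = x * k → k ∈ J) : J = ⊤ := by
  rw [eq_top_iff, ← O.sheet.top]
  refine RGD.Sup_le fun c hc => ?_
  have hc : IsRoot cs h c := hc
  have hr := O.root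
  -- `X c` commutes with an involution of `P_r`
  obtain ⟨u, hu, huu, hu1, hcu⟩ : ∃ u ∈ RGD.Sup X (Ge cs h r), u * u = 1 ∧ u ≠ 1 ∧ ∀ v ∈ X c, v * u = u * v := by
    by_cases h0 : 0 ≤ cpr cs h c r
    · obtain ⟨u, hu, hu1⟩ := exists_ne R hr
      exact ⟨u, RGD.le_Sup O.r_ge hu, O.sq hu, hu1, fun v hv => O.sheet.long.lr.comm c hc h0 v hv u hu⟩
    push Not at h0
    by_cases hcr : c = -r
    · subst hcr
      obtain ⟨g, hg, hgr⟩ := O.orth
      obtain ⟨u, hu, hu2⟩ := Cfsg.Agent.OddHalf.D4.Basic.exists_invol_of_two (R.pgrp' hg) (X_ne_bot R hg)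
      have hu1 : u ≠ 1 := by
        rintro rfl
        rw [orderOf_one] at hu2
        exact absurd hu2 (by norm_num)
      have huu : u * u = 1 := by rw [← pow_two, ← hu2, pow_orderOf_eq_one]
      refine ⟨u, RGD.le_Sup (S := Ge cs h r) ⟨hg, hgr.ge⟩ hu, huu, hu1, fun v hv => ?_⟩
      exact (O.sheet.long.neg.lr.comm g hg (by rw [cpr_neg_right cs h _ hr, hgr, neg_zero]) u hu v hv).symm
    · obtain ⟨w, hw⟩ := O.exists_rfl hc
      have L := O.sheet.long.lr.act w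
      obtain ⟨k, hk⟩ := exists_rp cs R.nsys w
      obtain ⟨u, hu, hu1⟩ := exists_ne R hr
      have h1 := R.conj_mem hk hr hu
      have h2 : 0 ≤ cpr cs h (rep cs h w r) r := by
        rw [hw, sub_eq_add_neg, cpr_add cs h _ _ hr, cpr_neg cs h _ hr, cpr_smul cs h _ _ hr, cpr_self cs h hr]
        have := O.two c hc h0 hcr
        rw [mul_comm] at this
        omega
      refine ⟨k * u * k⁻¹, RGD.le_Sup (S := Ge cs h r) ⟨L.root, h2⟩ h1, ?_, ?_, fun v hv => ?_⟩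
      · calc k * u * k⁻¹ * (k * u * k⁻¹) = k * (u * u) * k⁻¹ := by group
          _ = 1 := by rw [O.sq hu]; group
      · intro h3
        apply hu1
        calc u = k⁻¹ * (k * u * k⁻¹) * k := by group
          _ = 1 := by rw [h3]; group
      · refine L.comm c hc ?_ v hv _ h1
        -- `⟨c, (s_c r)^∨⟩ = - ⟨c, r^∨⟩`
        have h4 : rep cs h w c = -c := by
          rw [hw, cpr_self cs h hc, two_smul]; abel
        have h5 := cpr_rep cs h w⁻¹ c (hr.act w)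
        rw [rep_inv_apply] at h5
        have h6 : rep cs h w⁻¹ c = -c := by
          have h7 := rep_inv_apply cs h w (-c)
          rw [map_neg, h4, neg_neg] at h7
          exact h7
        rw [← h5, h6, cpr_neg cs h _ hr]
        omega
  intro v hv
  exact hJ u hu huu hu1 v (hcu v hv)

/-- **The facts of LEMMA INPUT.** -/
theorem yinp [Finite Y] [IsSimpleGroup Y] : YInp (RGD.Sup X (RGD.Pos cs h)) (X r) (RGD.Sup X (Ge cs h r)) := by
  have hL := O.sheet.long.lr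
  exact
    { syl := O.isSyl
      ctr := O.center
      simp := fun N hN => hN.eq_bot_or_eq_top
      XS := RGD.le_Sup ⟨O.root, O.r_pos⟩
      SH := O.U_le
      HX := fun y hy x hx => hL.comm' hy hx
      perf := O.sheet.perf
      cen := fun α _ hα => O.cen α hα
      res := fun w hw hw1 P hPP hPw =>
        le_P_of_perfect R hL O.sheet.tab hw hw1 (by rw [O.GG_top]; exact le_top) hPw hPP
      out := O.sheet.out
      ind := by
        intro A B hAB
        refine dir_of_trans (S := RGD.Sup X (RGD.Pos cs h)) (X := X r) O.sheet.perf ?_ (O.isSyl.mono O.U_le le_top)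
          ?_ ?_ hAB
        · refine RGD.Sup_le fun a ha x hx => Subgroup.subset_closure ⟨RGD.le_Sup ha hx, ?_⟩
          obtain ⟨k, hk⟩ := (R.pgrp' ha.1) ⟨x, hx⟩
          exact ⟨k, congrArg Subtype.val hk⟩
        · intro w hw hwc
          obtain ⟨x, hx, e⟩ := O.cen (MulAut.conj w) fun s hs => by
            rw [MulAut.conj_apply, ← hwc s hs, mul_inv_cancel_right]
          have h1 : x⁻¹ * w = 1 := by
            apply O.center
            intro y
            have h2 : w * y * w⁻¹ = x * y * x⁻¹ := by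
              have := congrArg (fun α : MulAut Y => α y) e
              simpa [MulAut.conj_apply] using this
            calc x⁻¹ * w * y = x⁻¹ * (w * y * w⁻¹) * w := by group
              _ = y * (x⁻¹ * w) := by rw [h2]; group
          rw [inv_mul_eq_one] at h1
          rw [← h1]; exact hx
        · intro x hx y hy hx1 hy1
          obtain ⟨t, ht, e⟩ := O.exists_tr hx hy hx1 hy1
          exact ⟨t, O.cj_T ht, e⟩
      gen := O.gen }

end OneL

/-- Some root group datum of `Y` has a dominant long root with `OneL`. -/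
def HasOneL (Y : Type*) [Group Y] : Prop :=
  ∃ (l : ℕ) (M : CoxeterMatrix (Fin l)) (A : Fin l → Fin l → ℤ) (h : IsCartan M A) (T : Subgroup Y) (n : Fin l → Y)
    (X : (Fin l → ℤ) → Subgroup Y) (_ : Finite M.Group) (R : RGD M.toCoxeterSystem h 2 T n X) (r : Fin l → ℤ), OneL R r

section End

variable {G : Type*} [Group G] [Finite G]

/-- `Std1` from tightness -/
theorem std1_of_tight {K : Subgroup G} (tight : Cfsg.Agent.OddHalf.D4.TightAt K)
    (ctr : ∀ x ∈ K, x ∈ Subgroup.centralizer (K : Set G) → x = 1) : Std1 K where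
  nor := by
    intro t ht htt ht1 g hg k hk
    have h2 : orderOf t = 2 := orderOf_eq_prime (by rw [pow_two]; exact htt) ht1
    exact (Subgroup.mem_normalizer_iff.1 (tight.mem ht h2 hg) k).1 hk
  te := by
    intro t ht htt ht1 g hg
    have h2 : orderOf t = 2 := orderOf_eq_prime (by rw [pow_two]; exact htt) ht1
    exact Cfsg.Agent.OddHalf.D4.CommConj.cj_eq_of_mem_normalizer (tight.tight g t ht h2 hg)
  ctr := fun k hk hc => ctr k hk (Subgroup.mem_centralizer_iff.2 fun x hx => (hc x hx).symm)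

/-- **The end of case (a).** A full pair `(K, L)` such that a Sylow 2-subgroup of `K` normalises `L` does not exist. -/
theorem OneL.false_of_pair [Finite W] [Finite Y] [IsSimpleGroup Y] {R : RGD cs h 2 T n X} {r : I → ℤ} (O : OneL R r)
    (f : Y →* G) (hf : Function.Injective f) (tight : Cfsg.Agent.OddHalf.D4.TightAt f.range)
    (rk : Cfsg.Agent.OddHalf.D4.Rk2 f.range)
    (std : ∀ g : G, ¬ ∀ k ∈ f.range, ∀ l ∈ Cfsg.Agent.OddHalf.D4.CommConj.cj g f.range, k * l = l * k)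
    (core : ∀ Q : Subgroup G, Cfsg.Agent.OddHalf.D4.Basic.IsSyl Q (Subgroup.centralizer (f.range : Set G)) →
      ∀ P : Subgroup G, P ≤ Subgroup.centralizer (f.range : Set G) → (∀ x ∈ P, ∀ q ∈ Q, x * q = q * x) →
        P ≤ ⁅P, P⁆ → P = ⊥) {L Q U S' : Subgroup G} (hp : Cfsg.Agent.OddHalf.D4.FullPair f.range L Q U)
    (hS' : Cfsg.Agent.OddHalf.D4.Basic.IsSyl S' f.range) (hS'L : S' ≤ Subgroup.normalizer (L : Set G)) : False := by
  obtain ⟨a, ha, b, hb, ha2, hb2, -, hab⟩ := rk.exists_syl hp.sylQ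
  have even : Even (Nat.card ↥(Subgroup.centralizer (f.range : Set G))) :=
    Cfsg.Agent.OddHalf.D4.Basic.even_of_mem ha2 (hp.sylQ.le ha)
  have hI := YInp.inp f hf O.yinp tight even std core
  obtain ⟨k, hk, γ, -, -, -, -, hg1, hg2, hg3, -⟩ := hI.root_pair hp hS' hS'L
  have ne1 : ∀ {x : G}, orderOf x = 2 → x ≠ 1 := by
    rintro x hx rfl
    rw [orderOf_one] at hx
    exact absurd hx (by norm_num)
  obtain ⟨ι, _, V, st, i, T', Fu⟩ := O.full
  refine O.sheet.row f hf rfl (std1_of_tight tight hI.ctr) hp.sylQ.le hp.sylQ.two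
    (fun D hED hDK hD => hp.sylQ.max D hD hED hDK) ?_ ha (ne1 ha2) hb (ne1 hb2) hab.symm
    (T0 := T ⊓ (X r ⊔ X (-r))) inf_le_left ?_ (γ := γ) (one_mem f.range) hg1 ?_ hg3
  · intro H hH hHp
    refine core Q hp.sylQ H (fun x hx => (Subgroup.mem_inf.1 (hH hx)).1) (fun x hx q hq => ?_) hHp
    exact ((mem_C1.1 (hH hx)).2 q hq)
  · intro amb two k3
    refine (Fu.map f hf).loc ?_ ?_ amb two k3
    · rintro _ ⟨y, -, rfl⟩
      exact ⟨y, rfl⟩
    · rintro _ ⟨y, -, rfl⟩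
      exact ⟨y, rfl⟩
  · rw [cj_one]; exact hg2

/-- **The end of case (a)**, any `K` isomorphic to `Y`. -/
theorem HasOneL.false_of_pair {Y : Type*} [Group Y] [Finite Y] [IsSimpleGroup Y] (hY : HasOneL Y) {K : Subgroup G}
    (e : Y ≃* ↥K) (tight : Cfsg.Agent.OddHalf.D4.TightAt K) (rk : Cfsg.Agent.OddHalf.D4.Rk2 K)
    (std : ∀ g : G, ¬ ∀ k ∈ K, ∀ l ∈ Cfsg.Agent.OddHalf.D4.CommConj.cj g K, k * l = l * k)
    (core : ∀ Q : Subgroup G, Cfsg.Agent.OddHalf.D4.Basic.IsSyl Q (Subgroup.centralizer (K : Set G)) →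
      ∀ P : Subgroup G, P ≤ Subgroup.centralizer (K : Set G) → (∀ x ∈ P, ∀ q ∈ Q, x * q = q * x) →
        P ≤ ⁅P, P⁆ → P = ⊥) {L Q U S' : Subgroup G} (hp : Cfsg.Agent.OddHalf.D4.FullPair K L Q U)
    (hS' : Cfsg.Agent.OddHalf.D4.Basic.IsSyl S' K) (hS'L : S' ≤ Subgroup.normalizer (L : Set G)) : False := by
  obtain ⟨l, M, A, h, T, n, X, hM, R, r, O⟩ := hY
  have hf : Function.Injective (K.subtype.comp e.toMonoidHom) :=
    (Subgroup.subtype_injective K).comp e.injective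
  have hK : (K.subtype.comp e.toMonoidHom).range = K := by
    rw [MonoidHom.range_comp, MonoidHom.range_eq_top.2 e.surjective, ← MonoidHom.range_eq_map, Subgroup.range_subtype]
  have key : ∀ (f : Y →* G), Function.Injective f → f.range = K → False := by
    rintro f hf' rfl
    exact O.false_of_pair f hf' tight rk std core hp hS' hS'L
  exact key _ hf hK

end End

end Cfsg.Agent.OddHalf.DblR.OneLong

end

-- merged: Cfsg.Agent.OddHalf.DblR.OneTwE6
section

/-!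
# ODD, D4, row `two.e6te` (`²E₆(2^a)`, `a ≥ 2`): LEMMA INPUT and the end of case (a) (helper552)

* `oneL` : `OneL R ρ` from `SheetL R ρ`, `HasFull`;
* **`hasOneL_twE6`**;
* **`false_of_pair`** : no full pair `(K, L)`, `K ≅ ²E₆(2^a)`, with a Sylow 2-subgroup of `K` contained in `N(L)`.
-/

set_option autoImplicit false
set_option linter.unusedSectionVars false

namespace Cfsg.Agent.OddHalf.DblR.OneTwE6

open CoxeterSystem Cfsg.Agent.ChevalleyStructure.CoxeterGeom Cfsg.Agent.Tits.Roots Cfsg.Agent.Tits.Core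
  Cfsg.Agent.Tits.RootComb Cfsg.Agent.Tits.Exchange Cfsg.Agent.Nodes.Reps Cfsg.Agent.Nodes.BNOf
  Cfsg.Agent.Nodes.StabComb Cfsg.Agent.Nodes.Bruhat Cfsg.Agent.Nodes.OppDec
  Cfsg.Agent.Nodes.Coroot Cfsg.Agent.KFacts.RgdSL Cfsg.Agent.KFacts.RgdTI Cfsg.Agent.KFacts.RgdOdd
  Cfsg.Agent.KFacts.RgdCent Cfsg.Agent.KFacts.RgdEx Cfsg.Agent.KFacts.RgdPar
  Cfsg.Agent.Nodes.RGDTwE6 Cfsg.Agent.KFacts.TwESix.Comb Cfsg.Agent.KFacts.TwESix.CombRho
  Cfsg.Agent.KFacts.TwESix.Facts Cfsg.Agent.KFacts.TwESix.QRho Cfsg.Agent.KFacts.TwESix.Tor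
  Cfsg.Agent.OddHalf.DblR.OneLong Cfsg.Agent.OddHalf.DblR.SheetTwE6
open scoped commutatorElement

theorem orth_comb : ∃ g ∈ rts, g 0 = 0 := by decide +kernel

theorem two_comb : ∀ c ∈ rts, c 0 < 0 → c ≠ -rho → c 0 = -1 := by decide +kernel

section

variable {W Y : Type*} [Group W] [Group Y] {cs : CoxeterSystem CoxeterMatrix.F₄ W} {T : Subgroup Y} {n : Fin 4 → Y}
  {X : (Fin 4 → ℤ) → Subgroup Y} {R : RGD cs isCartan 2 T n X}

/-- **`OneL` at `ρ`** -/
theorem oneL [Finite W] (S : SheetL R rho) (F : Cfsg.Agent.KFacts.RgdLocL.HasFull cs isCartan T X rho) :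
    OneL R rho where
  sheet := S
  full := F
  dom := by
    intro i
    rw [cpr_rho]
    show 0 ≤ (Pi.single i 1 : Fin 4 → ℤ) 0
    fin_cases i <;> decide
  orth := by
    obtain ⟨g, hg, h0⟩ := orth_comb
    exact ⟨g, (mem_rts cs).2 hg, by rw [cpr_rho, h0]⟩
  two := by
    intro c hc h0 hne
    rw [cpr_rho] at h0 ⊢
    rw [two_comb c ((mem_rts cs).1 hc) h0 hne]
    have h1 := two_bf cs rho hc
    have h2 := two_bf cs c (rho_root cs)
    rw [cpr_rho, two_comb c ((mem_rts cs).1 hc) h0 hne, rho_long, bf_comm] at h2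
    rcases norm cs hc with h3 | h3 <;> rw [h3] at h1 <;> omega

end

section Inst

open Cfsg.Lie

universe u

variable {F : Type u} [Field F] [Fintype F]

/-- **`²E₆(2^a)`, `a ≥ 2`** -/
theorem hasOneL_twE6 {a : ℕ} (ha : 2 ≤ a) (hF : Fintype.card F = 4 ^ a) : HasOneL ↥(twistedE6 F (2 ^ a)) := by
  have hF' : Fintype.card F = (2 ^ a) ^ 2 := by rw [hF, ← pow_mul, mul_comm, pow_mul]; norm_num
  have hq : IsPrimePow (2 ^ a) := (Nat.prime_two.isPrimePow).pow (by omega)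
  have : Fact (Nat.Prime 2) := ⟨Nat.prime_two⟩
  have hc : CharP F 2 := by
    obtain ⟨p, hp⟩ := CharP.exists F
    have hpp : p.Prime := (CharP.char_is_prime_or_zero F p).resolve_right (CharP.char_ne_zero_of_finite F p)
    have : Fact p.Prime := ⟨hpp⟩
    obtain ⟨n, hn⟩ := FiniteField.card F p
    have h2 : p ∣ 2 := by
      apply hpp.dvd_of_dvd_pow (n := 2 * a)
      rw [pow_mul]
      norm_num
      rw [← hF, hn.2]
      exact dvd_pow_self p n.ne_zero
    have h3 : p = 2 := (Nat.prime_dvd_prime_iff_eq hpp Nat.prime_two).1 h2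
    rwa [h3] at hp
  obtain ⟨φ, hφ, hqq⟩ := Cfsg.Agent.ChevalleyStructure.TwE6Basic.exists_frob hq hF'
  have hW : Finite CoxeterMatrix.F₄.Group := finiteW CoxeterMatrix.F₄.toCoxeterSystem
  have hq2 : 2 < 2 ^ a := by
    calc 2 < 2 ^ 2 := by norm_num
      _ ≤ 2 ^ a := Nat.pow_le_pow_right (by norm_num) ha
  exact ⟨4, CoxeterMatrix.F₄, _, isCartan, _, _, _, hW, _, rho,
    oneL (sheetL_inst CoxeterMatrix.F₄.toCoxeterSystem hφ hqq hq hF') (hasFull_inst _ hφ hqq hq hF' hq2)⟩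

theorem isSimple {a : ℕ} (ha : 2 ≤ a) (hF : Fintype.card F = 4 ^ a) : IsSimpleGroup ↥(twistedE6 F (2 ^ a)) := by
  have hF' : Fintype.card F = (2 ^ a) ^ 2 := by rw [hF, ← pow_mul, mul_comm, pow_mul]; norm_num
  exact (Cfsg.Agent.S1070.result (K := F) (Nat.prime_two.isPrimePow.pow (by omega)) hF').1

variable {G : Type*} [Group G] [Finite G]

/-- **Case (a) for `²E₆(2^a)`, `a ≥ 2`.** -/
theorem false_of_pair {K : Subgroup G} (hK : ∃ (F : Type) (_ : Field F) (_ : Fintype F) (a : ℕ), 2 ≤ a ∧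
      Fintype.card F = 4 ^ a ∧ Nonempty (↥K ≃* ↥(Lie.twistedE6 F (2 ^ a))))
    (tight : Cfsg.Agent.OddHalf.D4.TightAt K) (rk : Cfsg.Agent.OddHalf.D4.Rk2 K)
    (std : ∀ g : G, ¬ ∀ k ∈ K, ∀ l ∈ Cfsg.Agent.OddHalf.D4.CommConj.cj g K, k * l = l * k)
    (core : ∀ Q : Subgroup G, Cfsg.Agent.OddHalf.D4.Basic.IsSyl Q (Subgroup.centralizer (K : Set G)) →
      ∀ P : Subgroup G, P ≤ Subgroup.centralizer (K : Set G) → (∀ x ∈ P, ∀ q ∈ Q, x * q = q * x) →
        P ≤ ⁅P, P⁆ → P = ⊥) {L Q U S' : Subgroup G} (hp : Cfsg.Agent.OddHalf.D4.FullPair K L Q U)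
    (hS' : Cfsg.Agent.OddHalf.D4.Basic.IsSyl S' K) (hS'L : S' ≤ Subgroup.normalizer (L : Set G)) : False := by
  obtain ⟨F, _, _, a, ha, hF, ⟨e⟩⟩ := hK
  have := isSimple ha hF
  have : Finite ↥(Lie.twistedE6 F (2 ^ a)) := Finite.of_equiv _ e.toEquiv
  exact (hasOneL_twE6 ha hF).false_of_pair e.symm tight rk std core hp hS' hS'L

end Inst

end Cfsg.Agent.OddHalf.DblR.OneTwE6

end

-- merged: Cfsg.Agent.OddHalf.DblR.OneMinus
section

/-!
# ODD, D4, row `two.ome` (`Ω⁻_{2m}(2^a)`, `m ≥ 4`, `a ≥ 2`): LEMMA INPUT and the end of case (a) (helper552)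

* `dl_symm`, `orth_comb`, `two_comb` : combinatorics of the roots `± ε_i ± ε_j`;
* **`hasOneL_minus`**;
* **`false_of_pair`** : no full pair `(K, L)`, `K ≅ Ω⁻_{2m}(2^a)`, with a Sylow 2-subgroup of `K` contained in `N(L)`.
-/

set_option autoImplicit false
set_option linter.unusedSectionVars false

namespace Cfsg.Agent.OddHalf.DblR.OneMinus

open CoxeterSystem Cfsg.Agent.ChevalleyStructure.CoxeterGeom Cfsg.Agent.Tits.Roots Cfsg.Agent.Nodes.TypeC
  Cfsg.Agent.Tits.RootComb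
open Cfsg.Agent.Nodes.Comb Cfsg.Agent.Nodes.Reps Cfsg.Agent.Nodes.WittRoot Cfsg.Agent.Nodes.BNOf
  Cfsg.Agent.Nodes.StabComb Cfsg.Agent.Nodes.Coroot Cfsg.Agent.Nodes.KindBC Cfsg.Agent.Nodes.TypeCForm
  Cfsg.Agent.Nodes.Bruhat Cfsg.Agent.Nodes.PosPair
open Cfsg.Agent Cfsg.Agent.TitsThree Cfsg.Agent.TitsThree.Siegel Cfsg.Agent.TitsThree.WittFrame
  Cfsg.Agent.TitsThree.WittWeyl Cfsg.Agent.TitsThree.FrameCN Cfsg.Agent.TitsThree.LineBorel
open Cfsg.Agent.KFacts.WittOrth Cfsg.Agent.KFacts.RgdTI Cfsg.Agent.KFacts.RgdPar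
  Cfsg.Agent.KFacts.RgdOdd Cfsg.Agent.KFacts.RgdSL Cfsg.Agent.KFacts.RgdCent Cfsg.Agent.KFacts.RgdCentW
  Cfsg.Agent.OddHalf.DblR.MinusComb Cfsg.Agent.OddHalf.DblR.OneLong
open scoped commutatorElement

section Comb

variable {n : ℕ}

theorem dl_symm (c x : Fin n × Bool) : dl c x = dl x c := by
  rcases dl_cases c x with ⟨rfl, h⟩ | ⟨h1, h⟩ | ⟨h1, h⟩
  · rfl
  · subst h1
    have h2 := dl_ng_right x x
    rw [dl_self] at h2
    rw [h, h2]
  · rw [h, dl_of_ne (Ne.symm h1)]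

variable {W : Type*} [Group W] (cs : CoxeterSystem (CoxeterMatrix.B n) W) [Finite W]

theorem orth_comb (hn : 3 ≤ n) {r : Fin n → ℤ} (hr : r ∈ RB n) :
    ∃ g, IsRoot cs (isCartan n) g ∧ cpr cs (isCartan n) g r = 0 := by
  obtain ⟨x, y, hxy, rfl⟩ := mem_RB.1 hr
  obtain ⟨z, hz⟩ := Cfsg.Agent.KFacts.SpecMinus.exists_out hn x y
  refine ⟨rt z z, isRoot_rt cs (Or.inr rfl : Ok z z), ?_⟩
  have hzx : z.1 ≠ x.1 := hz.1
  have hzy : z.1 ≠ y.1 := hz.2
  rw [cpr_ne cs _ hxy, ev_rt, ev_rt, dl_of_ne hzx, dl_of_ne hzy]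
  norm_num

theorem two_comb {r : Fin n → ℤ} (hr : r ∈ RB n) {c : Fin n → ℤ} (hc : IsRoot cs (isCartan n) c)
    (hne : c ≠ -r) (h0 : cpr cs (isCartan n) c r < 0) : cpr cs (isCartan n) c r * cpr cs (isCartan n) r c ≤ 2 := by
  obtain ⟨x, y, hxy, rfl⟩ := mem_RB.1 hr
  obtain ⟨u, v, huv, rfl⟩ := exists_rt hc
  rw [cpr_ne cs _ hxy, ev_rt, ev_rt] at h0 ⊢
  rcases huv with huv | rfl
  · rw [cpr_ne cs _ huv, ev_rt, ev_rt, dl_symm x u, dl_symm y u, dl_symm x v, dl_symm y v]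
    rcases cases2 hxy u with ⟨h1, h2, h3⟩ | ⟨h1, h2, h3⟩ | ⟨h1, h2, h3⟩ | ⟨h1, h2, h3⟩ | ⟨h1, h2, h3⟩ <;>
    rcases cases2 hxy v with ⟨h4, h5, h6⟩ | ⟨h4, h5, h6⟩ | ⟨h4, h5, h6⟩ | ⟨h4, h5, h6⟩ | ⟨h4, h5, h6⟩ <;>
    rw [h2, h3, h5, h6] at h0 ⊢ <;>
    first
    | (exfalso; omega)
    | (norm_num; done)
    | (exfalso; apply huv; rw [h1, h4]; done)
    | (exfalso; apply hne; rw [h1, h4, rt_ng]; done)
    | (exfalso; apply hne; rw [h1, h4, rt_comm, rt_ng]; done)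
  · rw [cpr_same cs, ev_rt, dl_symm x u, dl_symm y u]
    rcases cases2 hxy u with ⟨h1, h2, h3⟩ | ⟨h1, h2, h3⟩ | ⟨h1, h2, h3⟩ | ⟨h1, h2, h3⟩ | ⟨h1, h2, h3⟩ <;>
    rw [h2, h3] <;> norm_num

end Comb

/-! ### the minus form -/

section Minus

open QuadraticMap
open Cfsg.Agent.LieClassical Cfsg.Agent.LieClassical.OrthCore Cfsg.Agent.LieClassical.OrthTrans
open Cfsg.Agent.LieClassical.OrthSimple Cfsg.Agent.LieClassical.OrthFinite
open Cfsg.Agent.LieClassical.OrthForms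
open Cfsg.Agent.TitsThree.KSideO Cfsg.Agent.TitsThree.StdData Cfsg.Agent.TitsThree.WBridge

variable {F : Type*} [Field F] [Finite F]

/-- **`Ω⁻_{2m+2}(q)`, `m ≥ 3`, `q ≥ 4` even.** -/
theorem hasOneL_minus (h2 : (2 : F) = 0) (hs : ∃ s : F, s ≠ 0 ∧ s ≠ 1) {m : ℕ} (hm : 3 ≤ m) (a b : F)
    (hab : ∀ z₁ z₂ : F, z₁ ^ 2 + a * z₁ * z₂ + b * z₂ ^ 2 = 0 → z₁ = 0 ∧ z₂ = 0) :
    HasOneL (Cfsg.POmega F ⇑(minusForm m F a b)) := by
  have : CharP F 2 := CharTwo.of_one_ne_zero_of_two_eq_zero one_ne_zero h2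
  have : Fact (Nat.Prime 2) := ⟨Nat.prime_two⟩
  have hm2 : 2 ≤ m := by omega
  have O := KFacts.SpecMinus.orth_minus h2 m a b hab
  have hA := KFacts.SpecMinus.ambT_minus h2 hm2 a b hab
  obtain ⟨p0, hp0⟩ := O.p0
  let cs := (CoxeterMatrix.B m).toCoxeterSystem
  have R := Nodes.WittAll.rgdC_model (KFacts.SpecMinus.modelMinus hm2 a b hab) hA hp0 cs
  have hW : Finite (CoxeterMatrix.B m).Group := Nodes.TypeC.finite_W cs
  -- the dominant long root
  let x : Fin m × Bool := (⟨0, by omega⟩, true)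
  let y : Fin m × Bool := (⟨1, by omega⟩, true)
  have hxy : x.1 ≠ y.1 := by
    intro h
    have := congrArg Fin.val h
    simp [x, y] at this
  have hr0 : rt x y ∈ RB m := rt_mem_RB hxy
  obtain ⟨w, hw⟩ := (SheetMinus.lr_of_RB _ O R hr0).exists_dominant
  have hr : rep cs (isCartan m) w (rt x y) ∈ RB m := act_RB cs hr0 w
  refine ⟨m, CoxeterMatrix.B m, _, isCartan m, _, _, _, hW, R, rep cs (isCartan m) w (rt x y),
    { sheet := SheetMinus.sheetL_minus h2 hs hm a b hab cs R hr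
      full := KFacts.SpecMinus.hasFull_model _ O hs hA cs hm hr
      dom := hw
      orth := orth_comb cs hm hr
      two := fun c hc h0 hne => two_comb cs hr hc hne h0 }⟩

variable {G : Type*} [Group G] [Finite G]

/-- **Case (a) for `Ω⁻_{2m}(2^a)`, `m ≥ 4`, `a ≥ 2`.** -/
theorem false_of_pair {K : Subgroup G} (hK : ∃ (F : Type) (_ : Field F) (_ : Fintype F) (a m : ℕ) (b c : F), 2 ≤ a ∧
      Fintype.card F = 2 ^ a ∧ 4 ≤ m ∧ (∀ z₁ z₂ : F, z₁ ^ 2 + b * z₁ * z₂ + c * z₂ ^ 2 = 0 → z₁ = 0 ∧ z₂ = 0) ∧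
      Nonempty (↥K ≃* Cfsg.POmega F (Cfsg.quadFormMinus (m - 1) F b c)))
    (tight : Cfsg.Agent.OddHalf.D4.TightAt K) (rk : Cfsg.Agent.OddHalf.D4.Rk2 K)
    (std : ∀ g : G, ¬ ∀ k ∈ K, ∀ l ∈ Cfsg.Agent.OddHalf.D4.CommConj.cj g K, k * l = l * k)
    (core : ∀ Q : Subgroup G, Cfsg.Agent.OddHalf.D4.Basic.IsSyl Q (Subgroup.centralizer (K : Set G)) →
      ∀ P : Subgroup G, P ≤ Subgroup.centralizer (K : Set G) → (∀ x ∈ P, ∀ q ∈ Q, x * q = q * x) →
        P ≤ ⁅P, P⁆ → P = ⊥) {L Q U S' : Subgroup G} (hp : Cfsg.Agent.OddHalf.D4.FullPair K L Q U)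
    (hS' : Cfsg.Agent.OddHalf.D4.Basic.IsSyl S' K) (hS'L : S' ≤ Subgroup.normalizer (L : Set G)) : False := by
  obtain ⟨F, _, _, a, m, b, c, ha, hF, hm, hbc, ⟨e⟩⟩ := hK
  have h2 : (2 : F) = 0 := by
    have h1 : ((Fintype.card F : ℕ) : F) = 0 := FiniteField.cast_card_eq_zero F
    rw [hF] at h1
    push_cast at h1
    exact eq_zero_of_pow_eq_zero h1
  have hs : ∃ s : F, s ≠ 0 ∧ s ≠ 1 := by
    classical
    have h1 : 2 < Fintype.card F := by
      rw [hF]
      calc 2 < 2 ^ 2 := by norm_num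
        _ ≤ 2 ^ a := Nat.pow_le_pow_right (by norm_num) ha
    obtain ⟨s, hs⟩ := Finset.exists_mem_notMem_of_card_lt_card (s := ({0, 1} : Finset F)) (t := Finset.univ)
      (lt_of_le_of_lt Finset.card_le_two (by rw [Finset.card_univ]; exact h1))
    refine ⟨s, fun h0 => hs.2 (by rw [h0]; simp), fun h0 => hs.2 (by rw [h0]; simp)⟩
  have hm1 : 3 ≤ m - 1 := by omega
  have hsimp := SheetMinus.simple_minus hm1 b c hbc
  have hY := hasOneL_minus h2 hs hm1 b c hbc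
  rw [coe_minusForm] at hsimp hY
  have : Finite (Cfsg.POmega F (Cfsg.quadFormMinus (m - 1) F b c)) := Finite.of_equiv _ e.toEquiv
  exact hY.false_of_pair e.symm tight rk std core hp hS' hS'L

end Minus

end Cfsg.Agent.OddHalf.DblR.OneMinus

end

-- merged: Cfsg.Agent.OddHalf.DblR.OneRow
section

/-!
# ODD, D4, rows `two.e6te`, `two.ome`: the glue (helper552)

* `HasOneL.innSyl` : (F1) for a group with `OneL`;
* **`row_of_one`** : a row from `HasOneL` and `Free.BFacts`;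
* **`row_e6te`**, **`row_ome`** : the rows of `²E₆(2^a)`, `Ω⁻_{2m}(2^a)`, `a ≥ 2`, from `Free.BFacts`.
-/

set_option autoImplicit false
set_option linter.unusedSectionVars false

namespace Cfsg.Agent.OddHalf.DblR.OneRow

open CoxeterSystem Cfsg.Agent.ChevalleyStructure.CoxeterGeom Cfsg.Agent.Nodes.BNOf
open Cfsg.Agent.OddHalf.DblR.OneLong
open Cfsg.Agent.OddHalf.D4 (Rk2 FullPair Cut.Row1)
open scoped commutatorElement

universe u

/-- (F1) is invariant under isomorphism. -/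
theorem innSyl_congr {X Y : Type*} [Group X] [Group Y] (e : X ≃* Y) (h : D4.KPairG.InnSyl X) :
    D4.KPairG.InnSyl Y := by
  rintro S φ ⟨k, hk⟩ hφ
  let S' : Sylow 2 X := S.comapOfInjective e.toMonoidHom e.injective (by
    rintro y -
    exact ⟨e.symm y, by simp⟩)
  have hS' : ∀ x : X, x ∈ S' ↔ e x ∈ S := fun x => Iff.rfl
  let ψ : MulAut X := (e.trans φ).trans e.symm
  have hψ : ∀ x, ψ x = e.symm (φ (e x)) := fun x => rfl
  have hpow : ∀ (j : ℕ) (x : X), (ψ ^ j) x = e.symm ((φ ^ j) (e x)) := by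
    intro j
    induction j with
    | zero => intro x; simp
    | succ j ih => intro x; rw [pow_succ, MulAut.mul_apply, ih, hψ, MulEquiv.apply_symm_apply, pow_succ,
        MulAut.mul_apply]
  obtain ⟨s, hs, e1⟩ := h S' ψ ⟨k, by
    ext x
    rw [hpow, hk]
    simp⟩ (by
    intro s hs
    rw [hψ, hφ _ ((hS' s).1 hs), MulEquiv.symm_apply_apply])
  refine ⟨e s, (hS' s).1 hs, ?_⟩
  ext y
  have h1 := congrArg (fun α : MulAut X => e (α (e.symm y))) e1
  simpa [hψ, MulAut.conj_apply] using h1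

section

variable {I W Y : Type*} [Fintype I] [DecidableEq I] [Group W] [Group Y] {M : CoxeterMatrix I}
  {cs : CoxeterSystem M W} {A : I → I → ℤ} {h : IsCartan M A} {T : Subgroup Y} {n : I → Y}
  {X : (I → ℤ) → Subgroup Y}

/-- (F1), no condition on the order of the automorphism -/
theorem oneL_inner [Finite W] [Finite Y] {R : RGD cs h 2 T n X} {r : I → ℤ} (O : OneL R r) (S : Sylow 2 Y)
    (φ : MulAut Y) (hφ : ∀ s ∈ S, φ s = s) : ∃ s ∈ S, φ = MulAut.conj s := by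
  obtain ⟨S₀, hS₀⟩ := Cfsg.Agent.KFacts.RgdAutFacts.exists_sylow R O.GG_top
  obtain ⟨g, hg⟩ := MulAction.exists_smul_eq Y S₀ S
  have hmem : ∀ u, u ∈ RGD.Sup X (RGD.Pos cs h) → g * u * g⁻¹ ∈ S := by
    intro u hu
    rw [← hg]
    show g * u * g⁻¹ ∈ ((g • S₀ : Sylow 2 Y) : Subgroup Y)
    rw [Sylow.coe_subgroup_smul, Subgroup.mem_pointwise_smul_iff_inv_smul_mem]
    have h1 : (MulAut.conj g)⁻¹ • (g * u * g⁻¹) = u := by
      show (MulAut.conj g)⁻¹ (g * u * g⁻¹) = u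
      rw [MulAut.conj_inv_apply]; group
    rw [h1, hS₀]
    exact hu
  obtain ⟨x, hx, e⟩ := O.cen (MulAut.conj g⁻¹ * φ * MulAut.conj g) (by
    intro u hu
    show g⁻¹ * φ (g * u * g⁻¹) * g⁻¹⁻¹ = u
    rw [hφ _ (hmem u hu)]; group)
  have hx' : x ∈ RGD.Sup X (RGD.Pos cs h) := RGD.le_Sup (X := X) (S := RGD.Pos cs h) ⟨O.root, O.r_pos⟩ hx
  refine ⟨g * x * g⁻¹, hmem x hx', ?_⟩
  have h2 : φ = MulAut.conj g * (MulAut.conj g⁻¹ * φ * MulAut.conj g) * MulAut.conj g⁻¹ := by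
    rw [map_inv]; group
  rw [h2, e, ← map_mul, ← map_mul]

end

/-- **(F1)** -/
theorem hasOneL_innSyl {Y : Type*} [Group Y] [Finite Y] (hY : HasOneL Y) : D4.KPairG.InnSyl Y := by
  obtain ⟨l, M, A, h, T, n, X, hM, R, r, O⟩ := hY
  exact fun S φ _ hφ => oneL_inner O S φ hφ

/-- **A row from `HasOneL` and `Free.BFacts`.** -/
theorem row_of_one (h1173 : D4.Start.P1173.{u}) (hFT : D4.StartQ.FTT.{u}) {P : (K : Type u) → [Group K] → Prop}
    (hP : ∀ (X : Type u) [Group X], P X → ∃ (Y : Type) (_ : Group Y), IsSimpleGroup Y ∧ HasOneL Y ∧ Nonempty (X ≃* Y) ∧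
      ∀ (G : Type u) [Group G] [Finite G] (K : Subgroup G), Nonempty (Y ≃* ↥K) → D4.Free.BFacts K) :
    D4.Cut.Row1.{u} P := by
  refine D4.StartQ.row_of_free' h1173 hFT ?_ ?_ ?_
  · intro X _ _ _ hX
    obtain ⟨Y, _, -, hY, ⟨e⟩, -⟩ := hP X hX
    have : Finite Y := Finite.of_equiv _ e.toEquiv
    exact innSyl_congr e.symm (hasOneL_innSyl hY)
  · intro G _ hG K hK hD hPK L Q U hp S hS hSL
    have := hG.fin
    obtain ⟨Y, _, _, hY, ⟨e⟩, -⟩ := hP ↥K hPK
    have : Finite Y := Finite.of_equiv _ e.toEquiv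
    exact hY.false_of_pair e.symm hD.tight hD.rk hD.std hD.core hp hS hSL
  · intro G _ hG K hK hD hPK g
    have := hG.fin
    obtain ⟨Y, _, -, -, ⟨e⟩, hB⟩ := hP ↥K hPK
    exact hB G _ ⟨e.symm.trans (K.equivMapOfInjective (MulAut.conj g).toMonoidHom (MulAut.conj g).injective)⟩

/-- **D4, the row of `²E₆(2^a)`, `a ≥ 2`, from `Free.BFacts`.** -/
theorem row_e6te (h1173 : D4.Start.P1173.{u}) (hFT : D4.StartQ.FTT.{u})
    (hB : ∀ (F : Type) [Field F] [Fintype F] (a : ℕ), 2 ≤ a → Fintype.card F = 4 ^ a →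
      ∀ (G : Type u) [Group G] [Finite G] (K : Subgroup G), Nonempty (↥(Lie.twistedE6 F (2 ^ a)) ≃* ↥K) →
        D4.Free.BFacts K) : D4.Cut.Row1.{u} (fun K _ => D4.Cut.E6te K) := by
  refine row_of_one h1173 hFT ?_
  rintro X _ ⟨F, _, _, a, ha, hF, ⟨e⟩⟩
  exact ⟨_, _, OneTwE6.isSimple ha hF, OneTwE6.hasOneL_twE6 ha hF, ⟨e⟩, fun G _ _ K he => hB F a ha hF G K he⟩

/-- **D4, the row of `Ω⁻_{2m}(2^a)`, `a ≥ 2`, `m ≥ 4`, from `Free.BFacts`.** -/
theorem row_ome (h1173 : D4.Start.P1173.{u}) (hFT : D4.StartQ.FTT.{u})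
    (hB : ∀ (F : Type) [Field F] [Fintype F] (a m : ℕ) (b c : F), 2 ≤ a → Fintype.card F = 2 ^ a → 3 ≤ m →
      (∀ z₁ z₂ : F, z₁ ^ 2 + b * z₁ * z₂ + c * z₂ ^ 2 = 0 → z₁ = 0 ∧ z₂ = 0) →
      ∀ (G : Type u) [Group G] [Finite G] (K : Subgroup G),
        Nonempty (Cfsg.POmega F (Cfsg.quadFormMinus m F b c) ≃* ↥K) → D4.Free.BFacts K) :
    D4.Cut.Row1.{u} (fun K _ => D4.Cut.Ome K) := by
  refine row_of_one h1173 hFT ?_
  rintro X _ ⟨F, _, _, a, m, b, c, ha, hF, hm, hbc, ⟨e⟩⟩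
  have h2 : (2 : F) = 0 := by
    have h1 : ((Fintype.card F : ℕ) : F) = 0 := FiniteField.cast_card_eq_zero F
    rw [hF] at h1
    push_cast at h1
    exact eq_zero_of_pow_eq_zero h1
  have hs : ∃ s : F, s ≠ 0 ∧ s ≠ 1 := by
    classical
    have h1 : 2 < Fintype.card F := by
      rw [hF]
      calc 2 < 2 ^ 2 := by norm_num
        _ ≤ 2 ^ a := Nat.pow_le_pow_right (by norm_num) ha
    obtain ⟨s, hs⟩ := Finset.exists_mem_notMem_of_card_lt_card (s := ({0, 1} : Finset F)) (t := Finset.univ)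
      (lt_of_le_of_lt Finset.card_le_two (by rw [Finset.card_univ]; exact h1))
    refine ⟨s, fun h0 => hs.2 (by rw [h0]; simp), fun h0 => hs.2 (by rw [h0]; simp)⟩
  have hm1 : 3 ≤ m - 1 := by omega
  have hsimp := SheetMinus.simple_minus hm1 b c hbc
  have hY := OneMinus.hasOneL_minus h2 hs hm1 b c hbc
  rw [Cfsg.Agent.LieClassical.OrthForms.coe_minusForm] at hsimp hY
  exact ⟨_, _, hsimp, hY, ⟨e⟩, fun G _ _ K he => hB F a (m - 1) b c ha hF hm1 hbc G K he⟩

end Cfsg.Agent.OddHalf.DblR.OneRow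

end
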