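import Cfsg.Agent.OddHalf.DblR.Fam
import Cfsg.Agent.Nodes.RGDLib
import Cfsg.Agent.OddHalf.DblR.BaseS
import Cfsg.Agent.KFacts.Unit.LineGL
import Mathlib
import Cfsg.Agent.KFacts.Unit.GLAct

-- merged: Cfsg.Agent.OddHalf.DblR.Fan
section

/-!
# ODD, D4: commuting families of doubled root groups (helper350)

`Fan` : a family `W i` of pairwise commuting doubled root groups (all long root groups in the elementary abelian
radical `V = ⨆ X i`, a natural module), with scalars `Z` and an element `z ∈ Z` without fixed points on `V`.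
* `Fan.comm`, `Fan.brk`, `Fan.brm`, `Fan.fix`, `Fan.surj` : `F = ⨆ W i` is a doubled `V`;
* `Fan.scal` : `br t' = h (br t) h⁻¹` on `F` for one scalar `h ∈ Z`;
* `tw F τ = [F, τ]`, `Fan.dw` : the doubled `X = [V, τ]`.
-/

set_option autoImplicit false

namespace Cfsg.Agent.OddHalf.DblR

variable {G : Type*} [Group G]

/-- **A commuting family of doubled root groups.** -/
structure Fan {ι : Type*} (K R : Subgroup G) (P X W : ι → Subgroup G) (Y Z : Subgroup G) (i0 : ι) (z : G) : Prop where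
  A : Amb K R
  D : ∀ i, DW K R (P i) (X i) (W i)
  XP : ∀ i j, X j ≤ P i
  ww : ∀ i j, ∀ v ∈ W i, ∀ w ∈ W j, v * w = w * v
  YP : ∀ i, Y ≤ P i
  ZK : Z ≤ K
  zZ : z ∈ Z
  Zab : ∀ h ∈ Z, ∀ k ∈ Z, h * k = k * h
  ZX : ∀ h ∈ Z, ∀ i, ∀ x ∈ X i, h * x * h⁻¹ ∈ X i
  ZW : ∀ h ∈ Z, ∀ i, ∀ w ∈ W i, h * w * h⁻¹ ∈ W i
  Ztr : ∀ x ∈ X i0, x ≠ 1 → ∀ x' ∈ X i0, x' ≠ 1 → ∃ h ∈ Z, h * x * h⁻¹ = x'
  X0 : ∃ x ∈ X i0, x ≠ 1
  tr : ∀ i, ∃ k ∈ K, (∀ h ∈ Z, h * k = k * h) ∧ ∀ w ∈ W i, k⁻¹ * w * k ∈ W i0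
  zfix : ∀ x ∈ ⨆ i, X i, z * x = x * z → x = 1
  cen : ∀ c : G, (∀ a ∈ R, c * a = a * c) → (∀ y ∈ Y, c * y = y * c) → ∃ ρ ∈ ⨆ i, X i, ρ⁻¹ * c ∈ C1 K R

theorem comm_mul_left {a b c : G} (h1 : a * c = c * a) (h2 : b * c = c * b) : (a * b) * c = c * (a * b) := by
  have e1 : Commute a c := h1
  have e2 : Commute b c := h2
  exact e1.mul_left e2

theorem comm_mul_right {a b c : G} (h1 : c * a = a * c) (h2 : c * b = b * c) : c * (a * b) = (a * b) * c :=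
  (comm_mul_left h1.symm h2.symm).symm

theorem conj_mul (k a b : G) : k * (a * b) * k⁻¹ = (k * a * k⁻¹) * (k * b * k⁻¹) := by group

theorem br_one (t : G) : br t (1 : G) = 1 := by unfold br; group

theorem br_eq_of_comm {t f : G} (h : t * f = f * t) : br t f = 1 := br_eq_one.mpr h

/-- `br` is multiplicative on commuting elements -/
theorem br_mul' {t v w : G} (h : br t v * w = w * br t v) : br t (v * w) = br t v * br t w := by
  apply br_mul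
  calc w⁻¹ * br t v * w = w⁻¹ * (br t v * w) := by group
    _ = br t v := by rw [h]; group

/-- `br t (br τ f) = br τ (br t f)` -/
theorem br_br {t τ f : G} (h : t * τ = τ * t) (h1 : br τ f * br t f = br t f * br τ f) :
    br t (br τ f) = br τ (br t f) := by
  have e1 : t * br τ f * t⁻¹ = br τ (t * f * t⁻¹) := by
    have h2 : t * τ * t⁻¹ = τ := by rw [h]; group
    calc t * br τ f * t⁻¹ = (t * f * t⁻¹)⁻¹ * ((t * τ * t⁻¹) * (t * f * t⁻¹) * (t * τ * t⁻¹)⁻¹) := by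
          unfold br; group
      _ = _ := by rw [h2]; rfl
  have e2 : br τ (t * f * t⁻¹) = br τ f * br τ (br t f) := by
    rw [conj_eq t f]
    exact br_mul' h1
  have e3 := conj_eq t (br τ f)
  rw [e1, e2] at e3
  exact (mul_left_cancel e3).symm

namespace Fan

variable {ι : Type*} {K R : Subgroup G} {P X W : ι → Subgroup G} {Y Z : Subgroup G} {i0 : ι} {z : G}

theorem comm (H : Fan K R P X W Y Z i0 z) {f g : G} (hf : f ∈ ⨆ i, W i) (hg : g ∈ ⨆ i, W i) : f * g = g * f := by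
  have step : ∀ i, ∀ w ∈ W i, w * g = g * w := by
    intro i w hw
    refine Subgroup.iSup_induction W (C := fun g => w * g = g * w) hg ?_ ?_ ?_
    · intro j v hv
      exact H.ww i j w hw v hv
    · simp
    · intro a b ha hb
      exact comm_mul_right ha hb
  refine Subgroup.iSup_induction W (C := fun f => f * g = g * f) hf ?_ ?_ ?_
  · intro i w hw
    exact step i w hw
  · simp
  · intro a b ha hb
    exact comm_mul_left ha hb

theorem VF (H : Fan K R P X W Y Z i0 z) : (⨆ i, X i) ≤ ⨆ i, W i := iSup_mono fun i => (H.D i).XW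

theorem VK (H : Fan K R P X W Y Z i0 z) : (⨆ i, X i) ≤ K := iSup_le fun i => (H.D i).XK

theorem VV (H : Fan K R P X W Y Z i0 z) {x : G} (hx : x ∈ ⨆ i, X i) : x * x = 1 := by
  suffices h : x ∈ (⨆ i, X i) ∧ x * x = 1 from h.2
  refine Subgroup.iSup_induction X (C := fun x => x ∈ (⨆ i, X i) ∧ x * x = 1) hx ?_ ?_ ?_
  · intro i x hx
    exact ⟨Subgroup.mem_iSup_of_mem i hx, (H.D i).XX x hx⟩
  · exact ⟨one_mem _, by simp⟩
  · rintro a b ⟨ha, ha'⟩ ⟨hb, hb'⟩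
    refine ⟨mul_mem ha hb, ?_⟩
    have := H.comm (H.VF ha) (H.VF hb)
    calc a * b * (a * b) = a * (b * a) * b := by group
      _ = (a * a) * (b * b) := by rw [← this]; group
      _ = 1 := by rw [ha', hb', mul_one]

theorem Vinv (H : Fan K R P X W Y Z i0 z) {x : G} (hx : x ∈ ⨆ i, X i) : x⁻¹ = x :=
  inv_eq_of_mul_eq_one_left (H.VV hx)

theorem VP (H : Fan K R P X W Y Z i0 z) (i : ι) : (⨆ j, X j) ≤ P i := iSup_le fun j => H.XP i j

theorem brk (H : Fan K R P X W Y Z i0 z) {a f : G} (ha : a ∈ R) (hf : f ∈ ⨆ i, W i) : br a f ∈ ⨆ i, X i := by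
  suffices h : f ∈ (⨆ i, W i) ∧ br a f ∈ ⨆ i, X i from h.2
  refine Subgroup.iSup_induction W (C := fun f => f ∈ (⨆ i, W i) ∧ br a f ∈ ⨆ i, X i) hf ?_ ?_ ?_
  · intro i w hw
    exact ⟨Subgroup.mem_iSup_of_mem i hw, Subgroup.mem_iSup_of_mem i ((H.D i).brk a ha w hw)⟩
  · exact ⟨one_mem _, by rw [br_one]; exact one_mem _⟩
  · rintro v w ⟨hv, hv'⟩ ⟨hw, hw'⟩
    refine ⟨mul_mem hv hw, ?_⟩
    rw [br_mul' (H.comm (H.VF hv') hw)]
    exact mul_mem hv' hw'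

theorem brm (H : Fan K R P X W Y Z i0 z) {a f g : G} (ha : a ∈ R) (hf : f ∈ ⨆ i, W i) (hg : g ∈ ⨆ i, W i) :
    br a (f * g) = br a f * br a g :=
  br_mul' (H.comm (H.VF (H.brk ha hf)) hg)

theorem brV (H : Fan K R P X W Y Z i0 z) {a x : G} (ha : a ∈ R) (hx : x ∈ ⨆ i, X i) : br a x = 1 :=
  br_eq_one.mpr (H.A.comm a ha x (H.VK hx))

theorem ZF (H : Fan K R P X W Y Z i0 z) {h f : G} (hh : h ∈ Z) (hf : f ∈ ⨆ i, W i) : h * f * h⁻¹ ∈ ⨆ i, W i := by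
  refine Subgroup.iSup_induction W (C := fun f => h * f * h⁻¹ ∈ ⨆ i, W i) hf ?_ ?_ ?_
  · intro i w hw
    exact Subgroup.mem_iSup_of_mem i (H.ZW h hh i w hw)
  · rw [mul_one, mul_inv_cancel]; exact one_mem _
  · intro a b ha hb
    rw [conj_mul]; exact mul_mem ha hb

theorem ZV (H : Fan K R P X W Y Z i0 z) {h f : G} (hh : h ∈ Z) (hf : f ∈ ⨆ i, X i) : h * f * h⁻¹ ∈ ⨆ i, X i := by
  refine Subgroup.iSup_induction X (C := fun f => h * f * h⁻¹ ∈ ⨆ i, X i) hf ?_ ?_ ?_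
  · intro i w hw
    exact Subgroup.mem_iSup_of_mem i (H.ZX h hh i w hw)
  · rw [mul_one, mul_inv_cancel]; exact one_mem _
  · intro a b ha hb
    rw [conj_mul]; exact mul_mem ha hb

theorem C1F (H : Fan K R P X W Y Z i0 z) {c f : G} (hc : c ∈ C1 K R) (hf : f ∈ ⨆ i, W i) : c * f * c⁻¹ ∈ ⨆ i, W i := by
  refine Subgroup.iSup_induction W (C := fun f => c * f * c⁻¹ ∈ ⨆ i, W i) hf ?_ ?_ ?_
  · intro i w hw
    exact Subgroup.mem_iSup_of_mem i ((H.D i).C1W c hc w hw)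
  · rw [mul_one, mul_inv_cancel]; exact one_mem _
  · intro a b ha hb
    rw [conj_mul]; exact mul_mem ha hb

theorem comm_Y (H : Fan K R P X W Y Z i0 z) {y f : G} (hy : y ∈ Y) (hf : f ∈ ⨆ i, W i) : f * y = y * f := by
  refine Subgroup.iSup_induction W (C := fun f => f * y = y * f) hf ?_ ?_ ?_
  · intro i w hw
    exact (H.D i).WP w hw y (H.YP i hy)
  · simp
  · intro a b ha hb
    exact comm_mul_left ha hb

theorem exists_br [Finite G] (H : Fan K R P X W Y Z i0 z) {t f : G} (ht : t ∈ R) (ht1 : t ≠ 1)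
    (hf : f ∈ ⨆ i, W i) : ∃ g ∈ ⨆ i, W i, f = br z g := by
  refine Subgroup.iSup_induction W (C := fun f => ∃ g ∈ ⨆ i, W i, f = br z g) hf ?_ ?_ ?_
  · intro i w hw
    obtain ⟨v, hv, e⟩ := (H.D i).onto H.A ht ht1 (H.ZK H.zZ) (H.ZW z H.zZ i)
      (fun x hx => H.zfix x (Subgroup.mem_iSup_of_mem i hx)) w hw
    exact ⟨v, Subgroup.mem_iSup_of_mem i hv, e⟩
  · exact ⟨1, one_mem _, (br_one z).symm⟩
  · rintro a b ⟨g, hg, rfl⟩ ⟨g', hg', rfl⟩
    refine ⟨g * g', mul_mem hg hg', ?_⟩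
    have h1 : br z g ∈ ⨆ i, W i := mul_mem (inv_mem hg) (H.ZF H.zZ hg)
    rw [br_mul' (H.comm h1 hg')]

/-- **`C_F(t) = V`** -/
theorem fix [Finite G] (H : Fan K R P X W Y Z i0 z) {t f : G} (ht : t ∈ R) (ht1 : t ≠ 1)
    (hf : f ∈ ⨆ i, W i) (h : t * f = f * t) : f ∈ ⨆ i, X i := by
  obtain ⟨g, hg, rfl⟩ := H.exists_br ht ht1 hf
  have hz : t * z = z * t := H.A.comm t ht z (H.ZK H.zZ)
  have h1 : br z g ∈ ⨆ i, W i := mul_mem (inv_mem hg) (H.ZF H.zZ hg)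
  have h2 := H.brk ht hg
  have h3 := br_br hz (H.comm h1 (H.VF h2))
  rw [br_eq_of_comm h] at h3
  have h4 := H.zfix _ h2 (br_eq_one.mp h3.symm)
  have h5 : g * t = t * g := (br_eq_one.mp h4).symm
  have h6 := H.A.tight ht ht1 h5 (fun a ha => H.VK (H.brk ha hg))
  obtain ⟨ρ, hρ, hc⟩ := H.cen g h6 (fun y hy => H.comm_Y hy hg)
  set c := ρ⁻¹ * g with hcdef
  have hgc : g = ρ * c := by rw [hcdef]; group
  have hcK := (mem_C1.mp hc).1
  have e1 : c * z = z * c := hcK z (H.ZK H.zZ)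
  have e2 : c * ρ = ρ * c := hcK ρ (H.VK hρ)
  have e3 : br z g = br z ρ := by
    rw [hgc]
    unfold br
    calc (ρ * c)⁻¹ * (z * (ρ * c) * z⁻¹) = c⁻¹ * ρ⁻¹ * z * ρ * (c * z⁻¹) := by group
      _ = c⁻¹ * (ρ⁻¹ * (z * ρ * z⁻¹)) * c := by rw [comm_inv' e1]; group
      _ = ρ⁻¹ * (z * ρ * z⁻¹) := by
          have : c * (ρ⁻¹ * (z * ρ * z⁻¹)) = (ρ⁻¹ * (z * ρ * z⁻¹)) * c :=
            hcK _ (mul_mem (inv_mem (H.VK hρ)) (H.VK (H.ZV H.zZ hρ)))
          calc c⁻¹ * (ρ⁻¹ * (z * ρ * z⁻¹)) * c = c⁻¹ * ((ρ⁻¹ * (z * ρ * z⁻¹)) * c) := by group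
            _ = _ := by rw [← this]; group
  rw [e3]
  exact mul_mem (inv_mem hρ) (H.ZV H.zZ hρ)

theorem surj (H : Fan K R P X W Y Z i0 z) {t x : G} (ht : t ∈ R) (ht1 : t ≠ 1) (hx : x ∈ ⨆ i, X i) :
    ∃ f ∈ ⨆ i, W i, br t f = x := by
  refine Subgroup.iSup_induction X (C := fun x => ∃ f ∈ ⨆ i, W i, br t f = x) hx ?_ ?_ ?_
  · intro i x hx
    obtain ⟨w, hw, e⟩ := (H.D i).surj t ht ht1 x hx
    exact ⟨w, Subgroup.mem_iSup_of_mem i hw, e⟩
  · exact ⟨1, one_mem _, br_one t⟩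
  · rintro a b ⟨f, hf, rfl⟩ ⟨g, hg, rfl⟩
    exact ⟨f * g, mul_mem hf hg, H.brm ht hf hg⟩

/-- **one scalar** `h` with `br t' = h (br t) h⁻¹` on the whole of `F` -/
theorem scal (H : Fan K R P X W Y Z i0 z) {t t' : G} (ht : t ∈ R) (ht1 : t ≠ 1) (ht' : t' ∈ R) (ht'1 : t' ≠ 1) :
    ∃ h ∈ Z, ∀ f ∈ ⨆ i, W i, br t' f = h * br t f * h⁻¹ := by
  obtain ⟨x0, hx0, hx01⟩ := H.X0
  obtain ⟨v0, hv0, e0⟩ := (H.D i0).surj t ht ht1 x0 hx0
  have hx0' := (H.D i0).brk t' ht' v0 hv0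
  have hx0'1 : br t' v0 ≠ 1 := by
    intro h0
    have := (H.D i0).fix t' ht' ht'1 v0 hv0 (br_eq_one.mp h0)
    apply hx01
    rw [← e0]
    exact (H.D i0).br_x H.A ht this
  obtain ⟨h, hh, eh⟩ := H.Ztr x0 hx0 hx01 _ hx0' hx0'1
  refine ⟨h, hh, ?_⟩
  have key : ∀ w ∈ W i0, br t' w = h * br t w * h⁻¹ := by
    intro w hw
    by_cases hw1 : br t w = 1
    · have h1 := (H.D i0).fix t ht ht1 w hw (br_eq_one.mp hw1)
      rw [hw1, (H.D i0).br_x H.A ht' h1]; group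
    obtain ⟨k, hk, ek⟩ := H.Ztr x0 hx0 hx01 _ ((H.D i0).brk t ht w hw) hw1
    have h2 : br t (k * v0 * k⁻¹) = br t w := by
      rw [br_conj (H.A.comm t ht k (H.ZK hk)), e0, ek]
    have h3 := (H.D i0).eq_of_br ht ht1 hw (H.ZW k hk i0 v0 hv0) h2.symm
    have h4 : br t' w = br t' (k * v0 * k⁻¹) := by
      have h5 : w = (w * (k * v0 * k⁻¹)⁻¹) * (k * v0 * k⁻¹) := by group
      rw [h5, (H.D i0).br_mul ht' ((H.D i0).XW h3) (H.ZW k hk i0 v0 hv0), (H.D i0).br_x H.A ht' h3, one_mul]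
    rw [h4, br_conj (H.A.comm t' ht' k (H.ZK hk)), ← ek, ← eh]
    have hc := H.Zab k hk h hh
    calc k * (h * x0 * h⁻¹) * k⁻¹ = (k * h) * x0 * (k * h)⁻¹ := by group
      _ = h * (k * x0 * k⁻¹) * h⁻¹ := by rw [hc]; group
  intro f hf
  suffices hs : f ∈ (⨆ i, W i) ∧ br t' f = h * br t f * h⁻¹ from hs.2
  refine Subgroup.iSup_induction W (C := fun f => f ∈ (⨆ i, W i) ∧ br t' f = h * br t f * h⁻¹) hf ?_ ?_ ?_
  · intro i w hw
    refine ⟨Subgroup.mem_iSup_of_mem i hw, ?_⟩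
    obtain ⟨k, hk, hkh, hkW⟩ := H.tr i
    have h1 := key _ (hkW w hw)
    have h2 : w = k * (k⁻¹ * w * k) * k⁻¹ := by group
    have hc := hkh h hh
    rw [h2, br_conj (H.A.comm t' ht' k hk), br_conj (H.A.comm t ht k hk), h1]
    calc k * (h * br t (k⁻¹ * w * k) * h⁻¹) * k⁻¹ = (k * h) * br t (k⁻¹ * w * k) * (k * h)⁻¹ := by group
      _ = h * (k * br t (k⁻¹ * w * k) * k⁻¹) * h⁻¹ := by rw [← hc]; group
  · exact ⟨one_mem _, by rw [br_one, br_one]; group⟩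
  · rintro a b ⟨ha, ea⟩ ⟨hb, eb⟩
    refine ⟨mul_mem ha hb, ?_⟩
    rw [H.brm ht' ha hb, H.brm ht ha hb, ea, eb, conj_mul]

end Fan

/-- `[F, τ]` (for abelian `F`) -/
def tw (F : Subgroup G) (τ : G) : Subgroup G := Subgroup.closure {g | ∃ f ∈ F, g = br τ f}

theorem br_mem_tw {F : Subgroup G} {τ f : G} (hf : f ∈ F) : br τ f ∈ tw F τ := Subgroup.subset_closure ⟨f, hf, rfl⟩

theorem mem_tw {F : Subgroup G} {τ g : G} (hc : ∀ f ∈ F, ∀ g ∈ F, f * g = g * f)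
    (hF : ∀ f ∈ F, τ * f * τ⁻¹ ∈ F) (hg : g ∈ tw F τ) : g ∈ F ∧ ∃ f ∈ F, g = br τ f := by
  have hb : ∀ f ∈ F, br τ f ∈ F := fun f hf => mul_mem (inv_mem hf) (hF f hf)
  induction hg using Subgroup.closure_induction with
  | mem x hx =>
    obtain ⟨f, hf, rfl⟩ := hx
    exact ⟨hb f hf, f, hf, rfl⟩
  | one => exact ⟨one_mem _, 1, one_mem _, (br_one τ).symm⟩
  | mul x y _ _ hx hy =>
    obtain ⟨hx1, f, hf, rfl⟩ := hx
    obtain ⟨hy1, g, hg, rfl⟩ := hy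
    exact ⟨mul_mem hx1 hy1, f * g, mul_mem hf hg, (br_mul' (hc _ hx1 _ hg)).symm⟩
  | inv x _ hx =>
    obtain ⟨hx1, f, hf, rfl⟩ := hx
    refine ⟨inv_mem hx1, f⁻¹, inv_mem hf, ?_⟩
    have h1 := br_mul' (t := τ) (v := f) (w := f⁻¹) (hc _ (hb f hf) _ (inv_mem hf))
    rw [mul_inv_cancel, br_one] at h1
    exact (eq_inv_of_mul_eq_one_right h1.symm).symm

namespace Fan

variable {ι : Type*} {K R : Subgroup G} {P X W : ι → Subgroup G} {Y Z : Subgroup G} {i0 : ι} {z : G}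

/-- **the doubled `X₀ = [V, τ]`** -/
theorem dw [Finite G] (H : Fan K R P X W Y Z i0 z) {τ : G} (hτK : τ ∈ K) {l : ℕ} (hl : Odd l) (hτl : τ ^ l = 1)
    (hF : ∀ f ∈ ⨆ i, W i, τ * f * τ⁻¹ ∈ ⨆ i, W i) {X0 : Subgroup G} (hX0 : X0 ≤ ⨆ i, X i)
    (hX0τ : ∀ x ∈ X0, τ * x * τ⁻¹ ∈ X0) (hX01 : ∀ x ∈ X0, τ * x = x * τ → x = 1)
    (hdec : ∀ ρ ∈ ⨆ i, X i, ∃ c ∈ ⨆ i, X i, τ * c = c * τ ∧ ∃ x ∈ X0, ρ = c * x) :
    DW K R (⨆ i, X i) X0 (tw (⨆ i, W i) τ) := by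
  have hc : ∀ f ∈ ⨆ i, W i, ∀ g ∈ ⨆ i, W i, f * g = g * f := fun f hf g hg => H.comm hf hg
  have hXW : X0 ≤ tw (⨆ i, W i) τ := by
    intro x hx
    obtain ⟨v, hv, e⟩ := onto' hX0τ hX01 x hx
    have e' : x = br τ v := e
    rw [e']
    exact br_mem_tw (H.VF (hX0 hv))
  -- `br a (br τ f) = br τ (br a f) ∈ X0`
  have hbb : ∀ a ∈ R, ∀ f ∈ ⨆ i, W i, br a (br τ f) = br τ (br a f) := by
    intro a ha f hf
    exact br_br (H.A.comm a ha τ hτK) (H.comm (mul_mem (inv_mem hf) (hF f hf)) (H.VF (H.brk ha hf)))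
  have hbV : ∀ ρ ∈ ⨆ i, X i, br τ ρ ∈ X0 := by
    intro ρ hρ
    obtain ⟨c, hc', hcτ, x, hx, rfl⟩ := hdec ρ hρ
    have h1 : br τ c = 1 := br_eq_one.mpr hcτ
    rw [br_mul' (by rw [h1]; group), h1, one_mul]
    exact mul_mem (inv_mem hx) (hX0τ x hx)
  refine ⟨hX0, H.VK, hXW, fun x hx => H.VV (hX0 hx), ?_, ?_, ?_, ?_, ?_⟩
  · intro w hw p hp
    exact H.comm (mem_tw hc hF hw).1 (H.VF hp)
  · intro t ht w hw
    obtain ⟨-, f, hf, rfl⟩ := mem_tw hc hF hw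
    rw [hbb t ht f hf]
    exact hbV _ (H.brk ht hf)
  · intro t ht ht1 w hw htw
    have hwF := (mem_tw hc hF hw).1
    have hwV := H.fix ht ht1 hwF htw
    obtain ⟨c, hcV, hcτ, x, hx, e⟩ := hdec w hwV
    have hctw : c ∈ tw (⨆ i, W i) τ := by
      have : c = w * x⁻¹ := by rw [e]; group
      rw [this]
      exact mul_mem hw (inv_mem (hXW hx))
    obtain ⟨-, f, hf, ef⟩ := mem_tw hc hF hctw
    have e1 : τ * f * τ⁻¹ = f * c := by rw [ef]; exact conj_eq τ f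
    have e2 : ∀ n : ℕ, τ ^ n * f * (τ ^ n)⁻¹ = f * c ^ n := by
      intro n
      induction n with
      | zero => simp
      | succ n ih =>
        have e4 : τ * c ^ n = c ^ n * τ := ((show Commute τ c from hcτ).pow_right n)
        calc τ ^ (n + 1) * f * (τ ^ (n + 1))⁻¹ = τ * (τ ^ n * f * (τ ^ n)⁻¹) * τ⁻¹ := by rw [pow_succ']; group
          _ = τ * (f * c ^ n) * τ⁻¹ := by rw [ih]
          _ = τ * f * (c ^ n * τ⁻¹) := by group
          _ = τ * f * (τ⁻¹ * c ^ n) := by rw [comm_inv e4]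
          _ = (τ * f * τ⁻¹) * c ^ n := by group
          _ = f * c ^ (n + 1) := by rw [e1, pow_succ']; group
    have e3 := e2 l
    rw [hτl] at e3
    have e4 : c ^ l = 1 := by
      have : f = f * c ^ l := by simpa using e3
      exact (mul_eq_left.mp this.symm)
    have e5 : c = 1 := by
      obtain ⟨k, rfl⟩ := hl
      rw [pow_succ, pow_mul, pow_two, H.VV hcV, one_pow, one_mul] at e4
      exact e4
    rw [e, e5, one_mul]
    exact hx
  · intro t ht ht1 x hx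
    obtain ⟨x', hx', e⟩ := onto' hX0τ hX01 x hx
    obtain ⟨f, hf, ef⟩ := H.surj ht ht1 (hX0 hx')
    refine ⟨br τ f, br_mem_tw hf, ?_⟩
    rw [hbb t ht f hf, ef]
    exact e.symm
  · intro c hc1 w hw
    obtain ⟨-, f, hf, rfl⟩ := mem_tw hc hF hw
    have h1 : c * τ * c⁻¹ = τ := by rw [(mem_C1.mp hc1).1 τ hτK]; group
    have h2 : c * br τ f * c⁻¹ = br τ (c * f * c⁻¹) := by
      calc c * br τ f * c⁻¹ = (c * f * c⁻¹)⁻¹ * ((c * τ * c⁻¹) * (c * f * c⁻¹) * (c * τ * c⁻¹)⁻¹) := by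
            unfold br; group
        _ = _ := by rw [h1]; rfl
    rw [h2]
    exact br_mem_tw (H.C1F hc1 hf)

end Fan

end Cfsg.Agent.OddHalf.DblR

end

-- merged: Cfsg.Agent.OddHalf.DblR.Uni
section

/-!
# ODD, D4: two short roots whose sum is long (helper350)

`Uni` : two commuting families `X1 i ≤ V1`, `X2 i ≤ V2` of long root groups with one member `X_r` in common, short
root groups `X_m ≤ V1`, `X_d ≤ V2` with `[X_m, X_d] ≤ X_r` nondegenerate (unitary groups in even characteristic: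
`r = 2e₁`, `m = e₁ + e₂`, `d = e₁ - e₂`).
* `Uni.mem` : `[X_m, W_d] ≤ W_r`;
* **`Uni.eq_of_ne_one`** : `R` has at most one involution.
-/

set_option autoImplicit false

namespace Cfsg.Agent.OddHalf.DblR

variable {G : Type*} [Group G]

/-- half of the hypotheses -/
structure Half {ι₁ ι₂ : Type*} (K R T : Subgroup G) (P1 X1 W1 : ι₁ → Subgroup G) (P2 X2 W2 : ι₂ → Subgroup G)
    (Y1 Z1 : Subgroup G) (i1 : ι₁) (z1 : G) (i2 : ι₂) (Xm Xd E1 : Subgroup G) (τ : G) : Prop where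
  F : Fan K R P1 X1 W1 Y1 Z1 i1 z1
  eqX : X1 i1 = X2 i2
  eqW : W1 i1 = W2 i2
  τK : τ ∈ K
  τodd : ∃ l : ℕ, Odd l ∧ τ ^ l = 1
  τF : ∀ f ∈ ⨆ i, W1 i, τ * f * τ⁻¹ ∈ ⨆ i, W1 i
  τdec : ∀ ρ ∈ ⨆ i, X1 i, ∃ c ∈ ⨆ i, X1 i, τ * c = c * τ ∧ ∃ x ∈ Xm, ρ = c * x
  ZT : Z1 ≤ T
  XmV : Xm ≤ ⨆ i, X1 i
  τX : ∀ x ∈ Xm, τ * x * τ⁻¹ ∈ Xm
  τfix : ∀ x ∈ Xm, τ * x = x * τ → x = 1
  /-- the scalars of the first family centralise `X_d` and normalise `X_m` and the second family -/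
  Zd : ∀ h ∈ Z1, ∀ y ∈ Xd, h * y = y * h
  Zm : ∀ h ∈ Z1, ∀ x ∈ Xm, h * x * h⁻¹ ∈ Xm
  Z2 : ∀ h ∈ Z1, ∀ f ∈ ⨆ i, W2 i, h * f * h⁻¹ ∈ ⨆ i, W2 i
  Zτ : ∀ h ∈ Z1, h * τ = τ * h
  /-- `X_d` normalises the first family -/
  dF : ∀ y ∈ Xd, ∀ f ∈ ⨆ i, W1 i, y * f * y⁻¹ ∈ ⨆ i, W1 i
  dXr : ∀ y ∈ Xd, ∀ x ∈ X1 i1, y * x = x * y
  /-- `V1 = X_r X_m E1` -/
  VE : ∀ ρ ∈ ⨆ i, X1 i, ∃ a ∈ X1 i1, ∃ b ∈ Xm, ∃ e ∈ E1, ρ = a * b * e
  EV : E1 ≤ ⨆ i, X1 i
  cE : ∀ y ∈ Xd, ∀ e ∈ E1, cm y e ∈ X1 i1 → y = 1 ∨ e = 1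

/-- **The hypotheses for two short roots whose sum is long.** -/
structure Uni {ι₁ ι₂ : Type*} (K R T : Subgroup G) (P1 X1 W1 : ι₁ → Subgroup G) (P2 X2 W2 : ι₂ → Subgroup G)
    (Y1 Z1 Y2 Z2 : Subgroup G) (i1 : ι₁) (z1 : G) (i2 : ι₂) (z2 : G) (Xm Xd E1 E2 : Subgroup G) (τ : G) : Prop where
  H1 : Half K R T P1 X1 W1 P2 X2 W2 Y1 Z1 i1 z1 i2 Xm Xd E1 τ
  H2 : Half K R T P2 X2 W2 P1 X1 W1 Y2 Z2 i2 z2 i1 Xd Xm E2 τ
  TK : T ≤ K
  Tab : ∀ h ∈ T, ∀ k ∈ T, h * k = k * h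
  Todd : ∀ h ∈ T, ∃ l : ℕ, Odd l ∧ h ^ l = 1
  cmX : ∀ x ∈ Xm, ∀ y ∈ Xd, cm x y ∈ X1 i1
  nd : ∀ y ∈ Xd, y ≠ 1 → ∃ x ∈ Xm, cm x y ≠ 1

namespace Half

variable {ι₁ ι₂ : Type*} {K R T : Subgroup G} {P1 X1 W1 : ι₁ → Subgroup G} {P2 X2 W2 : ι₂ → Subgroup G}
  {Y1 Z1 : Subgroup G} {i1 : ι₁} {z1 : G} {i2 : ι₂} {Xm Xd E1 : Subgroup G} {τ : G}

/-- the doubled short root group -/
theorem dw [Finite G] (H : Half K R T P1 X1 W1 P2 X2 W2 Y1 Z1 i1 z1 i2 Xm Xd E1 τ) :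
    DW K R (⨆ i, X1 i) Xm (tw (⨆ i, W1 i) τ) := by
  obtain ⟨l, hl, hτl⟩ := H.τodd
  exact H.F.dw H.τK hl hτl H.τF H.XmV H.τX H.τfix H.τdec

theorem twF (H : Half K R T P1 X1 W1 P2 X2 W2 Y1 Z1 i1 z1 i2 Xm Xd E1 τ) {w : G} (hw : w ∈ tw (⨆ i, W1 i) τ) :
    w ∈ ⨆ i, W1 i :=
  (mem_tw (fun _ hf _ hg => H.F.comm hf hg) H.τF hw).1

/-- `[X_d, w] ∈ W_r` for `w` in the doubled `X_m` -/
theorem mem [Finite G] (H : Half K R T P1 X1 W1 P2 X2 W2 Y1 Z1 i1 z1 i2 Xm Xd E1 τ)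
    (cmX : ∀ y ∈ Xd, ∀ x ∈ Xm, cm y x ∈ X1 i1) (hd2 : ∀ y ∈ Xd, y * y = 1)
    (hdR : Xd ≤ K)
    (hdW : ∀ y ∈ Xd, ∀ w ∈ W1 i1, y * w = w * y) {t : G} (ht : t ∈ R) (ht1 : t ≠ 1)
    (hκ : ∃ κ ∈ K, (∀ f ∈ Xd, κ * f * κ⁻¹ ∈ Xd) ∧ (∀ f ∈ Xd, κ * f = f * κ → f = 1) ∧
      (∀ w ∈ tw (⨆ i, W1 i) τ, κ * w = w * κ) ∧ (∀ w ∈ W1 i1, κ * w * κ⁻¹ ∈ W1 i1)) :
    ∀ y ∈ Xd, ∀ w ∈ tw (⨆ i, W1 i) τ, cm y w ∈ W1 i1 := by
  have Dm := H.dw
  have hX0F : W1 i1 ≤ ⨆ i, W1 i := le_iSup W1 i1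
  have hXrV : X1 i1 ≤ ⨆ i, X1 i := le_iSup X1 i1
  -- first: `cm y w ∈ W_r X_m`
  have key : ∀ y ∈ Xd, ∀ w ∈ tw (⨆ i, W1 i) τ, ∃ w' ∈ W1 i1, ∃ b ∈ Xm, cm y w = w' * b := by
    intro y hy w hw
    by_cases hy1 : y = 1
    · exact ⟨1, one_mem _, 1, one_mem _, by rw [hy1]; unfold cm; group⟩
    have hwF := H.twF hw
    set u := cm y w with hu
    have huF : u ∈ ⨆ i, W1 i := by
      have : u = (y * w * y⁻¹) * w⁻¹ := by rw [hu]; rfl
      rw [this]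
      exact mul_mem (H.dF y hy w hwF) (inv_mem hwF)
    -- the commutator with `a ∈ R`
    have hbr : br t u = cm y (br t w) := by
      have hx := Dm.brk t ht w hw
      have h0 := cmX y hy _ hx
      have h1 : t * y * t⁻¹ = y := by rw [H.F.A.comm t ht y (hdR hy)]; group
      have h2 : t * u * t⁻¹ = u * cm y (br t w) := by
        rw [hu, cm_conj, h1, conj_eq t w]
        exact cm_mul_right (H.F.comm hwF (H.F.VF (hXrV h0)))
      rw [br_def, h2]; group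
    have hX0 : cm y (br t w) ∈ X1 i1 := cmX y hy _ (Dm.brk t ht w hw)
    obtain ⟨w0, hw0, e0⟩ := (H.F.D i1).surj t ht ht1 _ hX0
    have h3 : t * (u * w0⁻¹) = (u * w0⁻¹) * t := comm_of_br_eq (hbr.trans e0.symm)
    have h4 := H.F.fix ht ht1 (mul_mem huF (inv_mem (hX0F hw0))) h3
    obtain ⟨a, ha, b, hb, e, he, eρ⟩ := H.VE _ h4
    -- `u = w0 a b e`
    have hbF : b ∈ ⨆ i, W1 i := H.F.VF (H.XmV hb)
    have heF : e ∈ ⨆ i, W1 i := H.F.VF (H.EV he)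
    have haF : a ∈ ⨆ i, W1 i := H.F.VF (hXrV ha)
    have hw0F := hX0F hw0
    set w' := w0 * a with hw'
    have hw'W : w' ∈ W1 i1 := mul_mem hw0 ((H.F.D i1).XW ha)
    have hu2 : u = w' * b * e := by
      have h5 : u = (a * b * e) * w0 := by rw [← eρ]; group
      have h6 := H.F.comm (mul_mem (mul_mem haF hbF) heF) hw0F
      rw [h5, h6, hw']; group
    -- `y u y⁻¹ = u⁻¹`
    have hyy : y⁻¹ = y := inv_eq_of_mul_eq_one_left (hd2 y hy)
    have h7 : y * u * y⁻¹ = u⁻¹ := by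
      have h8 : y * w * y⁻¹ = u * w := by rw [hu]; unfold cm; group
      have h9 : y * (y * w * y⁻¹) * y⁻¹ = w := by
        calc y * (y * w * y⁻¹) * y⁻¹ = (y * y) * w * (y * y)⁻¹ := by group
          _ = w := by rw [hd2 y hy]; group
      rw [h8] at h9
      have h10 : y * (u * w) * y⁻¹ = (y * u * y⁻¹) * (u * w) := by
        rw [conj_mul, h8]
      rw [h10] at h9
      calc y * u * y⁻¹ = ((y * u * y⁻¹) * (u * w)) * w⁻¹ * u⁻¹ := by group
        _ = u⁻¹ := by rw [h9]; group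
    -- the commutators
    have hcb : cm y b ∈ X1 i1 := cmX y hy b hb
    have hwX : w' * w' ∈ X1 i1 := by
      apply (H.F.D i1).fix t ht ht1 _ (mul_mem hw'W hw'W)
      apply br_eq_one.mp
      rw [(H.F.D i1).br_mul ht hw'W hw'W]
      exact (H.F.D i1).XX _ ((H.F.D i1).brk t ht w' hw'W)
    have h11 : cm y e ∈ X1 i1 := by
      have e1 : y * w' * y⁻¹ = w' := by rw [hdW y hy w' hw'W]; group
      have e2 : y * b * y⁻¹ = cm y b * b := by unfold cm; group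
      have e3 : y * e * y⁻¹ = cm y e * e := by unfold cm; group
      have e4 : y * u * y⁻¹ = w' * (cm y b * b) * (cm y e * e) := by
        rw [hu2]
        calc y * (w' * b * e) * y⁻¹ = (y * w' * y⁻¹) * (y * b * y⁻¹) * (y * e * y⁻¹) := by group
          _ = _ := by rw [e1, e2, e3]
      have hb2 : b * b = 1 := H.F.VV (H.XmV hb)
      have he2 : e * e = 1 := H.F.VV (H.EV he)
      rw [h7, hu2] at e4
      -- `(w' b e)⁻¹ = w' (cm y b) b (cm y e) e`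
      have hceF : cm y e ∈ ⨆ i, W1 i := by
        have : cm y e = (y * e * y⁻¹) * e⁻¹ := rfl
        rw [this]
        exact mul_mem (H.dF y hy e heF) (inv_mem heF)
      have hcbF : cm y b ∈ ⨆ i, W1 i := H.F.VF (hXrV hcb)
      have hw'F := hX0F hw'W
      have c1 := H.F.comm hbF hceF
      have c2 := H.F.comm hw'F hcbF
      have e5 : (1 : G) = w' * cm y b * b * (cm y e * e) * (w' * b * e) := by
        calc (1 : G) = (w' * b * e)⁻¹ * (w' * b * e) := by group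
          _ = w' * (cm y b * b) * (cm y e * e) * (w' * b * e) := by rw [e4]
          _ = _ := by group
      have e6 : (1 : G) = cm y e * (cm y b * (w' * w')) := by
        have c3 := H.F.comm (mul_mem hceF heF) (mul_mem (mul_mem hw'F hcbF) hbF)
        have c4 := H.F.comm heF (mul_mem (mul_mem hw'F hcbF) (mul_mem hbF (mul_mem hw'F hbF)))
        have c5 := H.F.comm (mul_mem hbF hw'F) hbF
        calc (1 : G) = (w' * cm y b * b) * (cm y e * e) * (w' * b * e) := e5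
          _ = (cm y e * e) * (w' * cm y b * b) * (w' * b * e) := by rw [← c3]
          _ = cm y e * (e * (w' * cm y b * (b * (w' * b)))) * e := by group
          _ = cm y e * ((w' * cm y b * (b * (w' * b))) * e) * e := by rw [c4]
          _ = cm y e * (w' * cm y b * ((b * w') * b)) * (e * e) := by group
          _ = cm y e * (w' * cm y b * (b * (b * w'))) := by rw [c5, he2, mul_one]
          _ = cm y e * (w' * cm y b * ((b * b) * w')) := by group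
          _ = cm y e * ((w' * cm y b) * w') := by rw [hb2, one_mul]
          _ = _ := by rw [c2]; group
      have e7 : cm y e = (cm y b * (w' * w'))⁻¹ := eq_inv_of_mul_eq_one_left e6.symm
      rw [e7]
      exact inv_mem (mul_mem hcb hwX)
    have he1 : e = 1 := (H.cE y hy e he h11).resolve_left hy1
    exact ⟨w', hw'W, b, hb, by rw [hu2, he1, mul_one]⟩
  -- second: the torus trick
  obtain ⟨κ, hκK, hκd, hκf, hκm, hκr⟩ := hκ
  intro y hy w hw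
  obtain ⟨v, hv, e⟩ := onto' hκd hκf y hy
  obtain ⟨w', hw', b, hb, ec⟩ := key v hv w hw
  have hbm : κ * b = b * κ := hκm b (Dm.XW hb)
  rw [e, kappa' (hκm w hw), ec]
  have h1 : κ * (w' * b) * κ⁻¹ * (w' * b)⁻¹ = (κ * w' * κ⁻¹) * w'⁻¹ := by
    calc κ * (w' * b) * κ⁻¹ * (w' * b)⁻¹ = κ * w' * (b * κ⁻¹) * b⁻¹ * w'⁻¹ := by group
      _ = κ * w' * (κ⁻¹ * b) * b⁻¹ * w'⁻¹ := by rw [← comm_inv hbm]
      _ = _ := by group
  rw [h1]
  have h2 : (κ * w' * κ⁻¹) * w'⁻¹ ∈ W1 i1 := mul_mem (hκr w' hw') (inv_mem hw')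
  have h3 := hdW v hv _ h2
  have h4 : v⁻¹ * ((κ * w' * κ⁻¹) * w'⁻¹) * v = (κ * w' * κ⁻¹) * w'⁻¹ := by
    calc v⁻¹ * ((κ * w' * κ⁻¹) * w'⁻¹) * v = v⁻¹ * (((κ * w' * κ⁻¹) * w'⁻¹) * v) := by group
      _ = _ := by rw [← h3]; group
  rw [h4]
  exact h2

/-- elements of `K` of odd order centralising `X_m` and normalising the first family centralise the doubled `X_m` -/
theorem cen [Finite G] (H : Half K R T P1 X1 W1 P2 X2 W2 Y1 Z1 i1 z1 i2 Xm Xd E1 τ) {t : G} (ht : t ∈ R) (ht1 : t ≠ 1)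
    {κ : G} (hκ : κ ∈ K) (hF : ∀ f ∈ ⨆ i, W1 i, κ * f * κ⁻¹ ∈ ⨆ i, W1 i) (hτ : κ * τ = τ * κ)
    (hX : ∀ x ∈ Xm, κ * x = x * κ) (hodd : ∃ l : ℕ, Odd l ∧ κ ^ l = 1) :
    ∀ w ∈ tw (⨆ i, W1 i) τ, κ * w = w * κ := by
  obtain ⟨l, hl, hκl⟩ := hodd
  refine H.dw.cen H.F.A ht ht1 hκ ?_ hX hl hκl
  intro w hw
  obtain ⟨-, f, hf, rfl⟩ := mem_tw (fun _ hf _ hg => H.F.comm hf hg) H.τF hw
  have h1 : κ * τ * κ⁻¹ = τ := by rw [hτ]; group
  have h2 : κ * br τ f * κ⁻¹ = br τ (κ * f * κ⁻¹) := by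
    calc κ * br τ f * κ⁻¹ = (κ * f * κ⁻¹)⁻¹ * ((κ * τ * κ⁻¹) * (κ * f * κ⁻¹) * (κ * τ * κ⁻¹)⁻¹) := by
          unfold br; group
      _ = _ := by rw [h1]; rfl
  rw [h2]
  exact br_mem_tw (hF f hf)

end Half

namespace Uni

variable {ι₁ ι₂ : Type*} {K R T : Subgroup G} {P1 X1 W1 : ι₁ → Subgroup G} {P2 X2 W2 : ι₂ → Subgroup G}
  {Y1 Z1 Y2 Z2 : Subgroup G} {i1 : ι₁} {z1 : G} {i2 : ι₂} {z2 : G} {Xm Xd E1 E2 : Subgroup G} {τ : G}

theorem symm (H : Uni K R T P1 X1 W1 P2 X2 W2 Y1 Z1 Y2 Z2 i1 z1 i2 z2 Xm Xd E1 E2 τ)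
    (nd' : ∀ y ∈ Xm, y ≠ 1 → ∃ x ∈ Xd, cm x y ≠ 1) :
    Uni K R T P2 X2 W2 P1 X1 W1 Y2 Z2 Y1 Z1 i2 z2 i1 z1 Xd Xm E2 E1 τ where
  H1 := H.H2
  H2 := H.H1
  TK := H.TK
  Tab := H.Tab
  Todd := H.Todd
  cmX := fun x hx y hy => by
    rw [← H.H1.eqX, ← cm_inv]
    exact inv_mem (H.cmX y hy x hx)
  nd := nd'

theorem XdK (H : Uni K R T P1 X1 W1 P2 X2 W2 Y1 Z1 Y2 Z2 i1 z1 i2 z2 Xm Xd E1 E2 τ) : Xd ≤ K :=
  H.H2.XmV.trans H.H2.F.VK

theorem XmK (H : Uni K R T P1 X1 W1 P2 X2 W2 Y1 Z1 Y2 Z2 i1 z1 i2 z2 Xm Xd E1 E2 τ) : Xm ≤ K :=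
  H.H1.XmV.trans H.H1.F.VK

/-- `[X_d, W_m] ≤ W_r` -/
theorem mem1 [Finite G] (H : Uni K R T P1 X1 W1 P2 X2 W2 Y1 Z1 Y2 Z2 i1 z1 i2 z2 Xm Xd E1 E2 τ)
    {t : G} (ht : t ∈ R) (ht1 : t ≠ 1) : ∀ y ∈ Xd, ∀ w ∈ tw (⨆ i, W1 i) τ, cm y w ∈ W1 i1 := by
  apply H.H1.mem (fun y hy x hx => by rw [← cm_inv]; exact inv_mem (H.cmX x hx y hy))
    (fun y hy => H.H2.F.VV (H.H2.XmV hy)) H.XdK ?_ ht ht1 ?_
  · intro y hy w hw
    rw [H.H1.eqW] at hw
    exact ((H.H2.F.D i2).WP w hw y (H.H2.F.VP i2 (H.H2.XmV hy))).symm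
  · have hzT := H.H2.ZT H.H2.F.zZ
    refine ⟨z2, H.H2.F.ZK H.H2.F.zZ, H.H2.Zm z2 H.H2.F.zZ,
      fun f hf => H.H2.F.zfix f (H.H2.XmV hf),
      H.H1.cen ht ht1 (H.H2.F.ZK H.H2.F.zZ) (H.H2.Z2 z2 H.H2.F.zZ) (H.H2.Zτ z2 H.H2.F.zZ)
        (H.H2.Zd z2 H.H2.F.zZ) (H.Todd z2 hzT), ?_⟩
    intro w hw
    rw [H.H1.eqW] at hw ⊢
    exact H.H2.F.ZW z2 H.H2.F.zZ i2 w hw

/-- `[X_m, W_d] ≤ W_r` -/
theorem mem2 [Finite G] (H : Uni K R T P1 X1 W1 P2 X2 W2 Y1 Z1 Y2 Z2 i1 z1 i2 z2 Xm Xd E1 E2 τ)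
    {t : G} (ht : t ∈ R) (ht1 : t ≠ 1) : ∀ y ∈ Xm, ∀ w ∈ tw (⨆ i, W2 i) τ, cm y w ∈ W1 i1 := by
  rw [H.H1.eqW]
  apply H.H2.mem (fun y hy x hx => by rw [← H.H1.eqX]; exact H.cmX y hy x hx)
    (fun y hy => H.H1.F.VV (H.H1.XmV hy)) H.XmK ?_ ht ht1 ?_
  · intro y hy w hw
    rw [← H.H1.eqW] at hw
    exact ((H.H1.F.D i1).WP w hw y (H.H1.F.VP i1 (H.H1.XmV hy))).symm
  · have hzT := H.H1.ZT H.H1.F.zZ
    refine ⟨z1, H.H1.F.ZK H.H1.F.zZ, H.H1.Zm z1 H.H1.F.zZ,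
      fun f hf => H.H1.F.zfix f (H.H1.XmV hf),
      H.H2.cen ht ht1 (H.H1.F.ZK H.H1.F.zZ) (H.H1.Z2 z1 H.H1.F.zZ) (H.H1.Zτ z1 H.H1.F.zZ)
        (H.H1.Zd z1 H.H1.F.zZ) (H.Todd z1 hzT), ?_⟩
    intro w hw
    rw [← H.H1.eqW] at hw ⊢
    exact H.H1.F.ZW z1 H.H1.F.zZ i1 w hw

/-- the commutator formula -/
theorem br_cm [Finite G] (H : Uni K R T P1 X1 W1 P2 X2 W2 Y1 Z1 Y2 Z2 i1 z1 i2 z2 Xm Xd E1 E2 τ)
    {t : G} (ht : t ∈ R) (ht1 : t ≠ 1) {a v y : G} (ha : a ∈ R) (hv : v ∈ tw (⨆ i, W1 i) τ)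
    (hy : y ∈ tw (⨆ i, W2 i) τ) :
    br a (cm v y) = cm (br a v) y * cm (br a v) (br a y) * cm v (br a y) ∧
      cm (br a v) y ∈ W1 i1 ∧ cm (br a v) (br a y) ∈ X1 i1 ∧ cm v (br a y) ∈ W1 i1 ∧
      cm (br a v) y * cm (br a v) (br a y) * cm v (br a y) ∈ X1 i1 := by
  have Dm := H.H1.dw
  have Dd := H.H2.dw
  have hx := Dm.brk a ha v hv
  have hz := Dd.brk a ha y hy
  have hvF := H.H1.twF hv
  have hyF := H.H2.twF hy
  have m1 : cm (br a v) y ∈ W1 i1 := H.mem2 ht ht1 _ hx y hy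
  have m2 : cm (br a v) (br a y) ∈ X1 i1 := H.cmX _ hx _ hz
  have m3 : cm v (br a y) ∈ W1 i1 := by
    rw [← cm_inv]
    exact inv_mem (H.mem1 ht ht1 _ hz v hv)
  have m2' := (H.H1.F.D i1).XW m2
  -- `W_r` commutes with `v` and `y`
  have cv : ∀ w ∈ W1 i1, v * w = w * v := fun w hw => H.H1.F.comm hvF (le_iSup W1 i1 hw)
  have cy : ∀ w ∈ W1 i1, y * w = w * y := by
    intro w hw
    rw [H.H1.eqW] at hw
    exact H.H2.F.comm hyF (le_iSup W2 i2 hw)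
  have cc : ∀ w ∈ W1 i1, ∀ w' ∈ W1 i1, w * w' = w' * w := fun w hw w' hw' =>
    H.H1.F.comm (le_iSup W1 i1 hw) (le_iSup W1 i1 hw')
  have cvy : ∀ w ∈ W1 i1, cm v y * w = w * cm v y := by
    intro w hw
    exact (comm_cm (cv w hw).symm (cy w hw).symm).symm
  have E : br a (cm v y) = cm (br a v) y * cm (br a v) (br a y) * cm v (br a y) := by
    have h1 : a * cm v y * a⁻¹ = cm (v * br a v) (y * br a y) := by
      rw [cm_conj, conj_eq a v, conj_eq a y]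
    have h2 : cm (br a v) (y * br a y) = cm (br a v) y * cm (br a v) (br a y) := cm_mul_right (cy _ m2')
    have h3 : cm v (y * br a y) = cm v y * cm v (br a y) := cm_mul_right (cy _ m3)
    have m12 : cm (br a v) y * cm (br a v) (br a y) ∈ W1 i1 := mul_mem m1 m2'
    have h4 : cm (v * br a v) (y * br a y) = (cm v y * cm v (br a y)) * (cm (br a v) y * cm (br a v) (br a y)) := by
      rw [cm_mul_left (v := v) (x := br a v) (y := y * br a y), h2, h3]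
      · rw [h2]; exact cv _ m12
      · rw [h2, h3]
        have := cvy _ m12
        have h5 := cc _ m3 _ m12
        calc cm (br a v) y * cm (br a v) (br a y) * (cm v y * cm v (br a y))
            = (cm (br a v) y * cm (br a v) (br a y) * cm v y) * cm v (br a y) := by group
          _ = cm v y * (cm (br a v) y * cm (br a v) (br a y) * cm v (br a y)) := by rw [← this]; group
          _ = _ := by rw [← h5]; group
    rw [br_def, h1, h4]
    have h5 := cc _ m3 _ m12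
    calc (cm v y)⁻¹ * (cm v y * cm v (br a y) * (cm (br a v) y * cm (br a v) (br a y)))
        = cm v (br a y) * (cm (br a v) y * cm (br a v) (br a y)) := by group
      _ = _ := h5
  refine ⟨E, m1, m2, m3, ?_⟩
  by_cases ha1 : a = 1
  · rw [ha1]
    have e1 : ∀ g : G, br (1 : G) g = 1 := fun g => by unfold br; group
    have e2 : ∀ g : G, cm 1 g = 1 := fun g => by unfold cm; group
    have e3 : ∀ g : G, cm g 1 = 1 := fun g => by unfold cm; group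
    rw [e1, e1, e2, e2, e3]
    simp
  apply (H.H1.F.D i1).fix a ha ha1 _ (mul_mem (mul_mem m1 m2') m3)
  apply br_eq_one.mp
  rw [(H.H1.F.D i1).br_mul ha (mul_mem m1 m2') m3, (H.H1.F.D i1).br_mul ha m1 m2',
    (H.H1.F.D i1).br_x H.H1.F.A ha m2, mul_one]
  -- `br a (cm x y) = cm x z = br a (cm v z)`
  have hxK := H.XmK hx
  have hzK := H.XdK hz
  have f1 : br a (cm (br a v) y) = cm (br a v) (br a y) := by
    have h0 : a * br a v * a⁻¹ = br a v := by rw [H.H1.F.A.comm a ha _ hxK]; group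
    have h1 : a * cm (br a v) y * a⁻¹ = cm (br a v) y * cm (br a v) (br a y) := by
      rw [cm_conj, h0, conj_eq a y]
      exact cm_mul_right (cy _ m2')
    rw [br_def, h1]; group
  have f2 : br a (cm v (br a y)) = cm (br a v) (br a y) := by
    have h0 : a * br a y * a⁻¹ = br a y := by rw [H.H1.F.A.comm a ha _ hzK]; group
    have h1 : a * cm v (br a y) * a⁻¹ = cm v (br a y) * cm (br a v) (br a y) := by
      rw [cm_conj, h0, conj_eq a v]
      exact cm_mul_left (cv _ m2') (cc _ m2' _ m3)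
    rw [br_def, h1]; group
  rw [f1, f2]
  exact (H.H1.F.D i1).XX _ m2

/-- **`R` has at most one involution.** -/
theorem eq_of_ne_one [Finite G] (H : Uni K R T P1 X1 W1 P2 X2 W2 Y1 Z1 Y2 Z2 i1 z1 i2 z2 Xm Xd E1 E2 τ)
    (hd : ∃ y ∈ Xd, y ≠ 1) {t t' : G} (ht : t ∈ R) (ht1 : t ≠ 1) (ht' : t' ∈ R) (ht'1 : t' ≠ 1) : t' = t := by
  have A := H.H1.F.A
  have Dm := H.H1.dw
  have Dd := H.H2.dw
  have Dr := H.H1.F.D i1
  obtain ⟨h, hh, eh⟩ := H.H1.F.scal ht ht1 ht' ht'1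
  obtain ⟨k, hk, ek⟩ := H.H2.F.scal ht ht1 ht' ht'1
  have hhK := H.H1.F.ZK hh
  have hkK := H.H2.F.ZK hk
  have chd : ∀ w ∈ tw (⨆ i, W2 i) τ, h * w = w * h :=
    H.H2.cen ht ht1 hhK (H.H1.Z2 h hh) (H.H1.Zτ h hh) (H.H1.Zd h hh) (H.Todd h (H.H1.ZT hh))
  have ckm : ∀ w ∈ tw (⨆ i, W1 i) τ, k * w = w * k :=
    H.H1.cen ht ht1 hkK (H.H2.Z2 k hk) (H.H2.Zτ k hk) (H.H2.Zd k hk) (H.Todd k (H.H2.ZT hk))
  -- `h` and `k` agree on `X_r`, hence on `W_r`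
  have hkX : ∀ x ∈ X1 i1, h * x * h⁻¹ = k * x * k⁻¹ := by
    intro x hx
    obtain ⟨w, hw, e⟩ := Dr.surj t ht ht1 x hx
    have h1 := eh w (le_iSup W1 i1 hw)
    have h2 : w ∈ ⨆ i, W2 i := by
      rw [H.H1.eqW] at hw
      exact le_iSup W2 i2 hw
    have h3 := ek w h2
    rw [e] at h1 h3
    rw [← h1, ← h3]
  have hkW : ∀ w ∈ W1 i1, h * w * h⁻¹ = k * w * k⁻¹ := by
    have hT := mul_mem (inv_mem (H.H1.ZT hh)) (H.H2.ZT hk)
    obtain ⟨l, hl, hl1⟩ := H.Todd _ hT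
    have h1 := Dr.cen A ht ht1 (H.TK hT) (by
      intro w hw
      have e1 : k * w * k⁻¹ ∈ W1 i1 := by
        rw [H.H1.eqW] at hw ⊢
        exact H.H2.F.ZW k hk i2 w hw
      have e2 := H.H1.F.ZW h⁻¹ (inv_mem hh) i1 _ e1
      have e3 : h⁻¹ * k * w * (h⁻¹ * k)⁻¹ = h⁻¹ * (k * w * k⁻¹) * h⁻¹⁻¹ := by group
      rw [e3]; exact e2) (by
      intro x hx
      have e1 := hkX x hx
      calc h⁻¹ * k * x = h⁻¹ * (k * x * k⁻¹) * k := by group
        _ = h⁻¹ * (h * x * h⁻¹) * k := by rw [e1]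
        _ = x * (h⁻¹ * k) := by group) hl hl1
    intro w hw
    have h2 := h1 w hw
    calc h * w * h⁻¹ = h * (w * (h⁻¹ * k)) * k⁻¹ := by group
      _ = h * (h⁻¹ * k * w) * k⁻¹ := by rw [h2]
      _ = k * w * k⁻¹ := by group
  -- the comparison
  have main : ∀ v ∈ tw (⨆ i, W1 i) τ, ∀ y ∈ tw (⨆ i, W2 i) τ,
      cm (br t' v) (br t' y) = cm (br t' v) (br t y) := by
    intro v hv y hy
    obtain ⟨E1', -, -, m3, m4⟩ := H.br_cm ht ht1 ht hv hy
    obtain ⟨E2', -, -, -, m4'⟩ := H.br_cm ht ht1 ht' hv hy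
    rw [← E1'] at m4
    obtain ⟨w, hw, ew⟩ := Dr.surj t ht ht1 _ m4
    have h1 : t * (cm v y * w⁻¹) = (cm v y * w⁻¹) * t := comm_of_br_eq ew.symm
    have hvF := H.H1.twF hv
    have hyF := H.H2.twF hy
    have cv : ∀ w ∈ W1 i1, v * w = w * v := fun w hw => H.H1.F.comm hvF (le_iSup W1 i1 hw)
    have cy : ∀ w ∈ W1 i1, y * w = w * y := by
      intro w hw
      rw [H.H1.eqW] at hw
      exact H.H2.F.comm hyF (le_iSup W2 i2 hw)
    have cvy : ∀ w ∈ W1 i1, cm v y * w = w * cm v y := by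
      intro w hw
      exact (comm_cm (cv w hw).symm (cy w hw).symm).symm
    have hbrw : ∀ a ∈ R, br a (cm v y * w⁻¹) = br a (cm v y) * (br a w)⁻¹ := by
      intro a ha
      have e1 : br a (cm v y) * w⁻¹ = w⁻¹ * br a (cm v y) := by
        obtain ⟨E, -, -, -, m⟩ := H.br_cm ht ht1 ha hv hy
        rw [E]
        exact H.H1.F.comm (H.H1.F.VF (le_iSup X1 i1 m)) (le_iSup W1 i1 (inv_mem hw))
      rw [br_mul' e1, Dr.br_inv ha hw]
    have h2 : ∀ a ∈ R, br a (cm v y * w⁻¹) ∈ K := by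
      intro a ha
      obtain ⟨E, -, -, -, m⟩ := H.br_cm ht ht1 ha hv hy
      rw [hbrw a ha, E]
      exact mul_mem (Dr.XK m) (inv_mem (Dr.XK (Dr.brk a ha w hw)))
    have h3 := A.tight ht ht1 h1.symm h2 t' ht'
    have h4 := br_eq_one.mpr h3.symm
    rw [hbrw t' ht'] at h4
    have h5 : br t' (cm v y) = br t' w := mul_inv_eq_one.mp h4
    have h6 : br t' w = h * br t w * h⁻¹ := eh w (le_iSup W1 i1 hw)
    rw [h6, ew, E1', E2', conj_mul, conj_mul, cm_conj, cm_conj] at h5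
    have f1 : h * br t v * h⁻¹ = br t' v := (eh v hvF).symm
    have f2 : h * y * h⁻¹ = y := by rw [chd y hy]; group
    have hz := Dd.brk t ht y hy
    have f3 : h * br t y * h⁻¹ = br t y := by rw [H.H1.Zd h hh _ hz]; group
    have f4 : h * cm v (br t y) * h⁻¹ = cm v (br t' y) := by
      rw [hkW _ m3, cm_conj, ckm v hv, ek y hyF]
      congr 1
      group
    rw [f1, f2, f3, f4] at h5
    have h7 := mul_right_cancel h5
    exact mul_left_cancel h7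
  by_contra hne
  have htt : t' * t ∈ R := mul_mem ht' ht
  have htt1 : t' * t ≠ 1 := by
    intro h0
    apply hne
    calc t' = (t' * t) * t⁻¹ := by group
      _ = t := by rw [h0, one_mul, A.inv_eq ht]
  obtain ⟨x0, hx0, hx01⟩ := hd
  obtain ⟨y, hy, ey⟩ := Dd.surj t ht ht1 x0 hx0
  have hz := Dd.brk t ht y hy
  have hz' := Dd.brk t' ht' y hy
  have h1 : br t y = br t' y := by
    by_contra hzz
    have hd1 : (br t y)⁻¹ * br t' y ∈ Xd := mul_mem (inv_mem hz) hz'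
    have hd2 : (br t y)⁻¹ * br t' y ≠ 1 := by
      intro h0
      exact hzz (inv_mul_eq_one.mp h0)
    obtain ⟨x, hx, hx1⟩ := H.nd _ hd1 hd2
    obtain ⟨v, hv, ev⟩ := Dm.surj t' ht' ht'1 x hx
    have h2 := main v hv y hy
    rw [ev] at h2
    apply hx1
    have hXr := H.cmX x hx _ hd1
    have h3 : br t' y = br t y * ((br t y)⁻¹ * br t' y) := by group
    have h4 : cm x (br t' y) = cm x (br t y) * cm x ((br t y)⁻¹ * br t' y) := by
      conv_lhs => rw [h3]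
      apply cm_mul_right
      have e1 : cm x ((br t y)⁻¹ * br t' y) ∈ X2 i2 := by rw [← H.H1.eqX]; exact hXr
      exact H.H2.F.comm (H.H2.F.VF (H.H2.XmV hz)) (H.H2.F.VF (le_iSup X2 i2 e1))
    rw [h2] at h4
    exact (mul_eq_left.mp h4.symm)
  -- `t' t` commutes with `y`
  have h2 : t * y * t⁻¹ = t' * y * t'⁻¹ := by rw [conj_eq, conj_eq, h1]
  have h3 : (t' * t) * y = y * (t' * t) := by
    have e1 : t'⁻¹ = t' := A.inv_eq ht'
    have e2 : t⁻¹ = t := A.inv_eq ht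
    have e3 := A.tt t' ht'
    calc (t' * t) * y = t' * (t * y * t⁻¹) * t := by group
      _ = t' * (t' * y * t'⁻¹) * t := by rw [h2]
      _ = (t' * t') * y * (t'⁻¹ * t) := by group
      _ = y * (t' * t) := by rw [e3, one_mul, e1]
  have h4 := Dd.fix _ htt htt1 y hy h3
  have h5 := Dd.br_x A ht h4
  rw [ey] at h5
  exact hx01 h5

end Uni

end Cfsg.Agent.OddHalf.DblR

end

-- merged: Cfsg.Agent.OddHalf.DblR.UnSheet
section

/-!
# ODD, D4, unitary groups: the facts on `K` used by `Uni` (helper350)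

* `HalfK` : one totally isotropic line `L = ⟨e₁, e₂⟩`: `X₀` the long root group of `e₁`, `P = C_K(X₀)`, `A` the group
  `SL(L)`, `V = ⟨X₀^A⟩` the long root groups of the points of `L`, `Z` the torus of scalars on `L`;
* `UK` : two of them, `L = ⟨e₁, e₂⟩`, `L' = ⟨e₁, f₂⟩`;
* `UK.map` : transport from `Y` to the image of an injective homomorphism `Y →* G`;
* **`UK.eq_of_ne_one`** : with a doubled root group (`Base`), `R` has at most one involution.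
-/

set_option autoImplicit false

namespace Cfsg.Agent.OddHalf.DblR

open Cfsg.Agent.Nodes.Reps

/-- One half of the facts on `K`. `Cn S Z` : "what centralises `S` is induced by `Z`". -/
structure HalfK {Y : Type*} [Group Y] (Cn : Subgroup Y → Subgroup Y → Prop) (T P X0 A V S Z Xm Xd E : Subgroup Y)
    (z τ : Y) : Prop where
  hV : V = ⨆ k : ↥A, cj (k : Y) X0
  AP : ∀ k ∈ A, cj k X0 ≤ P
  AZ : ∀ k ∈ A, ∀ h ∈ Z, h * k = k * h
  SP : ∀ k ∈ A, S ≤ cj k P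
  zZ : z ∈ Z
  ZT : Z ≤ T
  Ztr : ∀ x ∈ X0, x ≠ 1 → ∀ x' ∈ X0, x' ≠ 1 → ∃ h ∈ Z, h * x * h⁻¹ = x'
  zfix : ∀ x ∈ V, z * x = x * z → x = 1
  cen : Cn S V
  /-- two points of `L` -/
  sep : ∀ k ∈ A, cj k X0 ≠ X0 → (∀ x ∈ X0, x ∈ cj k X0 → x = 1) ∧ Cn (P ⊓ cj k P) (X0 ⊔ cj k X0) ∧
    ∃ κ ∈ cj k P, cj κ X0 = X0 ∧ ∀ x ∈ X0, κ * x = x * κ → x = 1
  /-- `T` and `X_d` permute the points of `L` -/
  nor : ∀ g, g ∈ T ∨ g ∈ Xd → ∀ k ∈ A, ∃ k' ∈ A, cj (g * k) X0 = cj k' X0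
  τdec : ∀ ρ ∈ V, ∃ c ∈ V, τ * c = c * τ ∧ ∃ x ∈ Xm, ρ = c * x
  XmV : Xm ≤ V
  TXm : ∀ g ∈ T, ∀ x ∈ Xm, g * x * g⁻¹ ∈ Xm
  τfix : ∀ x ∈ Xm, τ * x = x * τ → x = 1
  Zd : ∀ h ∈ Z, ∀ y ∈ Xd, h * y = y * h
  dXr : ∀ y ∈ Xd, ∀ x ∈ X0, y * x = x * y
  VE : ∀ ρ ∈ V, ∃ a ∈ X0, ∃ b ∈ Xm, ∃ e ∈ E, ρ = a * b * e
  EV : E ≤ V
  cE : ∀ y ∈ Xd, ∀ e ∈ E, cm y e ∈ X0 → y = 1 ∨ e = 1

/-- **The facts on `K`.** -/
structure UK {Y : Type*} [Group Y] (Cn : Subgroup Y → Subgroup Y → Prop) (T P0 P X0 A1 V1 S1 Z1 A2 V2 S2 Z2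
    Xm Xd E1 E2 : Subgroup Y) (z1 z2 τ : Y) : Prop where
  H1 : HalfK Cn T P X0 A1 V1 S1 Z1 Xm Xd E1 z1 τ
  H2 : HalfK Cn T P X0 A2 V2 S2 Z2 Xd Xm E2 z2 τ
  X0P : X0 ≤ P
  TX : ∀ g ∈ T, cj g X0 = X0
  Tab : ∀ h ∈ T, ∀ k ∈ T, h * k = k * h
  Todd : ∀ h ∈ T, ∃ l : ℕ, Odd l ∧ h ^ l = 1
  τT : τ ∈ T
  cmX : ∀ x ∈ Xm, ∀ y ∈ Xd, cm x y ∈ X0
  nd : ∀ y ∈ Xd, y ≠ 1 → ∃ x ∈ Xm, cm x y ≠ 1
  hd : ∃ y ∈ Xd, y ≠ 1
  /-- `P = P₀ (elements of odd order centralising X₀)` -/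
  P0P : P0 ≤ P
  up : ∀ p ∈ P, ∃ a ∈ P0, ∃ s : Y, p = a * s ∧ (∀ x ∈ X0, s * x = x * s) ∧ ∃ m : ℕ, Odd m ∧ s ^ m = 1

/-- `Cn` for automorphisms -/
def CnAut {Y : Type*} [Group Y] (S Z : Subgroup Y) : Prop :=
  ∀ α : MulAut Y, (∀ y ∈ S, α y = y) → ∃ ρ ∈ Z, α = MulAut.conj ρ

/-- `Cn` for elements of an overgroup of `K` commuting with `R` -/
def CnR {G : Type*} [Group G] (K R : Subgroup G) (S Z : Subgroup G) : Prop :=
  ∀ c : G, (∀ a ∈ R, c * a = a * c) → (∀ y ∈ S, c * y = y * c) → ∃ ρ ∈ Z, ρ⁻¹ * c ∈ C1 K R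

section map

variable {Y G : Type*} [Group Y] [Group G] (f : Y →* G) (hf : Function.Injective f)
include hf

theorem map_comm' {a b : Y} : f a * f b = f b * f a ↔ a * b = b * a := by
  rw [← map_mul, ← map_mul]
  exact ⟨fun h => hf h, fun h => by rw [h]⟩

theorem map_eq_one' {a : Y} : f a = 1 ↔ a = 1 := by
  rw [← map_one f]
  exact ⟨fun h => hf h, fun h => by rw [h]⟩

theorem HalfK.map {Cn : Subgroup Y → Subgroup Y → Prop} {Cn' : Subgroup G → Subgroup G → Prop}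
    (hCn : ∀ S Z, Cn S Z → Cn' (S.map f) (Z.map f)) {T P X0 A V S Z Xm Xd E : Subgroup Y} {z τ : Y}
    (H : HalfK Cn T P X0 A V S Z Xm Xd E z τ) :
    HalfK Cn' (T.map f) (P.map f) (X0.map f) (A.map f) (V.map f) (S.map f) (Z.map f) (Xm.map f) (Xd.map f)
      (E.map f) (f z) (f τ) := by
  have cjf : ∀ (k : Y) (B : Subgroup Y), cj (f k) (B.map f) = (cj k B).map f := fun k B =>
    Cfsg.Agent.Nodes.RGDLib.cj_map f k B
  have mi : ∀ {k : Y} {B : Subgroup Y}, f k ∈ B.map f → k ∈ B := by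
    rintro k B ⟨b, hb, e⟩
    rwa [← hf e]
  refine ⟨?_, ?_, ?_, ?_, ?_, ?_, ?_, ?_, ?_, ?_, ?_, ?_, ?_, ?_, ?_, ?_, ?_, ?_, ?_, ?_⟩
  · conv_lhs => rw [H.hV]
    rw [Subgroup.map_iSup]
    apply le_antisymm
    · refine iSup_le fun k => ?_
      rw [← cjf]
      exact le_iSup (fun k : ↥(A.map f) => cj (k : G) (X0.map f)) ⟨f k, ⟨k, k.2, rfl⟩⟩
    · refine iSup_le ?_
      rintro ⟨_, k, hk, rfl⟩
      show cj (f k) (X0.map f) ≤ _
      rw [cjf]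
      exact le_iSup (fun k : ↥A => (cj (k : Y) X0).map f) ⟨k, hk⟩
  · rintro _ ⟨k, hk, rfl⟩
    rw [cjf]; exact Subgroup.map_mono (H.AP k hk)
  · rintro _ ⟨k, hk, rfl⟩ _ ⟨h, hh, rfl⟩
    rw [map_comm' f hf]; exact H.AZ k hk h hh
  · rintro _ ⟨k, hk, rfl⟩
    rw [cjf]; exact Subgroup.map_mono (H.SP k hk)
  · exact ⟨z, H.zZ, rfl⟩
  · exact Subgroup.map_mono H.ZT
  · rintro _ ⟨x, hx, rfl⟩ h1 _ ⟨y, hy, rfl⟩ h2
    obtain ⟨h, hh, e⟩ := H.Ztr x hx (fun h0 => h1 (by rw [h0, map_one])) y hy (fun h0 => h2 (by rw [h0, map_one]))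
    exact ⟨f h, ⟨h, hh, rfl⟩, by rw [← e]; simp⟩
  · rintro _ ⟨x, hx, rfl⟩ h1
    rw [H.zfix x hx ((map_comm' f hf).1 h1), map_one]
  · exact hCn _ _ H.cen
  · rintro _ ⟨k, hk, rfl⟩ hne
    rw [cjf] at hne
    obtain ⟨h1, h2, κ, hκ, h3, h4⟩ := H.sep k hk fun h0 => hne (by rw [h0])
    refine ⟨?_, ?_, f κ, ?_, ?_, ?_⟩
    · rintro _ ⟨x, hx, rfl⟩ h5
      rw [cjf] at h5
      rw [h1 x hx (mi h5), map_one]
    · have := hCn _ _ h2
      rwa [Subgroup.map_inf _ _ _ hf, Subgroup.map_sup, ← cjf, ← cjf] at this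
    · rw [cjf]; exact ⟨κ, hκ, rfl⟩
    · rw [cjf, h3]
    · rintro _ ⟨x, hx, rfl⟩ h5
      rw [h4 x hx ((map_comm' f hf).1 h5), map_one]
  · rintro g hg _ ⟨k, hk, rfl⟩
    obtain ⟨g, hg', rfl⟩ : ∃ g', (g' ∈ T ∨ g' ∈ Xd) ∧ f g' = g := by
      rcases hg with ⟨g', h, e⟩ | ⟨g', h, e⟩
      · exact ⟨g', Or.inl h, e⟩
      · exact ⟨g', Or.inr h, e⟩
    obtain ⟨k', hk', e⟩ := H.nor g hg' k hk
    exact ⟨f k', ⟨k', hk', rfl⟩, by rw [← map_mul, cjf, cjf, e]⟩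
  · rintro _ ⟨ρ, hρ, rfl⟩
    obtain ⟨c, hc, h1, x, hx, e⟩ := H.τdec ρ hρ
    exact ⟨f c, ⟨c, hc, rfl⟩, (map_comm' f hf).2 h1, f x, ⟨x, hx, rfl⟩, by rw [e, map_mul]⟩
  · exact Subgroup.map_mono H.XmV
  · rintro _ ⟨g, hg, rfl⟩ _ ⟨x, hx, rfl⟩
    exact ⟨g * x * g⁻¹, H.TXm g hg x hx, by simp⟩
  · rintro _ ⟨x, hx, rfl⟩ h1
    rw [H.τfix x hx ((map_comm' f hf).1 h1), map_one]
  · rintro _ ⟨h, hh, rfl⟩ _ ⟨y, hy, rfl⟩
    exact (map_comm' f hf).2 (H.Zd h hh y hy)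
  · rintro _ ⟨h, hh, rfl⟩ _ ⟨y, hy, rfl⟩
    exact (map_comm' f hf).2 (H.dXr h hh y hy)
  · rintro _ ⟨ρ, hρ, rfl⟩
    obtain ⟨a, ha, b, hb, e, he, h⟩ := H.VE ρ hρ
    exact ⟨f a, ⟨a, ha, rfl⟩, f b, ⟨b, hb, rfl⟩, f e, ⟨e, he, rfl⟩, by rw [h, map_mul, map_mul]⟩
  · exact Subgroup.map_mono H.EV
  · rintro _ ⟨y, hy, rfl⟩ _ ⟨e, he, rfl⟩ h1
    have h2 : cm (f y) (f e) = f (cm y e) := by unfold cm; simp
    rw [h2] at h1
    rcases H.cE y hy e he (mi h1) with h | h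
    · left; rw [h, map_one]
    · right; rw [h, map_one]

theorem UK.map {Cn : Subgroup Y → Subgroup Y → Prop} {Cn' : Subgroup G → Subgroup G → Prop}
    (hCn : ∀ S Z, Cn S Z → Cn' (S.map f) (Z.map f)) {T P0 P X0 A1 V1 S1 Z1 A2 V2 S2 Z2 Xm Xd E1 E2 : Subgroup Y}
    {z1 z2 τ : Y} (H : UK Cn T P0 P X0 A1 V1 S1 Z1 A2 V2 S2 Z2 Xm Xd E1 E2 z1 z2 τ) :
    UK Cn' (T.map f) (P0.map f) (P.map f) (X0.map f) (A1.map f) (V1.map f) (S1.map f) (Z1.map f) (A2.map f)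
      (V2.map f) (S2.map f) (Z2.map f) (Xm.map f) (Xd.map f) (E1.map f) (E2.map f) (f z1) (f z2) (f τ) := by
  have cjf : ∀ (k : Y) (B : Subgroup Y), cj (f k) (B.map f) = (cj k B).map f := fun k B =>
    Cfsg.Agent.Nodes.RGDLib.cj_map f k B
  refine ⟨H.H1.map f hf hCn, H.H2.map f hf hCn, Subgroup.map_mono H.X0P, ?_, ?_, ?_, ⟨τ, H.τT, rfl⟩, ?_, ?_, ?_,
    Subgroup.map_mono H.P0P, ?_⟩
  · rintro _ ⟨g, hg, rfl⟩
    rw [cjf, H.TX g hg]
  · rintro _ ⟨h, hh, rfl⟩ _ ⟨k, hk, rfl⟩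
    exact (map_comm' f hf).2 (H.Tab h hh k hk)
  · rintro _ ⟨h, hh, rfl⟩
    obtain ⟨l, hl, e⟩ := H.Todd h hh
    exact ⟨l, hl, by rw [← map_pow, e, map_one]⟩
  · rintro _ ⟨x, hx, rfl⟩ _ ⟨y, hy, rfl⟩
    exact ⟨cm x y, H.cmX x hx y hy, by unfold cm; simp⟩
  · rintro _ ⟨y, hy, rfl⟩ h1
    obtain ⟨x, hx, h2⟩ := H.nd y hy fun h0 => h1 (by rw [h0, map_one])
    refine ⟨f x, ⟨x, hx, rfl⟩, ?_⟩
    have h3 : cm (f x) (f y) = f (cm x y) := by unfold cm; simp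
    rw [h3]
    exact fun h0 => h2 ((map_eq_one' f hf).1 h0)
  · obtain ⟨y, hy, h1⟩ := H.hd
    exact ⟨f y, ⟨y, hy, rfl⟩, fun h0 => h1 ((map_eq_one' f hf).1 h0)⟩
  · rintro _ ⟨p, hp, rfl⟩
    obtain ⟨a, ha, s, e, h1, m, hm, h2⟩ := H.up p hp
    refine ⟨f a, ⟨a, ha, rfl⟩, f s, by rw [e, map_mul], ?_, m, hm, by rw [← map_pow, h2, map_one]⟩
    rintro _ ⟨x, hx, rfl⟩
    exact (map_comm' f hf).2 (h1 x hx)

end map

variable {G : Type*} [Group G]

/-- elements permuting the points normalise `⨆ W` -/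
theorem nor_iSup {K R P X0 W A : Subgroup G} (B : Base K R P X0 W) (hA : A ≤ K) {g : G} (hg : g ∈ K)
    (h : ∀ k ∈ A, ∃ k' ∈ A, cj (g * k) X0 = cj k' X0) : ∀ f ∈ ⨆ i : ↥A, cj (i : G) W,
      g * f * g⁻¹ ∈ ⨆ i : ↥A, cj (i : G) W := by
  have key : cj g (⨆ i : ↥A, cj (i : G) W) ≤ ⨆ i : ↥A, cj (i : G) W := by
    rw [cj_iSup]
    refine iSup_le fun i => ?_
    obtain ⟨k', hk', e⟩ := h i i.2
    rw [← cj_mul, B.cj_eq (mul_mem hg (hA i.2)) (hA hk') e]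
    exact le_iSup (fun i : ↥A => cj (i : G) W) ⟨k', hk'⟩
  intro f hf
  exact key (conj_mem_cj.2 hf)

/-- the doubled root groups of the points of `L` form a `Fan` -/
theorem HalfK.fan [Finite G] {K R T P X0 Am V S Z Xm Xd E W : Subgroup G} {z τ : G} (A : Amb K R)
    (H : HalfK (CnR K R) T P X0 Am V S Z Xm Xd E z τ) (B : Base K R P X0 W) (hW : ∀ v ∈ W, ∀ w ∈ W, v * w = w * v)
    (TX : ∀ g ∈ T, cj g X0 = X0) (TK : T ≤ K) (AK : Am ≤ K) (Tab : ∀ h ∈ T, ∀ k ∈ T, h * k = k * h)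
    {t : G} (ht : t ∈ R) (ht1 : t ≠ 1) (hX0 : ∃ x ∈ X0, x ≠ 1) :
    Fan K R (fun i : ↥Am => cj (i : G) P) (fun i => cj (i : G) X0) (fun i => cj (i : G) W) S Z 1 z := by
  have hsep1 : ∀ k ∈ Am, cj k X0 ≠ X0 → ∀ w ∈ W, ∀ y ∈ cj k W, cm w y ∈ X0 := by
    intro k hk hne
    obtain ⟨h1, h2, κ, hκ, h3, h4⟩ := H.sep k hk hne
    have D' := B.dw.conj A (AK hk)
    have hκK : κ ∈ K := D'.PK hκ
    have hX1 : X0 ≤ cj k P := by
      have := cj_mono k (H.AP k⁻¹ (inv_mem hk))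
      rwa [cj_cj_inv] at this
    refine half60 A B.dw D' ht ht1 hX1 (H.AP k hk) inf_le_left inf_le_right ?_ hκK ?_ ?_ h4
      (fun y hy => (D'.WP y hy κ hκ).symm)
    · intro c hc hcS
      obtain ⟨ρ, hρ, e⟩ := h2 c hc hcS
      -- `ρ = x x'`
      have h5 : X0 ≤ Subgroup.normalizer (cj k X0 : Set G) := by
        intro x hx
        rw [Subgroup.mem_normalizer_iff]
        have hcom : ∀ y ∈ cj k X0, x * y = y * x := fun y hy => (D'.WP y (D'.XW hy) x (hX1 hx)).symm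
        intro y
        constructor
        · intro hy
          have e2 : x * y * x⁻¹ = y := by rw [hcom y hy]; group
          rwa [e2]
        · intro hy
          have e2 : y = x * y * x⁻¹ := by
            have := hcom _ hy
            calc y = x⁻¹ * ((x * y * x⁻¹) * x) := by group
              _ = x⁻¹ * (x * (x * y * x⁻¹)) := by rw [this]
              _ = _ := by group
          rw [e2]; exact hy
      have h6 : ρ ∈ ((X0 ⊔ cj k X0 : Subgroup G) : Set G) := hρ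
      rw [Subgroup.coe_mul_of_left_le_normalizer_right _ _ h5] at h6
      obtain ⟨x, hx, x', hx', rfl⟩ := h6
      exact ⟨x, hx, x', hx', e⟩
    · intro w hw
      have := conj_mem_cj (g := κ).2 hw
      rwa [B.nor κ hκK h3] at this
    · intro x hx
      have := conj_mem_cj (g := κ).2 hx
      rwa [h3] at this
  -- `[W, k W] = 1`
  have hww : ∀ k ∈ Am, ∀ w ∈ W, ∀ y ∈ cj k W, w * y = y * w := by
    intro k hk w hw y hy
    by_cases hne : cj k X0 = X0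
    · rw [B.nor k (AK hk) hne] at hy
      exact hW w hw y hy
    · have h1 := hsep1 k hk hne w hw y hy
      have hne' : cj k⁻¹ X0 ≠ X0 := by
        intro h0
        apply hne
        conv_lhs => rw [← h0]
        exact cj_cj_inv k X0
      rw [mem_cj] at hy
      have h2 := hsep1 k⁻¹ (inv_mem hk) hne' _ hy (k⁻¹ * w * k) (by
        rw [mem_cj]
        have : k⁻¹⁻¹ * (k⁻¹ * w * k) * k⁻¹ = w := by group
        rw [this]; exact hw)
      have h3 : cm y w ∈ cj k X0 := by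
        rw [mem_cj]
        have : k⁻¹ * cm y w * k = cm (k⁻¹ * y * k) (k⁻¹ * w * k) := by unfold cm; group
        rw [this]; exact h2
      have h4 : cm w y ∈ cj k X0 := by
        rw [← cm_inv]; exact inv_mem h3
      exact cm_eq_one.1 ((H.sep k hk hne).1 _ h1 h4)
  have invX : ∀ {k x : G} {A : Subgroup G}, cj k A = A → x ∈ A → k * x * k⁻¹ ∈ A := by
    intro k x A h hx
    have := conj_mem_cj (g := k).2 hx
    rwa [h] at this
  have hZi : ∀ h ∈ Z, ∀ i ∈ Am, ∀ C : Subgroup G, cj h C = C → cj h (cj i C) = cj i C := by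
    intro h hh i hi C e
    rw [← cj_mul, H.AZ i hi h hh, cj_mul, e]
  refine ⟨A, fun i => B.dw.conj A (AK i.2), ?_, ?_, fun i => H.SP i i.2, fun h hh => TK (H.ZT hh), H.zZ,
    fun h hh k hk => Tab h (H.ZT hh) k (H.ZT hk), ?_, ?_, ?_, ?_, ?_, ?_, ?_⟩
  · intro i j
    rw [← cj_le_cj_iff ((i : G)⁻¹), cj_inv_cj, ← cj_mul]
    exact H.AP _ (mul_mem (inv_mem i.2) j.2)
  · intro i j v hv w hw
    rw [mem_cj] at hv
    have h1 := hww ((i : G)⁻¹ * j) (mul_mem (inv_mem i.2) j.2) _ hv ((i : G)⁻¹ * w * i) (by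
      rw [cj_mul, mem_cj]
      have : ((i : G)⁻¹)⁻¹ * ((i : G)⁻¹ * w * i) * (i : G)⁻¹ = w := by group
      rw [this]; exact hw)
    calc v * w = i * (((i : G)⁻¹ * v * i) * ((i : G)⁻¹ * w * i)) * (i : G)⁻¹ := by group
      _ = i * (((i : G)⁻¹ * w * i) * ((i : G)⁻¹ * v * i)) * (i : G)⁻¹ := by rw [h1]
      _ = w * v := by group
  · intro h hh i x hx
    exact invX (hZi h hh i i.2 X0 (TX h (H.ZT hh))) hx
  · intro h hh i x hx
    exact invX (hZi h hh i i.2 W (B.nor h (TK (H.ZT hh)) (TX h (H.ZT hh)))) hx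
  · intro x hx hx1 x' hx' hx1'
    have e : cj ((1 : ↥Am) : G) X0 = X0 := cj_one X0
    rw [e] at hx hx'
    exact H.Ztr x hx hx1 x' hx' hx1'
  · obtain ⟨x, hx, hx1⟩ := hX0
    refine ⟨x, ?_, hx1⟩
    have e : cj ((1 : ↥Am) : G) X0 = X0 := cj_one X0
    rw [e]; exact hx
  · intro i
    refine ⟨i, AK i.2, H.AZ i i.2, fun w hw => ?_⟩
    have e : cj ((1 : ↥Am) : G) W = W := cj_one W
    rw [e]
    exact mem_cj.1 hw
  · intro x hx
    rw [← H.hV] at hx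
    exact H.zfix x hx
  · intro c hc hcS
    have := H.cen c hc hcS
    rwa [H.hV] at this

/-- the hypotheses `Half` -/
theorem HalfK.half [Finite G] {K R T P X0 A1 V1 S1 Z1 A2 V2 S2 Z2 Xm Xd E1 E2 W : Subgroup G} {z1 z2 τ : G}
    (A : Amb K R) (H : HalfK (CnR K R) T P X0 A1 V1 S1 Z1 Xm Xd E1 z1 τ)
    (H' : HalfK (CnR K R) T P X0 A2 V2 S2 Z2 Xd Xm E2 z2 τ) (B : Base K R P X0 W)
    (hW : ∀ v ∈ W, ∀ w ∈ W, v * w = w * v)
    (TX : ∀ g ∈ T, cj g X0 = X0) (TK : T ≤ K) (AK : A1 ≤ K) (AK' : A2 ≤ K) (XdK : Xd ≤ K)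
    (Tab : ∀ h ∈ T, ∀ k ∈ T, h * k = k * h) (Todd : ∀ h ∈ T, ∃ l : ℕ, Odd l ∧ h ^ l = 1) (hτ : τ ∈ T)
    {t : G} (ht : t ∈ R) (ht1 : t ≠ 1) (hX0 : ∃ x ∈ X0, x ≠ 1) :
    Half K R T (fun i : ↥A1 => cj (i : G) P) (fun i => cj (i : G) X0) (fun i => cj (i : G) W)
      (fun i : ↥A2 => cj (i : G) P) (fun i => cj (i : G) X0) (fun i => cj (i : G) W) S1 Z1 1 z1 1 Xm Xd E1 τ := by
  have e1 : cj ((1 : ↥A1) : G) X0 = X0 := cj_one X0
  have e2 : cj ((1 : ↥A2) : G) X0 = X0 := cj_one X0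
  have e3 : cj ((1 : ↥A1) : G) W = W := cj_one W
  have e4 : cj ((1 : ↥A2) : G) W = W := cj_one W
  have hV := H.hV
  exact {
    F := H.fan A B hW TX TK AK Tab ht ht1 hX0
    eqX := by show cj ((1 : ↥A1) : G) X0 = cj ((1 : ↥A2) : G) X0; rw [e1, e2]
    eqW := by show cj ((1 : ↥A1) : G) W = cj ((1 : ↥A2) : G) W; rw [e3, e4]
    τK := TK hτ
    τodd := Todd τ hτ
    τF := nor_iSup B AK (TK hτ) (H.nor τ (Or.inl hτ))
    τdec := by rw [← hV]; exact H.τdec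
    ZT := H.ZT
    XmV := by rw [← hV]; exact H.XmV
    τX := H.TXm τ hτ
    τfix := H.τfix
    Zd := H.Zd
    Zm := fun h hh => H.TXm h (H.ZT hh)
    Z2 := fun h hh => nor_iSup B AK' (TK (H.ZT hh)) (H'.nor h (Or.inl (H.ZT hh)))
    Zτ := fun h hh => Tab h (H.ZT hh) τ hτ
    dF := fun y hy => nor_iSup B AK (XdK hy) (H.nor y (Or.inr hy))
    dXr := by
      intro y hy x hx
      rw [e1] at hx
      exact H.dXr y hy x hx
    VE := by
      intro ρ hρ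
      rw [← hV] at hρ
      rw [e1]
      exact H.VE ρ hρ
    EV := by rw [← hV]; exact H.EV
    cE := by
      intro y hy e he h
      rw [e1] at h
      exact H.cE y hy e he h }

/-- **`R` has at most one involution.** -/
theorem UK.eq_of_ne_one [Finite G] {K R T P0 P X0 A1 V1 S1 Z1 A2 V2 S2 Z2 Xm Xd E1 E2 W : Subgroup G} {z1 z2 τ : G}
    (H : UK (CnR K R) T P0 P X0 A1 V1 S1 Z1 A2 V2 S2 Z2 Xm Xd E1 E2 z1 z2 τ) (A : Amb K R)
    (B : Base K R P0 X0 W) (hW : ∀ v ∈ W, ∀ w ∈ W, v * w = w * v) (TK : T ≤ K) (PK : P ≤ K) (AK : A1 ≤ K)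
    (AK' : A2 ≤ K) (XmK : Xm ≤ K) (XdK : Xd ≤ K) (hX0 : ∃ x ∈ X0, x ≠ 1)
    {t t' : G} (ht : t ∈ R) (ht1 : t ≠ 1) (ht' : t' ∈ R) (ht1' : t' ≠ 1) : t' = t := by
  have B' : Base K R P X0 W := by
    refine ⟨B.dw.upgrade A ht ht1 H.P0P PK ?_, B.nor⟩
    intro p hp
    obtain ⟨a, ha, s, e, h1, m, hm, h2⟩ := H.up p hp
    have hsK : s ∈ K := by
      have : s = a⁻¹ * p := by rw [e]; group
      rw [this]
      exact mul_mem (inv_mem (B.dw.PK ha)) (PK hp)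
    have h3 : cj s X0 = X0 := by
      apply le_antisymm
      · intro x hx
        rw [mem_cj] at hx
        have h4 := h1 _ hx
        have : x = s⁻¹ * x * s := by
          calc x = (s * (s⁻¹ * x * s)) * s⁻¹ := by group
            _ = ((s⁻¹ * x * s) * s) * s⁻¹ := by rw [h4]
            _ = _ := by group
        rw [this]; exact hx
      · intro x hx
        rw [mem_cj]
        have h4 := h1 x hx
        have : s⁻¹ * x * s = x := by
          calc s⁻¹ * x * s = s⁻¹ * (x * s) := by group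
            _ = s⁻¹ * (s * x) := by rw [h4]
            _ = x := by group
        rwa [this]
    refine ⟨a, ha, s, hsK, e, h1, ?_, m, hm, h2⟩
    intro w hw
    have := conj_mem_cj (g := s).2 hw
    rwa [B.nor s hsK h3] at this
  have F1 := H.H1.half A H.H2 B' hW H.TX TK AK AK' XdK H.Tab H.Todd H.τT ht ht1 hX0
  have F2 := H.H2.half A H.H1 B' hW H.TX TK AK' AK XmK H.Tab H.Todd H.τT ht ht1 hX0
  have U : Uni K R T (fun i : ↥A1 => cj (i : G) P) (fun i => cj (i : G) X0) (fun i => cj (i : G) W)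
      (fun i : ↥A2 => cj (i : G) P) (fun i => cj (i : G) X0) (fun i => cj (i : G) W) S1 Z1 S2 Z2 1 z1 1 z2
      Xm Xd E1 E2 τ := by
    refine ⟨F1, F2, TK, H.Tab, H.Todd, ?_, H.nd⟩
    intro x hx y hy
    have e1 : cj ((1 : ↥A1) : G) X0 = X0 := cj_one X0
    show cm x y ∈ cj ((1 : ↥A1) : G) X0
    rw [e1]
    exact H.cmX x hx y hy
  exact U.eq_of_ne_one H.hd ht ht1 ht' ht1'

end Cfsg.Agent.OddHalf.DblR

end

-- merged: Cfsg.Agent.OddHalf.DblR.UnFrameDefs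
section

/-!
# ODD, D4, unitary groups: the subgroups of `PSU n F q` attached to a totally isotropic line (helper780)

`PE q u` : elements multiplying `u` by a scalar of norm one; `SE q e` : elements fixing all `e i`;
`VE hF E` : the group of the `aEl hF E H`. All are images in `PSU n F q` of subgroups `stE`, `fixE`, `aG` of `SU n F q`.
-/

set_option autoImplicit false

namespace Cfsg.Agent.OddHalf.DblR.UnF

open Cfsg Cfsg.Agent.LieClassical.HermBasic Cfsg.Agent.LieClassical.HermSiegel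
  Cfsg.Agent.LieClassical.HermGen Cfsg.Agent.LieClassical.SUBasic Matrix
  Cfsg.Agent.ClassicalGeometry.PSUAutBasic Cfsg.Agent.ClassicalGeometry.PSUAutSylow
  Cfsg.Agent.ClassicalGeometry.PSUAutUnip Cfsg.Agent.KFacts.Unit

section Basic

variable {F : Type*} [Field F] {q n d : ℕ}

/-- The elements multiplying `u` by a scalar of norm one. -/
def stE (q : ℕ) (u : Fin n → F) : Subgroup (SU n F q) where
  carrier := {g | ∃ c : F, c * c ^ q = 1 ∧ act g u = c • u}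
  one_mem' := ⟨1, by rw [one_pow, one_mul], by rw [act_one, one_smul]⟩
  mul_mem' := by
    rintro g h ⟨c, hc, hg⟩ ⟨d, hd, hh⟩
    refine ⟨c * d, ?_, ?_⟩
    · rw [mul_pow]
      calc c * d * (c ^ q * d ^ q) = (c * c ^ q) * (d * d ^ q) := by ring
        _ = 1 := by rw [hc, hd, one_mul]
    · rw [act_mul, hh, act_smul, hg, smul_smul, mul_comm]
  inv_mem' := by
    rintro g ⟨c, hc, hg⟩
    have hc0 : c ≠ 0 := by
      rintro rfl
      rw [zero_mul] at hc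
      exact zero_ne_one hc
    refine ⟨c⁻¹, ?_, ?_⟩
    · rw [inv_pow, ← mul_inv, hc, inv_one]
    · symm
      rw [← act_eq_iff, act_smul, hg, smul_smul, inv_mul_cancel₀ hc0, one_smul]

theorem mem_stE {u : Fin n → F} {g : SU n F q} : g ∈ stE q u ↔ ∃ c : F, c * c ^ q = 1 ∧ act g u = c • u := Iff.rfl

/-- Its image in `PSU`: the centraliser of `RR u`. -/
def PE (q : ℕ) (u : Fin n → F) : Subgroup (PSU n F q) := (stE q u).map (pr n F q)

theorem mem_PE {u : Fin n → F} {x : PSU n F q} :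
    x ∈ PE q u ↔ ∃ g : SU n F q, (∃ c : F, c * c ^ q = 1 ∧ act g u = c • u) ∧ pr n F q g = x := Iff.rfl

/-- The pointwise stabiliser of the family `e`. -/
def fixE (q : ℕ) (e : Fin d → (Fin n → F)) : Subgroup (SU n F q) where
  carrier := {g | ∀ i, act g (e i) = e i}
  one_mem' := fun i => act_one _
  mul_mem' := by
    intro g h hg hh i
    change act (g * h) (e i) = e i
    rw [act_mul, hh i, hg i]
  inv_mem' := by
    intro g hg i
    change act g⁻¹ (e i) = e i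
    exact ((act_eq_iff g).1 (hg i)).symm

theorem mem_fixE {e : Fin d → (Fin n → F)} {g : SU n F q} : g ∈ fixE q e ↔ ∀ i, act g (e i) = e i := Iff.rfl

/-- Its image in `PSU`. -/
def SE (q : ℕ) (e : Fin d → (Fin n → F)) : Subgroup (PSU n F q) := (fixE q e).map (pr n F q)

theorem mem_SE {e : Fin d → (Fin n → F)} {x : PSU n F q} :
    x ∈ SE q e ↔ ∃ g : SU n F q, (∀ i, act g (e i) = e i) ∧ pr n F q g = x := Iff.rfl

end Basic

variable {F : Type*} [Field F] [Fintype F] {q n d : ℕ}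

theorem aEl_zero (hF : Fintype.card F = q ^ 2) {e f : Fin d → (Fin n → F)} (E : Frm q e f)
    (h : IsSkew q (0 : Matrix (Fin d) (Fin d) F)) : aEl hF E 0 h = 1 := by
  apply ext_act
  intro v
  rw [act_aEl, act_one]
  simp

theorem IsSkew.neg' (hF : Fintype.card F = q ^ 2) {H : Matrix (Fin d) (Fin d) F} (hH : IsSkew q H) :
    IsSkew q (-H) := fun i j => by
  rw [Matrix.neg_apply, Matrix.neg_apply, neg_pow_q hF]
  linear_combination -hH i j

/-- The group of the `aEl hF E H`. -/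
def aG (hF : Fintype.card F = q ^ 2) {e f : Fin d → (Fin n → F)} (E : Frm q e f) : Subgroup (SU n F q) where
  carrier := {g | ∃ (H : Matrix (Fin d) (Fin d) F) (hH : IsSkew q H), g = aEl hF E H hH}
  one_mem' := ⟨0, IsSkew.zero (by have := two_le hF; omega), (aEl_zero hF E _).symm⟩
  mul_mem' := by
    rintro _ _ ⟨H, hH, rfl⟩ ⟨K, hK, rfl⟩
    exact ⟨_, _, aEl_mul hF E hH hK⟩
  inv_mem' := by
    rintro _ ⟨H, hH, rfl⟩
    refine ⟨-H, IsSkew.neg' hF hH, ?_⟩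
    rw [inv_eq_iff_mul_eq_one, aEl_mul]
    have h0 : IsSkew q (0 : Matrix (Fin d) (Fin d) F) := IsSkew.zero (by have := two_le hF; omega)
    rw [aEl_congr hF E _ h0 (add_neg_cancel H), aEl_zero]

theorem mem_aG {hF : Fintype.card F = q ^ 2} {e f : Fin d → (Fin n → F)} {E : Frm q e f} {g : SU n F q} :
    g ∈ aG hF E ↔ ∃ (H : Matrix (Fin d) (Fin d) F) (hH : IsSkew q H), g = aEl hF E H hH := Iff.rfl

/-- Its image in `PSU`. -/
def VE (hF : Fintype.card F = q ^ 2) {e f : Fin d → (Fin n → F)} (E : Frm q e f) : Subgroup (PSU n F q) :=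
  (aG hF E).map (pr n F q)

theorem mem_VE {hF : Fintype.card F = q ^ 2} {e f : Fin d → (Fin n → F)} {E : Frm q e f} {x : PSU n F q} :
    x ∈ VE hF E ↔ ∃ (H : Matrix (Fin d) (Fin d) F) (hH : IsSkew q H), pr n F q (aEl hF E H hH) = x := by
  constructor
  · rintro ⟨_, ⟨H, hH, rfl⟩, rfl⟩
    exact ⟨H, hH, rfl⟩
  · rintro ⟨H, hH, rfl⟩
    exact ⟨_, ⟨H, hH, rfl⟩, rfl⟩

/-- `aEl hF E H` is determined by its image in `PSU`, characteristic 2. -/
theorem aEl_pr_inj [CharP F 2] (hF : Fintype.card F = q ^ 2) (hn : 3 ≤ n) {e f : Fin d → (Fin n → F)}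
    (E : Frm q e f) {H H' : Matrix (Fin d) (Fin d) F} {hH : IsSkew q H} {hH' : IsSkew q H'}
    (h : pr n F q (aEl hF E H hH) = pr n F q (aEl hF E H' hH')) : H = H' := by
  have : Fact (Nat.Prime 2) := ⟨Nat.prime_two⟩
  have key : ∀ (H : Matrix (Fin d) (Fin d) F) (hH : IsSkew q H), aEl hF E H hH ^ 2 ^ 1 = 1 := by
    intro H hH
    rw [pow_one, pow_two, aEl_mul]
    have h0 : IsSkew q (0 : Matrix (Fin d) (Fin d) F) := IsSkew.zero (by have := two_le hF; omega)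
    rw [aEl_congr hF E _ h0 (by ext i j; rw [Matrix.add_apply, Matrix.zero_apply]; exact CharTwo.add_self_eq_zero _),
      aEl_zero]
  exact aEl_inj hF E (eq_of_pr_eq hF hn (key H hH) (key H' hH') h)

end Cfsg.Agent.OddHalf.DblR.UnF

end

-- merged: Cfsg.Agent.OddHalf.DblR.UnActs
section

/-!
# ODD, D4, unitary groups: elements acting on a frame with two pairs by matrices (helper780)

`Acts q e f g M N`; `hE hF E α β δ` : the element `aEl` of the hermitian matrix `(α β; β^q δ)`, characteristic 2.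
-/

set_option autoImplicit false

namespace Cfsg.Agent.OddHalf.DblR.UnF

open Cfsg Cfsg.Agent.LieClassical.HermBasic Cfsg.Agent.LieClassical.HermSiegel
  Cfsg.Agent.LieClassical.HermGen Cfsg.Agent.LieClassical.SUBasic Matrix
  Cfsg.Agent.ClassicalGeometry.PSUAutBasic Cfsg.Agent.ClassicalGeometry.PSUAutSylow
  Cfsg.Agent.ClassicalGeometry.PSUAutUnip Cfsg.Agent.KFacts.Unit

/-- `g` acts on the frame `e, f` by `M`, `N` and trivially on the orthogonal space. -/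
structure Acts {F : Type*} [Field F] {n : ℕ} (q : ℕ) (e f : Fin 2 → (Fin n → F)) (g : SU n F q)
    (M N : Matrix (Fin 2) (Fin 2) F) : Prop where
  he : ∀ j, act g (e j) = ∑ i, M i j • e i
  hf : ∀ j, act g (f j) = ∑ i, N i j • f i
  ho : ∀ v, (∀ j, hermForm n F q v (e j) = 0) → (∀ j, hermForm n F q v (f j) = 0) → act g v = v

section

variable {F : Type*} [Field F] {q n : ℕ} {e f : Fin 2 → (Fin n → F)} {g g' : SU n F q}
  {M N M' N' : Matrix (Fin 2) (Fin 2) F}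

theorem Acts.one : Acts q e f (1 : SU n F q) 1 1 := by
  have key : ∀ (w : Fin 2 → (Fin n → F)) (j : Fin 2), act (1 : SU n F q) (w j) = ∑ i, (1 : Matrix (Fin 2) (Fin 2) F) i j • w i := by
    intro w
    exact Fin.forall_fin_two.2 ⟨by rw [act_one, Fin.sum_univ_two]; simp, by rw [act_one, Fin.sum_univ_two]; simp⟩
  exact ⟨key e, key f, fun v _ _ => act_one v⟩

theorem Acts.mul (h : Acts q e f g M N) (h' : Acts q e f g' M' N') : Acts q e f (g * g') (M * M') (N * N') := by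
  have key : ∀ (w : Fin 2 → (Fin n → F)) (A B : Matrix (Fin 2) (Fin 2) F), (∀ j, act g (w j) = ∑ i, A i j • w i) →
      (∀ j, act g' (w j) = ∑ i, B i j • w i) → ∀ j, act (g * g') (w j) = ∑ i, (A * B) i j • w i := by
    intro w A B h1 h2 j
    rw [act_mul, h2, act_sum]
    simp only [act_smul, h1, Fin.sum_univ_two, mul_apply]
    module
  refine ⟨key e _ _ h.he h'.he, key f _ _ h.hf h'.hf, fun v h1 h2 => ?_⟩
  rw [act_mul, h'.ho v h1 h2, h.ho v h1 h2]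

theorem Acts.inv (h : Acts q e f g M N) (h1 : M * M' = 1) (h2 : N * N' = 1) : Acts q e f g⁻¹ M' N' := by
  have key : ∀ (w : Fin 2 → (Fin n → F)) (A B : Matrix (Fin 2) (Fin 2) F), (∀ j, act g (w j) = ∑ i, A i j • w i) →
      A * B = 1 → ∀ j, act g⁻¹ (w j) = ∑ i, B i j • w i := by
    intro w A B h1 h2 j
    symm
    rw [← act_eq_iff, act_sum]
    have h3 : ∀ j, ∑ i, (A * B) i j • w i = w j := by
      rw [h2]
      exact Fin.forall_fin_two.2 ⟨by rw [Fin.sum_univ_two]; simp, by rw [Fin.sum_univ_two]; simp⟩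
    refine Eq.trans ?_ (h3 j)
    simp only [act_smul, h1, Fin.sum_univ_two, mul_apply]
    module
  refine ⟨key e _ _ h.he h1, key f _ _ h.hf h2, fun v h1 h2 => ?_⟩
  have := h.ho v h1 h2
  exact ((act_eq_iff g).1 this).symm

theorem Acts.congr (h : Acts q e f g M N) (hM : M = M') (hN : N = N') : Acts q e f g M' N' := by
  subst hM hN; exact h

theorem Acts.pow (h : Acts q e f g M N) (k : ℕ) : Acts q e f (g ^ k) (M ^ k) (N ^ k) := by
  induction k with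
  | zero => rw [pow_zero, pow_zero, pow_zero]; exact Acts.one
  | succ k ih => rw [pow_succ, pow_succ, pow_succ]; exact ih.mul h

theorem Acts.e0 (h : Acts q e f g M N) : act g (e 0) = M 0 0 • e 0 + M 1 0 • e 1 := by
  rw [h.he, Fin.sum_univ_two]

theorem Acts.e1 (h : Acts q e f g M N) : act g (e 1) = M 0 1 • e 0 + M 1 1 • e 1 := by
  rw [h.he, Fin.sum_univ_two]

theorem Acts.f0 (h : Acts q e f g M N) : act g (f 0) = N 0 0 • f 0 + N 1 0 • f 1 := by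
  rw [h.hf, Fin.sum_univ_two]

theorem Acts.f1 (h : Acts q e f g M N) : act g (f 1) = N 0 1 • f 0 + N 1 1 • f 1 := by
  rw [h.hf, Fin.sum_univ_two]

theorem actsE {w : Fin 2 → (Fin n → F)} {a b c d : F} (h0 : act g (w 0) = a • w 0 + c • w 1)
    (h1 : act g (w 1) = b • w 0 + d • w 1) : ∀ j, act g (w j) = ∑ i, !![a, b; c, d] i j • w i := by
  intro j
  rw [Fin.sum_univ_two]
  fin_cases j
  · simpa using h0
  · simpa using h1

end

variable {F : Type*} [Field F] [Fintype F] {q n : ℕ} {e f : Fin 2 → (Fin n → F)}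

/-- An element is determined by its action on the frame. -/
theorem Acts.ext (hF : Fintype.card F = q ^ 2) (E : Frm q e f) {g g' : SU n F q} {M N : Matrix (Fin 2) (Fin 2) F}
    (h : Acts q e f g M N) (h' : Acts q e f g' M N) : g = g' := by
  apply ext_act
  intro v
  obtain ⟨a, ha⟩ : ∃ a : Fin 2 → F, a = fun i => hermForm n F q v (f i) := ⟨_, rfl⟩
  obtain ⟨b, hb⟩ : ∃ b : Fin 2 → F, b = fun i => hermForm n F q v (e i) := ⟨_, rfl⟩
  have o1 : ∀ j, hermForm n F q (v - ∑ i, a i • e i - ∑ i, b i • f i) (e j) = 0 := by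
    intro j
    rw [herm_sub_left, herm_sub_left, E.herm_sum_e, (E.symm hF).herm_sum, hb]
    simp
  have o2 : ∀ j, hermForm n F q (v - ∑ i, a i • e i - ∑ i, b i • f i) (f j) = 0 := by
    intro j
    rw [herm_sub_left, herm_sub_left, E.herm_sum, (E.symm hF).herm_sum_e, ha]
    simp
  have h1 := (h.ho _ o1 o2).trans (h'.ho _ o1 o2).symm
  simp only [act_sub, act_sum, act_smul, h.he, h'.he, h.hf, h'.hf] at h1
  rwa [sub_left_inj, sub_left_inj] at h1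

theorem Frm.exists_acts (hF : Fintype.card F = q ^ 2) (E : Frm q e f) {M N : Matrix (Fin 2) (Fin 2) F}
    (hMN : Mᵀ * N.map (LieClassical.HermBasic.conj hF) = 1) (hdet : M.det * N.det = 1) :
    ∃ g : SU n F q, Acts q e f g M N := by
  obtain ⟨g, h1, h2, h3⟩ := exists_GL hF E hMN hdet
  exact ⟨g, h1, h2, h3⟩

section Two

variable [CharP F 2]

omit [Fintype F] in
theorem two0 : (2 : F) = 0 := CharTwo.two_eq_zero

omit [Fintype F] in
theorem add_self' (a : F) : a + a = 0 := CharTwo.add_self_eq_zero a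

omit [Fintype F] in
theorem eq_of_add_eq_zero' {a b : F} (h : a + b = 0) : a = b := CharTwo.add_eq_zero.1 h

theorem isSkew_mk (hF : Fintype.card F = q ^ 2) {α δ : F} (β : F) (hα : α ^ q = α) (hδ : δ ^ q = δ) :
    IsSkew q !![α, β; β ^ q, δ] := by
  intro i j
  fin_cases i <;> fin_cases j
  · change α + α ^ q = 0; rw [hα, add_self']
  · change β + (β ^ q) ^ q = 0; rw [pow_q_pow_q hF, add_self']
  · change β ^ q + β ^ q = 0; rw [add_self']
  · change δ + δ ^ q = 0; rw [hδ, add_self']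

/-- The element with hermitian matrix `(α β; β^q δ)`. -/
def hE (hF : Fintype.card F = q ^ 2) (E : Frm q e f) (α β δ : F) (hα : α ^ q = α) (hδ : δ ^ q = δ) : SU n F q :=
  aEl hF E !![α, β; β ^ q, δ] (isSkew_mk hF β hα hδ)

theorem hE_mem (hF : Fintype.card F = q ^ 2) (E : Frm q e f) {α β δ : F} (hα : α ^ q = α) (hδ : δ ^ q = δ) :
    hE hF E α β δ hα hδ ∈ aG hF E := ⟨_, _, rfl⟩

theorem exists_hE {hF : Fintype.card F = q ^ 2} {E : Frm q e f} {g : SU n F q} (hg : g ∈ aG hF E) :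
    ∃ (α β δ : F) (hα : α ^ q = α) (hδ : δ ^ q = δ), g = hE hF E α β δ hα hδ := by
  obtain ⟨H, hH, rfl⟩ := hg
  refine ⟨H 0 0, H 0 1, H 1 1, (eq_of_add_eq_zero' (hH 0 0)).symm, (eq_of_add_eq_zero' (hH 1 1)).symm, ?_⟩
  apply aEl_congr
  ext i j
  fin_cases i <;> fin_cases j
  · rfl
  · rfl
  · exact eq_of_add_eq_zero' (hH 1 0)
  · rfl

theorem hE_congr (hF : Fintype.card F = q ^ 2) (E : Frm q e f) {α β δ α' β' δ' : F} {hα : α ^ q = α} {hδ : δ ^ q = δ}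
    {hα' : α' ^ q = α'} {hδ' : δ' ^ q = δ'} (h1 : α = α') (h2 : β = β') (h3 : δ = δ') :
    hE hF E α β δ hα hδ = hE hF E α' β' δ' hα' hδ' := by
  subst h1 h2 h3; rfl

theorem act_hE (hF : Fintype.card F = q ^ 2) (E : Frm q e f) {α β δ : F} (hα : α ^ q = α) (hδ : δ ^ q = δ)
    (v : Fin n → F) : act (hE hF E α β δ hα hδ) v = v + (α * hermForm n F q v (e 0) + β * hermForm n F q v (e 1)) • e 0 +
      (β ^ q * hermForm n F q v (e 0) + δ * hermForm n F q v (e 1)) • e 1 := by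
  rw [hE, act_aEl, Fin.sum_univ_two, Fin.sum_univ_two, Fin.sum_univ_two, ← add_assoc]
  rfl

theorem fix_add (hF : Fintype.card F = q ^ 2) {α α' : F} (h : α ^ q = α) (h' : α' ^ q = α') :
    (α + α') ^ q = α + α' := by rw [add_pow_q hF, h, h']

theorem hE_mul (hF : Fintype.card F = q ^ 2) (E : Frm q e f) {α β δ α' β' δ' : F} (hα : α ^ q = α) (hδ : δ ^ q = δ)
    (hα' : α' ^ q = α') (hδ' : δ' ^ q = δ') : hE hF E α β δ hα hδ * hE hF E α' β' δ' hα' hδ' =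
      hE hF E (α + α') (β + β') (δ + δ') (fix_add hF hα hα') (fix_add hF hδ hδ') := by
  rw [hE, hE, hE, aEl_mul]
  apply aEl_congr
  ext i j
  fin_cases i <;> fin_cases j
  · rfl
  · rfl
  · exact (add_pow_q hF β β').symm
  · rfl

theorem hE_zero (hF : Fintype.card F = q ^ 2) (E : Frm q e f) {h h' : (0 : F) ^ q = 0} :
    hE hF E 0 0 0 h h' = 1 := by
  apply ext_act
  intro v
  rw [act_hE, act_one, h]
  simp

theorem hE_sq (hF : Fintype.card F = q ^ 2) (E : Frm q e f) {α β δ : F} (hα : α ^ q = α) (hδ : δ ^ q = δ) :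
    hE hF E α β δ hα hδ * hE hF E α β δ hα hδ = 1 := by
  rw [hE_mul, hE_congr hF E (hα' := zero_pow_q hF) (hδ' := zero_pow_q hF) (add_self' α) (add_self' β) (add_self' δ),
    hE_zero]

theorem hE_inv (hF : Fintype.card F = q ^ 2) (E : Frm q e f) {α β δ : F} (hα : α ^ q = α) (hδ : δ ^ q = δ) :
    (hE hF E α β δ hα hδ)⁻¹ = hE hF E α β δ hα hδ := inv_eq_of_mul_eq_one_left (hE_sq hF E hα hδ)

theorem hE_inj (hF : Fintype.card F = q ^ 2) (hn : 3 ≤ n) (E : Frm q e f) {α β δ α' β' δ' : F} {hα : α ^ q = α}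
    {hδ : δ ^ q = δ} {hα' : α' ^ q = α'} {hδ' : δ' ^ q = δ'}
    (h : pr n F q (hE hF E α β δ hα hδ) = pr n F q (hE hF E α' β' δ' hα' hδ')) : α = α' ∧ β = β' ∧ δ = δ' := by
  have h1 := aEl_pr_inj hF hn E h
  exact ⟨congrFun (congrFun h1 0) 0, congrFun (congrFun h1 0) 1, congrFun (congrFun h1 1) 1⟩

theorem hE_ne_one (hF : Fintype.card F = q ^ 2) (hn : 3 ≤ n) (E : Frm q e f) {α β δ : F} {hα : α ^ q = α}
    {hδ : δ ^ q = δ} (h : pr n F q (hE hF E α β δ hα hδ) = 1) : α = 0 ∧ β = 0 ∧ δ = 0 := by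
  refine hE_inj hF hn E (hα := hα) (hδ := hδ) (hα' := zero_pow_q hF) (hδ' := zero_pow_q hF) ?_
  rw [h, hE_zero, map_one]

/-- **Conjugation.** -/
theorem hE_conj (hF : Fintype.card F = q ^ 2) (E : Frm q e f) {g : SU n F q} {a b c d : F}
    (h0 : act g (e 0) = a • e 0 + c • e 1) (h1 : act g (e 1) = b • e 0 + d • e 1) {α β δ α' β' δ' : F}
    (hα : α ^ q = α) (hδ : δ ^ q = δ) (hα' : α' ^ q = α') (hδ' : δ' ^ q = δ')
    (k1 : α' = a * α * a ^ q + a * β * b ^ q + b * β ^ q * a ^ q + b * δ * b ^ q)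
    (k2 : β' = a * α * c ^ q + a * β * d ^ q + b * β ^ q * c ^ q + b * δ * d ^ q)
    (k3 : δ' = c * α * c ^ q + c * β * d ^ q + d * β ^ q * c ^ q + d * δ * d ^ q) :
    g * hE hF E α β δ hα hδ * g⁻¹ = hE hF E α' β' δ' hα' hδ' := by
  rw [hE, conj_aEl hF E _ (actsE h0 h1), hE]
  apply aEl_congr
  ext i j
  have k4 : β' ^ q = c * α * a ^ q + c * β * b ^ q + d * β ^ q * a ^ q + d * δ * b ^ q := by
    rw [k2]
    simp only [add_pow_q hF, mul_pow, pow_q_pow_q hF, hα, hδ]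
    ring
  fin_cases i <;> fin_cases j
  · simp only [mul_apply, Fin.sum_univ_two, map_apply, transpose_apply]
    simp
    rw [k1]; ring
  · simp only [mul_apply, Fin.sum_univ_two, map_apply, transpose_apply]
    simp
    rw [k2]; ring
  · simp only [mul_apply, Fin.sum_univ_two, map_apply, transpose_apply]
    simp
    rw [k4]; ring
  · simp only [mul_apply, Fin.sum_univ_two, map_apply, transpose_apply]
    simp
    rw [k3]; ring

theorem hE_e (hF : Fintype.card F = q ^ 2) (E : Frm q e f) {α β δ : F} (hα : α ^ q = α) (hδ : δ ^ q = δ)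
    (i : Fin 2) : act (hE hF E α β δ hα hδ) (e i) = e i := by
  rw [act_hE, E.ee, E.ee]
  simp

theorem hE_f0 (hF : Fintype.card F = q ^ 2) (E : Frm q e f) {α β δ : F} (hα : α ^ q = α) (hδ : δ ^ q = δ) :
    act (hE hF E α β δ hα hδ) (f 0) = f 0 + α • e 0 + β ^ q • e 1 := by
  rw [act_hE, E.fe hF, E.fe hF]
  simp

theorem hE_f1 (hF : Fintype.card F = q ^ 2) (E : Frm q e f) {α β δ : F} (hα : α ^ q = α) (hδ : δ ^ q = δ) :
    act (hE hF E α β δ hα hδ) (f 1) = f 1 + β • e 0 + δ • e 1 := by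
  rw [act_hE, E.fe hF, E.fe hF]
  simp

/-- The transvections with centre `e 0`, `e 1`. -/
theorem transv_e0 (hF : Fintype.card F = q ^ 2) (E : Frm q e f) {μ : F} (hμ : μ + μ ^ q = 0) (h : μ ^ q = μ)
    (h0 : (0 : F) ^ q = 0) : transv hF (e 0) (E.ee 0 0) μ hμ = hE hF E μ 0 0 h h0 := by
  apply ext_act
  intro v
  rw [act_transv, act_hE, h0]
  simp

theorem transv_e1 (hF : Fintype.card F = q ^ 2) (E : Frm q e f) {μ : F} (hμ : μ + μ ^ q = 0) (h : μ ^ q = μ)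
    (h0 : (0 : F) ^ q = 0) : transv hF (e 1) (E.ee 1 1) μ hμ = hE hF E 0 0 μ h0 h := by
  apply ext_act
  intro v
  rw [act_transv, act_hE, h0]
  simp

theorem mem_RR0 (hF : Fintype.card F = q ^ 2) (E : Frm q e f) {x : PSU n F q} : x ∈ RR hF (e 0) (E.ee 0 0) ↔
    ∃ (μ : F) (h : μ ^ q = μ), x = pr n F q (hE hF E μ 0 0 h (zero_pow_q hF)) := by
  rw [mem_RR]
  constructor
  · rintro ⟨μ, hμ, rfl⟩
    exact ⟨μ, fixed_of_tr hμ, by rw [transv_e0 hF E hμ (fixed_of_tr hμ) (zero_pow_q hF)]⟩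
  · rintro ⟨μ, h, rfl⟩
    have hμ : μ + μ ^ q = 0 := by rw [h, add_self']
    exact ⟨μ, hμ, by rw [transv_e0 hF E hμ h (zero_pow_q hF)]⟩

theorem mem_RR1 (hF : Fintype.card F = q ^ 2) (E : Frm q e f) {x : PSU n F q} : x ∈ RR hF (e 1) (E.ee 1 1) ↔
    ∃ (μ : F) (h : μ ^ q = μ), x = pr n F q (hE hF E 0 0 μ (zero_pow_q hF) h) := by
  rw [mem_RR]
  constructor
  · rintro ⟨μ, hμ, rfl⟩
    exact ⟨μ, fixed_of_tr hμ, by rw [transv_e1 hF E hμ (fixed_of_tr hμ) (zero_pow_q hF)]⟩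
  · rintro ⟨μ, h, rfl⟩
    have hμ : μ + μ ^ q = 0 := by rw [h, add_self']
    exact ⟨μ, hμ, by rw [transv_e1 hF E hμ h (zero_pow_q hF)]⟩

/-- The off-diagonal elements. -/
def xG (hF : Fintype.card F = q ^ 2) (E : Frm q e f) : Subgroup (SU n F q) where
  carrier := {g | ∃ a : F, g = hE hF E 0 a 0 (zero_pow_q hF) (zero_pow_q hF)}
  one_mem' := ⟨0, (hE_zero hF E).symm⟩
  mul_mem' := by
    rintro _ _ ⟨a, rfl⟩ ⟨b, rfl⟩
    refine ⟨a + b, ?_⟩
    rw [hE_mul]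
    exact hE_congr hF E (add_zero 0) rfl (add_zero 0)
  inv_mem' := by
    rintro _ ⟨a, rfl⟩
    exact ⟨a, hE_inv hF E _ _⟩

def XE (hF : Fintype.card F = q ^ 2) (E : Frm q e f) : Subgroup (PSU n F q) := (xG hF E).map (pr n F q)

theorem mem_XE {hF : Fintype.card F = q ^ 2} {E : Frm q e f} {x : PSU n F q} :
    x ∈ XE hF E ↔ ∃ a : F, pr n F q (hE hF E 0 a 0 (zero_pow_q hF) (zero_pow_q hF)) = x := by
  constructor
  · rintro ⟨_, ⟨a, rfl⟩, rfl⟩; exact ⟨a, rfl⟩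
  · rintro ⟨a, rfl⟩; exact ⟨_, ⟨a, rfl⟩, rfl⟩

theorem mem_VE' {hF : Fintype.card F = q ^ 2} {E : Frm q e f} {x : PSU n F q} : x ∈ VE hF E ↔
    ∃ (α β δ : F) (hα : α ^ q = α) (hδ : δ ^ q = δ), pr n F q (hE hF E α β δ hα hδ) = x := by
  constructor
  · rintro ⟨g, hg, rfl⟩
    obtain ⟨α, β, δ, hα, hδ, rfl⟩ := exists_hE hg
    exact ⟨α, β, δ, hα, hδ, rfl⟩
  · rintro ⟨α, β, δ, hα, hδ, rfl⟩
    exact ⟨_, hE_mem hF E hα hδ, rfl⟩

end Two

end Cfsg.Agent.OddHalf.DblR.UnF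

end

-- merged: Cfsg.Agent.OddHalf.DblR.UnGrp
section

/-!
# ODD, D4, unitary groups: the groups `A`, `Z`, `T` of a frame with two pairs (helper780)

`slG`, `AE` : `SL` of the line; `zG`, `ZE` : scalars; `tG`, `TE` : the diagonal torus.
-/

set_option autoImplicit false

namespace Cfsg.Agent.OddHalf.DblR.UnF

open Cfsg Cfsg.Agent.LieClassical.HermBasic Cfsg.Agent.LieClassical.HermSiegel
  Cfsg.Agent.LieClassical.HermGen Cfsg.Agent.LieClassical.SUBasic Matrix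
  Cfsg.Agent.ClassicalGeometry.PSUAutBasic Cfsg.Agent.ClassicalGeometry.PSUAutSylow
  Cfsg.Agent.ClassicalGeometry.PSUAutUnip Cfsg.Agent.KFacts.Unit Cfsg.Agent.Nodes.Reps

section

variable {F : Type*} [Field F] {q n : ℕ}

/-- The elements acting on the frame by matrices of determinant one. -/
def slG (q : ℕ) (e f : Fin 2 → (Fin n → F)) : Subgroup (SU n F q) where
  carrier := {g | ∃ M N : Matrix (Fin 2) (Fin 2) F, M.det = 1 ∧ N.det = 1 ∧ Acts q e f g M N}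
  one_mem' := ⟨1, 1, det_one, det_one, Acts.one⟩
  mul_mem' := by
    rintro g h ⟨M, N, h1, h2, h3⟩ ⟨M', N', h1', h2', h3'⟩
    exact ⟨M * M', N * N', by rw [det_mul, h1, h1', one_mul], by rw [det_mul, h2, h2', one_mul], h3.mul h3'⟩
  inv_mem' := by
    rintro g ⟨M, N, h1, h2, h3⟩
    have key : ∀ A : Matrix (Fin 2) (Fin 2) F, A.det = 1 → A⁻¹.det = 1 := by
      intro A hA
      rw [det_nonsing_inv, hA, Ring.inverse_one]
    exact ⟨M⁻¹, N⁻¹, key M h1, key N h2,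
      h3.inv (mul_nonsing_inv M (by rw [h1]; exact isUnit_one)) (mul_nonsing_inv N (by rw [h2]; exact isUnit_one))⟩

theorem mem_slG {e f : Fin 2 → (Fin n → F)} {g : SU n F q} : g ∈ slG q e f ↔
    ∃ M N : Matrix (Fin 2) (Fin 2) F, M.det = 1 ∧ N.det = 1 ∧ Acts q e f g M N := Iff.rfl

def AE (q : ℕ) (e f : Fin 2 → (Fin n → F)) : Subgroup (PSU n F q) := (slG q e f).map (pr n F q)

theorem mul_scal (b c : F) : !![b, 0; 0, b] * !![c, 0; 0, c] = !![b * c, 0; 0, b * c] := by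
  ext i j
  fin_cases i <;> fin_cases j <;> simp [mul_apply, Fin.sum_univ_two]

theorem scal_comm (b : F) (M : Matrix (Fin 2) (Fin 2) F) : !![b, 0; 0, b] * M = M * !![b, 0; 0, b] := by
  ext i j
  rw [mul_apply, mul_apply, Fin.sum_univ_two, Fin.sum_univ_two]
  fin_cases i <;> fin_cases j <;> simp [mul_comm]

theorem mk_one : !![(1 : F), 0; 0, 1] = 1 := by
  ext i j
  fin_cases i <;> fin_cases j <;> simp

/-- The scalars of the fixed field on the line. -/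
def zG (q : ℕ) (e f : Fin 2 → (Fin n → F)) : Subgroup (SU n F q) where
  carrier := {g | ∃ b : F, b ≠ 0 ∧ b ^ q = b ∧ Acts q e f g !![b, 0; 0, b] !![b⁻¹, 0; 0, b⁻¹]}
  one_mem' := ⟨1, one_ne_zero, one_pow q, by
    rw [inv_one, mk_one]; exact Acts.one⟩
  mul_mem' := by
    rintro g h ⟨b, hb, hbq, h3⟩ ⟨c, hc, hcq, h3'⟩
    exact ⟨b * c, mul_ne_zero hb hc, by rw [mul_pow, hbq, hcq], (h3.mul h3').congr (mul_scal b c)
      (by rw [mul_scal, mul_inv])⟩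
  inv_mem' := by
    rintro g ⟨b, hb, hbq, h3⟩
    exact ⟨b⁻¹, inv_ne_zero hb, by rw [inv_pow, hbq], h3.inv
      (by rw [mul_scal, mul_inv_cancel₀ hb, mk_one]) (by rw [mul_scal, mul_inv_cancel₀ (inv_ne_zero hb), mk_one])⟩

theorem mem_zG {e f : Fin 2 → (Fin n → F)} {g : SU n F q} : g ∈ zG q e f ↔
    ∃ b : F, b ≠ 0 ∧ b ^ q = b ∧ Acts q e f g !![b, 0; 0, b] !![b⁻¹, 0; 0, b⁻¹] := Iff.rfl

def ZE (q : ℕ) (e f : Fin 2 → (Fin n → F)) : Subgroup (PSU n F q) := (zG q e f).map (pr n F q)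

/-- The diagonal torus. -/
def tG (q : ℕ) (e f : Fin 2 → (Fin n → F)) : Subgroup (SU n F q) where
  carrier := {g | (∀ i, ∃ m : F, act g (e i) = m • e i) ∧ (∀ i, ∃ m : F, act g (f i) = m • f i) ∧
    ∀ v, (∀ j, hermForm n F q v (e j) = 0) → (∀ j, hermForm n F q v (f j) = 0) → act g v = v}
  one_mem' := ⟨fun i => ⟨1, by rw [act_one, one_smul]⟩, fun i => ⟨1, by rw [act_one, one_smul]⟩,
    fun v _ _ => act_one v⟩
  mul_mem' := by
    rintro g h ⟨h1, h2, h3⟩ ⟨k1, k2, k3⟩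
    refine ⟨fun i => ?_, fun i => ?_, fun v hv hv' => by rw [act_mul, k3 v hv hv', h3 v hv hv']⟩
    · obtain ⟨m, hm⟩ := h1 i
      obtain ⟨l, hl⟩ := k1 i
      exact ⟨l * m, by rw [act_mul, hl, act_smul, hm, smul_smul]⟩
    · obtain ⟨m, hm⟩ := h2 i
      obtain ⟨l, hl⟩ := k2 i
      exact ⟨l * m, by rw [act_mul, hl, act_smul, hm, smul_smul]⟩
  inv_mem' := by
    rintro g ⟨h1, h2, h3⟩
    have key : ∀ w : Fin n → F, (∃ m : F, act g w = m • w) → ∃ m : F, act g⁻¹ w = m • w := by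
      rintro w ⟨m, hm⟩
      by_cases h0 : m = 0
      · rw [h0, zero_smul, act_eq_zero] at hm
        exact ⟨0, by rw [hm, act_zero, smul_zero]⟩
      · refine ⟨m⁻¹, ?_⟩
        symm
        rw [← act_eq_iff, act_smul, hm, smul_smul, inv_mul_cancel₀ h0, one_smul]
    exact ⟨fun i => key _ (h1 i), fun i => key _ (h2 i), fun v hv hv' => ((act_eq_iff g).1 (h3 v hv hv')).symm⟩

theorem mem_tG {e f : Fin 2 → (Fin n → F)} {g : SU n F q} : g ∈ tG q e f ↔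
    (∀ i, ∃ m : F, act g (e i) = m • e i) ∧ (∀ i, ∃ m : F, act g (f i) = m • f i) ∧
    ∀ v, (∀ j, hermForm n F q v (e j) = 0) → (∀ j, hermForm n F q v (f j) = 0) → act g v = v := Iff.rfl

def TE (q : ℕ) (e f : Fin 2 → (Fin n → F)) : Subgroup (PSU n F q) := (tG q e f).map (pr n F q)

theorem exists_tG {e f : Fin 2 → (Fin n → F)} {g : SU n F q} (hg : g ∈ tG q e f) :
    ∃ m0 m1 l0 l1 : F, act g (e 0) = m0 • e 0 ∧ act g (e 1) = m1 • e 1 ∧
      Acts q e f g !![m0, 0; 0, m1] !![l0, 0; 0, l1] := by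
  obtain ⟨h1, h2, h3⟩ := hg
  obtain ⟨m0, hm0⟩ := h1 0
  obtain ⟨m1, hm1⟩ := h1 1
  obtain ⟨l0, hl0⟩ := h2 0
  obtain ⟨l1, hl1⟩ := h2 1
  exact ⟨m0, m1, l0, l1, hm0, hm1, actsE (by rw [hm0, zero_smul, add_zero]) (by rw [hm1, zero_smul, zero_add]),
    actsE (by rw [hl0, zero_smul, add_zero]) (by rw [hl1, zero_smul, zero_add]), h3⟩

theorem mem_tG_of_acts {e f : Fin 2 → (Fin n → F)} {g : SU n F q} {m0 m1 l0 l1 : F}
    (h : Acts q e f g !![m0, 0; 0, m1] !![l0, 0; 0, l1]) : g ∈ tG q e f := by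
  refine ⟨Fin.forall_fin_two.2 ⟨⟨m0, ?_⟩, ⟨m1, ?_⟩⟩, Fin.forall_fin_two.2 ⟨⟨l0, ?_⟩, ⟨l1, ?_⟩⟩, h.ho⟩
  · rw [h.e0]; simp
  · rw [h.e1]; simp
  · rw [h.f0]; simp
  · rw [h.f1]; simp

theorem mul_dg (a b c d : F) : !![a, 0; 0, b] * !![c, 0; 0, d] = !![a * c, 0; 0, b * d] := by
  ext i j
  fin_cases i <;> fin_cases j <;> simp [mul_apply, Fin.sum_univ_two]

theorem pow_dg (a b : F) (k : ℕ) : !![a, 0; 0, b] ^ k = !![a ^ k, 0; 0, b ^ k] := by
  induction k with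
  | zero => rw [pow_zero, pow_zero, pow_zero, mk_one]
  | succ k ih => rw [pow_succ, ih, mul_dg, pow_succ, pow_succ]

/-- Two frames which differ by exchanging `e 1` and `f 1`. -/
structure Swp (e f e' f' : Fin 2 → (Fin n → F)) : Prop where
  e0 : e' 0 = e 0
  e1 : e' 1 = f 1
  f0 : f' 0 = f 0
  f1 : f' 1 = e 1

theorem Swp.symm {e f e' f' : Fin 2 → (Fin n → F)} (s : Swp e f e' f') : Swp e' f' e f :=
  ⟨s.e0.symm, s.f1.symm, s.f0.symm, s.e1.symm⟩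

theorem Swp.tG_eq {e f e' f' : Fin 2 → (Fin n → F)} (s : Swp e f e' f') : tG q e' f' = (tG q e f : Subgroup (SU n F q)) := by
  ext g
  rw [mem_tG, mem_tG]
  simp only [Fin.forall_fin_two, s.e0, s.e1, s.f0, s.f1]
  constructor
  · rintro ⟨⟨a1, a2⟩, ⟨a3, a4⟩, a5⟩
    exact ⟨⟨a1, a4⟩, ⟨a3, a2⟩, fun v h1 h2 => a5 v ⟨h1.1, h2.2⟩ ⟨h2.1, h1.2⟩⟩
  · rintro ⟨⟨a1, a2⟩, ⟨a3, a4⟩, a5⟩
    exact ⟨⟨a1, a4⟩, ⟨a3, a2⟩, fun v h1 h2 => a5 v ⟨h1.1, h2.2⟩ ⟨h2.1, h1.2⟩⟩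

theorem Swp.TE_eq {e f e' f' : Fin 2 → (Fin n → F)} (s : Swp e f e' f') : TE q e' f' = (TE q e f : Subgroup (PSU n F q)) := by
  unfold TE
  rw [s.tG_eq]

/-- How a torus element acts on the exchanged frame. -/
theorem Acts.swp {e f e' f' : Fin 2 → (Fin n → F)} (s : Swp e f e' f') {g : SU n F q} {m0 m1 l0 l1 : F}
    (h : Acts q e f g !![m0, 0; 0, m1] !![l0, 0; 0, l1]) : Acts q e' f' g !![m0, 0; 0, l1] !![l0, 0; 0, m1] := by
  have h0 := h.e0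
  have h1 := h.e1
  have h2 := h.f0
  have h3 := h.f1
  simp only [of_apply, cons_val', cons_val_zero, cons_val_one, cons_val_fin_one, zero_smul, add_zero, zero_add] at h0 h1 h2 h3
  refine ⟨actsE ?_ ?_, actsE ?_ ?_, fun v hv hv' => ?_⟩
  · rw [s.e0, s.e1, h0, zero_smul, add_zero]
  · rw [s.e0, s.e1, h3, zero_smul, zero_add]
  · rw [s.f0, s.f1, h2, zero_smul, add_zero]
  · rw [s.f0, s.f1, h1, zero_smul, zero_add]
  · have a0 := hv 0
    have a1 := hv 1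
    have b0 := hv' 0
    have b1 := hv' 1
    rw [s.e0] at a0
    rw [s.e1] at a1
    rw [s.f0] at b0
    rw [s.f1] at b1
    exact h.ho v (Fin.forall_fin_two.2 ⟨a0, b1⟩) (Fin.forall_fin_two.2 ⟨b0, a1⟩)

end

variable {F : Type*} [Field F] [Fintype F] {q n : ℕ} {e f : Fin 2 → (Fin n → F)}

theorem exists_acts_det (hF : Fintype.card F = q ^ 2) (E : Frm q e f) {M : Matrix (Fin 2) (Fin 2) F}
    (hdet : M.det = 1) : ∃ g ∈ (slG q e f : Subgroup (SU n F q)), ∃ N, Acts q e f g M N := by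
  have hu : IsUnit M.det := by rw [hdet]; exact isUnit_one
  have e2 : (((M⁻¹)ᵀ).map (LieClassical.HermBasic.conj hF)).det = 1 := by
    have e3 : ((M⁻¹)ᵀ).map (LieClassical.HermBasic.conj hF) = (LieClassical.HermBasic.conj hF : F →+* F).mapMatrix (M⁻¹)ᵀ := rfl
    rw [e3, ← RingHom.map_det, det_transpose, det_nonsing_inv, hdet, Ring.inverse_one, map_one]
  obtain ⟨g, hg⟩ := Frm.exists_acts hF E (M := M) (N := ((M⁻¹)ᵀ).map (LieClassical.HermBasic.conj hF)) (by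
    have e1 : (((M⁻¹)ᵀ).map (LieClassical.HermBasic.conj hF)).map (LieClassical.HermBasic.conj hF) = (M⁻¹)ᵀ := by
      ext i j
      rw [map_apply, map_apply, LieClassical.HermBasic.conj_apply, LieClassical.HermBasic.conj_apply, pow_q_pow_q hF]
    rw [e1, ← transpose_mul, nonsing_inv_mul _ hu, transpose_one]) (by
    rw [hdet, e2, mul_one])
  exact ⟨g, ⟨M, _, hdet, e2, hg⟩, _, hg⟩

/-- Diagonal elements. -/
theorem exists_acts_dg (hF : Fintype.card F = q ^ 2) (E : Frm q e f) {a b : F} (ha : a ≠ 0) (hb : b ≠ 0)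
    (h : a * b = a ^ q * b ^ q) :
    ∃ g : SU n F q, Acts q e f g !![a, 0; 0, b] !![(a ^ q)⁻¹, 0; 0, (b ^ q)⁻¹] := by
  apply Frm.exists_acts hF E
  · ext i j
    rw [mul_apply, Fin.sum_univ_two]
    fin_cases i <;> fin_cases j <;>
      simp [LieClassical.HermBasic.conj_apply, pow_q_pow_q hF, ha, hb, zero_pow_q hF]
  · rw [det_fin_two, det_fin_two]
    simp only [of_apply, cons_val', cons_val_zero, cons_val_one, cons_val_fin_one, mul_zero, sub_zero]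
    rw [h]
    field_simp

/-- The torus is abelian. -/
theorem tG_comm (hF : Fintype.card F = q ^ 2) (E : Frm q e f) {g h : SU n F q} (hg : g ∈ tG q e f)
    (hh : h ∈ tG q e f) : g * h = h * g := by
  obtain ⟨m0, m1, l0, l1, -, -, h1⟩ := exists_tG hg
  obtain ⟨m0', m1', l0', l1', -, -, h2⟩ := exists_tG hh
  refine (h1.mul h2).ext hF E ((h2.mul h1).congr ?_ ?_)
  · rw [mul_dg, mul_dg, mul_comm m0', mul_comm m1']
  · rw [mul_dg, mul_dg, mul_comm l0', mul_comm l1']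

theorem ne_zero_e (E : Frm q e f) (i : Fin 2) : e i ≠ 0 := (E.hyp i).ne_zero

theorem ne_zero_of_act {g : SU n F q} {w : Fin n → F} (hw : w ≠ 0) {m : F} (h : act g w = m • w) : m ≠ 0 := by
  rintro rfl
  rw [zero_smul, act_eq_zero] at h
  exact hw h

/-- The torus has odd exponent. -/
theorem tG_odd [CharP F 2] (hF : Fintype.card F = q ^ 2) (E : Frm q e f) {g : SU n F q} (hg : g ∈ tG q e f) :
    g ^ (Fintype.card F - 1) = 1 := by
  obtain ⟨m0, m1, l0, l1, -, -, h1⟩ := exists_tG hg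
  have a0 : m0 ≠ 0 := ne_zero_of_act (ne_zero_e E 0) (g := g) (by rw [h1.e0]; simp)
  have a1 : m1 ≠ 0 := ne_zero_of_act (ne_zero_e E 1) (g := g) (by rw [h1.e1]; simp)
  have b0 : l0 ≠ 0 := ne_zero_of_act (ne_zero_e (E.symm hF) 0) (g := g) (by rw [h1.f0]; simp)
  have b1 : l1 ≠ 0 := ne_zero_of_act (ne_zero_e (E.symm hF) 1) (g := g) (by rw [h1.f1]; simp)
  have key : ∀ x : F, x ≠ 0 → x ^ (Fintype.card F - 1) = 1 := fun x hx => FiniteField.pow_card_sub_one_eq_one x hx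
  refine (h1.pow _).ext hF E (Acts.one.congr ?_ ?_)
  · rw [pow_dg, key _ a0, key _ a1, mk_one]
  · rw [pow_dg, key _ b0, key _ b1, mk_one]

theorem odd_card_sub [CharP F 2] : Odd (Fintype.card F - 1) := by
  obtain ⟨k, hk⟩ := exists_card_eq (F := F) 2
  have h0 : k ≠ 0 := by
    rintro rfl
    have : 1 < Fintype.card F := Fintype.one_lt_card
    rw [hk, pow_zero] at this
    exact lt_irrefl 1 this
  rw [hk]
  have h2 : Even (2 ^ k) := (Nat.even_pow' h0).2 even_two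
  have h3 : 1 ≤ 2 ^ k := Nat.one_le_two_pow
  obtain ⟨m, hm⟩ := h2
  exact ⟨m - 1, by omega⟩

/-- Conjugates of the group of `aEl`. -/
theorem aG_conj (hF : Fintype.card F = q ^ 2) (E : Frm q e f) {g x : SU n F q} {M : Matrix (Fin 2) (Fin 2) F}
    (hg : ∀ j, act g (e j) = ∑ i, M i j • e i) (hx : x ∈ aG hF E) : g * x * g⁻¹ ∈ aG hF E := by
  obtain ⟨H, hH, rfl⟩ := hx
  exact ⟨_, _, conj_aEl hF E hH hg⟩

theorem RR_cj (hF : Fintype.card F = q ^ 2) {u : Fin n → F} (hu : hermForm n F q u u = 0) (g : SU n F q)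
    (hgu : hermForm n F q (act g u) (act g u) = 0) : cj (pr n F q g) (RR hF u hu) = RR hF (act g u) hgu := by
  ext x
  rw [mem_cj, RR_conj hF hu g hgu]

omit [Fintype F] in
theorem PE_cj {u : Fin n → F} (g : SU n F q) : cj (pr n F q g) (PE q u) = PE q (act g u) := by
  have key : ∀ (g : SU n F q) (u : Fin n → F), cj (pr n F q g) (PE q u) ≤ PE q (act g u) := by
    rintro g u _ ⟨_, ⟨x, ⟨c, hc, hx⟩, rfl⟩, rfl⟩
    refine ⟨g * x * g⁻¹, ⟨c, hc, ?_⟩, ?_⟩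
    · rw [act_mul, act_mul, act_inv_act, hx, act_smul]
    · rw [map_mul, map_mul, map_inv]; rfl
  apply le_antisymm (key g u)
  have h1 := key g⁻¹ (act g u)
  rw [act_inv_act] at h1
  have h2 := cj_mono (pr n F q g) h1
  rwa [map_inv, cj_cj_inv] at h2

end Cfsg.Agent.OddHalf.DblR.UnF

end

-- merged: Cfsg.Agent.OddHalf.DblR.UnVec
section

/-!
# ODD, D4, unitary groups: the abelian group of a totally isotropic line (helper642)

`Fr q e1 e2 f1 f2` : a frame written out. `vv hF E a b c` : the image in `PSU` of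
`v ↦ v + (a h(v,e1) + b h(v,e2)) e1 + (b^q h(v,e1) + c h(v,e2)) e2`. `vv_mul`, `vv_inj`, `vv_conj`, `mem_RR_iff`,
`exDiag`, `exTrans`, `autCent`.
-/

set_option autoImplicit false

namespace Cfsg.Agent.OddHalf.DblR.UnVec

open Cfsg Cfsg.Agent.LieClassical.HermBasic Cfsg.Agent.LieClassical.HermSiegel
  Cfsg.Agent.LieClassical.HermGen Cfsg.Agent.LieClassical.SUBasic Matrix
  Cfsg.Agent.ClassicalGeometry.PSUAutBasic Cfsg.Agent.ClassicalGeometry.PSUAutSylow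
  Cfsg.Agent.ClassicalGeometry.PSUAutUnip Cfsg.Agent.KFacts.Unit

/-- A frame with two pairs, written out. -/
structure Fr {F : Type*} [Field F] {n : ℕ} (q : ℕ) (e1 e2 f1 f2 : Fin n → F) : Prop where
  a11 : hermForm n F q e1 e1 = 0
  a12 : hermForm n F q e1 e2 = 0
  a21 : hermForm n F q e2 e1 = 0
  a22 : hermForm n F q e2 e2 = 0
  b11 : hermForm n F q f1 f1 = 0
  b12 : hermForm n F q f1 f2 = 0
  b21 : hermForm n F q f2 f1 = 0
  b22 : hermForm n F q f2 f2 = 0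
  c11 : hermForm n F q e1 f1 = 1
  c12 : hermForm n F q e1 f2 = 0
  c21 : hermForm n F q e2 f1 = 0
  c22 : hermForm n F q e2 f2 = 1
  d11 : hermForm n F q f1 e1 = 1
  d12 : hermForm n F q f1 e2 = 0
  d21 : hermForm n F q f2 e1 = 0
  d22 : hermForm n F q f2 e2 = 1

/-- Orthogonal to the frame. -/
def Prp {F : Type*} [Field F] {n : ℕ} (q : ℕ) (e1 e2 f1 f2 v : Fin n → F) : Prop :=
  hermForm n F q v e1 = 0 ∧ hermForm n F q v e2 = 0 ∧ hermForm n F q v f1 = 0 ∧ hermForm n F q v f2 = 0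

/-- The action of `vv`. -/
def Ac {F : Type*} [Field F] {n : ℕ} (q : ℕ) (e1 e2 : Fin n → F) (a b c : F) (g : SU n F q) : Prop :=
  ∀ v, act g v = v + (a * hermForm n F q v e1 + b * hermForm n F q v e2) • e1 +
    (b ^ q * hermForm n F q v e1 + c * hermForm n F q v e2) • e2

variable {F : Type*} [Field F] {q n : ℕ} {e1 e2 f1 f2 : Fin n → F}

theorem Prp.swap {v : Fin n → F} (h : Prp q e1 e2 f1 f2 v) : Prp q e1 f2 f1 e2 v := ⟨h.1, h.2.2.2, h.2.2.1, h.2.1⟩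

theorem Fr.swap (H : Fr q e1 e2 f1 f2) : Fr q e1 f2 f1 e2 :=
  ⟨H.a11, H.c12, H.d21, H.b22, H.b11, H.d12, H.c21, H.a22, H.c11, H.a12, H.b21, H.d22, H.d11, H.b12, H.a21, H.c22⟩

theorem Fr.frm (H : Fr q e1 e2 f1 f2) : Frm q ![e1, e2] ![f1, f2] := by
  refine ⟨?_, ?_, ?_⟩
  · intro i j
    fin_cases i <;> fin_cases j
    · exact H.a11
    · exact H.a12
    · exact H.a21
    · exact H.a22
  · intro i j
    fin_cases i <;> fin_cases j
    · exact H.b11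
    · exact H.b12
    · exact H.b21
    · exact H.b22
  · intro i j
    fin_cases i <;> fin_cases j
    · exact H.c11
    · exact H.c12
    · exact H.c21
    · exact H.c22

theorem Fr.ne1 (H : Fr q e1 e2 f1 f2) : e1 ≠ 0 := by
  rintro rfl
  have := H.c11
  rw [herm_zero_left] at this
  exact zero_ne_one this

theorem Fr.ne2 (H : Fr q e1 e2 f1 f2) : e2 ≠ 0 := by
  rintro rfl
  have := H.c22
  rw [herm_zero_left] at this
  exact zero_ne_one this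

/-- coefficients -/
theorem Fr.coef (H : Fr q e1 e2 f1 f2) {a b a' b' : F} (h : a • e1 + b • e2 = a' • e1 + b' • e2) :
    a = a' ∧ b = b' := by
  have h0 := congrArg (fun v => hermForm n F q v f1) h
  have h1 := congrArg (fun v => hermForm n F q v f2) h
  simp only [herm_add_left, herm_smul_left, H.c11, H.c12, H.c21, H.c22] at h0 h1
  constructor
  · linear_combination h0
  · linear_combination h1

variable [Fintype F]

theorem Fr.of (hF : Fintype.card F = q ^ 2) (E : Frm q ![e1, e2] ![f1, f2]) : Fr q e1 e2 f1 f2 where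
  a11 := E.ee 0 0
  a12 := E.ee 0 1
  a21 := E.ee 1 0
  a22 := E.ee 1 1
  b11 := E.ff 0 0
  b12 := E.ff 0 1
  b21 := E.ff 1 0
  b22 := E.ff 1 1
  c11 := (E.ef 0 0).trans (if_pos rfl)
  c12 := (E.ef 0 1).trans (if_neg (by decide))
  c21 := (E.ef 1 0).trans (if_neg (by decide))
  c22 := (E.ef 1 1).trans (if_pos rfl)
  d11 := (E.fe hF 0 0).trans (if_pos rfl)
  d12 := (E.fe hF 0 1).trans (if_neg (by decide))
  d21 := (E.fe hF 1 0).trans (if_neg (by decide))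
  d22 := (E.fe hF 1 1).trans (if_pos rfl)

omit [Fintype F] in
/-- every vector is a combination of the frame and a vector orthogonal to it -/
theorem Fr.dec (H : Fr q e1 e2 f1 f2) (v : Fin n → F) : ∃ (a b c d : F) (r : Fin n → F), Prp q e1 e2 f1 f2 r ∧
    v = a • e1 + b • e2 + c • f1 + d • f2 + r := by
  refine ⟨hermForm n F q v f1, hermForm n F q v f2, hermForm n F q v e1, hermForm n F q v e2,
    v - (hermForm n F q v f1 • e1 + hermForm n F q v f2 • e2 + hermForm n F q v e1 • f1 + hermForm n F q v e2 • f2),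
    ⟨?_, ?_, ?_, ?_⟩, by abel⟩
  · simp only [herm_sub_left, herm_add_left, herm_smul_left, H.a11, H.a21, H.d11, H.d21]; ring
  · simp only [herm_sub_left, herm_add_left, herm_smul_left, H.a12, H.a22, H.d12, H.d22]; ring
  · simp only [herm_sub_left, herm_add_left, herm_smul_left, H.c11, H.c21, H.b11, H.b21]; ring
  · simp only [herm_sub_left, herm_add_left, herm_smul_left, H.c12, H.c22, H.b12, H.b22]; ring

omit [Fintype F] in
/-- elements agreeing on the frame and on its orthogonal space are equal -/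
theorem Fr.ext (H : Fr q e1 e2 f1 f2) {g h : SU n F q} (h1 : act g e1 = act h e1) (h2 : act g e2 = act h e2)
    (h3 : act g f1 = act h f1) (h4 : act g f2 = act h f2) (h5 : ∀ v, Prp q e1 e2 f1 f2 v → act g v = act h v) :
    g = h := by
  apply ext_act
  intro v
  obtain ⟨a, b, c, d, r, hr, rfl⟩ := H.dec v
  simp only [act_add, act_smul, h1, h2, h3, h4, h5 r hr]

/-- diagonal elements -/
theorem Fr.exDiag (hF : Fintype.card F = q ^ 2) (H : Fr q e1 e2 f1 f2) {a b a' b' : F} (ha : a * a' ^ q = 1)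
    (hb : b * b' ^ q = 1) (hab : a * b * (a' * b') = 1) :
    ∃ g : SU n F q, act g e1 = a • e1 ∧ act g e2 = b • e2 ∧ act g f1 = a' • f1 ∧ act g f2 = b' • f2 ∧
      ∀ v, Prp q e1 e2 f1 f2 v → act g v = v := by
  obtain ⟨g, h1, h2, h3⟩ := exists_GL hF H.frm (M := !![a, 0; 0, b]) (N := !![a', 0; 0, b']) (by
    ext i j
    fin_cases i <;> fin_cases j <;>
      simp [Matrix.mul_apply, Fin.sum_univ_two, LieClassical.HermBasic.conj_apply, zero_pow_q hF, ha, hb]) (by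
    rw [det_fin_two_of, det_fin_two_of]; linear_combination hab)
  refine ⟨g, ?_, ?_, ?_, ?_, ?_⟩
  · have := h1 0
    rw [Fin.sum_univ_two] at this
    simpa using this
  · have := h1 1
    rw [Fin.sum_univ_two] at this
    simpa using this
  · have := h2 0
    rw [Fin.sum_univ_two] at this
    simpa using this
  · have := h2 1
    rw [Fin.sum_univ_two] at this
    simpa using this
  · intro v hv
    apply h3
    · intro j
      fin_cases j
      · exact hv.1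
      · exact hv.2.1
    · intro j
      fin_cases j
      · exact hv.2.2.1
      · exact hv.2.2.2

/-- `SL₂` is transitive on the vectors of the line -/
theorem Fr.exTrans (hF : Fintype.card F = q ^ 2) (H : Fr q e1 e2 f1 f2) {c1 c2 : F} (hc : ¬ (c1 = 0 ∧ c2 = 0)) :
    ∃ (g : SU n F q) (a b : F) (s t u v : F), act g e1 = c1 • e1 + c2 • e2 ∧ act g e2 = a • e1 + b • e2 ∧
      act g f1 = s • f1 + t • f2 ∧ act g f2 = u • f1 + v • f2 ∧ ∀ v, Prp q e1 e2 f1 f2 v → act g v = v := by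
  obtain ⟨x, y, hxy⟩ : ∃ x y : F, c1 * y - x * c2 = 1 := by
    by_cases h1 : c1 = 0
    · have h2 : c2 ≠ 0 := fun h => hc ⟨h1, h⟩
      exact ⟨-c2⁻¹, 0, by rw [h1]; field_simp; ring⟩
    · exact ⟨0, c1⁻¹, by field_simp; ring⟩
  have hdet : (!![c1, x; c2, y] : Matrix (Fin 2) (Fin 2) F).det = 1 := by
    rw [det_fin_two_of, hxy]
  have hu : IsUnit (!![c1, x; c2, y] : Matrix (Fin 2) (Fin 2) F).det := by rw [hdet]; exact isUnit_one
  obtain ⟨N, hN⟩ : ∃ N : Matrix (Fin 2) (Fin 2) F,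
      N = (((!![c1, x; c2, y] : Matrix (Fin 2) (Fin 2) F)⁻¹)ᵀ).map (LieClassical.HermBasic.conj hF) := ⟨_, rfl⟩
  obtain ⟨g, h1, h2, h3⟩ := exists_GL hF H.frm (M := !![c1, x; c2, y]) (N := N) (by
    have e1 : ((((!![c1, x; c2, y] : Matrix (Fin 2) (Fin 2) F)⁻¹)ᵀ).map (LieClassical.HermBasic.conj hF)).map
        (LieClassical.HermBasic.conj hF) = ((!![c1, x; c2, y] : Matrix (Fin 2) (Fin 2) F)⁻¹)ᵀ := by
      ext i j
      rw [map_apply, map_apply, LieClassical.HermBasic.conj_apply, LieClassical.HermBasic.conj_apply,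
        pow_q_pow_q hF]
    rw [hN, e1, ← transpose_mul, nonsing_inv_mul _ hu, transpose_one]) (by
    have e2 : ((((!![c1, x; c2, y] : Matrix (Fin 2) (Fin 2) F)⁻¹)ᵀ).map (LieClassical.HermBasic.conj hF)).det = 1 := by
      have e3 : (((!![c1, x; c2, y] : Matrix (Fin 2) (Fin 2) F)⁻¹)ᵀ).map (LieClassical.HermBasic.conj hF) =
        (LieClassical.HermBasic.conj hF : F →+* F).mapMatrix ((!![c1, x; c2, y] : Matrix (Fin 2) (Fin 2) F)⁻¹)ᵀ := rfl
      rw [e3, ← RingHom.map_det, det_transpose, det_nonsing_inv, hdet, Ring.inverse_one, map_one]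
    rw [hN, hdet, e2, mul_one])
  refine ⟨g, x, y, N 0 0, N 1 0, N 0 1, N 1 1, ?_, ?_, ?_, ?_, ?_⟩
  · have := h1 0
    rw [Fin.sum_univ_two] at this
    simpa using this
  · have := h1 1
    rw [Fin.sum_univ_two] at this
    simpa using this
  · have := h2 0
    rw [Fin.sum_univ_two] at this
    exact this
  · have := h2 1
    rw [Fin.sum_univ_two] at this
    exact this
  · intro v hv
    apply h3
    · intro j
      fin_cases j
      · exact hv.1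
      · exact hv.2.1
    · intro j
      fin_cases j
      · exact hv.2.2.1
      · exact hv.2.2.2

/-- Two elements fixing a vector with the same image in `PSU` are equal. -/
theorem eq_of_pr_of_fix (hF : Fintype.card F = q ^ 2) (hn : 3 ≤ n) {u : Fin n → F} (hu : u ≠ 0) {g h : SU n F q}
    (hg : act g u = u) (hh : act h u = u) (e : pr n F q g = pr n F q h) : g = h := by
  obtain ⟨z, hz, rfl⟩ := exists_center_mul e
  obtain ⟨c, -, -, hc⟩ := exists_scalar_of_mem_center hF hn hz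
  have h1 : c • u = u := by
    rw [act_mul, hc, act_smul, hg] at hh
    exact hh
  have h2 : c = 1 := by
    have h3 : (c - 1) • u = 0 := by rw [sub_smul, one_smul, h1, sub_self]
    exact sub_eq_zero.1 ((smul_eq_zero.1 h3).resolve_right hu)
  have h3 : z = 1 := ext_act fun v => by rw [hc, h2, one_smul, act_one]
  rw [h3, mul_one]

section Two

variable [CharP F 2]

theorem isSkew_of (hF : Fintype.card F = q ^ 2) {a b c : F} (ha : a + a ^ q = 0) (hc : c + c ^ q = 0) :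
    IsSkew q !![a, b; b ^ q, c] := by
  intro i j
  fin_cases i <;> fin_cases j
  · exact ha
  · change b + (b ^ q) ^ q = 0
    rw [pow_q_pow_q hF]; exact CharTwo.add_self_eq_zero b
  · change b ^ q + b ^ q = 0
    exact CharTwo.add_self_eq_zero _
  · exact hc

open Classical in
/-- `v ↦ v + (a h(v,e1) + b h(v,e2)) e1 + (b^q h(v,e1) + c h(v,e2)) e2` -/
noncomputable def vv (hF : Fintype.card F = q ^ 2) (E : Fr q e1 e2 f1 f2) (a b c : F) : PSU n F q :=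
  if h : IsSkew q !![a, b; b ^ q, c] then pr n F q (aEl hF E.frm _ h) else 1

theorem exists_vv (hF : Fintype.card F = q ^ 2) (E : Fr q e1 e2 f1 f2) {a b c : F} (ha : a + a ^ q = 0)
    (hc : c + c ^ q = 0) : ∃ g, vv hF E a b c = pr n F q g ∧ Ac q e1 e2 a b c g := by
  refine ⟨aEl hF E.frm _ (isSkew_of hF ha hc), dif_pos _, fun v => ?_⟩
  rw [act_aEl, Fin.sum_univ_two, Fin.sum_univ_two, Fin.sum_univ_two, ← add_assoc]
  rfl

theorem vv_eq (hF : Fintype.card F = q ^ 2) (E : Fr q e1 e2 f1 f2) {a b c : F} (ha : a + a ^ q = 0)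
    (hc : c + c ^ q = 0) {g : SU n F q} (hg : Ac q e1 e2 a b c g) : pr n F q g = vv hF E a b c := by
  obtain ⟨g', h1, h2⟩ := exists_vv hF E (b := b) ha hc
  rw [h1]
  congr 1
  exact ext_act fun v => by rw [hg v, h2 v]

omit [CharP F 2] in
theorem tr_add (hF : Fintype.card F = q ^ 2) {a b : F} (ha : a + a ^ q = 0) (hb : b + b ^ q = 0) :
    (a + b) + (a + b) ^ q = 0 := by
  rw [add_pow_q hF]; linear_combination ha + hb

omit [CharP F 2] in
theorem tr_zero (hF : Fintype.card F = q ^ 2) : (0 : F) + 0 ^ q = 0 := by rw [zero_pow_q hF, add_zero]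

omit [Fintype F] [CharP F 2] in
theorem Ac.fix1 {E : Fr q e1 e2 f1 f2} {a b c : F} {g : SU n F q} (hg : Ac q e1 e2 a b c g) : act g e1 = e1 := by
  rw [hg e1, E.a11, E.a12]; simp

omit [Fintype F] [CharP F 2] in
theorem Ac.fix2 {E : Fr q e1 e2 f1 f2} {a b c : F} {g : SU n F q} (hg : Ac q e1 e2 a b c g) : act g e2 = e2 := by
  rw [hg e2, E.a21, E.a22]; simp

theorem vv_mul (hF : Fintype.card F = q ^ 2) (E : Fr q e1 e2 f1 f2) {a b c a' b' c' : F} (ha : a + a ^ q = 0)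
    (hc : c + c ^ q = 0) (ha' : a' + a' ^ q = 0) (hc' : c' + c' ^ q = 0) :
    vv hF E a b c * vv hF E a' b' c' = vv hF E (a + a') (b + b') (c + c') := by
  obtain ⟨g, h1, h2⟩ := exists_vv hF E (b := b) ha hc
  obtain ⟨g', h1', h2'⟩ := exists_vv hF E (b := b') ha' hc'
  rw [h1, h1', ← map_mul]
  refine vv_eq hF E (tr_add hF ha ha') (tr_add hF hc hc') fun v => ?_
  rw [act_mul, h2' v, h2]
  simp only [herm_add_left, herm_smul_left, E.a11, E.a12, E.a21, E.a22, add_pow_q hF]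
  module

theorem vv_inj (hF : Fintype.card F = q ^ 2) (hn : 3 ≤ n) (E : Fr q e1 e2 f1 f2) {a b c a' b' c' : F}
    (ha : a + a ^ q = 0) (hc : c + c ^ q = 0) (ha' : a' + a' ^ q = 0) (hc' : c' + c' ^ q = 0)
    (h : vv hF E a b c = vv hF E a' b' c') : a = a' ∧ b = b' ∧ c = c' := by
  obtain ⟨g, h1, h2⟩ := exists_vv hF E (b := b) ha hc
  obtain ⟨g', h1', h2'⟩ := exists_vv hF E (b := b') ha' hc'
  rw [h1, h1'] at h
  have h3 := eq_of_pr_of_fix hF hn E.ne1 (Ac.fix1 (E := E) h2) (Ac.fix1 (E := E) h2') h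
  subst h3
  have h4 := h2 f1
  rw [h2' f1, E.d11, E.d12] at h4
  have h5 := h2 f2
  rw [h2' f2, E.d21, E.d22] at h5
  have h6 : a' • e1 + b' ^ q • e2 = a • e1 + b ^ q • e2 := by
    have h7 : f1 + (a' • e1 + b' ^ q • e2) = f1 + (a • e1 + b ^ q • e2) := by
      rw [← add_assoc, ← add_assoc]; simpa using h4
    exact add_left_cancel h7
  have h8 : b' • e1 + c' • e2 = b • e1 + c • e2 := by
    have h7 : f2 + (b' • e1 + c' • e2) = f2 + (b • e1 + c • e2) := by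
      rw [← add_assoc, ← add_assoc]; simpa using h5
    exact add_left_cancel h7
  exact ⟨(E.coef h6).1.symm, (E.coef h8).1.symm, (E.coef h8).2.symm⟩

theorem vv_zero (hF : Fintype.card F = q ^ 2) (E : Fr q e1 e2 f1 f2) : vv hF E 0 0 0 = 1 := by
  have h0 := tr_zero (F := F) hF
  rw [← vv_eq hF E h0 h0 (g := 1), map_one]
  intro v
  rw [act_one, zero_pow_q hF]; simp

theorem vv_inv (hF : Fintype.card F = q ^ 2) (E : Fr q e1 e2 f1 f2) {a b c : F} (ha : a + a ^ q = 0)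
    (hc : c + c ^ q = 0) : (vv hF E a b c)⁻¹ = vv hF E a b c := by
  rw [inv_eq_iff_mul_eq_one, vv_mul hF E ha hc ha hc, CharTwo.add_self_eq_zero, CharTwo.add_self_eq_zero,
    CharTwo.add_self_eq_zero, vv_zero]

theorem vv_comm (hF : Fintype.card F = q ^ 2) (E : Fr q e1 e2 f1 f2) {a b c a' b' c' : F} (ha : a + a ^ q = 0)
    (hc : c + c ^ q = 0) (ha' : a' + a' ^ q = 0) (hc' : c' + c' ^ q = 0) :
    vv hF E a b c * vv hF E a' b' c' = vv hF E a' b' c' * vv hF E a b c := by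
  rw [vv_mul hF E ha hc ha' hc', vv_mul hF E ha' hc' ha hc, add_comm a, add_comm b, add_comm c]

/-- conjugation by an element acting diagonally -/
theorem vv_conj_diag (hF : Fintype.card F = q ^ 2) (E : Fr q e1 e2 f1 f2) {a b c : F} (ha : a + a ^ q = 0)
    (hc : c + c ^ q = 0) {g : SU n F q} {x y : F} (h1 : act g e1 = x • e1) (h2 : act g e2 = y • e2) :
    pr n F q g * vv hF E a b c * (pr n F q g)⁻¹ = vv hF E (x * x ^ q * a) (x * y ^ q * b) (y * y ^ q * c) := by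
  obtain ⟨k, h3, h4⟩ := exists_vv hF E (b := b) ha hc
  rw [h3, ← map_mul, ← map_inv, ← map_mul]
  refine vv_eq hF E ?_ ?_ fun v => ?_
  · rw [mul_pow, norm_pow_q hF, ← mul_add, ha, mul_zero]
  · rw [mul_pow, norm_pow_q hF, ← mul_add, hc, mul_zero]
  · rw [act_mul, act_mul, h4, act_add, act_add, act_act_inv, act_smul, act_smul, h1, h2]
    have i1 : hermForm n F q (act g⁻¹ v) e1 = x ^ q * hermForm n F q v e1 := by
      rw [← herm_act g, act_act_inv, h1, herm_smul_right]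
    have i2 : hermForm n F q (act g⁻¹ v) e2 = y ^ q * hermForm n F q v e2 := by
      rw [← herm_act g, act_act_inv, h2, herm_smul_right]
    rw [i1, i2, mul_pow, mul_pow, pow_q_pow_q hF]
    module

/-- conjugation by a transvection of the line -/
theorem vv_conj_up (hF : Fintype.card F = q ^ 2) (E : Fr q e1 e2 f1 f2) {a b c : F} (ha : a + a ^ q = 0)
    (hc : c + c ^ q = 0) {g : SU n F q} {t : F} (h1 : act g e1 = e1) (h2 : act g e2 = e2 + t • e1) :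
    pr n F q g * vv hF E a b c * (pr n F q g)⁻¹ =
      vv hF E (a + (t * b ^ q + t ^ q * b) + t * t ^ q * c) (b + t * c) c := by
  obtain ⟨k, h3, h4⟩ := exists_vv hF E (b := b) ha hc
  rw [h3, ← map_mul, ← map_inv, ← map_mul]
  have h5 : c ^ q = c := by
    have h6 := CharTwo.add_self_eq_zero c
    linear_combination hc - h6
  refine vv_eq hF E ?_ hc fun v => ?_
  · have h6 := CharTwo.add_self_eq_zero (t * b ^ q + t ^ q * b + t * t ^ q * c)
    rw [add_pow_q hF, add_pow_q hF, add_pow_q hF, mul_pow, mul_pow, mul_pow, mul_pow, pow_q_pow_q hF, pow_q_pow_q hF,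
      h5]
    linear_combination ha + h6
  · rw [act_mul, act_mul, h4, act_add, act_add, act_act_inv, act_smul, act_smul, h1, h2]
    have i1 : hermForm n F q (act g⁻¹ v) e1 = hermForm n F q v e1 := by
      rw [← herm_act g, act_act_inv, h1]
    have i2 : hermForm n F q (act g⁻¹ v) e2 = hermForm n F q v e2 + t ^ q * hermForm n F q v e1 := by
      rw [← herm_act g, act_act_inv, h2, herm_add_right hF, herm_smul_right]
    rw [i1, i2, add_pow_q hF, mul_pow, h5]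
    module

/-- the long root group of a point of the line -/
theorem mem_RR_iff (hF : Fintype.card F = q ^ 2) (E : Fr q e1 e2 f1 f2) {c1 c2 : F}
    (hu : hermForm n F q (c1 • e1 + c2 • e2) (c1 • e1 + c2 • e2) = 0) {x : PSU n F q} :
    x ∈ RR hF (c1 • e1 + c2 • e2) hu ↔ ∃ μ : F, μ + μ ^ q = 0 ∧
      x = vv hF E (μ * (c1 * c1 ^ q)) (μ * (c1 * c2 ^ q)) (μ * (c2 * c2 ^ q)) := by
  have key : ∀ (μ : F) (hμ : μ + μ ^ q = 0), pr n F q (transv hF (c1 • e1 + c2 • e2) hu μ hμ) =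
      vv hF E (μ * (c1 * c1 ^ q)) (μ * (c1 * c2 ^ q)) (μ * (c2 * c2 ^ q)) := by
    intro μ hμ
    have h5 : μ ^ q = μ := by
      have h6 := CharTwo.add_self_eq_zero μ
      linear_combination hμ - h6
    refine vv_eq hF E ?_ ?_ fun v => ?_
    · rw [mul_pow, norm_pow_q hF, ← add_mul, hμ, zero_mul]
    · rw [mul_pow, norm_pow_q hF, ← add_mul, hμ, zero_mul]
    · rw [act_transv, herm_add_right hF, herm_smul_right, herm_smul_right, mul_pow, mul_pow, pow_q_pow_q hF, h5]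
      module
  rw [mem_RR]
  constructor
  · rintro ⟨μ, hμ, rfl⟩
    exact ⟨μ, hμ, key μ hμ⟩
  · rintro ⟨μ, hμ, rfl⟩
    exact ⟨μ, hμ, (key μ hμ).symm⟩

theorem mem_RR1 (hF : Fintype.card F = q ^ 2) (E : Fr q e1 e2 f1 f2) (hu : hermForm n F q e1 e1 = 0) {x : PSU n F q} :
    x ∈ RR hF e1 hu ↔ ∃ μ : F, μ + μ ^ q = 0 ∧ x = vv hF E μ 0 0 := by
  have h1 : (1 : F) • e1 + (0 : F) • e2 = e1 := by rw [one_smul, zero_smul, add_zero]
  have h2 : hermForm n F q ((1 : F) • e1 + (0 : F) • e2) ((1 : F) • e1 + (0 : F) • e2) = 0 := by rw [h1]; exact hu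
  rw [RR_congr hF hu h2 h1.symm, mem_RR_iff hF E h2]
  have h3 := zero_pow_q (F := F) hF
  constructor
  · rintro ⟨μ, hμ, rfl⟩
    refine ⟨μ, hμ, ?_⟩
    simp [h3]
  · rintro ⟨μ, hμ, rfl⟩
    refine ⟨μ, hμ, ?_⟩
    simp [h3]

theorem mem_RR2 (hF : Fintype.card F = q ^ 2) (E : Fr q e1 e2 f1 f2) (hu : hermForm n F q e2 e2 = 0) {x : PSU n F q} :
    x ∈ RR hF e2 hu ↔ ∃ μ : F, μ + μ ^ q = 0 ∧ x = vv hF E 0 0 μ := by
  have h1 : (0 : F) • e1 + (1 : F) • e2 = e2 := by rw [one_smul, zero_smul, zero_add]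
  have h2 : hermForm n F q ((0 : F) • e1 + (1 : F) • e2) ((0 : F) • e1 + (1 : F) • e2) = 0 := by rw [h1]; exact hu
  rw [RR_congr hF hu h2 h1.symm, mem_RR_iff hF E h2]
  have h3 := zero_pow_q (F := F) hF
  constructor
  · rintro ⟨μ, hμ, rfl⟩
    refine ⟨μ, hμ, ?_⟩
    simp [h3]
  · rintro ⟨μ, hμ, rfl⟩
    refine ⟨μ, hμ, ?_⟩
    simp [h3]

/-- **An automorphism trivial on the pointwise stabiliser of the line.** -/
theorem autCent (hF : Fintype.card F = q ^ 2) (hn : 4 ≤ n) (E : Fr q e1 e2 f1 f2) (α : MulAut (PSU n F q))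
    (hα : ∀ g : SU n F q, act g e1 = e1 → act g e2 = e2 → α (pr n F q g) = pr n F q g) :
    ∃ a b c : F, a + a ^ q = 0 ∧ c + c ^ q = 0 ∧ α = MulAut.conj (vv hF E a b c) := by
  obtain ⟨H, hH, h1⟩ := autCent_frame hF hn E.frm le_rfl α fun g hg => hα g (hg 0) (hg 1)
  refine ⟨H 0 0, H 0 1, H 1 1, hH 0 0, hH 1 1, ?_⟩
  rw [h1]
  congr 1
  refine vv_eq hF E (hH 0 0) (hH 1 1) fun v => ?_
  have h2 : H 0 1 ^ q = H 1 0 := by
    have h3 := hH 1 0
    have h4 := CharTwo.add_self_eq_zero (H 1 0)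
    linear_combination h3 - h4
  rw [act_aEl, Fin.sum_univ_two, Fin.sum_univ_two, Fin.sum_univ_two, ← add_assoc, h2]
  rfl

end Two

end Cfsg.Agent.OddHalf.DblR.UnVec

end

-- merged: Cfsg.Agent.OddHalf.DblR.UnSep
section

/-!
# ODD, D4, unitary groups: two points of a totally isotropic line (helper642)

For `PE`, `SE`, `VE` of `UnFrameDefs`: `ind_sep1`, `ind_sep2`, `ind_sep3`, `cen`, `PE_up`.
-/

set_option autoImplicit false

namespace Cfsg.Agent.OddHalf.DblR.UnSep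

open Cfsg Cfsg.Agent.LieClassical.HermBasic Cfsg.Agent.LieClassical.HermSiegel
  Cfsg.Agent.LieClassical.HermGen Cfsg.Agent.LieClassical.SUBasic Matrix
  Cfsg.Agent.ClassicalGeometry.PSUAutBasic Cfsg.Agent.ClassicalGeometry.PSUAutSylow
  Cfsg.Agent.ClassicalGeometry.PSUAutUnip Cfsg.Agent.ClassicalGeometry.PSUAutPhi Cfsg.Agent.KFacts.Unit
  Cfsg.Agent.OddHalf.DblR.UnVec
  Cfsg.Agent.Nodes.Reps

variable {F : Type*} [Field F] [Fintype F] {q n : ℕ} {e1 e2 f1 f2 : Fin n → F}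

omit [Fintype F] in
/-- Transport of a frame. -/
theorem map_Fr (H : Fr q e1 e2 f1 f2) (g : SU n F q) : Fr q (act g e1) (act g e2) (act g f1) (act g f2) := by
  constructor <;> rw [herm_act]
  · exact H.a11
  · exact H.a12
  · exact H.a21
  · exact H.a22
  · exact H.b11
  · exact H.b12
  · exact H.b21
  · exact H.b22
  · exact H.c11
  · exact H.c12
  · exact H.c21
  · exact H.c22
  · exact H.d11
  · exact H.d12
  · exact H.d21
  · exact H.d22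

/-- A frame on two given vectors. -/
theorem exFr (hF : Fintype.card F = q ^ 2) {u v : Fin n → F} (huu : hermForm n F q u u = 0)
    (hvv : hermForm n F q v v = 0) (huv : hermForm n F q u v = 0)
    (hind : ∀ a b : F, a • u + b • v = 0 → a = 0 ∧ b = 0) : ∃ f1 f2, Fr q u v f1 f2 := by
  obtain ⟨f, E⟩ := exists_dual2 hF huu hvv huv hind
  have h : f = ![f 0, f 1] := by
    funext i
    fin_cases i <;> rfl
  rw [h] at E
  exact ⟨f 0, f 1, Fr.of hF E⟩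

/-- A frame on a given vector. -/
theorem exFr1 (hF : Fintype.card F = q ^ 2) (hn : 4 ≤ n) {u : Fin n → F} (hu0 : u ≠ 0)
    (hu : hermForm n F q u u = 0) : ∃ e2 f1 f2, Fr q u e2 f1 f2 := by
  obtain ⟨e, f, H⟩ := exists_frame (F := F) (q := q) (n := n) hF (by omega)
  obtain ⟨g, -, hg⟩ := exists_map_iso hF (by omega) le_rfl (mem_coordSub_top e) (mem_coordSub_top u)
    (frame_ne_zero H) hu0 H.ee hu
  let i0 : Fin n := ⟨0, by omega⟩
  let i1 : Fin n := ⟨1, by omega⟩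
  obtain ⟨p, p', a, b, ha, hp, hp', hpp, hp'p', hpp'⟩ :=
    exists_hyp_pair (q := q) hF (i := i0) (j := i1) (by simp [i0, i1])
  have m0 : (Pi.single i0 1 : Fin n → F) ∈ coordSub F n (n - 2) := single_mem_coordSub (by simp [i0]; omega) 1
  have m1 : (Pi.single i1 1 : Fin n → F) ∈ coordSub F n (n - 2) := single_mem_coordSub (by simp [i1]; omega) 1
  have hpW : p ∈ coordSub F n (n - 2) := by
    rw [hp]; exact Submodule.add_mem _ m0 (Submodule.smul_mem _ _ m1)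
  have hpW' : p' ∈ coordSub F n (n - 2) := by
    rw [hp']; exact Submodule.add_mem _ m0 (Submodule.smul_mem _ _ hpW)
  obtain ⟨h1, h2⟩ := (H.mem _).1 hpW
  obtain ⟨h3, h4⟩ := (H.mem _).1 hpW'
  have hfe : hermForm n F q f e = 1 := frame_fe hF H
  have hp'p : hermForm n F q p' p = 1 := by rw [herm_swap hF p p', hpp', one_pow]
  have E : Fr q e p f p' := ⟨H.ee, herm_eq_zero_swap hF h1, h1, hpp, H.ff, herm_eq_zero_swap hF h4, h4, hp'p', H.ef,
    herm_eq_zero_swap hF h3, h2, hpp', hfe, herm_eq_zero_swap hF h2, h3, hp'p⟩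
  have E' := map_Fr E g
  rw [hg] at E'
  exact ⟨_, _, _, E'⟩

/-- A norm one element. -/
theorem exists_norm_one (hF : Fintype.card F = q ^ 2) : ∃ c : F, c * c ^ q = 1 ∧ c ≠ 1 ∧ c ≠ 0 := by
  obtain ⟨x, hx⟩ := exists_not_fixed hF
  have h0 : x ≠ 0 := by
    rintro rfl
    exact hx (zero_pow_q hF)
  have h1 : x ^ q ≠ 0 := pow_ne_zero _ h0
  refine ⟨x / x ^ q, ?_, ?_, div_ne_zero h0 h1⟩
  · rw [div_pow, pow_q_pow_q hF]; field_simp
  · intro h
    exact hx ((div_eq_one_iff_eq h1).1 h).symm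

/-- A fixed element. -/
theorem exists_fix (hF : Fintype.card F = q ^ 2) (hq : q ≠ 2) : ∃ b : F, b ^ q = b ∧ b ≠ 0 ∧ b ≠ 1 := by
  have h2 := two_le hF
  by_contra hcon
  push Not at hcon
  have h3 : ({x : F | x ^ q = x} : Set F) ⊆ {0, 1} := by
    intro x hx
    by_cases h0 : x = 0
    · left; exact h0
    · right; exact hcon x hx h0
  have h4 := Set.ncard_le_ncard h3
  have h5 : ({x : F | x ^ q = x} : Set F).ncard = q := card_fixed hF
  rw [h5, Set.ncard_pair zero_ne_one] at h4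
  omega

section Two

variable [CharP F 2]

omit [Fintype F] in
theorem sq_ne_one {c : F} (h : c ≠ 1) : c * c ≠ 1 := by
  intro h1
  apply h
  have h2 : (c - 1) * (c - 1) = 0 := by
    have h3 : (2 : F) = 0 := CharTwo.two_eq_zero
    linear_combination h1 + (1 - c) * h3
  exact sub_eq_zero.1 (mul_self_eq_zero.1 h2)

/-- (sep1) -/
theorem sep1 (hF : Fintype.card F = q ^ 2) (hn : 3 ≤ n) (E : Fr q e1 e2 f1 f2) (h1 : hermForm n F q e1 e1 = 0)
    (h2 : hermForm n F q e2 e2 = 0) {x : PSU n F q} (hx : x ∈ RR hF e1 h1) (hx' : x ∈ RR hF e2 h2) : x = 1 := by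
  obtain ⟨μ, hμ, rfl⟩ := (mem_RR1 hF E h1).1 hx
  obtain ⟨ν, hν, e⟩ := (mem_RR2 hF E h2).1 hx'
  have h0 := tr_zero (F := F) hF
  obtain ⟨h3, -, -⟩ := vv_inj hF hn E hμ h0 h0 hν e
  rw [h3, vv_zero]

/-- (sep2) -/
theorem sep2 (hF : Fintype.card F = q ^ 2) (hn : 4 ≤ n) (E : Fr q e1 e2 f1 f2) (h1 : hermForm n F q e1 e1 = 0)
    (h2 : hermForm n F q e2 e2 = 0) (Q : Subgroup (PSU n F q))
    (hQ : ∀ g : SU n F q, (∃ c : F, c * c ^ q = 1 ∧ act g e1 = c • e1) → (∃ c : F, c * c ^ q = 1 ∧ act g e2 = c • e2) →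
      pr n F q g ∈ Q) : CnAut Q (RR hF e1 h1 ⊔ RR hF e2 h2) := by
  intro α hα
  obtain ⟨a, b, c, ha, hc, e⟩ := autCent hF hn E α fun g hg1 hg2 =>
    hα _ (hQ g ⟨1, by rw [one_pow, mul_one], by rw [hg1, one_smul]⟩ ⟨1, by rw [one_pow, mul_one], by rw [hg2, one_smul]⟩)
  obtain ⟨d, hd, hd1, hd0⟩ := exists_norm_one hF
  have hdi : d⁻¹ * d⁻¹ ^ q = 1 := by rw [inv_pow, ← mul_inv, hd, inv_one]
  obtain ⟨g, g1, g2, -, -, -⟩ := E.exDiag hF (a := d) (b := d⁻¹) (a' := d) (b' := d⁻¹) hd hdi (by field_simp)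
  have h3 := hα _ (hQ g ⟨d, hd, g1⟩ ⟨d⁻¹, hdi, g2⟩)
  rw [e, MulAut.conj_apply] at h3
  have h4 : pr n F q g * vv hF E a b c * (pr n F q g)⁻¹ = vv hF E a b c := by
    rw [mul_inv_eq_iff_eq_mul] at h3 ⊢
    exact h3.symm
  rw [vv_conj_diag hF E ha hc g1 g2] at h4
  have h5 : d⁻¹ ^ q = d := by
    have : d⁻¹ ^ q * d ^ q = 1 := by rw [← mul_pow, inv_mul_cancel₀ hd0, one_pow]
    calc d⁻¹ ^ q = d⁻¹ ^ q * (d * d ^ q) := by rw [hd, mul_one]
      _ = d * (d⁻¹ ^ q * d ^ q) := by ring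
      _ = d := by rw [this, mul_one]
  have h6 : b = 0 := by
    obtain ⟨-, h7, -⟩ := vv_inj hF (by omega) E (by rw [hd, one_mul]; exact ha) (by rw [hdi, one_mul]; exact hc) ha hc
      h4
    rw [h5] at h7
    by_contra hb
    exact sq_ne_one hd1 (mul_right_cancel₀ hb (h7.trans (one_mul b).symm))
  refine ⟨vv hF E a b c, ?_, e⟩
  have h0 := tr_zero (F := F) hF
  have h7 : vv hF E a b c = vv hF E a 0 0 * vv hF E 0 0 c := by
    rw [vv_mul hF E ha h0 h0 hc, h6, add_zero, add_zero, zero_add]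
  rw [h7]
  exact Subgroup.mul_mem_sup ((mem_RR1 hF E h1).2 ⟨a, ha, rfl⟩) ((mem_RR2 hF E h2).2 ⟨c, hc, rfl⟩)

omit [CharP F 2] in
/-- conjugation of a long root group -/
theorem cj_RR (hF : Fintype.card F = q ^ 2) {u v : Fin n → F} (hu : hermForm n F q u u = 0)
    (hv : hermForm n F q v v = 0) {g : SU n F q} (h : act g u = v) : cj (pr n F q g) (RR hF u hu) = RR hF v hv := by
  subst h
  ext x
  rw [mem_cj, ← RR_conj hF hu g hv]

omit [CharP F 2] in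
theorem cj_RR_smul (hF : Fintype.card F = q ^ 2) {u : Fin n → F} (hu : hermForm n F q u u = 0) {c : F} (hc : c ≠ 0)
    {g : SU n F q} (h : act g u = c • u) : cj (pr n F q g) (RR hF u hu) = RR hF u hu := by
  have h1 : hermForm n F q (c • u) (c • u) = 0 := by rw [herm_smul_left, herm_smul_right, hu, mul_zero, mul_zero]
  have h2 : hermForm n F q (act g u) (act g u) = 0 := by rw [herm_act]; exact hu
  ext x
  rw [mem_cj, ← RR_conj hF hu g h2, RR_congr hF h2 h1 h, RR_le hF hu hc h1]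

/-- (sep3) -/
theorem sep3 (hF : Fintype.card F = q ^ 2) (hn : 3 ≤ n) (hq : q ≠ 2) (E : Fr q e1 e2 f1 f2)
    (h1 : hermForm n F q e1 e1 = 0) : ∃ g : SU n F q, act g e2 = e2 ∧
      cj (pr n F q g) (RR hF e1 h1) = RR hF e1 h1 ∧
      ∀ x ∈ RR hF e1 h1, pr n F q g * x = x * pr n F q g → x = 1 := by
  obtain ⟨b, hb, hb0, hb1⟩ := exists_fix hF hq
  obtain ⟨g, g1, g2, -, -, -⟩ := E.exDiag hF (a := b) (b := 1) (a' := b⁻¹) (b' := 1)
    (by rw [inv_pow, hb, mul_inv_cancel₀ hb0]) (by rw [one_pow, mul_one]) (by field_simp)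
  rw [one_smul] at g2
  refine ⟨g, g2, cj_RR_smul hF h1 hb0 g1, ?_⟩
  intro x hx hc
  obtain ⟨μ, hμ, rfl⟩ := (mem_RR1 hF E h1).1 hx
  have h0 := tr_zero (F := F) hF
  have g2' : act g e2 = (1 : F) • e2 := by rw [one_smul]; exact g2
  have h3 : pr n F q g * vv hF E μ 0 0 * (pr n F q g)⁻¹ = vv hF E μ 0 0 := by rw [hc, mul_inv_cancel_right]
  rw [vv_conj_diag hF E hμ h0 g1 g2', hb] at h3
  have h4 : (b * b * μ) + (b * b * μ) ^ q = 0 := by
    rw [mul_pow, mul_pow, hb, ← mul_add, hμ, mul_zero]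
  obtain ⟨h5, -, -⟩ := vv_inj hF hn E h4 (by rw [mul_zero]; exact h0) hμ h0 h3
  have h6 : μ = 0 := by
    by_contra h
    exact sq_ne_one hb1 (mul_right_cancel₀ h (h5.trans (one_mul μ).symm))
  rw [h6, vv_zero]

/-- (up) -/
theorem up (hF : Fintype.card F = q ^ 2) (hn : 4 ≤ n) {u : Fin n → F} (hu0 : u ≠ 0) (hu : hermForm n F q u u = 0)
    {g : SU n F q} {c : F} (hc : c * c ^ q = 1) (hg : act g u = c • u) :
    ∃ a ∈ (PP q u : Subgroup (PSU n F q)), ∃ s : PSU n F q, pr n F q g = a * s ∧ (∀ x ∈ RR hF u hu, s * x = x * s) ∧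
      s ^ (q + 1) = 1 := by
  obtain ⟨e2, f1, f2, E⟩ := exFr1 hF hn hu0 hu
  have hc0 : c ≠ 0 := by
    rintro rfl
    rw [zero_mul] at hc
    exact zero_ne_one hc
  have hci : c⁻¹ * c⁻¹ ^ q = 1 := by rw [inv_pow, ← mul_inv, hc, inv_one]
  obtain ⟨s, s1, s2, s3, s4, s5⟩ := E.exDiag hF (a := c) (b := c⁻¹) (a' := c) (b' := c⁻¹) hc hci (by field_simp)
  refine ⟨pr n F q (g * s⁻¹), ?_, pr n F q s, ?_, ?_, ?_⟩
  · refine mem_PP.2 ⟨g * s⁻¹, ?_, rfl⟩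
    have h1 : act s⁻¹ u = c⁻¹ • u := by
      symm
      rw [← act_eq_iff, act_smul, s1, smul_smul, inv_mul_cancel₀ hc0, one_smul]
    rw [act_mul, h1, act_smul, hg, smul_smul, inv_mul_cancel₀ hc0, one_smul]
  · rw [← map_mul, inv_mul_cancel_right]
  · intro x hx
    obtain ⟨μ, hμ, rfl⟩ := (mem_RR1 hF E hu).1 hx
    have h0 := tr_zero (F := F) hF
    rw [← mul_inv_eq_iff_eq_mul, vv_conj_diag hF E hμ h0 s1 s2, hc, one_mul, mul_zero, mul_zero]
  · have hpow : ∀ (v : Fin n → F) (d : F), act s v = d • v → ∀ m : ℕ, act (s ^ m) v = d ^ m • v := by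
      intro v d hd m
      induction m with
      | zero => rw [pow_zero, act_one, pow_zero, one_smul]
      | succ m ih => rw [pow_succ, act_mul, hd, act_smul, ih, smul_smul, pow_succ, mul_comm]
    have hc1 : c ^ (q + 1) = 1 := by rw [pow_succ, mul_comm]; exact hc
    have hc2 : c⁻¹ ^ (q + 1) = 1 := by rw [inv_pow, hc1, inv_one]
    rw [← map_pow]
    have h1 : s ^ (q + 1) = 1 := by
      apply E.ext
      · rw [hpow _ _ s1, hc1, one_smul, act_one]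
      · rw [hpow _ _ s2, hc2, one_smul, act_one]
      · rw [hpow _ _ s3, hc1, one_smul, act_one]
      · rw [hpow _ _ s4, hc2, one_smul, act_one]
      · intro v hv
        rw [hpow v 1 (by rw [s5 v hv, one_smul]), one_pow, one_smul, act_one]
    rw [h1, map_one]

open Cfsg.Agent.OddHalf.DblR.UnF

theorem ind_sep1 (hF : Fintype.card F = q ^ 2) (hn : 3 ≤ n) {u u' : Fin n → F} (hu : hermForm n F q u u = 0)
    (hu' : hermForm n F q u' u' = 0) (huu' : hermForm n F q u u' = 0)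
    (hind : ∀ a b : F, a • u + b • u' = 0 → a = 0 ∧ b = 0) {x : PSU n F q} (hx : x ∈ RR hF u hu)
    (hx' : x ∈ RR hF u' hu') : x = 1 := by
  obtain ⟨f1, f2, E⟩ := exFr hF hu hu' huu' hind
  exact sep1 hF hn E hu hu' hx hx'

theorem ind_sep2 (hF : Fintype.card F = q ^ 2) (hn : 4 ≤ n) {u u' : Fin n → F} (hu : hermForm n F q u u = 0)
    (hu' : hermForm n F q u' u' = 0) (huu' : hermForm n F q u u' = 0)
    (hind : ∀ a b : F, a • u + b • u' = 0 → a = 0 ∧ b = 0) :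
    CnAut (PE q u ⊓ PE q u') (RR hF u hu ⊔ RR hF u' hu') := by
  obtain ⟨f1, f2, E⟩ := exFr hF hu hu' huu' hind
  exact sep2 hF hn E hu hu' _ fun g h1 h2 => ⟨mem_PE.2 ⟨g, h1, rfl⟩, mem_PE.2 ⟨g, h2, rfl⟩⟩

theorem ind_sep3 (hF : Fintype.card F = q ^ 2) (hn : 3 ≤ n) (hq : 4 ≤ q) {u u' : Fin n → F}
    (hu : hermForm n F q u u = 0) (hu' : hermForm n F q u' u' = 0) (huu' : hermForm n F q u u' = 0)
    (hind : ∀ a b : F, a • u + b • u' = 0 → a = 0 ∧ b = 0) : ∃ κ ∈ (PE q u' : Subgroup (PSU n F q)),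
      cj κ (RR hF u hu) = RR hF u hu ∧ ∀ x ∈ RR hF u hu, κ * x = x * κ → x = 1 := by
  obtain ⟨f1, f2, E⟩ := exFr hF hu hu' huu' hind
  obtain ⟨g, h1, h2, h3⟩ := sep3 hF hn (by omega) E hu
  exact ⟨pr n F q g, mem_PE.2 ⟨g, ⟨1, by rw [one_pow, mul_one], by rw [one_smul, h1]⟩, rfl⟩, h2, h3⟩

omit [CharP F 2] in
/-- (cen) -/
theorem cen (hF : Fintype.card F = q ^ 2) (hn : 4 ≤ n) {d : ℕ} (hd : 2 ≤ d) {e f : Fin d → (Fin n → F)}
    (E : Frm q e f) : CnAut (SE q e) (VE hF E) := by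
  intro α hα
  obtain ⟨H, hH, h1⟩ := autCent_frame hF hn E hd α fun g hg => hα _ (mem_SE.2 ⟨g, hg, rfl⟩)
  exact ⟨_, mem_VE.2 ⟨H, hH, rfl⟩, h1⟩

theorem even_q (hF : Fintype.card F = q ^ 2) : Even q := by
  obtain ⟨m, -, hm⟩ := FiniteField.card F 2
  have h1 : Even (q ^ 2) := by
    rw [← hF, hm]
    exact (even_two.pow_of_ne_zero m.ne_zero)
  exact (Nat.even_pow.1 h1).1

/-- (up) -/
theorem PE_up (hF : Fintype.card F = q ^ 2) (hn : 4 ≤ n) {u : Fin n → F} (hu0 : u ≠ 0)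
    (hu : hermForm n F q u u = 0) : ∀ p ∈ (PE q u : Subgroup (PSU n F q)), ∃ a ∈ (PP q u : Subgroup (PSU n F q)),
      ∃ s : PSU n F q, p = a * s ∧ (∀ x ∈ RR hF u hu, s * x = x * s) ∧ ∃ m : ℕ, Odd m ∧ s ^ m = 1 := by
  intro p hp
  obtain ⟨g, ⟨c, hc, hg⟩, rfl⟩ := mem_PE.1 hp
  obtain ⟨a, ha, s, h1, h2, h3⟩ := up hF hn hu0 hu hc hg
  exact ⟨a, ha, s, h1, h2, q + 1, (even_q hF).add_one, h3⟩

end Two

end Cfsg.Agent.OddHalf.DblR.UnSep

end

-- merged: Cfsg.Agent.OddHalf.DblR.UnFrame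
section

/-!
# ODD, D4, unitary groups: the facts `UK` for a frame with two pairs in `PSU n F q`, `n ≥ 4`, `q ≥ 4` even (helper780)

`halfK`, **`exists_UK`**.
-/

set_option autoImplicit false

namespace Cfsg.Agent.OddHalf.DblR.UnF

open Cfsg Cfsg.Agent.LieClassical.HermBasic Cfsg.Agent.LieClassical.HermSiegel
  Cfsg.Agent.LieClassical.HermGen Cfsg.Agent.LieClassical.SUBasic Matrix
  Cfsg.Agent.ClassicalGeometry.PSUAutBasic Cfsg.Agent.ClassicalGeometry.PSUAutSylow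
  Cfsg.Agent.ClassicalGeometry.PSUAutUnip Cfsg.Agent.KFacts.Unit Cfsg.Agent.Nodes.Reps

variable {F : Type*} [Field F] [Fintype F] [CharP F 2] {q n : ℕ} {e f e' f' : Fin 2 → (Fin n → F)}

/-- An element of `A` moving `e 0` to a given vector of the line. -/
theorem exists_slG (hF : Fintype.card F = q ^ 2) (E : Frm q e f) {a c : F} (h : ¬ (a = 0 ∧ c = 0)) :
    ∃ g ∈ (slG q e f : Subgroup (SU n F q)), act g (e 0) = a • e 0 + c • e 1 := by
  by_cases ha : a = 0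
  · have hc : c ≠ 0 := fun hc => h ⟨ha, hc⟩
    obtain ⟨g, hg, N, h1⟩ := exists_acts_det hF E (M := !![a, c⁻¹; c, 0]) (by
      rw [det_fin_two]
      simp only [of_apply, cons_val', cons_val_zero, cons_val_one, cons_val_fin_one, mul_zero, zero_sub]
      rw [inv_mul_cancel₀ hc]
      linear_combination -(two0 : (2 : F) = 0))
    exact ⟨g, hg, by rw [h1.e0]; rfl⟩
  · obtain ⟨g, hg, N, h1⟩ := exists_acts_det hF E (M := !![a, 0; c, a⁻¹]) (by
      rw [det_fin_two]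
      simp only [of_apply, cons_val', cons_val_zero, cons_val_one, cons_val_fin_one, zero_mul, sub_zero]
      exact mul_inv_cancel₀ ha)
    exact ⟨g, hg, by rw [h1.e0]; rfl⟩

theorem iso_act (hF : Fintype.card F = q ^ 2) (E : Frm q e f) {g : SU n F q} (hg : g ∈ slG q e f) :
    ∃ a c : F, act g (e 0) = a • e 0 + c • e 1 := by
  obtain ⟨M, N, -, -, h⟩ := hg
  exact ⟨_, _, h.e0⟩

theorem herm_gg (hF : Fintype.card F = q ^ 2) (E : Frm q e f) (g : SU n F q) :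
    hermForm n F q (act g (e 0)) (act g (e 0)) = 0 := by rw [herm_act]; exact E.ee 0 0

/-- `V` fixes the line. -/
theorem VE_le_PE (hF : Fintype.card F = q ^ 2) (E : Frm q e f) (i : Fin 2) : VE hF E ≤ PE q (e i) := by
  intro x hx
  obtain ⟨α, β, δ, hα, hδ, rfl⟩ := mem_VE'.1 hx
  exact ⟨_, ⟨1, by rw [one_pow, one_mul], by rw [hE_e, one_smul]⟩, rfl⟩

theorem RR0_le_VE (hF : Fintype.card F = q ^ 2) (E : Frm q e f) : RR hF (e 0) (E.ee 0 0) ≤ VE hF E := by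
  intro x hx
  obtain ⟨μ, h, rfl⟩ := (mem_RR0 hF E).1 hx
  exact mem_VE'.2 ⟨_, _, _, _, _, rfl⟩

theorem RR1_le_VE (hF : Fintype.card F = q ^ 2) (E : Frm q e f) : RR hF (e 1) (E.ee 1 1) ≤ VE hF E := by
  intro x hx
  obtain ⟨μ, h, rfl⟩ := (mem_RR1 hF E).1 hx
  exact mem_VE'.2 ⟨_, _, _, _, _, rfl⟩

theorem XE_le_VE (hF : Fintype.card F = q ^ 2) (E : Frm q e f) : XE hF E ≤ VE hF E := by
  intro x hx
  obtain ⟨a, rfl⟩ := mem_XE.1 hx
  exact mem_VE'.2 ⟨_, _, _, _, _, rfl⟩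

theorem VE_comm (hF : Fintype.card F = q ^ 2) (E : Frm q e f) {x y : PSU n F q} (hx : x ∈ VE hF E)
    (hy : y ∈ VE hF E) : x * y = y * x := by
  obtain ⟨α, β, δ, hα, hδ, rfl⟩ := mem_VE'.1 hx
  obtain ⟨α', β', δ', hα', hδ', rfl⟩ := mem_VE'.1 hy
  rw [← map_mul, ← map_mul, hE_mul, hE_mul]
  congr 1
  exact hE_congr hF E (add_comm _ _) (add_comm _ _) (add_comm _ _)

/-- (hV) -/
theorem VE_eq (hF : Fintype.card F = q ^ 2) (E : Frm q e f) :
    VE hF E = ⨆ k : ↥(AE q e f : Subgroup (PSU n F q)), cj (k : PSU n F q) (RR hF (e 0) (E.ee 0 0)) := by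
  apply le_antisymm
  · intro x hx
    obtain ⟨α, β, δ, hα, hδ, rfl⟩ := mem_VE'.1 hx
    -- the three pieces
    have z0 := zero_pow_q hF
    have h1 : (1 : F) ^ q = 1 := one_pow q
    have hN : (β ^ q * β) ^ q = β ^ q * β := by rw [mul_pow, pow_q_pow_q hF, mul_comm]
    have hA : (α + 1) ^ q = α + 1 := fix_add hF hα h1
    have hD : (δ + β ^ q * β) ^ q = δ + β ^ q * β := fix_add hF hδ hN
    obtain ⟨g, hg, Ng, hg1⟩ := exists_acts_det hF E (M := !![1, 0; β ^ q, 1]) (by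
      rw [det_fin_two]
      simp)
    obtain ⟨k, hk, Nk, hk1⟩ := exists_acts_det hF E (M := !![0, 1; 1, 0]) (by
      rw [det_fin_two]
      simp only [of_apply, cons_val', cons_val_zero, cons_val_one, cons_val_fin_one, mul_one, zero_mul, zero_sub]
      linear_combination -(two0 : (2 : F) = 0))
    have c1 : g * hE hF E 1 0 0 h1 z0 * g⁻¹ = hE hF E 1 β (β ^ q * β) h1 hN :=
      hE_conj hF E (a := 1) (b := 0) (c := β ^ q) (d := 1) (by rw [hg1.e0]; rfl) (by rw [hg1.e1]; rfl) h1 z0 h1 hN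
        (by rw [one_pow, z0]; ring) (by rw [pow_q_pow_q hF, z0]; ring) (by rw [pow_q_pow_q hF, z0]; ring)
    have c2 : k * hE hF E (δ + β ^ q * β) 0 0 hD z0 * k⁻¹ = hE hF E 0 0 (δ + β ^ q * β) z0 hD :=
      hE_conj hF E (a := 0) (b := 1) (c := 1) (d := 0) (by rw [hk1.e0]; rfl) (by rw [hk1.e1]; rfl) hD z0 z0 hD
        (by rw [z0]; ring) (by rw [z0]; ring) (by rw [one_pow, z0]; ring)
    have c3 : hE hF E α β δ hα hδ = hE hF E (α + 1) 0 0 hA z0 * (g * hE hF E 1 0 0 h1 z0 * g⁻¹) *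
        (k * hE hF E (δ + β ^ q * β) 0 0 hD z0 * k⁻¹) := by
      rw [c1, c2, hE_mul, hE_mul]
      refine hE_congr hF E ?_ ?_ ?_
      · linear_combination -(two0 : (2 : F) = 0)
      · ring
      · linear_combination -(β ^ q * β) * (two0 : (2 : F) = 0)
    have m0 : ∀ (μ : F) (hμ : μ ^ q = μ), pr n F q (hE hF E μ 0 0 hμ z0) ∈ RR hF (e 0) (E.ee 0 0) := fun μ hμ =>
      (mem_RR0 hF E).2 ⟨μ, hμ, rfl⟩
    have key : ∀ (g : SU n F q) (_ : g ∈ slG q e f) (y : SU n F q), pr n F q y ∈ RR hF (e 0) (E.ee 0 0) →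
        pr n F q (g * y * g⁻¹) ∈
          ⨆ k : ↥(AE q e f : Subgroup (PSU n F q)), cj (k : PSU n F q) (RR hF (e 0) (E.ee 0 0)) := by
      intro g hg y hy
      rw [map_mul, map_mul, map_inv]
      exact Subgroup.mem_iSup_of_mem (⟨pr n F q g, g, hg, rfl⟩ : ↥(AE q e f : Subgroup (PSU n F q)))
        (conj_mem_cj.2 hy)
    rw [c3, map_mul, map_mul]
    refine mul_mem (mul_mem ?_ (key g hg _ (m0 _ _))) (key k hk _ (m0 _ _))
    have := key 1 (one_mem _) _ (m0 _ hA)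
    rwa [one_mul, inv_one, mul_one] at this
  · refine iSup_le ?_
    rintro ⟨_, g, ⟨M, N, -, -, hg⟩, rfl⟩
    rintro _ ⟨y, hy, rfl⟩
    obtain ⟨x, hx, rfl⟩ := RR0_le_VE hF E hy
    refine ⟨g * x * g⁻¹, aG_conj hF E hg.he hx, ?_⟩
    rw [map_mul, map_mul, map_inv]
    rfl

/-- The two points are independent. -/
theorem ind_of_ne (hF : Fintype.card F = q ^ 2) (E : Frm q e f) {g : SU n F q}
    (h : cj (pr n F q g) (RR hF (e 0) (E.ee 0 0)) ≠ RR hF (e 0) (E.ee 0 0)) :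
    ∀ a b : F, a • e 0 + b • act g (e 0) = 0 → a = 0 ∧ b = 0 := by
  intro a b hab
  by_cases hb : b = 0
  · subst hb
    rw [zero_smul, add_zero, smul_eq_zero] at hab
    rcases hab with h1 | h1
    · exact ⟨h1, rfl⟩
    · exact absurd h1 (ne_zero_e E 0)
  · exfalso
    apply h
    have h1 : act g (e 0) = (b⁻¹ * -a) • e 0 := by
      have h2 : b • act g (e 0) = (-a) • e 0 := by
        rw [neg_smul, eq_neg_iff_add_eq_zero, add_comm]; exact hab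
      rw [mul_smul, ← h2, smul_smul, inv_mul_cancel₀ hb, one_smul]
    exact UnSep.cj_RR_smul hF (E.ee 0 0) (ne_zero_of_act (ne_zero_e E 0) h1) h1

/-- How the root group `X_d` (off-diagonal on the exchanged frame) acts on the line. -/
theorem act_xd (hF : Fintype.card F = q ^ 2) (E : Frm q e f) (E' : Frm q e' f') (s : Swp e f e' f') (a : F) :
    act (hE hF E' 0 a 0 (zero_pow_q hF) (zero_pow_q hF)) (e 0) = (1 : F) • e 0 + (0 : F) • e 1 ∧
    act (hE hF E' 0 a 0 (zero_pow_q hF) (zero_pow_q hF)) (e 1) = a • e 0 + (1 : F) • e 1 := by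
  constructor
  · have h := hE_e hF E' (zero_pow_q hF) (zero_pow_q hF) (β := a) (α := 0) (δ := 0) 0
    rw [s.e0] at h
    rw [h, one_smul, zero_smul, add_zero]
  · have h := hE_f1 hF E' (zero_pow_q hF) (zero_pow_q hF) (β := a) (α := 0) (δ := 0)
    rw [s.f1, s.e0, s.e1] at h
    rw [h, one_smul, zero_smul, add_zero, add_comm]

theorem mem_of_smul (hF : Fintype.card F = q ^ 2) {u : Fin n → F} {c : F} (hc : c * c ^ q = 1) {g : SU n F q}
    (h : act g u = c • u) : pr n F q g ∈ (PE q u : Subgroup (PSU n F q)) := ⟨g, ⟨c, hc, h⟩, rfl⟩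

/-- **One half of the facts on `K`.** -/
theorem halfK (hF : Fintype.card F = q ^ 2) (hn : 4 ≤ n) (hq : 4 ≤ q) (E : Frm q e f) (E' : Frm q e' f')
    (s : Swp e f e' f') {b c : F} (hb0 : b ≠ 0) (hbq : b ^ q = b) (hb1 : b ≠ 1) (hc : c * c ^ q = 1) (hc1 : c ≠ 1)
    {z τ : SU n F q} (hz : Acts q e f z !![b, 0; 0, b] !![b⁻¹, 0; 0, b⁻¹])
    (hτ : Acts q e f τ !![c, 0; 0, c⁻¹] !![c, 0; 0, c⁻¹]) :
    HalfK CnAut (TE q e f) (PE q (e 0)) (RR hF (e 0) (E.ee 0 0)) (AE q e f) (VE hF E) (SE q e) (ZE q e f)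
      (XE hF E) (XE hF E') (RR hF (e 1) (E.ee 1 1)) (pr n F q z) (pr n F q τ) := by
  have z0 := zero_pow_q hF
  have hn3 : 3 ≤ n := by omega
  have hc0 : c ≠ 0 := by
    rintro rfl
    rw [zero_mul] at hc
    exact zero_ne_one hc
  have hcq : c ^ q = c⁻¹ := eq_inv_of_mul_eq_one_right hc
  have hci : c⁻¹ ^ q = c := by rw [inv_pow, hcq, inv_inv]
  have τ0 : act τ (e 0) = c • e 0 + (0 : F) • e 1 := by rw [hτ.e0]; rfl
  have τ1 : act τ (e 1) = (0 : F) • e 0 + c⁻¹ • e 1 := by rw [hτ.e1]; rfl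
  refine ⟨VE_eq hF E, ?_, ?_, ?_, ?_, ?_, ?_, ?_, ?_, ?_, ?_, ?_, ?_, ?_, ?_, ?_, ?_, ?_, ?_, ?_⟩
  · -- AP
    intro k hk
    have h1 : cj k (RR hF (e 0) (E.ee 0 0)) ≤ VE hF E := by
      rw [VE_eq hF E]
      exact le_iSup (fun k : ↥(AE q e f : Subgroup (PSU n F q)) => cj (k : PSU n F q) (RR hF (e 0) (E.ee 0 0))) ⟨k, hk⟩
    exact h1.trans (VE_le_PE hF E 0)
  · -- AZ
    rintro _ ⟨k, ⟨M, N, -, -, hk⟩, rfl⟩ _ ⟨h, ⟨m, hm, hmq, hh⟩, rfl⟩
    rw [← map_mul, ← map_mul]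
    congr 1
    exact (hh.mul hk).ext hF E ((hk.mul hh).congr (scal_comm m M).symm (scal_comm m⁻¹ N).symm)
  · -- SP
    rintro _ ⟨k, hk, rfl⟩
    rw [PE_cj]
    rintro _ ⟨x, hx, rfl⟩
    obtain ⟨M, N, -, -, h⟩ := hk
    refine ⟨x, ⟨1, by rw [one_pow, one_mul], ?_⟩, rfl⟩
    rw [h.e0, act_add, act_smul, act_smul, hx 0, hx 1, one_smul]
  · -- zZ
    exact ⟨z, ⟨b, hb0, hbq, hz⟩, rfl⟩
  · -- ZT
    rintro _ ⟨h, ⟨m, hm, hmq, hh⟩, rfl⟩
    exact ⟨h, mem_tG_of_acts hh, rfl⟩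
  · -- Ztr
    intro x hx hx1 x' hx' hx1'
    obtain ⟨μ, hμ, rfl⟩ := (mem_RR0 hF E).1 hx
    obtain ⟨ν, hν, rfl⟩ := (mem_RR0 hF E).1 hx'
    have hμ0 : μ ≠ 0 := by
      rintro rfl
      exact hx1 (by rw [hE_zero, map_one])
    have hν0 : ν ≠ 0 := by
      rintro rfl
      exact hx1' (by rw [hE_zero, map_one])
    obtain ⟨m, hm2, hmq⟩ := exists_sqrt (F := F) q (c := ν / μ) (by rw [div_pow, hμ, hν])
    have hm : m ≠ 0 := by
      rintro rfl
      rw [zero_pow two_ne_zero] at hm2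
      exact div_ne_zero hν0 hμ0 hm2.symm
    obtain ⟨g, hg⟩ := exists_acts_dg hF E hm hm (by rw [hmq])
    rw [hmq] at hg
    refine ⟨pr n F q g, ⟨g, ⟨m, hm, hmq, hg⟩, rfl⟩, ?_⟩
    rw [← map_inv, ← map_mul, ← map_mul]
    congr 1
    refine hE_conj hF E (a := m) (b := 0) (c := 0) (d := m) (by rw [hg.e0]; rfl) (by rw [hg.e1]; rfl) hμ z0 hν z0
      ?_ ?_ ?_
    · rw [hmq, z0]
      have : m ^ 2 * μ = ν := by rw [hm2, div_mul_cancel₀ _ hμ0]
      linear_combination -this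
    · rw [z0]; ring
    · rw [z0]; ring
  · -- zfix
    intro x hx hcom
    obtain ⟨α, β, δ, hα, hδ, rfl⟩ := mem_VE'.1 hx
    have hb2 : b * b ≠ 1 := UnSep.sq_ne_one hb1
    have hfx : ∀ α : F, α ^ q = α → (b * b * α) ^ q = b * b * α := fun α hα => by rw [mul_pow, mul_pow, hbq, hα]
    have h1 : z * hE hF E α β δ hα hδ * z⁻¹ = hE hF E (b * b * α) (b * b * β) (b * b * δ) (hfx α hα) (hfx δ hδ) := by
      refine hE_conj hF E (a := b) (b := 0) (c := 0) (d := b) (by rw [hz.e0]; rfl) (by rw [hz.e1]; rfl) _ _ _ _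
        ?_ ?_ ?_
      · rw [hbq, z0]; ring
      · rw [hbq, z0]; ring
      · rw [hbq, z0]; ring
    have h2 : pr n F q (hE hF E (b * b * α) (b * b * β) (b * b * δ) (hfx α hα) (hfx δ hδ)) =
        pr n F q (hE hF E α β δ hα hδ) := by
      rw [← h1, map_mul, map_mul, map_inv, hcom, mul_inv_cancel_right]
    obtain ⟨h3, h4, h5⟩ := hE_inj hF hn3 E h2
    have key : ∀ x : F, b * b * x = x → x = 0 := by
      intro x hx
      by_contra h
      exact hb2 (mul_right_cancel₀ h (hx.trans (one_mul x).symm))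
    obtain rfl := key _ h3
    obtain rfl := key _ h4
    obtain rfl := key _ h5
    rw [hE_zero, map_one]
  · -- cen
    exact UnSep.cen hF hn le_rfl E
  · -- sep
    rintro _ ⟨g, hg, rfl⟩ hne
    have hind := ind_of_ne hF E hne
    have hgg := herm_gg hF E g
    obtain ⟨a, c', h1⟩ := iso_act hF E hg
    have h2 : hermForm n F q (e 0) (act g (e 0)) = 0 := by
      rw [h1, herm_add_right hF, herm_smul_right, herm_smul_right, E.ee, E.ee, mul_zero, mul_zero, add_zero]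
    rw [RR_cj hF (E.ee 0 0) g hgg, PE_cj]
    refine ⟨fun x hx hx' => UnSep.ind_sep1 hF hn3 (E.ee 0 0) hgg h2 hind hx hx',
      UnSep.ind_sep2 hF hn (E.ee 0 0) hgg h2 hind, ?_⟩
    exact UnSep.ind_sep3 hF hn3 hq (E.ee 0 0) hgg h2 hind
  · -- nor
    intro g hg k hk
    obtain ⟨k, hk, rfl⟩ := hk
    obtain ⟨a, c', h1⟩ := iso_act hF E hk
    obtain ⟨γ, rfl, a2, c2, h2⟩ : ∃ γ : SU n F q, pr n F q γ = g ∧ ∃ a2 c2 : F, act γ (act k (e 0)) = a2 • e 0 + c2 • e 1 := by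
      rcases hg with ⟨γ, hγ, e1⟩ | hg
      · obtain ⟨m0, m1, -, -, h3, h4, -⟩ := exists_tG hγ
        exact ⟨γ, e1, a * m0, c' * m1, by rw [h1, act_add, act_smul, act_smul, h3, h4, smul_smul, smul_smul]⟩
      · obtain ⟨a', e1⟩ := mem_XE.1 hg
        obtain ⟨h3, h4⟩ := act_xd hF E E' s a'
        refine ⟨_, e1, a + c' * a', c', ?_⟩
        rw [h1, act_add, act_smul, act_smul, h3, h4]
        module
    have hne : ¬ (a2 = 0 ∧ c2 = 0) := by
      rintro ⟨rfl, rfl⟩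
      rw [zero_smul, zero_smul, add_zero, act_eq_zero, act_eq_zero] at h2
      exact ne_zero_e E 0 h2
    obtain ⟨k', hk', h3⟩ := exists_slG hF E hne
    refine ⟨pr n F q k', ⟨k', hk', rfl⟩, ?_⟩
    have hg1 : hermForm n F q (act (γ * k) (e 0)) (act (γ * k) (e 0)) = 0 := herm_gg hF E _
    have hg2 := herm_gg hF E k'
    rw [← map_mul, RR_cj hF (E.ee 0 0) (γ * k) hg1, RR_cj hF (E.ee 0 0) k' hg2]
    exact RR_congr hF hg1 hg2 (by rw [act_mul, h2, h3])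
  · -- τdec
    intro ρ hρ
    obtain ⟨α, β, δ, hα, hδ, rfl⟩ := mem_VE'.1 hρ
    refine ⟨pr n F q (hE hF E α 0 δ hα hδ), mem_VE'.2 ⟨_, _, _, _, _, rfl⟩, ?_,
      pr n F q (hE hF E 0 β 0 z0 z0), mem_XE.2 ⟨β, rfl⟩, ?_⟩
    · rw [← map_mul, ← map_mul]
      congr 1
      rw [← mul_inv_eq_iff_eq_mul]
      refine hE_conj hF E τ0 τ1 _ _ _ _ ?_ ?_ ?_
      · rw [z0, hcq]; field_simp; ring
      · rw [z0]; ring
      · rw [z0, hci]; field_simp; ring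
    · rw [← map_mul, hE_mul]
      congr 1
      exact hE_congr hF E (add_zero _).symm (zero_add _).symm (add_zero _).symm
  · exact XE_le_VE hF E
  · -- TXm
    rintro _ ⟨g, hg, rfl⟩ x hx
    obtain ⟨a, rfl⟩ := mem_XE.1 hx
    obtain ⟨m0, m1, -, -, h0, h1, -⟩ := exists_tG hg
    refine mem_XE.2 ⟨m0 * a * m1 ^ q, ?_⟩
    rw [← map_inv, ← map_mul, ← map_mul]
    congr 1
    symm
    refine hE_conj hF E (a := m0) (b := 0) (c := 0) (d := m1) (by rw [h0, zero_smul, add_zero])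
      (by rw [h1, zero_smul, zero_add]) _ _ _ _ ?_ ?_ ?_
    · rw [z0]; ring
    · rw [z0]; ring
    · rw [z0]; ring
  · -- τfix
    intro x hx hcom
    obtain ⟨a, rfl⟩ := mem_XE.1 hx
    have h1 : τ * hE hF E 0 a 0 z0 z0 * τ⁻¹ = hE hF E 0 (c * c * a) 0 z0 z0 := by
      refine hE_conj hF E τ0 τ1 _ _ _ _ ?_ ?_ ?_
      · rw [z0]; ring
      · rw [z0, hci]; ring
      · rw [z0]; ring
    have h2 : pr n F q (hE hF E 0 (c * c * a) 0 z0 z0) = pr n F q (hE hF E 0 a 0 z0 z0) := by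
      rw [← h1, map_mul, map_mul, map_inv, hcom, mul_inv_cancel_right]
    obtain ⟨-, h4, -⟩ := hE_inj hF hn3 E h2
    have h5 : a = 0 := by
      by_contra h
      exact UnSep.sq_ne_one hc1 (mul_right_cancel₀ h (h4.trans (one_mul a).symm))
    subst h5
    rw [hE_zero, map_one]
  · -- Zd
    rintro _ ⟨h, ⟨m, hm, hmq, hh⟩, rfl⟩ y hy
    obtain ⟨a, rfl⟩ := mem_XE.1 hy
    have hh' := hh.swp s
    rw [← map_mul, ← map_mul]
    congr 1
    rw [← mul_inv_eq_iff_eq_mul]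
    refine hE_conj hF E' (a := m) (b := 0) (c := 0) (d := m⁻¹) (by rw [hh'.e0]; rfl) (by rw [hh'.e1]; rfl) _ _ _ _
      ?_ ?_ ?_
    · rw [z0]; ring
    · rw [z0, inv_pow, hmq]; field_simp; ring
    · rw [z0]; ring
  · -- dXr
    intro y hy x hx
    have h1 : x ∈ VE hF E' := by
      apply RR0_le_VE hF E'
      rwa [RR_congr hF (E'.ee 0 0) (E.ee 0 0) s.e0]
    exact VE_comm hF E' (XE_le_VE hF E' hy) h1
  · -- VE
    intro ρ hρ
    obtain ⟨α, β, δ, hα, hδ, rfl⟩ := mem_VE'.1 hρ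
    refine ⟨pr n F q (hE hF E α 0 0 hα z0), (mem_RR0 hF E).2 ⟨α, hα, rfl⟩, pr n F q (hE hF E 0 β 0 z0 z0),
      mem_XE.2 ⟨β, rfl⟩, pr n F q (hE hF E 0 0 δ z0 hδ), (mem_RR1 hF E).2 ⟨δ, hδ, rfl⟩, ?_⟩
    rw [← map_mul, ← map_mul, hE_mul, hE_mul]
    congr 1
    exact hE_congr hF E (by ring) (by ring) (by ring)
  · exact RR1_le_VE hF E
  · -- cE
    intro y hy x hx hcm
    obtain ⟨a, rfl⟩ := mem_XE.1 hy
    obtain ⟨μ, hμ, rfl⟩ := (mem_RR1 hF E).1 hx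
    obtain ⟨h3, h4⟩ := act_xd hF E E' s a
    have hN : (a * μ * a ^ q) ^ q = a * μ * a ^ q := by
      rw [mul_pow, mul_pow, pow_q_pow_q hF, hμ]; ring
    have h5 : hE hF E' 0 a 0 z0 z0 * hE hF E 0 0 μ z0 hμ * (hE hF E' 0 a 0 z0 z0)⁻¹ =
        hE hF E (a * μ * a ^ q) (a * μ) μ hN hμ := by
      refine hE_conj hF E h3 h4 _ _ _ _ ?_ ?_ ?_
      · rw [z0]; ring
      · rw [z0, one_pow]; ring
      · rw [z0, one_pow]; ring
    have h6 : cm (pr n F q (hE hF E' 0 a 0 z0 z0)) (pr n F q (hE hF E 0 0 μ z0 hμ)) =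
        pr n F q (hE hF E (a * μ * a ^ q + 0) (a * μ + 0) (μ + μ) (fix_add hF hN z0) (fix_add hF hμ hμ)) := by
      calc cm (pr n F q (hE hF E' 0 a 0 z0 z0)) (pr n F q (hE hF E 0 0 μ z0 hμ)) =
          pr n F q (hE hF E' 0 a 0 z0 z0 * hE hF E 0 0 μ z0 hμ * (hE hF E' 0 a 0 z0 z0)⁻¹ *
            (hE hF E 0 0 μ z0 hμ)⁻¹) := by unfold cm; simp only [map_mul, map_inv]
        _ = _ := by rw [h5, hE_inv, hE_mul]
    rw [h6] at hcm
    obtain ⟨ν, hν, h7⟩ := (mem_RR0 hF E).1 hcm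
    obtain ⟨-, h8, -⟩ := hE_inj hF hn3 E h7
    rw [add_zero] at h8
    rcases mul_eq_zero.1 h8 with h9 | h9
    · left
      subst h9
      rw [hE_zero, map_one]
    · right
      subst h9
      rw [hE_zero, map_one]

theorem zero_pow_q' (hF : Fintype.card F = q ^ 2) : (0 : F) ^ q = 0 := zero_pow_q hF

/-- Commutators of `X_m` and `X_d`. -/
theorem cm_xd (hF : Fintype.card F = q ^ 2) (E : Frm q e f) (E' : Frm q e' f') (s : Swp e f e' f') (a b : F)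
    (h : (a * b ^ q + b * a ^ q) ^ q = a * b ^ q + b * a ^ q) :
    cm (pr n F q (hE hF E 0 b 0 (zero_pow_q hF) (zero_pow_q hF)))
      (pr n F q (hE hF E' 0 a 0 (zero_pow_q hF) (zero_pow_q hF))) =
      pr n F q (hE hF E (a * b ^ q + b * a ^ q) 0 0 h (zero_pow_q hF)) := by
  have z0 := zero_pow_q hF
  obtain ⟨h3, h4⟩ := act_xd hF E E' s a
  have h5 : hE hF E' 0 a 0 z0 z0 * hE hF E 0 b 0 z0 z0 * (hE hF E' 0 a 0 z0 z0)⁻¹ =
      hE hF E (a * b ^ q + b * a ^ q) b 0 h z0 := by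
    refine hE_conj hF E h3 h4 _ _ _ _ ?_ ?_ ?_
    · rw [one_pow]; ring
    · rw [z0, one_pow]; ring
    · rw [z0]; ring
  calc cm (pr n F q (hE hF E 0 b 0 z0 z0)) (pr n F q (hE hF E' 0 a 0 z0 z0)) =
      pr n F q (hE hF E 0 b 0 z0 z0 * (hE hF E' 0 a 0 z0 z0 * (hE hF E 0 b 0 z0 z0)⁻¹ *
        (hE hF E' 0 a 0 z0 z0)⁻¹)) := by
        unfold cm; simp only [map_mul, map_inv, mul_assoc]
    _ = pr n F q (hE hF E 0 b 0 z0 z0 * hE hF E (a * b ^ q + b * a ^ q) b 0 h z0) := by rw [hE_inv hF E, h5]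
    _ = _ := by
      rw [hE_mul]
      congr 1
      exact hE_congr hF E (zero_add _) (add_self' b) (add_zero 0)

/-- **The facts on `K` for a frame with two pairs.** -/
theorem exists_UK (hF : Fintype.card F = q ^ 2) (hn : 4 ≤ n) (hq : 4 ≤ q) {e1 e2 f1 f2 : Fin n → F}
    (E : Frm q ![e1, e2] ![f1, f2]) (h11 : hermForm n F q e1 e1 = 0) :
    ∃ (T P A1 V1 S1 Z1 A2 V2 S2 Z2 Xm Xd E1 E2 : Subgroup (PSU n F q)) (z1 z2 τ : PSU n F q),
      UK CnAut T (PP q e1) P (RR hF e1 h11) A1 V1 S1 Z1 A2 V2 S2 Z2 Xm Xd E1 E2 z1 z2 τ := by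
  have z0 := zero_pow_q hF
  have hn3 : 3 ≤ n := by omega
  have Fr0 := UnVec.Fr.of hF E
  have E' : Frm q ![e1, f2] ![f1, e2] := Fr0.swap.frm
  have s : Swp ![e1, e2] ![f1, f2] ![e1, f2] ![f1, e2] := ⟨rfl, rfl, rfl, rfl⟩
  obtain ⟨b, hbq, hb0, hb1⟩ := UnSep.exists_fix hF (by omega)
  obtain ⟨c, hc, hc1, hc0⟩ := UnSep.exists_norm_one hF
  have hcq : c ^ q = c⁻¹ := eq_inv_of_mul_eq_one_right hc
  have hci : c⁻¹ ^ q = c := by rw [inv_pow, hcq, inv_inv]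
  obtain ⟨z, hz⟩ := exists_acts_dg hF E hb0 hb0 (by rw [hbq])
  obtain ⟨z', hz'⟩ := exists_acts_dg hF E' hb0 hb0 (by rw [hbq])
  rw [hbq] at hz hz'
  obtain ⟨τ, hτ⟩ := exists_acts_dg hF E hc0 (inv_ne_zero hc0) (by rw [hcq, hci, mul_inv_cancel₀ hc0, inv_mul_cancel₀ hc0])
  rw [hcq, hci, inv_inv] at hτ
  have hτ' := hτ.swp s
  have H1 := halfK hF hn hq E E' s hb0 hbq hb1 hc hc1 hz hτ
  have H2 := halfK hF hn hq E' E s.symm hb0 hbq hb1 hc hc1 hz' hτ'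
  rw [s.TE_eq] at H2
  have key : ∀ a : F, (pr n F q (hE hF E' 0 a 0 z0 z0) : PSU n F q) ≠ 1 → a ≠ 0 := by
    rintro a h rfl
    exact h (by rw [hE_zero, map_one])
  refine ⟨TE q ![e1, e2] ![f1, f2], PE q e1, AE q ![e1, e2] ![f1, f2], VE hF E, SE q ![e1, e2],
    ZE q ![e1, e2] ![f1, f2], AE q ![e1, f2] ![f1, e2], VE hF E', SE q ![e1, f2], ZE q ![e1, f2] ![f1, e2],
    XE hF E, XE hF E', RR hF e2 (E.ee 1 1), RR hF f2 (E'.ee 1 1), pr n F q z, pr n F q z', pr n F q τ,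
    H1, H2, ?_, ?_, ?_, ?_, ?_, ?_, ?_, ?_, ?_, ?_⟩
  · -- X0P
    exact (RR0_le_VE hF E).trans (VE_le_PE hF E 0)
  · -- TX
    rintro _ ⟨g, hg, rfl⟩
    obtain ⟨m0, m1, -, -, h0, h1, -⟩ := exists_tG hg
    exact UnSep.cj_RR_smul hF h11 (ne_zero_of_act (ne_zero_e E 0) h0) h0
  · -- Tab
    rintro _ ⟨g, hg, rfl⟩ _ ⟨h, hh, rfl⟩
    rw [← map_mul, ← map_mul, tG_comm hF E hg hh]
  · -- Todd
    rintro _ ⟨g, hg, rfl⟩
    exact ⟨_, odd_card_sub (F := F), by rw [← map_pow, tG_odd hF E hg, map_one]⟩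
  · exact ⟨τ, mem_tG_of_acts hτ, rfl⟩
  · -- cmX
    intro x hx y hy
    obtain ⟨b', rfl⟩ := mem_XE.1 hx
    obtain ⟨a, rfl⟩ := mem_XE.1 hy
    have h : (a * b' ^ q + b' * a ^ q) ^ q = a * b' ^ q + b' * a ^ q := by
      rw [add_pow_q hF, mul_pow, mul_pow, pow_q_pow_q hF, pow_q_pow_q hF]; ring
    rw [cm_xd hF E E' s a b' h]
    exact (mem_RR0 hF E).2 ⟨_, h, rfl⟩
  · -- nd
    intro y hy hy1
    obtain ⟨a, rfl⟩ := mem_XE.1 hy
    have ha : a ≠ 0 := key a hy1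
    obtain ⟨t, ht⟩ := exists_trace_eq hF (c := (1 : F)) (one_pow q)
    -- `b a^q = t`
    have haq : a ^ q ≠ 0 := pow_ne_zero _ ha
    have h1 : a * (t / a ^ q) ^ q + t / a ^ q * a ^ q = 1 := by
      rw [div_pow, pow_q_pow_q hF, div_mul_cancel₀ _ haq, mul_div_cancel₀ _ ha, add_comm, ht]
    have h : (a * (t / a ^ q) ^ q + t / a ^ q * a ^ q) ^ q = a * (t / a ^ q) ^ q + t / a ^ q * a ^ q := by
      rw [h1, one_pow]
    refine ⟨_, mem_XE.2 ⟨t / a ^ q, rfl⟩, ?_⟩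
    rw [cm_xd hF E E' s a _ h]
    intro h2
    have h3 := (hE_ne_one hF hn3 E h2).1
    rw [h1] at h3
    exact one_ne_zero h3
  · -- hd
    refine ⟨_, mem_XE.2 ⟨1, rfl⟩, fun h2 => ?_⟩
    exact one_ne_zero (hE_ne_one hF hn3 E' h2).2.1
  · -- P0P
    rintro _ ⟨g, hg, rfl⟩
    exact ⟨g, ⟨1, by rw [one_pow, one_mul], by rw [one_smul]; exact hg⟩, rfl⟩
  · -- up
    exact UnSep.PE_up hF hn (ne_zero_e E 0) h11

end Cfsg.Agent.OddHalf.DblR.UnF

end
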