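import Cfsg.Agent.OddHalf.DblR.InpEnd
import Cfsg.Agent.OddHalf.D4.Start
import Cfsg.Agent.OddHalf.D4.Free.Main
import Cfsg.Agent.KFacts.Unit.Extend
import Cfsg.Agent.KFacts.Unit.PentExt
import Cfsg.Agent.Nodes.RGDLib
import Cfsg.Agent.OddHalf.DblR.Res
import Cfsg.Agent.OddHalf.DblR.BaseS
import Cfsg.Agent.OddHalf.DblR.UnFrame
import Cfsg.Agent.OddHalf.D7.Uni.HeisSemi
import Cfsg.Agent.OddHalf.D7.Uni.HeisPoint
import Cfsg.Agent.Schreier.PSU
import Cfsg.Agent.OddHalf.DblR.RowCore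
import Mathlib
import Cfsg.Agent.KFacts.Unit.GLAct
import Cfsg.Agent.OddHalf.D4.Input
import Cfsg.Agent.S0283
import Cfsg.Agent.OddHalf.DblR.CoreOf
import Cfsg.Agent.OddHalf.D4.EvenPair

-- merged: Cfsg.Agent.OddHalf.DblR.RowEnd
section

/-!
# ODD, D4: the type-free assembly of a row, `q ≥ 4` (helper350)

`S ↦ Inp K S X H ∧ EndHyp K X` for every Sylow 2-subgroup `S` of `K` (case (a)) and `CaseB K` (no full pair unless
`N(L)` contains a Sylow 2-subgroup of `K`) give the row.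

* `exists_fullPair_of_inp` : a full pair exists;
* **`false_of_inp`** : the contradiction;
* **`row_of_inp`** : rows of `Cut.lean`.
-/

set_option autoImplicit false

namespace Cfsg.Agent.OddHalf.D4.RowEnd

open Cfsg Subgroup Cfsg.Agent.OddHalf.D4 Cfsg.Agent.OddHalf.D4.Basic Cfsg.Agent.OddHalf.D4.Input

universe u

/-- Case (b): if no `N(L)`, for a full pair `K`, `L`, contains a Sylow 2-subgroup of `K`, there is no full pair. -/
def CaseB {G : Type u} [Group G] (K : Subgroup G) : Prop :=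
  (∀ L Q U S : Subgroup G, FullPair K L Q U → IsSyl S K → ¬ S ≤ normalizer (L : Set G)) →
    ∀ L Q U : Subgroup G, ¬ FullPair K L Q U

/-- the facts for every Sylow 2-subgroup of `K` -/
def CaseA {G : Type u} [Group G] (K : Subgroup G) : Prop :=
  ∀ S : Subgroup G, IsSyl S K → ∃ X H : Subgroup G, Inp K S X H ∧ EndHyp K X

theorem exists_fullPair_of_inp {G : Type u} [Group G] [Finite G] [IsSimpleGroup G] (h1173 : EvenPair.H1173 G)
    {K : Subgroup G} (hA : CaseA K) (hKne : K ≠ ⊥) (hKp : ⁅K, K⁆ = K) :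
    ∃ L Q U : Subgroup G, FullPair K L Q U := by
  obtain ⟨S, hS, -⟩ := exists_isSyl (G := G) (M := K) (Q := ⊥) IsPGroup.of_bot bot_le
  obtain ⟨X, H, h, -⟩ := hA S hS
  have hcomm : ∀ k ∈ K, ∀ c ∈ centralizer (K : Set G), k * c = c * k :=
    fun k hk c hc => mem_centralizer_iff.mp hc k hk
  obtain ⟨g, hg, r, hr, hr2, hrg⟩ := EvenPair.exists_even h1173 h.tight h.even hKne hKp hcomm
  obtain ⟨E, hE⟩ := h.tight.exists_maxE hg hr hr2 hrg
  obtain ⟨L, Q, U, hF, -, -⟩ := Exists.fullPair_of_maxE h.tight h.ctr (by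
    intro T hT y hy hc
    have hTK : IsSyl (T ⊓ K) K := hT.inf le_normalizer hT.le
    obtain ⟨X', H', h', -⟩ := hA (T ⊓ K) hTK
    obtain ⟨m, hm⟩ := hT.two ⟨y, hy⟩
    obtain ⟨c, hc', x, hx, e⟩ := h'.cen y (hT.le hy) ⟨m, congrArg Subtype.val hm⟩ fun s hs => hc s hs.1 hs.2
    have hxS := h'.XS hx
    exact ⟨c, hc', x, hxS.1, hxS.2, fun u hu hu' => h'.HX u (h'.SH ⟨hu, hu'⟩) x hx, e⟩) hE
  exact ⟨L, Q, U, hF⟩

/-- **The contradiction.** -/
theorem false_of_inp {G : Type u} [Group G] [Finite G] [IsSimpleGroup G] {K : Subgroup G}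
    (hstd : IsStandardSubgroup K) (hs : IsSimpleGroup ↥K) (hrk : ¬ PRankLE 2 1 ↥(centralizer (K : Set G)))
    (h1173 : oddCore G = ⊥ → EvenPair.H1173 G) (hA : CaseA K) (hB : CaseB K) : False := by
  have hperf : ⁅K, K⁆ = K := by
    have h1 : ⁅(⊤ : Subgroup ↥K), (⊤ : Subgroup ↥K)⁆ = ⊤ := hstd.1.1.commutator_eq_top
    have h2 := congrArg (Subgroup.map K.subtype) h1
    rw [Subgroup.map_commutator, ← MonoidHom.range_eq_map, Subgroup.range_subtype] at h2
    exact h2
  have hne : K ≠ ⊥ := by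
    rintro rfl
    have := hs.toNontrivial
    exact not_subsingleton ↥(⊥ : Subgroup G) inferInstance
  obtain ⟨a, b, ha, hb, ha2, hb2, hab, hne2⟩ := EvenPair.exists_two_of_not_pRankLE hrk
  obtain ⟨L, Q, U, hp⟩ := exists_fullPair_of_inp (h1173 (Start.oddCore_eq_bot ha2)) hA hne hperf
  refine hB ?_ L Q U hp
  intro L Q U S hp hS hSL
  obtain ⟨X, H, h, hend⟩ := hA S hS
  exact h.no_full hend hrk hp hS hSL

/-- **A row of `Cut.lean`.** -/
theorem row_of_inp (h1173 : Start.P1173.{u}) {P : (K : Type u) → [Group K] → Prop}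
    (hA : ∀ (G : Type u) [Group G] [Finite G] (K : Subgroup G), IsStandardSubgroup K → IsSimpleGroup ↥K →
      ¬ PRankLE 2 1 ↥(centralizer (K : Set G)) → P ↥K → CaseA K)
    (hB : ∀ (G : Type u) [Group G], Iface.Ctx G → ∀ K : Subgroup G, Iface.Std G K → IsSimpleGroup ↥K →
      ¬ PRankLE 2 1 ↥(centralizer (K : Set G)) → P ↥K → CaseB K) : Cut.Row1.{u} P := by
  intro G _ hG K hK hrk hz hP
  have := hG.fin
  have := hG.simple
  have hs := Start.isSimple_of_center hK.simple hz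
  exact false_of_inp hK.std hs hrk (h1173 G) (hA G K hK.std hs hrk hP) (hB G hG K hK hs hrk hP)

end Cfsg.Agent.OddHalf.D4.RowEnd

end

-- merged: Cfsg.Agent.OddHalf.DblR.RowEndB
section

/-!
# ODD, D4: the type-free assembly of a row, `q ≥ 4`, with the free pair theorem (helper350)

* `caseB_of_bFacts` : `CaseB K` from helper994's `BFacts`;
* **`row_of_bFacts`** : rows of `Cut.lean` from `CaseA` and `BFacts`.
-/

set_option autoImplicit false

namespace Cfsg.Agent.OddHalf.D4.RowEnd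

open Cfsg Subgroup Cfsg.Agent.OddHalf.D4 Cfsg.Agent.OddHalf.D4.Basic Cfsg.Agent.OddHalf.D4.Input
open Cfsg.Agent.OddHalf.D4.CommConj (cj)

universe u

theorem rk2_of_not_pRankLE {G : Type*} [Group G] [Finite G] {K : Subgroup G}
    (hrk : ¬ PRankLE 2 1 ↥(centralizer (K : Set G))) : Rk2 K := by
  obtain ⟨a, b, ha, hb, ha2, hb2, hab, hne⟩ := EvenPair.exists_two_of_not_pRankLE hrk
  exact ⟨a, b, ha, hb, ha2, hb2, hab, hne⟩

theorem cen_of_simple {G : Type*} [Group G] {K : Subgroup G} (hs : IsSimpleGroup ↥K) (hp : Group.IsPerfect ↥K) :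
    ∀ x ∈ K, x ∈ centralizer (K : Set G) → x = 1 := by
  intro x hx hc
  by_contra hne
  have h1 : center ↥K = ⊤ := by
    rcases (inferInstance : (center ↥K).Normal).eq_bot_or_eq_top with h | h
    · exfalso
      apply hne
      have h2 : (⟨x, hx⟩ : ↥K) ∈ center ↥K := by
        rw [mem_center_iff]
        intro k
        exact Subtype.ext (mem_centralizer_iff.mp hc k k.2)
      rw [h, mem_bot] at h2
      exact congrArg Subtype.val h2
    · exact h
  have h3 : ⁅(⊤ : Subgroup ↥K), (⊤ : Subgroup ↥K)⁆ = ⊥ := by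
    rw [commutator_eq_bot_iff_le_centralizer, ← h1]
    exact center_le_centralizer _
  have h4 : ⁅(⊤ : Subgroup ↥K), (⊤ : Subgroup ↥K)⁆ = ⊤ := hp.commutator_eq_top
  rw [h3] at h4
  have := hs.toNontrivial
  exact bot_ne_top h4

/-- `CaseB` from `BFacts` -/
theorem caseB_of_bFacts {G : Type u} [Group G] [Finite G] {K : Subgroup G}
    (hK : IsStandardSubgroup K) (hs : IsSimpleGroup ↥K)
    (hrk : ¬ PRankLE 2 1 ↥(centralizer (K : Set G))) (hB : ∀ g : G, Free.BFacts (cj g K)) : CaseB K := by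
  intro hin L Q U hp
  refine Free.no_fullPair (EvenPair.tight_of_standard hK) (cen_of_simple hs hK.1.1) (rk2_of_not_pRankLE hrk) hB ?_ hp
  intro L Q U hp S hS hSL
  exact hin L Q U S hp hS hSL

/-- **A row of `Cut.lean` from `CaseA` and `BFacts`.** -/
theorem row_of_bFacts (h1173 : Start.P1173.{u}) {P : (K : Type u) → [Group K] → Prop}
    (hiso : ∀ {X Y : Type u} [Group X] [Group Y], (X ≃* Y) → P X → P Y)
    (hA : ∀ (G : Type u) [Group G] [Finite G] (K : Subgroup G), IsStandardSubgroup K → IsSimpleGroup ↥K →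
      ¬ PRankLE 2 1 ↥(centralizer (K : Set G)) → P ↥K → CaseA K)
    (hB : ∀ (G : Type u) [Group G] [Finite G] (K : Subgroup G), IsSimpleGroup ↥K → P ↥K → Free.BFacts K) :
    Cut.Row1.{u} P := by
  refine row_of_inp h1173 hA ?_
  intro G _ hG K hK hs hrk hP
  have := hG.fin
  refine caseB_of_bFacts hK.std hs hrk fun g => ?_
  let e : ↥K ≃* ↥(cj g K) := K.equivMapOfInjective (MulAut.conj g).toMonoidHom (MulAut.conj g).injective
  exact hB G (cj g K) (e.isSimpleGroup_congr.1 hs) (hiso e hP)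

end Cfsg.Agent.OddHalf.D4.RowEnd

end

-- merged: Cfsg.Agent.OddHalf.DblR.UnPerf
section

/-!
# The stabiliser of an isotropic vector in `SU n F q`, `q ≥ 4` even, `n ≥ 4`, is perfect (helper350)

* `plane_mem` : an element of `SU` trivial on the orthogonal space of a hyperbolic pair is a product of transvections;
* `transv_mem`, `siegel_mem` : transvections and Siegel elements as commutators with torus elements;
* **`stab_perfect`** : `stabV q u` is perfect.
-/

set_option autoImplicit false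

namespace Cfsg.Agent.OddHalf.DblR.Un

open scoped commutatorElement

open Cfsg Cfsg.Agent.LieClassical.HermBasic Cfsg.Agent.LieClassical.HermSiegel
  Cfsg.Agent.LieClassical.HermGen Cfsg.Agent.LieClassical.SUBasic Matrix
  Cfsg.Agent.ClassicalGeometry.PSUAutBasic Cfsg.Agent.ClassicalGeometry.PSUAutSylow
  Cfsg.Agent.ClassicalGeometry.PSUAutUnip Cfsg.Agent.ClassicalGeometry.PSUAutPhi
  Cfsg.Agent.ClassicalGeometry.PSUAutTorus Cfsg.Agent.KFacts.Unit

variable {F : Type*} [Field F] [Fintype F] {q n : ℕ}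

/-- Isotropic vectors span a space containing a hyperbolic pair. -/
theorem iso_ind (hF : Fintype.card F = q ^ 2) {W : Submodule F (Fin n → F)} {x y : Fin n → F} (hx : x ∈ W)
    (hy : y ∈ W) (hxx : hermForm n F q x x = 0) (hyy : hermForm n F q y y = 0) (hxy : hermForm n F q x y = 1)
    {P : (Fin n → F) → Prop} (hadd : ∀ a b, a ∈ W → b ∈ W → P a → P b → P (a + b))
    (hiso : ∀ s ∈ W, hermForm n F q s s = 0 → P s) : ∀ w ∈ W, P w := by
  have key : ∀ z ∈ W, hermForm n F q z z = 0 → ∀ w ∈ W, hermForm n F q z w ≠ 0 → P w := by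
    intro z hz hzz w hw hne
    obtain ⟨t, ht⟩ := exists_iso_correct hF hzz hne
    have e1 : w = (w + t • z) + (-(t • z)) := by abel
    rw [e1]
    refine hadd _ _ (W.add_mem hw (W.smul_mem _ hz)) (W.neg_mem (W.smul_mem _ hz))
      (hiso _ (W.add_mem hw (W.smul_mem _ hz)) ht) (hiso _ (W.neg_mem (W.smul_mem _ hz)) ?_)
    rw [herm_neg_left, herm_neg_right hF, herm_smul_left, herm_smul_right, hzz]; ring
  intro w hw
  by_cases hwx : hermForm n F q x w = 0
  · by_cases hwy : hermForm n F q y w = 0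
    · have e1 : w = (w + x) + (-x) := by abel
      rw [e1]
      refine hadd _ _ (W.add_mem hw hx) (W.neg_mem hx) (key y hy hyy _ (W.add_mem hw hx) ?_)
        (hiso _ (W.neg_mem hx) ?_)
      · rw [herm_add_right hF, hwy, zero_add, herm_swap hF x y, hxy, one_pow]
        exact one_ne_zero
      · rw [herm_neg_left, herm_neg_right hF, hxx]; ring
    · exact key y hy hyy w hw hwy
  · exact key x hx hxx w hw hwx

theorem dec_prN (p p' v : Fin n → F) :
    v = prN q p p' v + hermForm n F q v p' • p + hermForm n F q v p • p' := by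
  rw [prN_def]; abel

/-- An element preserving a hyperbolic plane: the decomposition of the image. -/
theorem plane_eq (hF : Fintype.card F = q ^ 2) {p p' : Fin n → F} (H : Hyp q p p') {g : SU n F q}
    (hg : ∀ v, hermForm n F q v p = 0 → hermForm n F q v p' = 0 → act g v = v) {u : Fin n → F}
    (hu : ∀ v, hermForm n F q v p = 0 → hermForm n F q v p' = 0 → hermForm n F q v u = 0) :
    act g u = hermForm n F q (act g u) p' • p + hermForm n F q (act g u) p • p' := by
  rw [← sub_eq_zero]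
  have h0 : act g u - (hermForm n F q (act g u) p' • p + hermForm n F q (act g u) p • p') =
      prN q p p' (act g u) := by rw [prN_def]; abel
  rw [h0]
  apply herm_nondeg hF
  intro v
  have hv : v = prN q p p' v + hermForm n F q v p' • p + hermForm n F q v p • p' := dec_prN (q := q) p p' v
  have h1 : hermForm n F q (prN q p p' (act g u)) p = 0 := prN_e hF H _
  have h2 : hermForm n F q (prN q p p' (act g u)) p' = 0 := prN_f H _
  have h3 : hermForm n F q (prN q p p' (act g u)) (prN q p p' v) = 0 := by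
    have h4 : act g (prN q p p' v) = prN q p p' v := hg _ (prN_e hF H v) (prN_f H v)
    have h5 : hermForm n F q (act g u) (prN q p p' v) = 0 := by
      have h6 := herm_act g u (prN q p p' v)
      rw [h4] at h6
      rw [h6]
      exact herm_eq_zero_swap hF (hu _ (prN_e hF H v) (prN_f H v))
    rw [← h0, herm_sub_left, herm_add_left, herm_smul_left, herm_smul_left, h5,
      herm_eq_zero_swap hF (prN_e hF H v), herm_eq_zero_swap hF (prN_f H v)]
    ring
  conv_lhs => rw [hv]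
  rw [herm_add_right hF, herm_add_right hF, herm_smul_right, herm_smul_right, h1, h2, h3]
  ring

section Two

variable [CharP F 2]

omit [Fintype F] in
theorem tr_of_fixed {c : F} (hc : c ^ q = c) : c + c ^ q = 0 := by rw [hc]; exact CharTwo.add_self_eq_zero c

theorem fixed_inv {c : F} (hc : c ^ q = c) : (c⁻¹) ^ q = c⁻¹ := by rw [inv_pow, hc]

/-- Elements trivial on the orthogonal space of a hyperbolic pair and swapping its two points. -/
theorem plane_swap_mem (hF : Fintype.card F = q ^ 2) {p p' : Fin n → F} (H : Hyp q p p') {A : Subgroup (SU n F q)}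
    (hA : ∀ μ (hμ : μ + μ ^ q = 0), transv hF p H.ee μ hμ ∈ A) (hA' : ∀ μ (hμ : μ + μ ^ q = 0), transv hF p' H.ff μ hμ ∈ A)
    {g : SU n F q} (hg : ∀ v, hermForm n F q v p = 0 → hermForm n F q v p' = 0 → act g v = v) {γ : F}
    (h1 : act g p = γ • p') (h2 : act g p' = (γ ^ q)⁻¹ • p) : g ∈ A := by
  have hp0 : p ≠ 0 := H.ne_zero
  have hγ : γ ≠ 0 := by
    rintro rfl
    rw [zero_smul] at h1
    exact hp0 ((act_eq_zero g).1 h1)
  have hγq : γ ^ q ≠ 0 := pow_ne_zero _ hγ
  -- the square is a scalar on the plane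
  set ζ := γ * (γ ^ q)⁻¹ with hζ
  have hζq : (ζ ^ q)⁻¹ = ζ := by
    rw [hζ, mul_pow, inv_pow, pow_q_pow_q hF]
    field_simp
  have hz : mat (g * g) = hypMat q p p' ζ := by
    apply Matrix.ext_of_mulVec_single
    intro i
    generalize (Pi.single i 1 : Fin n → F) = v
    rw [hypMat_mulVec H.ff, hζq, ← act_def]
    have hv : v = prN q p p' v + hermForm n F q v p' • p + hermForm n F q v p • p' := dec_prN (q := q) p p' v
    have h4 : act g (prN q p p' v) = prN q p p' v := hg _ (prN_e hF H v) (prN_f H v)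
    have h5 : act (g * g) v = prN q p p' v + (ζ * hermForm n F q v p') • p + (ζ * hermForm n F q v p) • p' := by
      conv_lhs => rw [hv]
      simp only [act_mul, act_add, act_smul, h4, h1, h2, smul_smul]
      rw [hζ]
      have a1 : hermForm n F q v p' * (γ * (γ ^ q)⁻¹) = γ * (γ ^ q)⁻¹ * hermForm n F q v p' := by ring
      have a2 : hermForm n F q v p * ((γ ^ q)⁻¹ * γ) = γ * (γ ^ q)⁻¹ * hermForm n F q v p := by ring
      rw [a1, a2]
    rw [h5, prN_def]
    funext i
    simp only [Pi.add_apply, Pi.sub_apply, Pi.smul_apply, smul_eq_mul]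
    ring
  have hζ1 : ζ = 1 := by
    have hd := det_mat (g * g)
    rw [hz, det_hypMat H.ef (H.fe hF), hζq] at hd
    have h3 : (ζ + 1) ^ 2 = 0 := by
      have h4 : (2 : F) = 0 := CharTwo.two_eq_zero
      linear_combination hd + (ζ + 1) * h4
    have h5 := pow_eq_zero_iff (two_ne_zero) |>.1 h3
    exact CharTwo.add_eq_zero.1 h5
  have hγγ : γ ^ q = γ := by
    have : γ = γ ^ q := by
      rw [hζ] at hζ1
      exact (mul_inv_eq_one₀ hγq).1 hζ1
    exact this.symm
  have t1 := tr_of_fixed (q := q) hγγ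
  have t2 := tr_of_fixed (q := q) (fixed_inv hγγ)
  have hkey : g = transv hF p H.ee γ⁻¹ t2 * transv hF p' H.ff γ t1 * transv hF p H.ee γ⁻¹ t2 := by
    apply ext_act
    intro v
    have hv : v = prN q p p' v + hermForm n F q v p' • p + hermForm n F q v p • p' := dec_prN (q := q) p p' v
    have h4 : act g (prN q p p' v) = prN q p p' v := hg _ (prN_e hF H v) (prN_f H v)
    have h5 : act g v = prN q p p' v + (hermForm n F q v p' * γ) • p' + (hermForm n F q v p * γ⁻¹) • p := by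
      conv_lhs => rw [hv]
      rw [act_add, act_add, act_smul, act_smul, h4, h1, h2, smul_smul, smul_smul, hγγ]
    rw [h5, act_mul, act_mul, act_transv, act_transv, act_transv, prN_def]
    simp only [herm_add_left, herm_smul_left, H.ee, H.ef, H.ff, H.fe hF]
    have h6 : (2 : F) = 0 := CharTwo.two_eq_zero
    funext i
    simp only [Pi.add_apply, Pi.sub_apply, Pi.smul_apply, smul_eq_mul]
    field_simp
    linear_combination (-(hermForm n F q v p * γ * p i) - hermForm n F q v p' * γ ^ 2 * p i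
      - hermForm n F q v p * γ ^ 2 * p' i) * h6
  rw [hkey]
  exact mul_mem (mul_mem (hA _ _) (hA' _ _)) (hA _ _)

/-- **An element trivial on the orthogonal space of a hyperbolic pair is a product of transvections.** -/
theorem plane_mem (hF : Fintype.card F = q ^ 2) {p p' : Fin n → F} (H : Hyp q p p') {A : Subgroup (SU n F q)}
    (hA : ∀ μ (hμ : μ + μ ^ q = 0), transv hF p H.ee μ hμ ∈ A) (hA' : ∀ μ (hμ : μ + μ ^ q = 0), transv hF p' H.ff μ hμ ∈ A)
    {g : SU n F q} (hg : ∀ v, hermForm n F q v p = 0 → hermForm n F q v p' = 0 → act g v = v) : g ∈ A := by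
  have h2F : (2 : F) = 0 := CharTwo.two_eq_zero
  -- the case `γ ≠ 0`
  have key : ∀ g : SU n F q, (∀ v, hermForm n F q v p = 0 → hermForm n F q v p' = 0 → act g v = v) →
      hermForm n F q (act g p) p ≠ 0 → g ∈ A := by
    intro g hg hγ
    have hgp := plane_eq hF H hg (u := p) (fun v hv _ => hv)
    set α := hermForm n F q (act g p) p' with hα
    set γ := hermForm n F q (act g p) p with hγd
    have hγq : γ ^ q ≠ 0 := pow_ne_zero _ hγ
    have e1 : hermForm n F q (act g p) (act g p) = 0 := by rw [herm_act, H.ee]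
    rw [hgp] at e1
    simp only [herm_add_left, herm_add_right hF, herm_smul_left, herm_smul_right, H.ee, H.ef, H.ff, H.fe hF] at e1
    have hs : α / γ + (α / γ) ^ q = 0 := by
      rw [div_pow]
      field_simp
      linear_combination e1
    set g1 := transv hF p H.ee (α / γ) hs * g with hg1
    have h1p : act g1 p = γ • p' := by
      rw [hg1, act_mul, hgp, act_transv]
      simp only [herm_add_left, herm_smul_left, H.ee, H.fe hF]
      funext i
      simp only [Pi.add_apply, Pi.smul_apply, smul_eq_mul]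
      field_simp
      linear_combination (γ * α * p i) * h2F
    have h1 : ∀ v, hermForm n F q v p = 0 → hermForm n F q v p' = 0 → act g1 v = v := by
      intro v hv hv'
      rw [hg1, act_mul, hg v hv hv', act_transv, hv, mul_zero, zero_smul, add_zero]
    have h1p' := plane_eq hF H h1 (u := p') (fun v _ hv => hv)
    set β := hermForm n F q (act g1 p') p' with hβ
    set δ := hermForm n F q (act g1 p') p with hδ
    have e2 : hermForm n F q (act g1 p') (act g1 p') = 0 := by rw [herm_act, H.ff]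
    have e3 : hermForm n F q (act g1 p') (act g1 p) = 1 := by rw [herm_act, H.fe hF]
    rw [h1p'] at e2
    rw [h1p', h1p] at e3
    simp only [herm_add_left, herm_add_right hF, herm_smul_left, herm_smul_right, H.ee, H.ef, H.ff, H.fe hF] at e2 e3
    have e4 : β * γ ^ q = 1 := by linear_combination e3
    have hβ0 : β ≠ 0 := by
      intro h
      rw [h, zero_mul] at e4
      exact zero_ne_one e4
    have hβq : β ^ q ≠ 0 := pow_ne_zero _ hβ0
    have hβγ : β = (γ ^ q)⁻¹ := eq_inv_of_mul_eq_one_left e4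
    have hr : δ / β + (δ / β) ^ q = 0 := by
      rw [div_pow]
      field_simp
      linear_combination e2
    have h2 : transv hF p' H.ff (δ / β) hr * g1 ∈ A := by
      refine plane_swap_mem hF H hA hA' (γ := γ) ?_ ?_ ?_
      · intro v hv hv'
        rw [act_mul, h1 v hv hv', act_transv, hv', mul_zero, zero_smul, add_zero]
      · rw [act_mul, h1p, act_transv, herm_smul_left, H.ff, mul_zero, mul_zero, zero_smul, add_zero]
      · rw [act_mul, h1p', act_transv, ← hβγ]
        simp only [herm_add_left, herm_smul_left, H.ff, H.ef]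
        funext i
        simp only [Pi.add_apply, Pi.smul_apply, smul_eq_mul]
        field_simp
        linear_combination (β * δ * p' i) * h2F
    have h3 : g = (transv hF p H.ee (α / γ) hs)⁻¹ * ((transv hF p' H.ff (δ / β) hr)⁻¹ *
        (transv hF p' H.ff (δ / β) hr * g1)) := by rw [hg1]; group
    rw [h3]
    exact mul_mem (inv_mem (hA _ _)) (mul_mem (inv_mem (hA' _ _)) h2)
  by_cases hγ : hermForm n F q (act g p) p = 0
  · -- multiply by a transvection
    have h1 : (1 : F) + 1 ^ q = 0 := by rw [one_pow]; exact CharTwo.add_self_eq_zero 1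
    have hgp := plane_eq hF H hg (u := p) (fun v hv _ => hv)
    rw [hγ, zero_smul, add_zero] at hgp
    have e1 : hermForm n F q (act g p) (act g p') = 1 := by rw [herm_act, H.ef]
    have h2 : g * transv hF p' H.ff 1 h1 ∈ A := by
      apply key
      · intro v hv hv'
        rw [act_mul, act_transv, hv', mul_zero, zero_smul, add_zero, hg v hv hv']
      · intro h0
        rw [act_mul, act_transv, H.ef, mul_one, one_smul, act_add, herm_add_left, hγ, zero_add] at h0
        rw [hgp, herm_smul_left, herm_eq_zero_swap hF h0, mul_zero] at e1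
        exact zero_ne_one e1
    have h3 : g = (g * transv hF p' H.ff 1 h1) * (transv hF p' H.ff 1 h1)⁻¹ := by group
    rw [h3]
    exact mul_mem h2 (inv_mem (hA' _ _))
  · exact key g hg hγ

/-- an element of the fixed field different from `0`, `1` -/
theorem exists_b (hF : Fintype.card F = q ^ 2) (hq : q ≠ 2) : ∃ b : F, b ^ q = b ∧ b ≠ 0 ∧ b ≠ 1 := by
  have h2 := two_le hF
  by_contra hcon
  push Not at hcon
  have h3 : ({x : F | x ^ q = x} : Set F) ⊆ {0, 1} := by
    intro x hx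
    by_cases h0 : x = 0
    · left; exact h0
    · right; exact hcon x hx h0
  have h4 := Set.ncard_le_ncard h3
  have h5 : ({x : F | x ^ q = x} : Set F).ncard = q := card_fixed hF
  rw [h5, Set.ncard_pair zero_ne_one] at h4
  omega

omit [Fintype F] in
theorem b_sq_ne {b : F} (hb1 : b ≠ 1) : b ^ 2 - 1 ≠ 0 := by
  intro h7
  have h8 : (b - 1) ^ 2 = 0 := by
    have h9 : (2 : F) = 0 := CharTwo.two_eq_zero
    linear_combination h7 + (1 - b) * h9
  exact hb1 (sub_eq_zero.1 (pow_eq_zero_iff two_ne_zero |>.1 h8))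

/-- A transvection with centre `s` is a commutator with a torus element. -/
theorem transv_mem (hF : Fintype.card F = q ^ 2) (hq : q ≠ 2) {s s' : Fin n → F} (H : Hyp q s s')
    {A : Subgroup (SU n F q)} (hA : ∀ μ (hμ : μ + μ ^ q = 0), transv hF s H.ee μ hμ ∈ A)
    (hh : ∀ (b : F) (hb : b ≠ 0) (hbq : b ^ q = b), hyp hF H b hb hbq ∈ A) (μ : F) (hμ : μ + μ ^ q = 0) :
    transv hF s H.ee μ hμ ∈ ⁅A, A⁆ := by
  obtain ⟨b, hbq, hb0, hb1⟩ := exists_b (F := F) hF hq
  have hb2 := b_sq_ne hb1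
  have hμq : μ ^ q = μ := fixed_of_tr hμ
  set ν := μ / (b ^ 2 - 1) with hν
  have hνq : ν ^ q = ν := by
    rw [hν, div_pow, hμq, sub_pow_q hF, one_pow, ← pow_mul, mul_comm 2 q, pow_mul, hbq]
  have h1 : ν + ν ^ q = 0 := tr_of_fixed hνq
  have h2 : b ^ 2 * ν + (b ^ 2 * ν) ^ q = 0 := by
    apply tr_of_fixed
    rw [mul_pow, hνq, ← pow_mul, mul_comm 2 q, pow_mul, hbq]
  have h3 := Subgroup.commutator_mem_commutator (hh b hb0 hbq) (hA ν h1)
  have h4 : ⁅hyp hF H b hb0 hbq, transv hF s H.ee ν h1⁆ = transv hF s H.ee μ hμ := by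
    rw [commutatorElement_def, hyp_conj_transv hF H hb0 hbq h1 h2, mul_inv_eq_iff_eq_mul]
    apply ext_act
    intro v
    rw [act_mul, act_transv, act_transv, act_transv, herm_add_left, herm_smul_left, H.ee, mul_zero, add_zero,
      add_assoc, ← add_smul]
    congr 2
    rw [hν]
    field_simp
    ring
  rwa [h4] at h3

/-- A Siegel element is a product of commutators with torus elements and transvections. -/
theorem siegel_mem (hF : Fintype.card F = q ^ 2) (hq : q ≠ 2) {s s' : Fin n → F} (H : Hyp q s s')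
    {A : Subgroup (SU n F q)} {w : Fin n → F} {μ : F} (h : IsSiegel q s w μ)
    (hA : ∀ (c : F) μ (h : IsSiegel q s (c • w) μ), siegel hF s (c • w) μ h ∈ A)
    (hA0 : ∀ μ (hμ : μ + μ ^ q = 0), transv hF s H.ee μ hμ ∈ A)
    (hh : ∀ (b : F) (hb : b ≠ 0) (hbq : b ^ q = b), hyp hF H b hb hbq ∈ A) :
    siegel hF s w μ h ∈ ⁅A, A⁆ := by
  obtain ⟨b, hbq, hb0, hb1⟩ := exists_b (F := F) hF hq
  have hb' : b - 1 ≠ 0 := sub_ne_zero.2 hb1
  have ht : ∀ μ (hμ : μ + μ ^ q = 0), transv hF s H.ee μ hμ ∈ ⁅A, A⁆ := transv_mem hF hq H hA0 hh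
  -- the property
  let P : (Fin n → F) → Prop := fun w => ∃ (μ : F) (h : IsSiegel q s w μ), siegel hF s w μ h ∈ ⁅A, A⁆
  have hPadd : ∀ w w', P w → P w' → P (w + w') := by
    rintro w w' ⟨μ, h, hm⟩ ⟨μ', h', hm'⟩
    exact ⟨_, h.mul hF h', by rw [← siegel_mul hF h h']; exact mul_mem hm hm'⟩
  have hPs : ∀ c : F, P (c • s) := by
    intro c
    obtain ⟨ν, hν⟩ := exists_isSiegel_of_orth hF H.ee (w := c • s) (by rw [herm_smul_left, H.ee, mul_zero])
    obtain ⟨κ, hκ, e⟩ := siegel_smul_self_mem hF H.ee hν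
    exact ⟨ν, hν, by rw [e]; exact ht _ _⟩
  -- the commutator
  obtain ⟨w', hw'⟩ : ∃ w' : Fin n → F, w' = (b - 1)⁻¹ • w := ⟨_, rfl⟩
  have hw's : hermForm n F q w' s = 0 := by rw [hw', herm_smul_left, h.orth, mul_zero]
  obtain ⟨ν, hν⟩ := exists_isSiegel_of_orth hF H.ee hw's
  have hmem : siegel hF s w' ν hν ∈ A := by
    subst hw'
    exact hA _ ν hν
  have h3 := Subgroup.commutator_mem_commutator (hh b hb0 hbq) hmem
  have hbs : act (hyp hF H b hb0 hbq) s = b • s := act_hyp_e hF H hb0 hbq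
  have hbw : act (hyp hF H b hb0 hbq) w' = w' + ((b - 1) * hermForm n F q w' s') • s := by
    rw [act_hyp, hw's, mul_zero, zero_smul, add_zero]
  have hS : IsSiegel q s (w' + ((b - 1) * hermForm n F q w' s') • s) ν := by
    refine ⟨H.ee, ?_, ?_⟩
    · rw [herm_add_left, herm_smul_left, hw's, H.ee]; ring
    · rw [herm_add_left, herm_add_right hF, herm_add_right hF, herm_smul_left, herm_smul_left, herm_smul_right,
        herm_smul_right, H.ee, hw's, herm_eq_zero_swap hF hw's]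
      linear_combination hν.tr
  have hS' := hS.smul' hF (c := b)
  have e1 : ⁅hyp hF H b hb0 hbq, siegel hF s w' ν hν⁆ =
      siegel hF s (b ^ q • (w' + ((b - 1) * hermForm n F q w' s') • s)) (b * b ^ q * ν) hS' *
        siegel hF s (-w') (ν ^ q) (hν.inv hF) := by
    rw [commutatorElement_def, conj_siegel, siegel_inv, ← siegel_smul hF hS]
    congr 1
    exact siegel_congr hF _ _ hbs hbw rfl
  rw [e1, siegel_mul] at h3
  have e2 : b ^ q • (w' + ((b - 1) * hermForm n F q w' s') • s) + -w' =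
      w + (b * ((b - 1) * hermForm n F q w' s')) • s := by
    have : w = (b - 1) • w' := by rw [hw', smul_smul, mul_inv_cancel₀ hb', one_smul]
    rw [hbq, this, smul_add, smul_smul, sub_smul, one_smul]
    abel
  have h4 : P (w + (b * ((b - 1) * hermForm n F q w' s')) • s) := by
    rw [← e2]
    exact ⟨_, _, h3⟩
  have h5 : P w := by
    have h6 := hPadd _ _ h4 (hPs (-(b * ((b - 1) * hermForm n F q w' s'))))
    have e3 : w + (b * ((b - 1) * hermForm n F q w' s')) • s + (-(b * ((b - 1) * hermForm n F q w' s'))) • s = w := by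
      rw [neg_smul, add_neg_cancel_right]
    rwa [e3] at h6
  obtain ⟨μ', h', hm⟩ := h5
  exact siegel_mem_of_mem hF h' h (fun _ ν hν => ht ν hν) hm

/-- A partner in the coordinate subspace. -/
theorem exists_partner_coord (hF : Fintype.card F = q ^ 2) {k : ℕ} {u : Fin n → F} (hu : u ∈ coordSub F n k)
    (hu0 : u ≠ 0) (huu : hermForm n F q u u = 0) : ∃ u' ∈ coordSub F n k, Hyp q u u' := by
  obtain ⟨z, hz, hzz, huz, -⟩ := exists_iso_common hF hu hu hu0 hu0 huu huu
  refine ⟨((hermForm n F q u z)⁻¹ ^ q) • z, Submodule.smul_mem _ _ hz, huu, ?_, ?_⟩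
  · rw [herm_smul_left, herm_smul_right, hzz]; ring
  · rw [herm_smul_right, pow_q_pow_q hF, inv_mul_cancel₀ huz]

theorem stab_perfect_frame (hF : Fintype.card F = q ^ 2) (hn : 4 ≤ n) (hq : q ≠ 2) {e f : Fin n → F}
    (H : IsFrame q e f) : stabV q e ≤ ⁅stabV q e, stabV q e⁆ := by
  have he0 := frame_ne_zero H
  have hfe : hermForm n F q f e = 1 := frame_fe hF H
  have one_tr' : (1 : F) + 1 ^ q = 0 := by rw [one_pow]; exact CharTwo.add_self_eq_zero 1
  set G0 : Subgroup (SU n F q) := ⁅stabV q e, stabV q e⁆ with hG0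
  have hNe : ∀ w ∈ coordSub F n (n - 2), hermForm n F q e w = 0 := fun w hw =>
    herm_eq_zero_swap hF ((H.mem w).1 hw).1
  -- the transvections with centre `e`
  obtain ⟨w, w', hwe, hw'e, hww, hw'w', hww'⟩ := exists_pair_of_iso hF hn he0 H.ee
  have ht : ∀ (hs : hermForm n F q e e = 0) μ (hμ : μ + μ ^ q = 0), transv hF e hs μ hμ ∈ G0 := by
    intro hs μ hμ
    obtain ⟨ν, h, h', e1⟩ := transv_eq_commutator hF hs hμ hww hw'w' hww' hwe hw'e
    rw [e1]
    exact Subgroup.commutator_mem_commutator (siegG_le_stabV hF hs ⟨_, _, h, rfl⟩)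
      (siegG_le_stabV hF hs ⟨_, _, h', rfl⟩)
  let P : (Fin n → F) → Prop := fun w => ∃ (μ : F) (h : IsSiegel q e w μ), siegel hF e w μ h ∈ G0
  have hPadd : ∀ w w', P w → P w' → P (w + w') := by
    rintro w w' ⟨μ, h, hm⟩ ⟨μ', h', hm'⟩
    exact ⟨_, h.mul hF h', by rw [← siegel_mul hF h h']; exact mul_mem hm hm'⟩
  have hPe : ∀ c : F, P (c • e) := by
    intro c
    obtain ⟨ν, hν⟩ := exists_isSiegel_of_orth hF H.ee (w := c • e) (by rw [herm_smul_left, H.ee, mul_zero])
    obtain ⟨κ, hκ, e1⟩ := siegel_smul_self_mem hF H.ee hν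
    exact ⟨ν, hν, by rw [e1]; exact ht _ _ _⟩
  have hPiso : ∀ s ∈ coordSub F n (n - 2), hermForm n F q s s = 0 → P s := by
    intro s hs hss
    by_cases hs0 : s = 0
    · refine ⟨0, by rw [hs0]; exact IsSiegel.zero hF H.ee, ?_⟩
      rw [siegel_congr hF _ (IsSiegel.zero hF H.ee) rfl hs0 rfl, siegel_zero]
      exact one_mem _
    obtain ⟨x, hx, Hx⟩ := exists_partner_coord hF hs hs0 hss
    have hxs : hermForm n F q x s = 1 := Hx.fe hF
    have hxe := ((H.mem x).1 hx).1
    obtain ⟨a, ha⟩ := exists_isSiegel_of_orth hF H.ee hxe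
    have h1 : transv hF s hss 1 one_tr' ∈ stabV q e := by
      rw [mem_stabV, act_transv, hNe s hs, mul_zero, zero_smul, add_zero]
    have h2 : siegel hF e x a ha ∈ stabV q e := act_siegel_self hF ha
    have h3 := Subgroup.commutator_mem_commutator h1 h2
    have h4 : act (transv hF s hss 1 one_tr') x = x + s := by rw [act_transv, hxs, mul_one, one_smul]
    have h5 : IsSiegel q e (x + s) a := by
      have := ha.map (transv hF s hss 1 one_tr')
      rwa [h4, mem_stabV.1 h1] at this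
    have e1 : ⁅transv hF s hss 1 one_tr', siegel hF e x a ha⁆ =
        siegel hF e (x + s) a h5 * siegel hF e (-x) (a ^ q) (ha.inv hF) := by
      rw [commutatorElement_def, conj_siegel, siegel_inv]
      congr 1
      exact siegel_congr hF _ _ h1 h4 rfl
    rw [e1, siegel_mul] at h3
    have h6 : P (x + s + -x) := ⟨_, _, h3⟩
    have e2 : x + s + -x = s := by abel
    rwa [e2] at h6
  -- a hyperbolic pair in the coordinate subspace
  obtain ⟨p, p', a, b, ha, hp, hp', hpp, hp'p', hpp'⟩ := exists_hyp_pair (q := q) hF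
    (i := (⟨0, by omega⟩ : Fin n)) (j := ⟨1, by omega⟩) (by simp)
  have e0 : (Pi.single (⟨0, by omega⟩ : Fin n) 1 : Fin n → F) ∈ coordSub F n (n - 2) :=
    single_mem_coordSub (by simp; omega) 1
  have e1 : (Pi.single (⟨1, by omega⟩ : Fin n) 1 : Fin n → F) ∈ coordSub F n (n - 2) :=
    single_mem_coordSub (by simp; omega) 1
  have hpV : p ∈ coordSub F n (n - 2) := by
    rw [hp]; exact Submodule.add_mem _ e0 (Submodule.smul_mem _ _ e1)
  have hp'V : p' ∈ coordSub F n (n - 2) := by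
    rw [hp']; exact Submodule.add_mem _ e0 (Submodule.smul_mem _ _ hpV)
  have hPN : ∀ w ∈ coordSub F n (n - 2), P w :=
    iso_ind hF hpV hp'V hpp hp'p' hpp' (fun a b _ _ ha hb => hPadd a b ha hb) hPiso
  -- Siegel elements
  have hPperp : ∀ w, hermForm n F q w e = 0 → P w := by
    intro w hw
    have h1 : w - hermForm n F q w f • e ∈ coordSub F n (n - 2) := by
      rw [H.mem]
      constructor
      · rw [herm_sub_left, herm_smul_left, H.ee, hw]; ring
      · rw [herm_sub_left, herm_smul_left, H.ef]; ring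
    have h2 := hPadd _ _ (hPN _ h1) (hPe (hermForm n F q w f))
    rwa [sub_add_cancel] at h2
  have hSieg : ∀ {w : Fin n → F} {μ : F} (h : IsSiegel q e w μ), siegel hF e w μ h ∈ G0 := by
    intro w μ h
    obtain ⟨μ', h', hm⟩ := hPperp w h.orth
    exact siegel_mem_of_mem hF h' h ht hm
  -- the elements fixing `e` and `f`
  have hfix : (fixGrp (n - 2) : Subgroup (SU n F q)) ≤ G0 := by
    -- elements at a hyperbolic pair of the coordinate subspace
    have hh : ∀ {u u' : Fin n → F} (K : Hyp q u u'), u ∈ coordSub F n (n - 2) → u' ∈ coordSub F n (n - 2) →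
        ∀ (b : F) (hb : b ≠ 0) (hbq : b ^ q = b), hyp hF K b hb hbq ∈ stabV q e := by
      intro u u' K hu hu' b hb hbq
      exact act_hyp_of_orth hF K hb hbq (hNe u hu) (hNe u' hu')
    have htr : ∀ {u : Fin n → F} (huu : hermForm n F q u u = 0), u ∈ coordSub F n (n - 2) →
        ∀ μ (hμ : μ + μ ^ q = 0), transv hF u huu μ hμ ∈ stabV q e := by
      intro u huu hu μ hμ
      rw [mem_stabV, act_transv, hNe u hu, mul_zero, zero_smul, add_zero]
    rcases Nat.lt_or_ge n 5 with h5 | h5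
    · have hn4 : n = 4 := by omega
      subst hn4
      intro g hg
      have K : Hyp q p p' := ⟨hpp, hp'p', hpp'⟩
      refine plane_mem hF K (A := G0) (fun μ hμ => transv_mem hF hq K (htr _ hpV) (hh K hpV hp'V) μ hμ)
        (fun μ hμ => transv_mem hF hq (K.symm hF) (htr _ hp'V) (hh (K.symm hF) hp'V hpV) μ hμ) ?_
      intro v hv hv'
      have h0 : v 0 = 0 := by
        have h1 : hermForm 4 F q v (Pi.single (⟨0, by omega⟩ : Fin 4) 1) = 0 := by
          have e3 : (Pi.single (⟨0, by omega⟩ : Fin 4) 1 : Fin 4 → F) = p' - b • p := by rw [hp', add_sub_cancel_right]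
          rw [e3, herm_sub_right hF, herm_smul_right, hv, hv', mul_zero, sub_zero]
        rw [herm_single_right hF, one_pow, mul_one] at h1
        exact h1
      have h1 : v 1 = 0 := by
        have h2 : hermForm 4 F q v p = 0 := hv
        rw [hp, herm_add_right hF, herm_smul_right, herm_single_right hF, herm_single_right hF, one_pow, mul_one,
          mul_one] at h2
        change v 0 + a ^ q * v 1 = 0 at h2
        rw [h0, zero_add] at h2
        exact (mul_eq_zero.1 h2).resolve_left (pow_ne_zero _ ha)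
      rw [pi_eq_sum_univ' v, act_sum]
      refine Finset.sum_congr rfl fun i _ => ?_
      by_cases hi : 2 ≤ i.val
      · rw [act_smul, hg i hi]
      · have : i = 0 ∨ i = 1 := by
          rcases i with ⟨i, hi'⟩
          simp only [not_le] at hi
          interval_cases i
          · left; rfl
          · right; rfl
        rcases this with rfl | rfl
        · rw [h0, zero_smul, act_zero]
        · rw [h1, zero_smul, act_zero]
    · refine (fixGrp_le_sG hF (by omega) (by omega)).trans ?_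
      rw [sG, Subgroup.closure_le]
      rintro _ ⟨u, hu, w, hw, μ, hs, rfl⟩
      by_cases hu0 : u = 0
      · have : siegel hF u w μ hs = 1 := by
          apply ext_act
          intro v
          rw [act_siegel, act_one, hu0, herm_zero_right hF, zero_smul, smul_zero, add_zero, add_zero]
        rw [this]
        exact one_mem _
      obtain ⟨u', hu', K⟩ := exists_partner_coord hF hu hu0 hs.iso
      refine siegel_mem hF hq K hs (fun c μ h => ?_) (htr _ hu) (hh K hu hu')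
      rw [mem_stabV]
      apply act_siegel_of_orth hF h (hNe u hu)
      rw [herm_smul_right, hNe w hw, mul_zero]
  intro g hg
  have hge : act g e = e := hg
  obtain ⟨c, μ, hs, hact⟩ := exists_siegel_map hF H.ee (v := f) (v' := act g f)
    (by rw [herm_act]) (by conv_rhs => rw [← hge, herm_act]) (by rw [hfe]; exact one_ne_zero)
  have hse : act (siegel hF e (c • (act g f - f)) μ hs)⁻¹ e = e := ((act_eq_iff _).1 (act_siegel_self hF hs)).symm
  have h2 : (siegel hF e (c • (act g f - f)) μ hs)⁻¹ * g ∈ (fixGrp (n - 2) : Subgroup (SU n F q)) :=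
    mem_fixGrp_of_frame hF H (by rw [act_mul, hge, hse]) (by
      rw [act_mul]; nth_rewrite 2 [← hact]; rw [act_inv_act])
  have h4 : g = siegel hF e (c • (act g f - f)) μ hs * ((siegel hF e (c • (act g f - f)) μ hs)⁻¹ * g) := by group
  rw [h4]
  exact mul_mem (hSieg hs) (hfix h2)

/-- **The stabiliser of an isotropic vector is perfect**, `q ≥ 4` even, `n ≥ 4`. -/
theorem stab_perfect (hF : Fintype.card F = q ^ 2) (hn : 4 ≤ n) (hq : q ≠ 2) {u : Fin n → F} (hu0 : u ≠ 0)
    (hu : hermForm n F q u u = 0) : stabV q u ≤ ⁅stabV q u, stabV q u⁆ := by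
  obtain ⟨e, f, H⟩ := exists_frame (F := F) (q := q) (n := n) hF (by omega)
  have he0 := frame_ne_zero H
  obtain ⟨g, -, hg⟩ := exists_map_iso hF (by omega) le_rfl (mem_coordSub_top e) (mem_coordSub_top u)
    he0 hu0 H.ee hu
  have h1 : stabV q u = (stabV q e).map (MulAut.conj g).toMonoidHom := by
    ext x
    constructor
    · intro hx
      refine ⟨g⁻¹ * x * g, ?_, by simp [MulAut.conj_apply]; group⟩
      change act (g⁻¹ * x * g) e = e
      rw [act_mul, act_mul, hg, mem_stabV.1 hx, ← hg, act_inv_act]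
    · rintro ⟨y, hy, rfl⟩
      change act (g * y * g⁻¹) u = u
      rw [act_mul, act_mul]
      nth_rewrite 1 [← hg]
      rw [act_inv_act, mem_stabV.1 hy, hg]
  rw [h1, ← Subgroup.map_commutator]
  exact Subgroup.map_mono (stab_perfect_frame hF hn hq H)

theorem PP_perf (hF : Fintype.card F = q ^ 2) (hn : 4 ≤ n) (hq : q ≠ 2) {u : Fin n → F} (hu0 : u ≠ 0)
    (hu : hermForm n F q u u = 0) : PP q u ≤ ⁅PP q u, (PP q u : Subgroup (PSU n F q))⁆ := by
  rw [PP, ← Subgroup.map_commutator]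
  exact Subgroup.map_mono (stab_perfect hF hn hq hu0 hu)

end Two

end Cfsg.Agent.OddHalf.DblR.Un

end

-- merged: Cfsg.Agent.OddHalf.DblR.UnNor
section

/-!
# ODD, D4, unitary groups: the normaliser of the long root group and what `P` determines (helper350)

* `cj_PP`, `cj_RR`, `cj_QQ` : conjugation in `PSU n F q`;
* `norX` : `NorX`;
* `le_PP_of_perfect` : perfect subgroups of the centraliser of an element of `RR u` lie in `PP u`;
* `cj_of_cj_PP` : `PP e` determines `QQ e` and `RR e`.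
-/

set_option autoImplicit false

namespace Cfsg.Agent.OddHalf.DblR.Un

open scoped commutatorElement

open Cfsg Cfsg.Agent.LieClassical.HermBasic Cfsg.Agent.LieClassical.HermSiegel
  Cfsg.Agent.LieClassical.HermGen Cfsg.Agent.LieClassical.SUBasic Matrix
  Cfsg.Agent.ClassicalGeometry.PSUAutBasic Cfsg.Agent.ClassicalGeometry.PSUAutSylow
  Cfsg.Agent.ClassicalGeometry.PSUAutUnip Cfsg.Agent.ClassicalGeometry.PSUAutPhi
  Cfsg.Agent.ClassicalGeometry.PSUAutTorus Cfsg.Agent.KFacts.Unit Cfsg.Agent.Nodes.Reps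

variable {F : Type*} [Field F] [Fintype F] {q n : ℕ}

omit [Fintype F] in
theorem cj_PP (g : SU n F q) (u : Fin n → F) : cj (pr n F q g) (PP q u) = PP q (act g u) := by
  apply le_antisymm
  · intro x hx
    rw [mem_cj] at hx
    have h1 := PP_conj g hx
    have e : pr n F q g * ((pr n F q g)⁻¹ * x * pr n F q g) * (pr n F q g)⁻¹ = x := by group
    rwa [e] at h1
  · intro x hx
    rw [mem_cj]
    have h1 := PP_conj g⁻¹ hx
    rwa [act_inv_act, map_inv, inv_inv] at h1

theorem cj_RR (hF : Fintype.card F = q ^ 2) (g : SU n F q) {u : Fin n → F} (hu : hermForm n F q u u = 0)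
    (hgu : hermForm n F q (act g u) (act g u) = 0) :
    cj (pr n F q g) (RR hF u hu) = RR hF (act g u) hgu := by
  ext x
  rw [mem_cj, RR_conj hF hu g hgu]

theorem act_of_cj_RR (hF : Fintype.card F = q ^ 2) (hn : 3 ≤ n) {g : SU n F q} {u : Fin n → F} (hu0 : u ≠ 0)
    (hu : hermForm n F q u u = 0) (h : cj (pr n F q g) (RR hF u hu) = RR hF u hu) :
    ∃ c : F, c ≠ 0 ∧ act g u = c • u := by
  rw [← normRR_iff hF hn hu0 hu]
  intro y
  constructor
  · intro hy
    rw [← h] at hy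
    exact mem_cj.1 hy
  · intro hy
    rw [← h]
    exact mem_cj.2 hy

/-- an element commuting with a non-trivial element of `RR u` fixes the point `⟨u⟩` -/
theorem act_of_commute (hF : Fintype.card F = q ^ 2) (hn : 3 ≤ n) {u : Fin n → F} (hu0 : u ≠ 0)
    (hu : hermForm n F q u u = 0) {y : PSU n F q} (hy : y ∈ RR hF u hu) (hy1 : y ≠ 1) {a : SU n F q}
    (hxy : pr n F q a * y = y * pr n F q a) : ∃ c : F, c ≠ 0 ∧ act a u = c • u := by
  obtain ⟨μ, hμ, rfl⟩ := mem_RR.1 hy
  have hμ0 : μ ≠ 0 := by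
    rintro rfl
    exact hy1 (by rw [transv_zero, map_one])
  have h1 : pr n F q (a * transv hF u hu μ hμ * a⁻¹) = pr n F q (transv hF u hu μ hμ) := by
    rw [map_mul, map_mul, map_inv, hxy, mul_inv_cancel_right]
  rw [transv, conj_siegel] at h1
  have h2 := siegel_pr_inj hF hn _ _ h1
  obtain ⟨f, -, huf, hfu⟩ := exists_partner hF hu0 hu
  have h3 := congrArg (fun g => act g f) h2
  simp only [act_siegel] at h3
  rw [act_zero, smul_zero, smul_zero, herm_zero_right hF, sub_zero, sub_zero, add_zero, add_right_inj, hfu,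
    mul_one] at h3
  have hne : μ * hermForm n F q f (act a u) ≠ 0 := by
    intro h0
    rw [h0, zero_smul] at h3
    rcases smul_eq_zero.1 h3.symm with h5 | h5
    · exact hμ0 h5
    · exact hu0 h5
  have h4 : act a u = ((μ * hermForm n F q f (act a u))⁻¹ * μ) • u := by
    rw [mul_smul, ← h3, smul_smul, inv_mul_cancel₀ hne, one_smul]
  exact ⟨_, mul_ne_zero (inv_ne_zero hne) hμ0, h4⟩

/-- commutators of elements fixing the point `⟨u⟩` fix `u` -/
theorem commutator_fix {g g' : SU n F q} {u : Fin n → F} {c c' : F} (hc : c ≠ 0) (hc' : c' ≠ 0)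
    (h : act g u = c • u) (h' : act g' u = c' • u) : act (g * g' * g⁻¹ * g'⁻¹) u = u := by
  have h1 : act g⁻¹ u = c⁻¹ • u := by
    have h2 := act_inv_act g u
    rw [h, act_smul] at h2
    rw [← h2, smul_smul, inv_mul_cancel₀ hc, one_smul]
    rw [h2]
  have h1' : act g'⁻¹ u = c'⁻¹ • u := by
    have h2 := act_inv_act g' u
    rw [h', act_smul] at h2
    rw [← h2, smul_smul, inv_mul_cancel₀ hc', one_smul]
    rw [h2]
  simp only [act_mul, h1', act_smul, h1, h', h, smul_smul]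
  have e : c'⁻¹ * (c⁻¹ * (c' * c)) = 1 := by field_simp
  first
    | rw [e, one_smul]
    | (have e' : c'⁻¹ * c⁻¹ * c' * c = 1 := by field_simp
       rw [e', one_smul])

theorem exists_RR_ne (hF : Fintype.card F = q ^ 2) (hn : 3 ≤ n) {u : Fin n → F} (hu0 : u ≠ 0)
    (hu : hermForm n F q u u = 0) : ∃ y ∈ RR hF u hu, y ≠ 1 := by
  obtain ⟨μ, hμ0, hμ⟩ := exists_trace_zero_ne hF
  refine ⟨pr n F q (transv hF u hu μ hμ), mem_RR.2 ⟨μ, hμ, rfl⟩, ?_⟩
  intro h0
  have h00 : (0 : F) + 0 ^ q = 0 := by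
    have := two_le hF
    rw [zero_add, zero_pow (by omega)]
  have h2 : pr n F q (transv hF u hu μ hμ) = pr n F q (transv hF u hu 0 h00) := by
    rw [h0]
    symm
    have : transv hF u hu 0 h00 = 1 := by
      apply ext_act
      intro v
      rw [act_transv, act_one, zero_mul, zero_smul, add_zero]
    rw [this, map_one]
  have h3 := siegel_pr_inj hF hn _ _ h2
  obtain ⟨f, hff, huf, hfu⟩ := exists_partner hF hu0 hu
  have h4 := congrArg (fun g => act g f) h3
  change act (transv hF u hu μ hμ) f = act (transv hF u hu 0 h00) f at h4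
  rw [act_transv, act_transv, hfu, mul_one, zero_mul, zero_smul, add_zero, add_eq_left] at h4
  rcases smul_eq_zero.1 h4 with h5 | h5
  · exact hμ0 h5
  · exact hu0 h5

theorem isPGroup_QQ' [CharP F 2] (hF : Fintype.card F = q ^ 2) {u : Fin n → F} (hu : hermForm n F q u u = 0) :
    IsPGroup 2 ↥(QQ hF u hu) := by
  have : Fact (Nat.Prime 2) := ⟨Nat.prime_two⟩
  exact (isPGroup_siegG hF 2 hu).map _

section map

variable {G : Type*} [Group G] (f : PSU n F q →* G) (hf : Function.Injective f)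
include hf

theorem map_inj' {A B : Subgroup (PSU n F q)} (h : A.map f = B.map f) : A = B := Subgroup.map_injective hf h

theorem norX [CharP F 2] (hF : Fintype.card F = q ^ 2) (hn : 3 ≤ n) {e e' : Fin n → F} (H : Hyp q e e') :
    NorX f.range ((PP q e).map f) ((RR hF e H.ee).map f) ((HH hF H).map f) := by
  have key : ∀ k ∈ f.range, cj k ((RR hF e H.ee).map f) = (RR hF e H.ee).map f →
      ∃ g : SU n F q, k = f (pr n F q g) ∧ ∃ c : F, c ≠ 0 ∧ act g e = c • e := by
    rintro _ ⟨x, rfl⟩ h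
    obtain ⟨g, rfl⟩ := pr_surjective x
    rw [Cfsg.Agent.Nodes.RGDLib.cj_map] at h
    exact ⟨g, rfl, act_of_cj_RR hF hn H.ne_zero H.ee (map_inj' f hf h)⟩
  refine ⟨?_, ?_⟩
  · intro k hk h
    obtain ⟨g, rfl, c, hc, hg⟩ := key k hk h
    rw [Cfsg.Agent.Nodes.RGDLib.cj_map, cj_PP, hg, PP_smul hc]
  · rintro k hk h _ ⟨y, hy, rfl⟩
    obtain ⟨g, rfl, c, hc, hg⟩ := key k hk h
    obtain ⟨b, hb, hbq, rfl⟩ := mem_HH.1 hy
    have hbe := act_hyp_e hF H hb hbq
    set t := hyp hF H b hb hbq with ht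
    have h1 : act t⁻¹ e = b⁻¹ • e := by
      have h2 := act_inv_act t e
      rw [hbe, act_smul] at h2
      rw [← h2, smul_smul, inv_mul_cancel₀ hb, one_smul]
      rw [h2]
    have h2 := commutator_fix (g := t⁻¹) (g' := g) (inv_ne_zero hb) hc h1 hg
    refine ⟨f (pr n F q (t⁻¹ * g * t⁻¹⁻¹ * g⁻¹)), ⟨_, mem_PP.2 ⟨_, h2, rfl⟩, rfl⟩, ?_⟩
    rw [← map_mul, ← map_inv, ← map_inv, ← map_mul, ← map_mul, ← map_mul, ← map_mul, ← map_mul]
    congr 2
    group

theorem le_PP_of_perfect (hF : Fintype.card F = q ^ 2) (hn : 3 ≤ n) {u : Fin n → F} (hu0 : u ≠ 0)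
    (hu : hermForm n F q u u = 0) {x : G} (hx : x ∈ (RR hF u hu).map f) (hx1 : x ≠ 1) {H : Subgroup G}
    (hH : H ≤ f.range) (hHx : ∀ y ∈ H, y * x = x * y) (hp : H ≤ ⁅H, H⁆) : H ≤ (PP q u).map f := by
  obtain ⟨x, hx, rfl⟩ := hx
  have hx1' : x ≠ 1 := by
    rintro rfl
    exact hx1 (map_one f)
  refine hp.trans ?_
  rw [Subgroup.commutator_le]
  have key : ∀ y ∈ H, ∃ g : SU n F q, y = f (pr n F q g) ∧ ∃ c : F, c ≠ 0 ∧ act g u = c • u := by
    intro y hy
    obtain ⟨y', rfl⟩ := hH hy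
    obtain ⟨g, rfl⟩ := pr_surjective y'
    have h1 := hHx _ hy
    rw [← map_mul, ← map_mul] at h1
    exact ⟨g, rfl, act_of_commute hF hn hu0 hu hx hx1' (hf h1)⟩
  intro y hy y' hy'
  obtain ⟨g, rfl, c, hc, hg⟩ := key y hy
  obtain ⟨g', rfl, c', hc', hg'⟩ := key y' hy'
  refine ⟨pr n F q (g * g' * g⁻¹ * g'⁻¹), mem_PP.2 ⟨_, commutator_fix hc hc' hg hg', rfl⟩, ?_⟩
  rw [commutatorElement_def]
  simp

theorem cj_of_cj_PP [CharP F 2] (hF : Fintype.card F = q ^ 2) (hn : 3 ≤ n) {e e' : Fin n → F} (H : IsFrame q e e')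
    {g : G} (hg : cj g ((PP q e).map f) = (PP q e).map f) :
    cj g ((QQ hF e H.ee).map f) = (QQ hF e H.ee).map f ∧ cj g ((RR hF e H.ee).map f) = (RR hF e H.ee).map f := by
  have : Fact (Nat.Prime 2) := ⟨Nat.prime_two⟩
  have he0 : e ≠ 0 := frame_ne_zero H
  have hgi : cj g⁻¹ ((PP q e).map f) = (PP q e).map f := by
    conv_lhs => rw [← hg]
    exact cj_inv_cj _ _
  have mi : ∀ {k : PSU n F q} {B : Subgroup (PSU n F q)}, f k ∈ B.map f → k ∈ B := by
    rintro k B ⟨b, hb, e⟩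
    rwa [← hf e]
  have key1 : ∀ g : G, cj g ((PP q e).map f) = (PP q e).map f → cj g ((QQ hF e H.ee).map f) ≤ (QQ hF e H.ee).map f := by
    intro g hg
    have hQP : (QQ hF e H.ee).map f ≤ (PP q e).map f := Subgroup.map_mono (QQ_le_PP hF H.ee)
    have hle : cj g ((QQ hF e H.ee).map f) ≤ (PP q e).map f := by
      have := cj_mono g hQP
      rwa [hg] at this
    set N : Subgroup (PSU n F q) := (cj g ((QQ hF e H.ee).map f)).comap f with hN
    have hmN : ∀ x, x ∈ N ↔ f x ∈ cj g ((QQ hF e H.ee).map f) := fun x => Iff.rfl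
    have hN2 : IsPGroup 2 ↥N := by
      have h1 : IsPGroup 2 ↥(cj g ((QQ hF e H.ee).map f)) := ((isPGroup_QQ' hF H.ee).map f).map _
      rintro ⟨x, hx⟩
      obtain ⟨k, hk⟩ := h1 ⟨f x, hx⟩
      refine ⟨k, Subtype.ext ?_⟩
      have h2 : (f x) ^ 2 ^ k = 1 := congrArg Subtype.val hk
      have h3 : f (x ^ 2 ^ k) = f 1 := by rw [map_pow, h2, map_one]
      exact hf h3
    have h1 : N ≤ QQ hF e H.ee := by
      apply le_QQ hF hn 2 H N hN2
      · intro a ha
        have h2 : pr n F q a ∈ PP q e := mi (hle ((hmN _).1 ha))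
        obtain ⟨y, hy, hy1⟩ := exists_RR_ne hF hn he0 H.ee
        exact act_of_commute hF hn he0 H.ee hy hy1 (PP_comm_RR hF H.ee h2 hy)
      · intro a ha x hx
        rw [hmN] at hx ⊢
        rw [mem_cj] at hx ⊢
        obtain ⟨s, hs, hse⟩ := hx
        have h2 : f (pr n F q a) ∈ (PP q e).map f := ⟨_, mem_PP.2 ⟨a, ha, rfl⟩, rfl⟩
        rw [← hg, mem_cj] at h2
        obtain ⟨p, hp, hpe⟩ := h2
        refine ⟨p * s * p⁻¹, PP_conj_QQ hF H.ee hp hs, ?_⟩
        rw [map_mul, map_mul, map_inv, map_mul, map_mul, map_inv, hpe, hse]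
        group
    intro x hx
    obtain ⟨y, hy, rfl⟩ := hle hx
    exact ⟨y, h1 ((hmN _).2 hx), rfl⟩
  have key2 : ∀ g : G, cj g ((PP q e).map f) = (PP q e).map f → cj g ((RR hF e H.ee).map f) ≤ (RR hF e H.ee).map f := by
    intro g hg x hx
    rw [mem_cj] at hx
    have hRP : (RR hF e H.ee).map f ≤ (PP q e).map f :=
      Subgroup.map_mono ((RR_le_QQ hF H.ee).trans (QQ_le_PP hF H.ee))
    have hxP : x ∈ (PP q e).map f := by
      rw [← hg, mem_cj]
      exact hRP hx
    obtain ⟨y, hy, rfl⟩ := hxP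
    refine ⟨y, mem_RR_of_comm hF hn he0 H.ee hy ?_, rfl⟩
    intro s hs
    apply hf
    have h1 : f s ∈ (PP q e).map f := ⟨s, QQ_le_PP hF H.ee hs, rfl⟩
    rw [← hg, mem_cj] at h1
    obtain ⟨p, hp, hpe⟩ := h1
    obtain ⟨r, hr, hre⟩ := hx
    have h2 := PP_comm_RR hF H.ee hp hr
    have h3 := congrArg f h2
    rw [map_mul, map_mul, hpe, hre] at h3
    rw [map_mul, map_mul]
    calc f y * f s = g * ((g⁻¹ * f y * g) * (g⁻¹ * f s * g)) * g⁻¹ := by group
      _ = g * ((g⁻¹ * f s * g) * (g⁻¹ * f y * g)) * g⁻¹ := by rw [h3]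
      _ = f s * f y := by group
  have eqof : ∀ B : Subgroup G, cj g B ≤ B → cj g⁻¹ B ≤ B → cj g B = B := by
    intro B h1 h2
    apply le_antisymm h1
    have := cj_mono g h2
    rwa [cj_cj_inv] at this
  exact ⟨eqof _ (key1 g hg) (key1 g⁻¹ hgi), eqof _ (key2 g hg) (key2 g⁻¹ hgi)⟩

end map

end Cfsg.Agent.OddHalf.DblR.Un

end

-- merged: Cfsg.Agent.OddHalf.DblR.UnPair
section

/-!
# ODD, D4, unitary groups: no commuting pair of root type (helper350)

* `exists_of_aut'` : from automorphisms to elements of an overgroup;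
* `cnR_of_cnAut` : `CnAut → CnR`;
* **`no_pair_frame`** : no pair of root type, for `K ≅ PSU n F q`, from `LocS` and `UK`;
* `no_pair_of` : the same at an arbitrary isotropic vector.
-/

set_option autoImplicit false

namespace Cfsg.Agent.OddHalf.DblR

open Cfsg.Agent.Nodes.Reps
open scoped commutatorElement

theorem exists_of_aut' {Y G : Type*} [Group Y] [Group G] (f : Y →* G) (hf : Function.Injective f) {S Z : Subgroup Y}
    (H : CnAut S Z) {g : G} (hg : ∀ k ∈ f.range, g * k * g⁻¹ ∈ f.range) (hg' : ∀ k ∈ f.range, g⁻¹ * k * g ∈ f.range)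
    (hgS : ∀ x ∈ S, g * f x = f x * g) : ∃ z ∈ Z, ∀ y, (f z)⁻¹ * g * f y = f y * ((f z)⁻¹ * g) := by
  choose a ha using fun y : Y => (hg (f y) ⟨y, rfl⟩ : ∃ z, f z = g * f y * g⁻¹)
  choose b hb using fun y : Y => (hg' (f y) ⟨y, rfl⟩ : ∃ z, f z = g⁻¹ * f y * g)
  let α : MulAut Y :=
    { toFun := a
      invFun := b
      left_inv := fun y => hf (by rw [hb, ha]; group)
      right_inv := fun y => hf (by rw [ha, hb]; group)
      map_mul' := fun x y => hf (by rw [ha, map_mul, map_mul, ha, ha]; group) }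
  have hα : ∀ y, f (α y) = g * f y * g⁻¹ := ha
  obtain ⟨z, hz, e⟩ := H α (fun x hx => hf (by rw [hα, hgS x hx, mul_inv_cancel_right]))
  refine ⟨z, hz, fun y => ?_⟩
  have h1 := hα y
  rw [e, MulAut.conj_apply, map_mul, map_mul, map_inv] at h1
  calc (f z)⁻¹ * g * f y = (f z)⁻¹ * (g * f y * g⁻¹) * g := by group
    _ = (f z)⁻¹ * (f z * f y * (f z)⁻¹) * g := by rw [h1]
    _ = _ := by group

theorem cnR_of_cnAut {Y G : Type*} [Group Y] [Group G] (f : Y →* G) (hf : Function.Injective f) {R : Subgroup G}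
    (A : Amb f.range R) (hR : ∃ t ∈ R, t ≠ 1) (S Z : Subgroup Y) (H : CnAut S Z) :
    CnR f.range R (S.map f) (Z.map f) := by
  intro c hc hcS
  obtain ⟨t, ht, ht1⟩ := hR
  have hci : c⁻¹ * t = t * c⁻¹ := comm_inv (hc t ht)
  obtain ⟨z, hz, h1⟩ := exists_of_aut' f hf H (g := c) (fun k hk => A.nor t ht ht1 c (hc t ht) k hk)
    (fun k hk => by
      have := A.nor t ht ht1 c⁻¹ hci k hk
      rwa [inv_inv] at this)
    (fun x hx => hcS _ ⟨x, hx, rfl⟩)
  refine ⟨f z, ⟨z, hz, rfl⟩, mem_C1.2 ⟨?_, ?_⟩⟩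
  · rintro _ ⟨y, rfl⟩
    exact h1 y
  · intro a ha
    have h2 := comm_inv' (A.comm a ha (f z) ⟨z, rfl⟩)
    calc (f z)⁻¹ * c * a = (f z)⁻¹ * (c * a) := by group
      _ = ((f z)⁻¹ * a) * c := by rw [hc a ha]; group
      _ = a * ((f z)⁻¹ * c) := by rw [← h2]; group

namespace Un

open Cfsg Cfsg.Agent.LieClassical.HermBasic Cfsg.Agent.LieClassical.HermSiegel
  Cfsg.Agent.LieClassical.HermGen Cfsg.Agent.LieClassical.SUBasic Matrix
  Cfsg.Agent.ClassicalGeometry.PSUAutBasic Cfsg.Agent.ClassicalGeometry.PSUAutSylow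
  Cfsg.Agent.ClassicalGeometry.PSUAutUnip Cfsg.Agent.ClassicalGeometry.PSUAutPhi
  Cfsg.Agent.ClassicalGeometry.PSUAutTorus Cfsg.Agent.KFacts.Unit

variable {F : Type*} [Field F] [Fintype F] {q n : ℕ} [CharP F 2]

omit [CharP F 2] in
theorem hyp_of_frame {e e' : Fin n → F} (H : IsFrame q e e') : Hyp q e e' := ⟨H.ee, H.ff, H.ef⟩

/-- the facts `UK` at the vector `e` -/
def HasUK (hF : Fintype.card F = q ^ 2) (e : Fin n → F) (he : hermForm n F q e e = 0) : Prop :=
  ∃ (T P A1 V1 S1 Z1 A2 V2 S2 Z2 Xm Xd E1 E2 : Subgroup (PSU n F q)) (z1 z2 τ : PSU n F q),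
    UK CnAut T (PP q e) P (RR hF e he) A1 V1 S1 Z1 A2 V2 S2 Z2 Xm Xd E1 E2 z1 z2 τ

/-- **No pair of root type**, at a frame vector. -/
theorem no_pair_frame {G : Type*} [Group G] [Finite G] (hF : Fintype.card F = q ^ 2) (hn : 4 ≤ n) (hq : q ≠ 2)
    (f : PSU n F q →* G) (hf : Function.Injective f) {R : Subgroup G} {e e' : Fin n → F} (H : IsFrame q e e')
    (L : LocS f.range R ((PP q e).map f) ((QQ hF e H.ee).map f) ((RR hF e H.ee).map f)
      ((HH hF (hyp_of_frame H)).map f))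
    (U : HasUK hF e H.ee)
    (hout : ∀ H : Subgroup G, H ≤ Subgroup.normalizer (f.range : Set G) → H ≤ ⁅H, H⁆ →
      ∀ x ∈ H, ∃ k ∈ f.range, ∃ c : G, (∀ y ∈ f.range, c * y = y * c) ∧ x = k * c)
    (hC1 : ∀ H : Subgroup G, H ≤ C1 f.range R → H ≤ ⁅H, H⁆ → H = ⊥)
    {t t' : G} (ht : t ∈ R) (ht1 : t ≠ 1) (ht' : t' ∈ R) (ht1' : t' ≠ 1) (hne : t' ≠ t)
    {γ k : G} (hk : k ∈ f.range) (hg1 : cj γ R ≤ R ⊔ (RR hF e H.ee).map f)
    (hg2 : R ≤ cj γ (R ⊔ cj k ((RR hF e H.ee).map f))) (hg3 : ¬ cj γ R ≤ R) : False := by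
  have he0 : e ≠ 0 := frame_ne_zero H
  have hle : ∀ S : Subgroup (PSU n F q), S.map f ≤ f.range := by
    rintro S _ ⟨x, -, rfl⟩
    exact ⟨x, rfl⟩
  obtain ⟨W, B, hW⟩ := L.base_of_pair (norX f hf hF (by omega) (hyp_of_frame H)) res res_cj
    (fun S h1 h2 h3 => res_eq L.amb (fun p hp x hx => (L.XZ x hx p hp).symm) L.PK (hle _) ⟨t, ht, ht1⟩
      (by
        rw [← Subgroup.map_commutator]
        exact Subgroup.map_mono (PP_perf hF hn hq he0 H.ee)) hout hC1
      (fun x hx hx1 H' hH hHx hp => le_PP_of_perfect f hf hF (by omega) he0 H.ee hx hx1 hH hHx hp) S h1 h2 h3)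
    (fun g hg => cj_of_cj_PP f hf hF (by omega) H hg) hk hg1 hg2 hg3
  obtain ⟨T, P, A1, V1, S1, Z1, A2, V2, S2, Z2, Xm, Xd, E1, E2, z1, z2, τ, U⟩ := U
  have U' := U.map f hf (Cn' := CnR f.range R) (cnR_of_cnAut f hf L.amb ⟨t, ht, ht1⟩)
  obtain ⟨y, hy, hy1⟩ := exists_RR_ne hF (by omega) he0 H.ee
  exact hne (U'.eq_of_ne_one L.amb B hW (hle _) (hle _) (hle _) (hle _) (hle _) (hle _)
    ⟨f y, ⟨y, hy, rfl⟩, fun h => hy1 (hf (by rw [h, map_one]))⟩ ht ht1 ht' ht1')

/-- **No pair of root type.** -/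
theorem no_pair_of {G : Type*} [Group G] [Finite G] (hF : Fintype.card F = q ^ 2) (hn : 4 ≤ n) (hq : q ≠ 2)
    (f : PSU n F q →* G) (hf : Function.Injective f) {R : Subgroup G} {e e' : Fin n → F} (H : IsFrame q e e')
    (L : LocS f.range R ((PP q e).map f) ((QQ hF e H.ee).map f) ((RR hF e H.ee).map f)
      ((HH hF (hyp_of_frame H)).map f))
    (U : HasUK hF e H.ee)
    (hout : ∀ H : Subgroup G, H ≤ Subgroup.normalizer (f.range : Set G) → H ≤ ⁅H, H⁆ →
      ∀ x ∈ H, ∃ k ∈ f.range, ∃ c : G, (∀ y ∈ f.range, c * y = y * c) ∧ x = k * c)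
    (hC1 : ∀ H : Subgroup G, H ≤ C1 f.range R → H ≤ ⁅H, H⁆ → H = ⊥)
    {t t' : G} (ht : t ∈ R) (ht1 : t ≠ 1) (ht' : t' ∈ R) (ht1' : t' ≠ 1) (hne : t' ≠ t)
    {u : Fin n → F} (hu0 : u ≠ 0) (hu : hermForm n F q u u = 0)
    {γ k : G} (hk : k ∈ f.range) (hg1 : cj γ R ≤ R ⊔ (RR hF u hu).map f)
    (hg2 : R ≤ cj γ (R ⊔ cj k ((RR hF u hu).map f))) (hg3 : ¬ cj γ R ≤ R) : False := by
  have he0 : e ≠ 0 := frame_ne_zero H
  obtain ⟨g, -, hg⟩ := exists_map_iso hF (by omega) le_rfl (mem_coordSub_top e) (mem_coordSub_top u)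
    he0 hu0 H.ee hu
  subst hg
  set s := f (pr n F q g) with hs
  have hsK : s ∈ f.range := ⟨_, rfl⟩
  have hX : (RR hF (act g e) hu).map f = cj s ((RR hF e H.ee).map f) := by
    rw [hs, Cfsg.Agent.Nodes.RGDLib.cj_map, cj_RR hF g H.ee hu]
  have hsR : ∀ k ∈ f.range, cj k R = R := by
    intro k hk
    have key : ∀ k ∈ f.range, cj k R ≤ R := by
      intro k hk x hx
      rw [mem_cj] at hx
      have h1 := L.amb.comm _ hx k hk
      have : x = k⁻¹ * x * k := by
        calc x = k * (k⁻¹ * x * k) * k⁻¹ := by group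
          _ = (k⁻¹ * x * k) * k * k⁻¹ := by rw [← h1]
          _ = _ := by group
      rw [this]; exact hx
    apply le_antisymm (key k hk)
    have := cj_mono k (key k⁻¹ (inv_mem hk))
    rwa [cj_cj_inv] at this
  have hsi := hsR s⁻¹ (inv_mem hsK)
  refine no_pair_frame hF hn hq f hf H L U hout hC1 ht ht1 ht' ht1' hne (γ := s⁻¹ * γ) (k := k * s)
    (mul_mem hk hsK) ?_ ?_ ?_
  · have h1 := cj_mono s⁻¹ hg1
    rwa [← cj_mul, cj_sup, hX, cj_inv_cj, hsi] at h1
  · have h1 := cj_mono s⁻¹ hg2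
    rwa [← cj_mul, hX, ← cj_mul, hsi] at h1
  · intro h0
    apply hg3
    have h1 := cj_mono s h0
    rwa [← cj_mul, mul_inv_cancel_left, hsR s hsK] at h1

end Un

end Cfsg.Agent.OddHalf.DblR

end

-- merged: Cfsg.Agent.OddHalf.DblR.UnLocAbs
section

/-!
# The radical of an isotropic point, `n ≥ 4`: the hypotheses of `LocS` in the abstract situation

* `exists_iso_basis` : a basis of isotropic vectors;
* `norm_lin` : an additive map commuting with the transvections commutes with norms;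
* `sc_abs`, `B_abs`.
-/

set_option autoImplicit false

namespace Cfsg.Agent.OddHalf.DblR.UnLoc

open Subgroup Cfsg.Agent.OddHalf.D7.Uni.Ex
open scoped commutatorElement

variable {G : Type*} [Group G] {F : Type*} [Field F] {N : Type*} [AddCommGroup N] [Module F N]
  {σ : F →+* F} {B : N → N → F}

/-- A hermitian space with a hyperbolic pair has a basis of isotropic vectors. -/
theorem exists_iso_basis [Finite N] (H : Form σ B)
    (hp : ∃ x y, B x x = 0 ∧ B y y = 0 ∧ B x y = 1) :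
    ∃ (s : Set N) (b : Module.Basis s F N), Finite s ∧ ∀ i, B (b i) (b i) = 0 := by
  obtain ⟨x, y, hx, hy, hxy⟩ := hp
  have hyx : B y x = 1 := by rw [H.symm, hxy, map_one]
  have hspan : (⊤ : Submodule F N) ≤ Submodule.span F {v | B v v = 0} := by
    intro z _
    set w := z + B z y • x + B z x • y with hw
    have hwy : B w y = 0 := by
      rw [hw, H.add_left, H.add_left, H.smul_left, H.smul_left, hxy, hy, mul_one, mul_zero, add_zero, H.two]
    have hwx : B w x = 0 := by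
      rw [hw, H.add_left, H.add_left, H.smul_left, H.smul_left, hyx, hx, mul_one, mul_zero, add_zero, H.two]
    obtain ⟨c, hc⟩ := H.exists_tr (H.self_sigma w)
    have h1 : B (w + x + c • y) (w + x + c • y) = 0 := by
      simp only [H.add_left, H.add_right, H.smul_left, H.smul_right, hwy, hwx, H.swap hwy, H.swap hwx, hx, hy, hxy,
        hyx]
      linear_combination (c + σ c) * H.two 1 - hc
    have h2 : z = (w + x + c • y) + x + c • y + B z y • x + B z x • y := by
      have e1 := H.two' x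
      have e2 := H.two' (c • y)
      have e3 := H.two' (B z y • x)
      have e4 := H.two' (B z x • y)
      calc z = z + (B z y • x + B z y • x) + (B z x • y + B z x • y) + (x + x) + (c • y + c • y) := by
            rw [e1, e2, e3, e4]; abel
        _ = _ := by rw [hw]; abel
    rw [h2]
    have hx' : x ∈ Submodule.span F {v | B v v = 0} := Submodule.subset_span hx
    have hy' : y ∈ Submodule.span F {v | B v v = 0} := Submodule.subset_span hy
    exact Submodule.add_mem _ (Submodule.add_mem _ (Submodule.add_mem _ (Submodule.add_mem _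
      (Submodule.subset_span h1) hx') (Submodule.smul_mem _ _ hy')) (Submodule.smul_mem _ _ hx'))
      (Submodule.smul_mem _ _ hy')
  let b := Module.Basis.ofSpan hspan
  exact ⟨_, b, inferInstance, fun i => Module.Basis.ofSpan_subset hspan ⟨i, rfl⟩⟩

/-- An additive map commuting with the transvections commutes with norms. -/
theorem norm_lin (H : Form σ B) {ν : N → N} (hν : ∀ x y, ν (x + y) = ν x + ν y)
    (hc : ∀ e, B e e = 0 → ∀ x, ν (B x e • e) = B (ν x) e • e) {ι : Type*} [Fintype ι]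
    {b : Module.Basis ι F N} (hb : ∀ i, B (b i) (b i) = 0) (c : F) (x : N) :
    ν ((c * σ c) • x) = (c * σ c) • ν x := by
  have h1 : ∀ s, B s s = 0 → s ≠ 0 → ∀ l : F, ν ((c * σ c) • (l • s)) = (c * σ c) • ν (l • s) := by
    intro s hs hs0 l
    obtain ⟨x0, hx0⟩ := H.exists_one hs0
    have h2 : B (c • s) (c • s) = 0 := by
      rw [H.smul_left, H.smul_right, hs, mul_zero, mul_zero]
    have h3 := hc _ h2 (l • x0)
    have h4 := hc _ hs (l • x0)
    rw [H.smul_left, hx0, mul_one] at h4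
    rw [H.smul_left, H.smul_right, H.smul_right, hx0, mul_one, smul_smul, smul_smul] at h3
    rw [h4, smul_smul, smul_smul]
    rw [show c * σ c * l = l * σ c * c by ring, h3]
    congr 1
    ring
  have h0 : ν 0 = 0 := by
    have := hν 0 0
    rw [add_zero] at this
    exact (add_eq_left.1 this.symm)
  have hsum : ∀ (s : Finset ι) (g : ι → F),
      ν ((c * σ c) • ∑ i ∈ s, g i • b i) = (c * σ c) • ν (∑ i ∈ s, g i • b i) := by
    intro s g
    classical
    induction s using Finset.induction_on with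
    | empty => simp [h0]
    | insert i s hi ih =>
      rw [Finset.sum_insert hi, smul_add, hν, hν, smul_add, ih, h1 _ (hb i) (b.ne_zero i)]
  rw [← b.sum_repr x]
  exact hsum _ _

variable {X Q P : Subgroup G} {S : N → F → G}

theorem quot_mem (H : Heis σ B X Q S) {x : N} {a a' : F} (ha : a + σ a = B x x) (ha' : a' + σ a' = B x x) :
    S x a * (S x a')⁻¹ ∈ X := by
  have h1 : σ (a + a') = a + a' := by
    have h4 : (a + a') + σ (a + a') = 0 := by
      rw [map_add]
      calc a + a' + (σ a + σ a') = (a + σ a) + (a' + σ a') := by ring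
        _ = 0 := by rw [ha, ha', H.two]
    rw [add_eq_zero_iff_eq_neg, H.neg_eq] at h4
    exact h4.symm
  have h2 : S x a = S 0 (a + a') * S x a' := by
    rw [H.X_mul ha' h1]
    congr 1
    linear_combination - a' * H.two 1
  rw [h2, mul_inv_cancel_right]
  exact H.mem_X h1

/-- **sc** -/
theorem sc_abs (H : Heis σ B X Q S) (T : HasTr σ B P S) {ι : Type*} [Fintype ι]
    {b : Module.Basis ι F N} (hb : ∀ i, B (b i) (b i) = 0) {e : G} (hQ : ∀ q ∈ Q, e * q * e⁻¹ ∈ Q)
    (hX : ∀ x ∈ X, e * x * e⁻¹ ∈ X) (hP : ∀ p ∈ P, e * p * e⁻¹ * p⁻¹ ∈ Q) {h : G} {c : F}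
    (hh : ∀ x a, a + σ a = B x x → ∃ a', a' + σ a' = B ((c * σ c) • x) ((c * σ c) • x) ∧
      h * S x a * h⁻¹ = S ((c * σ c) • x) a') :
    ∀ v ∈ Q, h * (e * v * e⁻¹) * h⁻¹ * (e * (h * v * h⁻¹) * e⁻¹)⁻¹ ∈ X := by
  obtain ⟨ν, hν, hα⟩ := H.exists_nu (α := fun q => e * q * e⁻¹) hQ hX (fun q _ r _ => by group)
  have hc := norm_lin H.toForm hν (fun s hs x => by
    obtain ⟨p, hp, hpS⟩ := T s hs
    refine H.nu_tr (α := fun q => e * q * e⁻¹) hν hα hs (hP p hp) hpS (fun v _ => ?_) x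
    group) hb c
  intro v hv
  obtain ⟨x, a, ha, rfl⟩ := (H.memQ v).1 hv
  obtain ⟨a1, ha1, e1⟩ := hα x a ha
  obtain ⟨a2, ha2, e2⟩ := hh _ a1 ha1
  obtain ⟨a3, ha3, e3⟩ := hh x a ha
  obtain ⟨a4, ha4, e4⟩ := hα _ a3 ha3
  have e1' : e * S x a * e⁻¹ = S (ν x) a1 := e1
  have e4' : e * S ((c * σ c) • x) a3 * e⁻¹ = S (ν ((c * σ c) • x)) a4 := e4
  rw [e1', e2, e3, e4', hc]
  rw [hc] at ha4
  exact quot_mem H ha2 ha4

/-- **B** -/
theorem B_abs [Finite N] (H : Heis σ B X Q S) (T : HasTr σ B P S) {ι : Type*} [Fintype ι]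
    {b : Module.Basis ι F N} (hb : ∀ i, B (b i) (b i) = 0) (QP : Q ≤ P) (hPP : ⁅P, P⁆ = P)
    (QN : ∀ p ∈ P, ∀ q ∈ Q, p * q * p⁻¹ ∈ Q) (XZ : ∀ x ∈ X, ∀ p ∈ P, x * p = p * x)
    {y : G} (h1 : ∀ p ∈ P, y * p * y⁻¹ * p⁻¹ ∈ Q)
    (h2 : ∀ v ∈ Q, y * v * y⁻¹ * v⁻¹ ∈ X) (h3 : ∀ x ∈ X, y * x = x * y) :
    ∃ q ∈ Q, ∀ p ∈ P, y * p * y⁻¹ = q * p * q⁻¹ := by
  have XQ := H.XQ
  -- `E2`
  obtain ⟨q0, hq0, hf⟩ := H.E2 T hb (f := fun v => y * v * y⁻¹ * v⁻¹) h2 (by
      intro v hv w hw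
      have h4 : v⁻¹ * (y * w * y⁻¹ * w⁻¹) = (y * w * y⁻¹ * w⁻¹) * v⁻¹ := (XZ _ (h2 w hw) _ (QP (inv_mem hv))).symm
      show y * (v * w) * y⁻¹ * (v * w)⁻¹ = y * v * y⁻¹ * v⁻¹ * (y * w * y⁻¹ * w⁻¹)
      calc y * (v * w) * y⁻¹ * (v * w)⁻¹ = y * v * y⁻¹ * ((y * w * y⁻¹ * w⁻¹) * v⁻¹) := by group
        _ = y * v * y⁻¹ * (v⁻¹ * (y * w * y⁻¹ * w⁻¹)) := by rw [h4]
        _ = _ := by group) (by
      intro x hx
      show y * x * y⁻¹ * x⁻¹ = 1
      rw [h3 x hx]; group) (by
      intro p hp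
      refine ⟨p⁻¹ * (y * p * y⁻¹ * p⁻¹) * p, ?_, fun v hv => ?_⟩
      · have := QN _ (inv_mem hp) _ (h1 p hp)
        rwa [inv_inv] at this
      · set z := y * p * y⁻¹ * p⁻¹ with hz
        have hzQ : z ∈ Q := h1 p hp
        have h4 := h2 v hv
        have h5 : p⁻¹ * z * p * v * (p⁻¹ * z * p)⁻¹ * v⁻¹ ∈ X := by
          have h6 := QN _ (inv_mem hp) _ hzQ
          rw [inv_inv] at h6
          exact H.QQ _ h6 _ hv
        have h7 : p * (p⁻¹ * z * p * v * (p⁻¹ * z * p)⁻¹ * v⁻¹) * p⁻¹ = p⁻¹ * z * p * v * (p⁻¹ * z * p)⁻¹ * v⁻¹ := by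
          rw [← XZ _ h5 p hp]; group
        have h8 : z * p * (y * v * y⁻¹ * v⁻¹) * (z * p)⁻¹ = y * v * y⁻¹ * v⁻¹ := by
          rw [← XZ _ h4 _ (mul_mem (QP hzQ) hp)]; group
        show y * (p * v * p⁻¹) * y⁻¹ * (p * v * p⁻¹)⁻¹ =
          y * v * y⁻¹ * v⁻¹ * (p⁻¹ * z * p * v * (p⁻¹ * z * p)⁻¹ * v⁻¹)
        calc y * (p * v * p⁻¹) * y⁻¹ * (p * v * p⁻¹)⁻¹
            = (z * p * (y * v * y⁻¹ * v⁻¹) * (z * p)⁻¹) * (p * (p⁻¹ * z * p * v * (p⁻¹ * z * p)⁻¹ * v⁻¹) * p⁻¹) := by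
              rw [hz]; group
          _ = _ := by rw [h8, h7])
  -- `y' = q0⁻¹ y` centralises `Q`
  have hf' : ∀ v ∈ Q, y * v * y⁻¹ * v⁻¹ = q0 * v * q0⁻¹ * v⁻¹ := hf
  have hyQ : ∀ v ∈ Q, q0⁻¹ * y * v * (q0⁻¹ * y)⁻¹ = v := by
    intro v hv
    have h4 : y * v * y⁻¹ = q0 * v * q0⁻¹ := mul_right_cancel (hf' v hv)
    calc q0⁻¹ * y * v * (q0⁻¹ * y)⁻¹ = q0⁻¹ * (y * v * y⁻¹) * q0 := by group
      _ = v := by rw [h4]; group
  set y' := q0⁻¹ * y with hy'
  have hyP : ∀ p ∈ P, y' * p * y'⁻¹ * p⁻¹ ∈ Q := by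
    intro p hp
    have h4 := h1 p hp
    have h5 : q0⁻¹ * (y * p * y⁻¹ * p⁻¹) * q0 ∈ Q := mul_mem (mul_mem (inv_mem hq0) h4) hq0
    have h6 : p * q0 * p⁻¹ ∈ Q := QN p hp _ hq0
    have e : y' * p * y'⁻¹ * p⁻¹ = (q0⁻¹ * (y * p * y⁻¹ * p⁻¹) * q0) * (q0⁻¹ * (p * q0 * p⁻¹)) := by rw [hy']; group
    rw [e]
    exact mul_mem h5 (mul_mem (inv_mem hq0) h6)
  have hyX : ∀ p ∈ P, y' * p * y'⁻¹ * p⁻¹ ∈ X := by
    intro p hp
    set z := y' * p * y'⁻¹ * p⁻¹ with hz
    apply H.ZQ z (hyP p hp)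
    intro v hv
    have h4 : p⁻¹ * v * p ∈ Q := by
      have := QN _ (inv_mem hp) _ hv
      rwa [inv_inv] at this
    have h5 := hyQ _ hv
    have h6 := hyQ _ h4
    have h7 : z * v * z⁻¹ = v := by
      calc z * v * z⁻¹ = y' * p * (y'⁻¹ * p⁻¹ * v * p * y') * p⁻¹ * y'⁻¹ := by rw [hz]; group
        _ = y' * p * (y'⁻¹ * (y' * (p⁻¹ * v * p) * y'⁻¹) * y') * p⁻¹ * y'⁻¹ := by rw [h6]; group
        _ = y' * v * y'⁻¹ := by group
        _ = v := h5
    calc z * v = (z * v * z⁻¹) * z := by group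
      _ = v * z := by rw [h7]
  -- a homomorphism from `P` to `X`
  have hmul : ∀ a ∈ P, ∀ b ∈ P, y' * (a * b) * y'⁻¹ * (a * b)⁻¹ = (y' * a * y'⁻¹ * a⁻¹) * (y' * b * y'⁻¹ * b⁻¹) := by
    intro a ha b hb
    have h4 := XZ _ (hyX b hb) _ (inv_mem ha)
    calc y' * (a * b) * y'⁻¹ * (a * b)⁻¹ = y' * a * y'⁻¹ * ((y' * b * y'⁻¹ * b⁻¹) * a⁻¹) := by group
      _ = _ := by rw [h4]; group
  have hcen : ∀ p ∈ P, y' * p * y'⁻¹ * p⁻¹ = 1 := by
    let M : Subgroup G :=
      { carrier := {p | p ∈ P ∧ y' * p * y'⁻¹ * p⁻¹ = 1}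
        one_mem' := ⟨one_mem _, by group⟩
        mul_mem' := by
          rintro a b ⟨ha, ha'⟩ ⟨hb, hb'⟩
          exact ⟨mul_mem ha hb, by rw [hmul a ha b hb, ha', hb', mul_one]⟩
        inv_mem' := by
          rintro a ⟨ha, ha'⟩
          refine ⟨inv_mem ha, ?_⟩
          have h4 := hmul a ha a⁻¹ (inv_mem ha)
          rw [ha', one_mul] at h4
          rw [← h4]; group }
    have hM : P ≤ M := by
      conv_lhs => rw [← hPP]
      rw [commutator_le]
      intro a ha b hb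
      refine ⟨commutator_le_self P (commutator_mem_commutator ha hb), ?_⟩
      have ha1 := hyX a ha
      have hb1 := hyX b hb
      have ea : y' * a * y'⁻¹ = (y' * a * y'⁻¹ * a⁻¹) * a := by group
      have eb : y' * b * y'⁻¹ = (y' * b * y'⁻¹ * b⁻¹) * b := by group
      set u := y' * a * y'⁻¹ * a⁻¹ with hu
      set v := y' * b * y'⁻¹ * b⁻¹ with hv
      have cu := XZ u ha1
      have cv := XZ v hb1
      have hPc : y' * (a * b * a⁻¹ * b⁻¹) * y'⁻¹ = (u * a) * (v * b) * (u * a)⁻¹ * (v * b)⁻¹ := by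
        rw [← ea, ← eb]; group
      show y' * ⁅a, b⁆ * y'⁻¹ * ⁅a, b⁆⁻¹ = 1
      rw [commutatorElement_def, hPc]
      have h5 : (u * a) * (v * b) * (u * a)⁻¹ * (v * b)⁻¹ = a * b * a⁻¹ * b⁻¹ := by
        have c1 : Commute u a := cu a ha
        have c2 : Commute u b := cu b hb
        have c3 : Commute u v := cu v (QP (XQ hb1))
        have c4 : Commute v a := cv a ha
        have c5 : Commute v b := cv b hb
        calc (u * a) * (v * b) * (u * a)⁻¹ * (v * b)⁻¹ = u * (a * v) * b * a⁻¹ * u⁻¹ * b⁻¹ * v⁻¹ := by group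
          _ = u * (v * (a * b * a⁻¹)) * u⁻¹ * b⁻¹ * v⁻¹ := by rw [← c4.eq]; group
          _ = (v * (a * b * a⁻¹)) * u * u⁻¹ * b⁻¹ * v⁻¹ := by
              rw [(c3.mul_right ((c1.mul_right c2).mul_right c1.inv_right)).eq]
          _ = v * (a * b * a⁻¹ * b⁻¹) * v⁻¹ := by group
          _ = (a * b * a⁻¹ * b⁻¹) * v * v⁻¹ := by
              rw [(((c4.mul_right c5).mul_right c4.inv_right).mul_right c5.inv_right).eq]
          _ = _ := by group
      rw [h5, mul_inv_cancel]
    exact fun p hp => (hM hp).2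
  refine ⟨q0, hq0, fun p hp => ?_⟩
  have h4 := hcen p hp
  rw [mul_inv_eq_one] at h4
  calc y * p * y⁻¹ = q0 * (y' * p * y'⁻¹) * q0⁻¹ := by rw [hy']; group
    _ = q0 * p * q0⁻¹ := by rw [h4]

end Cfsg.Agent.OddHalf.DblR.UnLoc

end

-- merged: Cfsg.Agent.OddHalf.DblR.UnLoc
section

/-!
# `LocS` for an isotropic point of `PSU n F q`, `q ≥ 4` even, `n ≥ 4`
-/

set_option autoImplicit false
set_option linter.unusedSectionVars false

namespace Cfsg.Agent.OddHalf.DblR.UnLoc

open Subgroup Cfsg.Agent.OddHalf.D7.Uni.Ex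
open Cfsg Cfsg.Agent.LieClassical.HermBasic Cfsg.Agent.LieClassical.HermSiegel
  Cfsg.Agent.LieClassical.HermGen Cfsg.Agent.LieClassical.SUBasic Matrix
  Cfsg.Agent.ClassicalGeometry.PSUAutBasic Cfsg.Agent.ClassicalGeometry.PSUAutSylow
  Cfsg.Agent.ClassicalGeometry.PSUAutUnip Cfsg.Agent.KFacts.Unit

variable {F : Type*} [Field F] [Fintype F] {q n : ℕ} {G : Type*} [Group G] {e f : Fin n → F}

/-- From automorphisms to elements of an overgroup. -/
theorem exists_of_aut {Y : Type*} [Group Y] (f : Y →* G) (hf : Function.Injective f) {S : Set Y}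
    {Z : Subgroup Y} (H : ∀ α : MulAut Y, (∀ x ∈ S, α x = x) → ∃ z ∈ Z, α = MulAut.conj z) {g : G}
    (hg : g ∈ Subgroup.normalizer (f.range : Set G)) (hgS : ∀ x ∈ S, g * f x = f x * g) :
    ∃ z ∈ Z, ∀ y, (f z)⁻¹ * g * f y = f y * ((f z)⁻¹ * g) := by
  let e : Y ≃* ↥f.range := MonoidHom.ofInjective hf
  obtain ⟨β, hβ⟩ : ∃ β : MulAut ↥f.range, ∀ k : ↥f.range, ((β k : ↥f.range) : G) = g * k * g⁻¹ :=
    ⟨Subgroup.normalizerMonoidHom f.range ⟨g, hg⟩, fun k => rfl⟩
  obtain ⟨α, hα⟩ : ∃ α : MulAut Y, ∀ y, f (α y) = g * f y * g⁻¹ := by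
    refine ⟨(e.trans β).trans e.symm, fun y => ?_⟩
    have h1 : f (e.symm (β (e y))) = ((e (e.symm (β (e y))) : ↥f.range) : G) := rfl
    have h2 : ((e y : ↥f.range) : G) = f y := rfl
    show f (e.symm (β (e y))) = _
    rw [h1, MulEquiv.apply_symm_apply, hβ, h2]
  obtain ⟨z, hz, e⟩ := H α (fun x hx => hf (by rw [hα, hgS x hx, mul_inv_cancel_right]))
  refine ⟨z, hz, fun y => ?_⟩
  have h1 := hα y
  rw [e, MulAut.conj_apply, map_mul, map_mul, map_inv] at h1
  calc (f z)⁻¹ * g * f y = (f z)⁻¹ * (g * f y * g⁻¹) * g := by group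
    _ = (f z)⁻¹ * (f z * f y * (f z)⁻¹) * g := by rw [h1]
    _ = _ := by group

section Two

variable [CharP F 2]

/-- A hyperbolic pair of `N`. -/
theorem exists_pair (hF : Fintype.card F = q ^ 2) (hn : 4 ≤ n) (H : Hyp q e f) :
    ∃ x y : NN q e f, BB q e f x x = 0 ∧ BB q e f y y = 0 ∧ BB q e f x y = 1 := by
  obtain ⟨x, y, hxe, hye, hxx, hyy, hxy⟩ := exists_pair_of_iso hF hn H.ne_zero H.ee
  have key : ∀ x y : Fin n → F, hermForm n F q x e = 0 → hermForm n F q y e = 0 →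
      hermForm n F q (prN q e f x) (prN q e f y) = hermForm n F q x y := by
    intro x y hx hy
    rw [prN, prN, hx, hy, zero_smul, sub_zero, sub_zero, herm_sub_left, herm_sub_right hF,
      herm_sub_right hF, herm_smul_left, herm_smul_left, herm_smul_right, herm_smul_right, hx, H.ee,
      herm_eq_zero_swap hF hy]
    ring
  exact ⟨⟨prN q e f x, prN_e hF H x, prN_f H x⟩, ⟨prN q e f y, prN_e hF H y, prN_f H y⟩,
    (key x x hxe hxe).trans hxx, (key y y hye hye).trans hyy, (key x y hxe hye).trans hxy⟩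

/-- The torus acts on `Q / X` by norms. -/
theorem HH_act (hF : Fintype.card F = q ^ 2) (H : Hyp q e f) (ρ : PSU n F q →* G) {h : G}
    (hh : h ∈ (HH hF H).map ρ) : ∃ c : F, ∀ (x : NN q e f) (a : F), a + frb hF a = BB q e f x x →
      ∃ a', a' + frb hF a' = BB q e f ((c * frb hF c) • x) ((c * frb hF c) • x) ∧
        h * SS hF e f ρ x a * h⁻¹ = SS hF e f ρ ((c * frb hF c) • x) a' := by
  obtain ⟨_, ⟨b, hb, hbq, rfl⟩, rfl⟩ := hh
  obtain ⟨c, hc⟩ := exists_norm_eq hF hbq
  refine ⟨c, fun x a ha => ?_⟩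
  have hcb : c * frb hF c = b := hc
  rw [hcb]
  have h0 : b * b * a + frb hF (b * b * a) = BB q e f (b • x) (b • x) := by
    have h1 : frb hF b = b := hbq
    have F0 := form hF H
    rw [map_mul, map_mul, h1, F0.smul_left, F0.smul_right, h1, ← ha]
    ring
  refine ⟨b * b * a, h0, ?_⟩
  have h2 := (isSiegel_iff H).2 ha
  have h3 := (isSiegel_iff H).2 h0
  rw [SS_eq hF ρ h2, SS_eq hF ρ h3, ← map_inv, ← map_inv, ← map_mul, ← map_mul, ← map_mul, ← map_mul, conj_siegel]
  congr 2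
  apply ext_act
  intro v
  have h4 : act (hyp hF H b hb hbq) (x : Fin n → F) = x := act_hyp_of_orth hF H hb hbq x.2.1 x.2.2
  rw [act_siegel, act_siegel, act_hyp_e, h4]
  have h5 : ((b • x : NN q e f) : Fin n → F) = b • (x : Fin n → F) := rfl
  rw [h5]
  simp only [herm_smul_right, smul_smul, hbq]
  funext i
  simp only [Pi.add_apply, Pi.smul_apply, smul_eq_mul]
  ring

/-- The transvection group is elementary abelian. -/
theorem RR_sq (hF : Fintype.card F = q ^ 2) {u : Fin n → F} (hu : hermForm n F q u u = 0)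
    {x : PSU n F q} (hx : x ∈ RR hF u hu) : x * x = 1 := by
  obtain ⟨μ, hμ, rfl⟩ := mem_RR.1 hx
  rw [← map_mul]
  have h1 : transv hF u hu μ hμ * transv hF u hu μ hμ = 1 := by
    apply ext_act
    intro v
    rw [act_mul, act_transv, act_transv, act_one, herm_add_left, herm_smul_left, hu, mul_zero, add_zero, add_assoc,
      ← add_smul, CharTwo.add_self_eq_zero, zero_smul, add_zero]
  rw [h1, map_one]

theorem exists_RR_ne (hF : Fintype.card F = q ^ 2) (hn : 3 ≤ n) (H : Hyp q e f) : ∃ x ∈ RR hF e H.ee, x ≠ 1 := by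
  obtain ⟨μ, hμ0, hμ⟩ := exists_trace_zero_ne hF
  refine ⟨pr n F q (transv hF e H.ee μ hμ), mem_RR.2 ⟨μ, hμ, rfl⟩, fun h1 => ?_⟩
  have h00 : (0 : F) + 0 ^ q = 0 := by rw [zero_pow_q hF, add_zero]
  have h2 : pr n F q (transv hF e H.ee μ hμ) = pr n F q (transv hF e H.ee 0 h00) := by
    rw [h1, transv_zero, map_one]
  have h3 := siegel_pr_inj hF hn _ _ h2
  have h4 := congrArg (fun g => act g f) h3
  change act (transv hF e H.ee μ hμ) f = act (transv hF e H.ee 0 h00) f at h4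
  rw [act_transv, act_transv, H.fe hF, mul_one, zero_mul, zero_smul, add_zero, add_eq_left] at h4
  rcases smul_eq_zero.1 h4 with h5 | h5
  · exact hμ0 h5
  · exact H.ne_zero h5

/-- The torus is commutative. -/
theorem HH_comm (hF : Fintype.card F = q ^ 2) (H : Hyp q e f) {h k : PSU n F q} (hh : h ∈ HH hF H) (hk : k ∈ HH hF H) :
    h * k = k * h := by
  obtain ⟨b, hb, hbq, rfl⟩ := hh
  obtain ⟨c, hc, hcq, rfl⟩ := hk
  rw [← map_mul, ← map_mul, hyp_mul, hyp_mul]
  congr 1
  apply ext_act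
  intro v
  rw [act_hyp, act_hyp, mul_comm b c]

/-- **`LocS` for an isotropic point.** -/
theorem locS [Finite G] (hF : Fintype.card F = q ^ 2) (hn : 4 ≤ n) (hq : 4 ≤ q) (H : Hyp q e f)
    (hperf : ⁅PP q e, PP q e⁆ = (PP q e : Subgroup (PSU n F q))) (ρ : PSU n F q →* G) (hρ : Function.Injective ρ)
    {R : Subgroup G} (A : Amb ρ.range R) (hR : ∃ t ∈ R, t ≠ 1)
    (two : ∀ c ∈ C1 ρ.range R, IsPGroup 2 (Subgroup.zpowers c) → c ∈ R) :
    LocS ρ.range R ((PP q e).map ρ) ((QQ hF e H.ee).map ρ) ((RR hF e H.ee).map ρ) ((HH hF H).map ρ) := by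
  have HE := heis hF (by omega) H hρ
  have T := hasTr hF H ρ
  obtain ⟨s, b, hfin, hb⟩ := exists_iso_basis (form hF H) (exists_pair hF hn H)
  have := Fintype.ofFinite s
  have hQP : (QQ hF e H.ee).map ρ ≤ (PP q e).map ρ := map_mono (QQ_le_PP hF H.ee)
  have hXZ : ∀ x ∈ (RR hF e H.ee).map ρ, ∀ p ∈ (PP q e).map ρ, x * p = p * x := by
    rintro _ ⟨x, hx, rfl⟩ _ ⟨p, hp, rfl⟩
    rw [← map_mul, ← map_mul, PP_comm_RR hF H.ee hp hx]
  have hQN : ∀ p ∈ (PP q e).map ρ, ∀ v ∈ (QQ hF e H.ee).map ρ, p * v * p⁻¹ ∈ (QQ hF e H.ee).map ρ := by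
    rintro _ ⟨p, hp, rfl⟩ _ ⟨v, hv, rfl⟩
    rw [← map_mul, ← map_inv, ← map_mul]
    exact mem_map_of_mem _ (PP_conj_QQ hF H.ee hp hv)
  have hPP : ⁅(PP q e).map ρ, (PP q e).map ρ⁆ = (PP q e).map ρ := by rw [← map_commutator, hperf]
  exact
    { amb := A
      PK := map_le_range ρ _
      QP := hQP
      XQ := map_mono (RR_le_QQ hF H.ee)
      XX := by
        rintro _ ⟨x, hx, rfl⟩
        rw [← map_mul, RR_sq hF H.ee hx, map_one]
      XZ := hXZ
      QN := hQN
      TK := map_le_range ρ _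
      TX := by
        rintro _ ⟨h, hh, rfl⟩ _ ⟨x, hx, rfl⟩
        rw [← map_mul, ← map_inv, ← map_mul]
        exact mem_map_of_mem _ (HH_conj_RR hF H hh hx)
      TQ := by
        rintro _ ⟨h, hh, rfl⟩ _ ⟨x, hx, rfl⟩
        rw [← map_mul, ← map_inv, ← map_mul, ← map_inv, ← map_mul]
        exact mem_map_of_mem _ (HH_conj_PP hF H hh hx)
      Tab := by
        rintro _ ⟨h, hh, rfl⟩ _ ⟨k, hk, rfl⟩
        rw [← map_mul, HH_comm hF H hh hk, map_mul]
      Ttr := by
        rintro _ ⟨x, hx, rfl⟩ hx1 _ ⟨y, hy, rfl⟩ hy1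
        obtain ⟨h, hh, e1⟩ := HH_trans hF H hx hy (fun h0 => hx1 (by rw [h0, map_one]))
          (fun h0 => hy1 (by rw [h0, map_one]))
        exact ⟨ρ h, mem_map_of_mem _ hh, by rw [← map_mul, ← map_inv, ← map_mul, e1]⟩
      big := by
        obtain ⟨x, hx, hx1⟩ := exists_RR_ne hF (by omega) H
        obtain ⟨h, hh, hfix⟩ := exists_HH_free hF (by omega) (by omega) H
        refine ⟨ρ x, mem_map_of_mem _ hx, ρ (h * x * h⁻¹), mem_map_of_mem _ (HH_conj_RR hF H hh hx), ?_, ?_, ?_⟩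
        · intro h0
          exact hx1 (hρ (h0.trans (map_one ρ).symm))
        · intro h0
          have h1 := hρ (h0.trans (map_one ρ).symm)
          apply hx1
          calc x = h⁻¹ * (h * x * h⁻¹) * h := by group
            _ = 1 := by rw [h1]; group
        · intro h0
          exact hx1 (hfix x hx (hρ h0).symm)
      two := two
      k3 := by
        intro c hcR hcP
        obtain ⟨t, ht, ht1⟩ := hR
        have hct := hcR t ht
        have h1 : ∀ k ∈ ρ.range, c * k * c⁻¹ ∈ ρ.range := A.nor t ht ht1 c hct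
        have hct' : c⁻¹ * t = t * c⁻¹ := by
          calc c⁻¹ * t = c⁻¹ * (t * c) * c⁻¹ := by group
            _ = c⁻¹ * (c * t) * c⁻¹ := by rw [hct]
            _ = t * c⁻¹ := by group
        have h2 : ∀ k ∈ ρ.range, c⁻¹ * k * c ∈ ρ.range := by
          intro k hk
          have := A.nor t ht ht1 c⁻¹ hct' k hk
          rwa [inv_inv] at this
        have hcn : c ∈ Subgroup.normalizer (ρ.range : Set G) := by
          rw [Subgroup.mem_normalizer_iff]
          refine fun k => ⟨fun hk => h1 k hk, fun hk => ?_⟩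
          have := h2 _ hk
          rwa [show c⁻¹ * (c * k * c⁻¹) * c = k by group] at this
        obtain ⟨z, hz, hcz⟩ := exists_of_aut ρ hρ (S := (QQ hF e H.ee : Set (PSU n F q))) (Z := RR hF e H.ee)
          (fun α hα => autCent_point hF hn H.ne_zero H.ee α hα) hcn (fun x hx => hcP _ (hQP (mem_map_of_mem _ hx)))
        refine ⟨ρ z, mem_map_of_mem _ hz, mem_C1.2 ⟨?_, fun a ha => ?_⟩⟩
        · rintro _ ⟨y, rfl⟩
          exact hcz y
        · have h3 : a * ρ z = ρ z * a := A.comm a ha _ ⟨z, rfl⟩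
          have h4 := hcR a ha
          have h5 : (ρ z)⁻¹ * a = a * (ρ z)⁻¹ := by
            calc (ρ z)⁻¹ * a = (ρ z)⁻¹ * (a * ρ z) * (ρ z)⁻¹ := by group
              _ = a * (ρ z)⁻¹ := by rw [h3]; group
          calc (ρ z)⁻¹ * c * a = (ρ z)⁻¹ * (c * a) := by group
            _ = ((ρ z)⁻¹ * a) * c := by rw [h4]; group
            _ = a * ((ρ z)⁻¹ * c) := by rw [h5]; group
      sc := by
        intro e' h1 h2 h3 h4 h hh v hv
        obtain ⟨c, hc⟩ := HH_act hF H ρ hh
        exact sc_abs HE T hb h2 h3 h4 hc v hv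
      gen := by
        apply HE.XQQ
        obtain ⟨x, y, -, -, hxy⟩ := exists_pair hF hn H
        refine ⟨x, ?_⟩
        rintro rfl
        rw [(form hF H).zero_left] at hxy
        exact zero_ne_one hxy
      B := by
        intro y _ h1 h2 h3
        exact B_abs HE T hb hQP hPP hQN hXZ h1 h2 h3 }

end Two

end Cfsg.Agent.OddHalf.DblR.UnLoc

end

-- merged: Cfsg.Agent.OddHalf.DblR.UnOut
section

/-!
# ODD, D4, unitary groups: perfect groups of automorphisms of `PSU n F q` are inner (helper423)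

`out_PSU` : the field `out` of `Sheet` for `Y = PSU n F q`; it is the Schreier property `Schreier.PSU.sch`.
-/

set_option autoImplicit false

namespace Cfsg.Agent.OddHalf.DblR

open Cfsg

/-- The Schreier property in the form of `Sheet.out`. -/
theorem out_of_sch {Y : Type*} [Group Y] (h : Cfsg.Agent.Schreier.Basic.Sch Y) :
    ∀ H : Subgroup (MulAut Y), H ≤ ⁅H, H⁆ → ∀ α ∈ H, ∃ y, α = MulAut.conj y := by
  intro H hH α hα
  obtain ⟨y, hy⟩ := h H (le_antisymm (Subgroup.commutator_le_self H) hH) hα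
  exact ⟨y, hy.symm⟩

/-- **Perfect groups of automorphisms of `PSU n F q` are inner**, `n ≥ 3`, `(n, q) ≠ (3, 2)`. -/
theorem out_PSU' {F : Type*} [Field F] [Fintype F] {q n : ℕ} (hF : Fintype.card F = q ^ 2) (hn : 3 ≤ n)
    (h32 : ¬ (n = 3 ∧ q = 2)) :
    ∀ H : Subgroup (MulAut (PSU n F q)), H ≤ ⁅H, H⁆ → ∀ α ∈ H, ∃ y, α = MulAut.conj y :=
  out_of_sch (Cfsg.Agent.Schreier.PSU.sch hF hn h32)

/-- **Perfect groups of automorphisms of `PSU n F q` are inner**, `n ≥ 4`. -/
theorem out_PSU {F : Type*} [Field F] [Fintype F] {q n : ℕ} (hF : Fintype.card F = q ^ 2) (hn : 4 ≤ n) :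
    ∀ H : Subgroup (MulAut (PSU n F q)), H ≤ ⁅H, H⁆ → ∀ α ∈ H, ∃ y, α = MulAut.conj y :=
  out_PSU' hF (by omega) (by omega)

end Cfsg.Agent.OddHalf.DblR

end

-- merged: Cfsg.Agent.OddHalf.DblR.UnEnd
section

/-!
# ODD, D4, unitary groups `PSU_n(q)`, `n ≥ 4`, `q ≥ 4` even: no commuting pair of root type (helper350)

**`Un.row`** : `f : PSU n F q →* G` injective with image `K`, `E` a Sylow 2-subgroup of `C_G(K)` with at least two
involutions, `u` an isotropic vector, `X_u` its long root group: there is no `γ` with `E^γ ≤ E X_u`,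
`E ≤ (E X_u^k)^γ`, `E^γ ≰ E` (`k ∈ K`).  The literal form of `Sheet.row` (`DblR/Row.lean`).
-/

set_option autoImplicit false

namespace Cfsg.Agent.OddHalf.DblR.Un

open scoped commutatorElement

open Cfsg Cfsg.Agent.LieClassical.HermBasic Cfsg.Agent.LieClassical.HermSiegel
  Cfsg.Agent.LieClassical.HermGen Cfsg.Agent.LieClassical.SUBasic Matrix
  Cfsg.Agent.ClassicalGeometry.PSUAutBasic Cfsg.Agent.ClassicalGeometry.PSUAutSylow
  Cfsg.Agent.ClassicalGeometry.PSUAutUnip Cfsg.Agent.ClassicalGeometry.PSUAutPhi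
  Cfsg.Agent.ClassicalGeometry.PSUAutTorus Cfsg.Agent.KFacts.Unit Cfsg.Agent.Nodes.Reps

variable {F : Type*} [Field F] [Fintype F] {q n : ℕ} [CharP F 2]

omit [CharP F 2] in
/-- a second hyperbolic pair -/
theorem exists_frm (hF : Fintype.card F = q ^ 2) (hn : 4 ≤ n) {e e' : Fin n → F} (H : IsFrame q e e') :
    ∃ p p' : Fin n → F, Frm q ![e, p] ![e', p'] := by
  obtain ⟨p, p', a, b, ha, hp, hp', hpp, hp'p', hpp'⟩ := exists_hyp_pair (q := q) hF
    (i := (⟨0, by omega⟩ : Fin n)) (j := ⟨1, by omega⟩) (by simp)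
  have e0 : (Pi.single (⟨0, by omega⟩ : Fin n) 1 : Fin n → F) ∈ coordSub F n (n - 2) :=
    single_mem_coordSub (by simp; omega) 1
  have e1 : (Pi.single (⟨1, by omega⟩ : Fin n) 1 : Fin n → F) ∈ coordSub F n (n - 2) :=
    single_mem_coordSub (by simp; omega) 1
  have hpV : p ∈ coordSub F n (n - 2) := by
    rw [hp]; exact Submodule.add_mem _ e0 (Submodule.smul_mem _ _ e1)
  have hp'V : p' ∈ coordSub F n (n - 2) := by
    rw [hp']; exact Submodule.add_mem _ e0 (Submodule.smul_mem _ _ hpV)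
  obtain ⟨h1, h2⟩ := (H.mem p).1 hpV
  obtain ⟨h3, h4⟩ := (H.mem p').1 hp'V
  have h1' := herm_eq_zero_swap hF h1
  have h2' := herm_eq_zero_swap hF h2
  have h3' := herm_eq_zero_swap hF h3
  have h4' := herm_eq_zero_swap hF h4
  refine ⟨p, p', ?_, ?_, ?_⟩
  · intro i j
    fin_cases i <;> fin_cases j <;> simp [H.ee, h1, h1', hpp]
  · intro i j
    fin_cases i <;> fin_cases j <;> simp [H.ff, h4, h4', hp'p']
  · intro i j
    fin_cases i <;> fin_cases j <;> simp [H.ef, h2, h3', hpp']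

theorem hasUK (hF : Fintype.card F = q ^ 2) (hn : 4 ≤ n) (hq : 4 ≤ q) {e e' : Fin n → F} (H : IsFrame q e e') :
    HasUK hF e H.ee := by
  obtain ⟨p, p', E⟩ := exists_frm hF hn H
  exact UnF.exists_UK hF hn hq E H.ee

/-- **No commuting pair of root type**, `K ≅ PSU_n(q)`, `n ≥ 4`, `q ≥ 4` even. -/
theorem row {G : Type*} [Group G] [Finite G] (hF : Fintype.card F = q ^ 2) (hn : 4 ≤ n) (hq : 4 ≤ q)
    (f : PSU n F q →* G) (hf : Function.Injective f) {K : Subgroup G} (hK : f.range = K)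
    (St : Std1 K) {E : Subgroup G} (hE : E ≤ Subgroup.centralizer (K : Set G)) (hE2 : IsPGroup 2 ↥E)
    (hEmax : ∀ D : Subgroup G, E ≤ D → D ≤ Subgroup.centralizer (K : Set G) → IsPGroup 2 ↥D → D ≤ E)
    (hC1 : ∀ H : Subgroup G, H ≤ C1 K E → H ≤ ⁅H, H⁆ → H = ⊥)
    {t t' : G} (ht : t ∈ E) (ht1 : t ≠ 1) (ht' : t' ∈ E) (ht1' : t' ≠ 1) (hne : t' ≠ t)
    {u : Fin n → F} (hu0 : u ≠ 0) (hu : hermForm n F q u u = 0) {γ k : G} (hk : k ∈ K)
    (hg1 : cj γ E ≤ E ⊔ (RR hF u hu).map f) (hg2 : E ≤ cj γ (E ⊔ cj k ((RR hF u hu).map f)))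
    (hg3 : ¬ cj γ E ≤ E) : False := by
  subst hK
  have hle : ∀ S : Subgroup (PSU n F q), S.map f ≤ f.range := by
    rintro S _ ⟨x, -, rfl⟩
    exact ⟨x, rfl⟩
  obtain ⟨A, two⟩ := St.core (hle _) (X := (RR hF u hu).map f) (by
    rintro _ ⟨x, hx, rfl⟩
    obtain ⟨μ, hμ, rfl⟩ := mem_RR.1 hx
    rw [← map_mul, ← map_mul]
    have h1 : transv hF u hu μ hμ * transv hF u hu μ hμ = 1 := by
      apply ext_act
      intro v
      rw [act_mul, act_transv, act_transv, act_one, herm_add_left, herm_smul_left, hu, mul_zero, add_zero, add_assoc,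
        ← add_smul, CharTwo.add_self_eq_zero, zero_smul, add_zero]
    rw [h1, map_one, map_one]) hE hE2 hEmax hg1 hg3
  obtain ⟨e, e', H⟩ := exists_frame (F := F) (q := q) (n := n) hF (by omega)
  have he0 : e ≠ 0 := frame_ne_zero H
  have hperf : ⁅PP q e, PP q e⁆ = (PP q e : Subgroup (PSU n F q)) :=
    le_antisymm (Subgroup.commutator_le_self _) (PP_perf hF hn (by omega) he0 H.ee)
  have L := UnLoc.locS hF hn hq (hyp_of_frame H) hperf f hf A ⟨t, ht, ht1⟩ two
  exact no_pair_of hF hn (by omega) f hf H L (hasUK hF hn hq H) (schreier f hf (out_PSU hF hn)) hC1 ht ht1 ht' ht1'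
    hne hu0 hu hk hg1 hg2 hg3

end Cfsg.Agent.OddHalf.DblR.Un

end

-- merged: Cfsg.Agent.KFacts.Unit.Over
section

/-!
# Overgroups of the stabiliser of an isotropic vector; normal subgroups of `PP u`

* `eq_top_of_stabV` : a subgroup of `SU n F q` containing all stabilisers of isotropic vectors is everything;
* `over_stabV` : a subgroup containing the stabiliser of `u` and an element moving the point `⟨u⟩` is everything;
* `over_PP` : the same in `PSU n F q`;
* `exists_short` : a subgroup of `QQ u` normalised by `PP u` and not contained in `RR u` contains an involution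
  `siegel u w 0` commuting with an element which moves `⟨u⟩`.
-/

set_option autoImplicit false

namespace Cfsg.Agent.KFacts.Unit

open Cfsg Cfsg.Agent.LieClassical.HermBasic Cfsg.Agent.LieClassical.HermSiegel
  Cfsg.Agent.LieClassical.HermGen Cfsg.Agent.LieClassical.SUBasic Matrix
  Cfsg.Agent.ClassicalGeometry.PSUAutBasic Cfsg.Agent.ClassicalGeometry.PSUAutSylow
  Cfsg.Agent.ClassicalGeometry.PSUAutUnip Cfsg.Agent.ClassicalGeometry.PSUAutPhi

variable {F : Type*} [Field F] [Fintype F] {q n : ℕ}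

/-- A subgroup containing all stabilisers of isotropic vectors. -/
theorem eq_top_of_stabV (hF : Fintype.card F = q ^ 2) (hn : 3 ≤ n) {H : Subgroup (SU n F q)}
    (h : ∀ u : Fin n → F, u ≠ 0 → hermForm n F q u u = 0 → stabV q u ≤ H) : H = ⊤ := by
  rw [eq_top_iff]
  have h1 : sG hF (coordSub F n n) ≤ H := by
    rw [sG, Subgroup.closure_le]
    rintro _ ⟨u, -, w, -, μ, hs, rfl⟩
    by_cases hu : u = 0
    · have h2 : siegel hF u w μ hs = 1 := by
        apply ext_act
        intro v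
        rw [act_siegel, act_one, hu, herm_zero_right hF, zero_smul, add_zero, smul_zero, add_zero]
      rw [h2]
      exact one_mem H
    · exact h u hu hs.iso (act_siegel_self hF hs)
  intro g _
  exact h1 (fixGrp_le_sG hF hn le_rfl (mem_fixGrp_top g))

omit [Fintype F] in
theorem stabV_le_of_act {H : Subgroup (SU n F q)} {u : Fin n → F} (h : stabV q u ≤ H) {g : SU n F q}
    (hg : g ∈ H) : stabV q (act g u) ≤ H := by
  intro x hx
  have h1 : g⁻¹ * x * g ∈ stabV q u := by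
    show act (g⁻¹ * x * g) u = u
    rw [act_mul, act_mul, show act x (act g u) = act g u from hx, act_inv_act]
  have h2 := mul_mem (mul_mem hg (h h1)) (inv_mem hg)
  have e : g * (g⁻¹ * x * g) * g⁻¹ = x := by group
  rwa [e] at h2

omit [Fintype F] in
theorem stabV_smul {u : Fin n → F} {c : F} (hc : c ≠ 0) : stabV q (c • u) = stabV q u := by
  ext g
  rw [mem_stabV, mem_stabV, act_smul]
  constructor
  · intro h
    have h2 := congrArg (fun x => c⁻¹ • x) h
    simpa [smul_smul, inv_mul_cancel₀ hc] using h2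
  · intro h; rw [h]

/-- A vector orthogonal to everything orthogonal to the isotropic vector `w`. -/
theorem eq_smul_of_perp (hF : Fintype.card F = q ^ 2) {u w : Fin n → F} (hw0 : w ≠ 0)
    (hw : hermForm n F q w w = 0) (h : ∀ z, hermForm n F q z w = 0 → hermForm n F q z u = 0) :
    ∃ c : F, u = c • w := by
  obtain ⟨w', -, -, hw'w⟩ := exists_partner hF hw0 hw
  refine ⟨hermForm n F q w' u ^ q, ?_⟩
  rw [← sub_eq_zero]
  apply herm_nondeg hF
  intro v
  apply herm_eq_zero_swap hF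
  have h1 := h (v - hermForm n F q v w • w') (by rw [herm_sub_left, herm_smul_left, hw'w, mul_one, sub_self])
  rw [herm_sub_left, herm_smul_left] at h1
  rw [herm_sub_right hF, herm_smul_right, pow_q_pow_q hF]
  linear_combination h1

/-- **Maximality of the stabiliser of an isotropic point** -/
theorem over_stabV (hF : Fintype.card F = q ^ 2) (hn : 3 ≤ n) {u : Fin n → F} (hu0 : u ≠ 0)
    (hu : hermForm n F q u u = 0) {H : Subgroup (SU n F q)} (h : stabV q u ≤ H) {g : SU n F q} (hg : g ∈ H)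
    (hgu : ¬ ∃ c : F, act g u = c • u) : H = ⊤ := by
  -- an element of `H` moving `u` to a vector not orthogonal to `u`
  obtain ⟨k, hk, hku⟩ : ∃ k ∈ H, hermForm n F q (act k u) u ≠ 0 := by
    by_cases h1 : hermForm n F q (act g u) u = 0
    swap
    · exact ⟨g, hg, h1⟩
    obtain ⟨w, hw⟩ : ∃ w, w = act g u := ⟨_, rfl⟩
    have hww : hermForm n F q w w = 0 := by rw [hw, herm_act, hu]
    have hw0 : w ≠ 0 := fun h0 => hu0 ((act_eq_zero g).1 (by rw [← hw, h0]))
    rw [← hw] at h1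
    have hPw : stabV q w ≤ H := by rw [hw]; exact stabV_le_of_act h hg
    obtain ⟨z, hzw, hzu⟩ : ∃ z, hermForm n F q z w = 0 ∧ hermForm n F q z u ≠ 0 := by
      by_contra hcon
      push Not at hcon
      obtain ⟨c, hc⟩ := eq_smul_of_perp hF hw0 hww hcon
      apply hgu
      have hc0 : c ≠ 0 := by
        rintro rfl
        rw [zero_smul] at hc
        exact hu0 hc
      refine ⟨c⁻¹, ?_⟩
      rw [← hw]
      conv_rhs => rw [hc]
      rw [smul_smul, inv_mul_cancel₀ hc0, one_smul]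
    have huz : hermForm n F q u z ≠ 0 := fun h0 => hzu (herm_eq_zero_swap hF h0)
    obtain ⟨t, ht⟩ := exists_iso_correct hF hu huz
    obtain ⟨s, hs⟩ : ∃ s, s = z + t • u := ⟨_, rfl⟩
    rw [← hs] at ht
    have hsw : hermForm n F q s w = 0 := by
      rw [hs, herm_add_left, herm_smul_left, hzw, herm_eq_zero_swap hF h1, mul_zero, add_zero]
    have hsu : hermForm n F q s u ≠ 0 := by
      rw [hs, herm_add_left, herm_smul_left, hu, mul_zero, add_zero]
      exact hzu
    have hus : hermForm n F q u s ≠ 0 := fun h0 => hsu (herm_eq_zero_swap hF h0)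
    obtain ⟨ν, hν0, hν⟩ := exists_trace_zero_ne hF
    refine ⟨transv hF s ht ν hν, hPw ?_, ?_⟩
    · show act (transv hF s ht ν hν) w = w
      rw [act_transv, herm_eq_zero_swap hF hsw, mul_zero, zero_smul, add_zero]
    · rw [act_transv, herm_add_left, herm_smul_left, hu, zero_add]
      exact mul_ne_zero (mul_ne_zero hν0 hus) hsu
  have hPk := stabV_le_of_act h hk
  have hkk : hermForm n F q (act k u) (act k u) = 0 := by rw [herm_act, hu]
  -- the move
  have move : ∀ a b c : Fin n → F, hermForm n F q a a = 0 → hermForm n F q b b = 0 → hermForm n F q c c = 0 →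
      hermForm n F q b a ≠ 0 → hermForm n F q c a ≠ 0 → stabV q a ≤ H → stabV q b ≤ H → stabV q c ≤ H := by
    intro a b c ha hb hc hba hca hPa hPb
    obtain ⟨d, hd⟩ : ∃ d, d = hermForm n F q b a / hermForm n F q c a := ⟨_, rfl⟩
    have hd0 : d ≠ 0 := by rw [hd]; exact div_ne_zero hba hca
    obtain ⟨m, μ, hs, hact⟩ := exists_siegel_map hF ha (v := b) (v' := d • c)
      (by rw [hb, herm_smul_left, herm_smul_right, hc, mul_zero, mul_zero])
      (by rw [herm_smul_left, hd, div_mul_cancel₀ _ hca]) hba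
    have h1 := stabV_le_of_act hPb (hPa (act_siegel_self hF hs))
    rwa [hact, stabV_smul hd0] at h1
  apply eq_top_of_stabV hF hn
  intro x hx0 hx
  by_cases hxu : hermForm n F q x u = 0
  · obtain ⟨z, -, hzz, huz, hxz⟩ := exists_iso_common hF (mem_coordSub_top u) (mem_coordSub_top x) hu0 hx0 hu
      (herm_eq_zero_swap hF hxu)
    have hzu : hermForm n F q z u ≠ 0 := fun h0 => huz (herm_eq_zero_swap hF h0)
    have h1 := move u (act k u) z hu hkk hzz hku hzu h hPk
    exact move z u x hzz hu hx huz hxz h1 h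
  · exact move u (act k u) x hu hkk hx hku hxu h hPk

/-- **Maximality of the stabiliser of an isotropic point**, in `PSU`. -/
theorem over_PP (hF : Fintype.card F = q ^ 2) (hn : 3 ≤ n) {u : Fin n → F} (hu0 : u ≠ 0)
    (hu : hermForm n F q u u = 0) {H : Subgroup (PSU n F q)} (h : PP q u ≤ H) {g : SU n F q}
    (hg : pr n F q g ∈ H) (hgu : ¬ ∃ c : F, act g u = c • u) : H = ⊤ := by
  have h1 : H.comap (pr n F q) = ⊤ := by
    apply over_stabV hF hn hu0 hu (g := g) _ hg hgu
    intro x hx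
    exact h ⟨x, hx, rfl⟩
  rw [eq_top_iff]
  intro x _
  obtain ⟨y, rfl⟩ := pr_surjective x
  have h2 : y ∈ H.comap (pr n F q) := by rw [h1]; trivial
  exact h2

section Two

/-- The swap of two members of a frame. -/
theorem exists_swap (hF : Fintype.card F = q ^ 2) {u w : Fin n → F} (hu : hermForm n F q u u = 0)
    (hw : hermForm n F q w w = 0) (hwu : hermForm n F q w u = 0)
    (hi : LinearIndependent F ![u, w]) : ∃ g : SU n F q, act g u = w ∧ act g w = u := by
  obtain ⟨f, E⟩ := exists_Frm (e := ![u, w]) hF hi (by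
    intro i j
    fin_cases i <;> fin_cases j
    · exact hu
    · exact herm_eq_zero_swap hF hwu
    · exact hwu
    · exact hw)
  have h1 : ((!![0, 1; 1, 0] : Matrix (Fin 2) (Fin 2) F)).map (LieClassical.HermBasic.conj hF) =
      (!![0, 1; 1, 0] : Matrix (Fin 2) (Fin 2) F) := by
    ext i j
    fin_cases i <;> fin_cases j <;> simp
  obtain ⟨g, hg, -⟩ := exists_GL hF E (M := !![0, 1; 1, 0]) (N := !![0, 1; 1, 0]) (by
    rw [h1]
    ext i j
    fin_cases i <;> fin_cases j <;> simp [Matrix.mul_apply, Fin.sum_univ_two]) (by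
    rw [Matrix.det_fin_two_of]; ring)
  refine ⟨g, ?_, ?_⟩
  · have h2 := hg 0
    rw [Fin.sum_univ_two] at h2
    simpa using h2
  · have h2 := hg 1
    rw [Fin.sum_univ_two] at h2
    simpa using h2

variable [CharP F 2]

/-- `siegel u w 0` is symmetric in `u` and `w`, in characteristic 2. -/
theorem siegel_swap (hF : Fintype.card F = q ^ 2) {u w : Fin n → F} (h : IsSiegel q u w 0) (h' : IsSiegel q w u 0) :
    siegel hF u w 0 h = siegel hF w u 0 h' := by
  apply ext_act
  intro v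
  rw [act_siegel, act_siegel, zero_mul, zero_mul, zero_sub, zero_sub, CharTwo.neg_eq, CharTwo.neg_eq]
  abel

theorem siegel_sq (hF : Fintype.card F = q ^ 2) {u w : Fin n → F} (h : IsSiegel q u w 0)
    (hw : hermForm n F q w w = 0) : siegel hF u w 0 h * siegel hF u w 0 h = 1 := by
  have h0 : w + w = 0 := by
    funext i
    exact CharTwo.add_self_eq_zero (w i)
  have hz : IsSiegel q u 0 (0 : F) := IsSiegel.zero hF h.iso
  rw [siegel_mul, siegel_congr hF _ hz rfl h0 (by rw [hw]; ring), siegel_zero]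

/-- **Short root involutions in normal subgroups**: `A ≤ QQ u` normalised by `PP u` and not contained in `RR u`. -/
theorem exists_short (hF : Fintype.card F = q ^ 2) (hn : 4 ≤ n) {u : Fin n → F} (hu0 : u ≠ 0)
    (hu : hermForm n F q u u = 0) {A : Subgroup (PSU n F q)} (hA : A ≤ QQ hF u hu)
    (hn' : ∀ y ∈ PP q u, ∀ a ∈ A, y * a * y⁻¹ ∈ A) (hne : ¬ A ≤ RR hF u hu) :
    ∃ x ∈ A, x ≠ 1 ∧ x * x = 1 ∧ ∃ g : SU n F q, pr n F q g * x = x * pr n F q g ∧
      (¬ ∃ c : F, act g u = c • u) ∧ x ∉ RR hF u hu := by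
  -- a vector of `A` outside `F u`
  obtain ⟨x0, hx0, hx0R⟩ : ∃ x ∈ A, x ∉ RR hF u hu := by
    by_contra hcon
    push Not at hcon
    exact hne hcon
  obtain ⟨w, μ, hs, rfl⟩ := mem_QQ.1 (hA hx0)
  have hwu : hermForm n F q w u = 0 := hs.orth
  have hw1 : ¬ ∃ c : F, w = c • u := by
    rintro ⟨c, rfl⟩
    apply hx0R
    have htr := hs.tr
    rw [herm_smul_left, herm_smul_right, hu, mul_zero, mul_zero, add_zero] at htr
    have hν : (μ + c - c ^ q) + (μ + c - c ^ q) ^ q = 0 := by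
      rw [sub_pow_q hF, add_pow_q hF, pow_q_pow_q hF]
      linear_combination htr
    refine mem_RR.2 ⟨μ + c - c ^ q, hν, ?_⟩
    congr 1
    apply ext_act
    intro v
    rw [act_siegel, act_transv, herm_smul_right, smul_smul, add_assoc, ← add_smul]
    congr 2
    ring
  -- an isotropic vector of `u^⊥` not orthogonal to `w`
  obtain ⟨x, y, hxu, hyu, hxx, hyy, hxy⟩ := exists_pair_of_iso hF hn hu0 hu
  obtain ⟨s, hsu, hss, hws⟩ : ∃ s, hermForm n F q s u = 0 ∧ hermForm n F q s s = 0 ∧ hermForm n F q w s ≠ 0 := by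
    by_contra hcon
    push Not at hcon
    apply hw1
    apply eq_smul_of_perp hF hu0 hu
    intro z hz
    apply herm_eq_zero_swap hF
    refine iso_induction hF (W := perp q u) (x := x) (y := y) hxu hyu hxx hyy hxy
      (P := fun z => hermForm n F q w z = 0) ?_ ?_ z hz
    · intro a b _ _ ha hb
      rw [herm_add_right hF, ha, hb, add_zero]
    · intro s hsu hss
      exact hcon s hsu hss
  obtain ⟨ν, hν0, hν⟩ := exists_trace_zero_ne hF
  have hus : hermForm n F q u s = 0 := herm_eq_zero_swap hF hsu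
  have hfix : act (transv hF s hss ν hν) u = u := by
    rw [act_transv, hus, mul_zero, zero_smul, add_zero]
  have h1 := hn' _ (mem_PP.2 ⟨_, hfix, rfl⟩) _ hx0
  rw [← map_inv, ← map_mul, ← map_mul, conj_siegel] at h1
  have hact : act (transv hF s hss ν hν) w = w + (ν * hermForm n F q w s) • s := act_transv hF hss hν w
  obtain ⟨w1, hw1def⟩ : ∃ w1, w1 = (ν * hermForm n F q w s) • s := ⟨_, rfl⟩
  rw [← hw1def] at hact
  have hw1w1 : hermForm n F q w1 w1 = 0 := by
    rw [hw1def, herm_smul_left, herm_smul_right, hss, mul_zero, mul_zero]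
  have hw1u : hermForm n F q w1 u = 0 := by rw [hw1def, herm_smul_left, hsu, mul_zero]
  have hw1w : hermForm n F q w w1 ≠ 0 := by
    rw [hw1def, herm_smul_right]
    exact mul_ne_zero (pow_ne_zero _ (mul_ne_zero hν0 hws)) hws
  have hs2 : IsSiegel q u (w + w1) μ := by
    have h2 := hs.map (transv hF s hss ν hν)
    rwa [hfix, hact] at h2
  rw [siegel_congr hF _ hs2 hfix hact rfl] at h1
  -- the quotient
  have h3 := mul_mem h1 (inv_mem hx0)
  rw [← map_inv, ← map_mul, siegel_inv, siegel_mul] at h3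
  have e1 : w + w1 + -w = w1 := by abel
  obtain ⟨μ1, hμ1⟩ : ∃ μ1, μ1 = μ + μ ^ q - hermForm n F q (-w) (w + w1) := ⟨_, rfl⟩
  have hs3 : IsSiegel q u w1 μ1 := by
    have h2 := hs2.mul hF (hs.inv hF)
    rwa [e1, ← hμ1] at h2
  rw [siegel_congr hF _ hs3 rfl e1 hμ1.symm] at h3
  -- correct `μ1`
  have htr := hs3.tr
  rw [hw1w1, add_zero] at htr
  obtain ⟨c, hc⟩ := exists_trace_eq hF (c := μ1) (fixed_of_tr htr)
  obtain ⟨w2, hw2⟩ : ∃ w2, w2 = w1 + c • u := ⟨_, rfl⟩
  have huw1 : hermForm n F q u w1 = 0 := herm_eq_zero_swap hF hw1u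
  have hw2w2 : hermForm n F q w2 w2 = 0 := by
    rw [hw2, herm_add_left, herm_add_right hF, herm_add_right hF, herm_smul_left, herm_smul_left, herm_smul_right,
      herm_smul_right, hw1w1, hw1u, huw1, hu]
    ring
  have hw2u : hermForm n F q w2 u = 0 := by
    rw [hw2, herm_add_left, herm_smul_left, hw1u, hu]; ring
  have huw2 : hermForm n F q u w2 = 0 := herm_eq_zero_swap hF hw2u
  have hq0 : (0 : F) ^ q = 0 := zero_pow_q hF
  have hs4 : IsSiegel q u w2 0 := ⟨hu, hw2u, by rw [hq0, hw2w2, add_zero, add_zero]⟩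
  have hs5 : IsSiegel q w2 u 0 := ⟨hw2w2, huw2, by rw [hq0, hu, add_zero, add_zero]⟩
  have h4 : siegel hF u w1 μ1 hs3 = siegel hF u w2 0 hs4 := by
    apply ext_act
    intro v
    have h2F : (2 : F) = 0 := CharTwo.two_eq_zero
    rw [act_siegel, act_siegel, hw2, herm_add_right hF, herm_smul_right]
    funext i
    simp only [Pi.add_apply, Pi.smul_apply, smul_eq_mul]
    linear_combination (-(hermForm n F q v u * u i)) * hc + (c ^ q * hermForm n F q v u * u i) * h2F
  rw [h4] at h3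
  -- independence
  have hw2n : ¬ ∃ d : F, w2 = d • u := by
    rintro ⟨d, hd⟩
    apply hw1w
    have h5 : w1 = (d - c) • u := by
      rw [hw2] at hd
      rw [sub_smul, ← hd]
      abel
    rw [h5, herm_smul_right, hwu, mul_zero]
  have hi : LinearIndependent F ![u, w2] := by
    rw [LinearIndependent.pair_iff]
    intro a b hab
    have hb : b = 0 := by
      by_contra hb
      apply hw2n
      refine ⟨-(b⁻¹ * a), ?_⟩
      have h5 : b • w2 = (-a) • u := by
        rw [neg_smul, eq_neg_iff_add_eq_zero, add_comm]; exact hab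
      rw [neg_mul_eq_mul_neg, mul_smul, ← h5, smul_smul, inv_mul_cancel₀ hb, one_smul]
    refine ⟨?_, hb⟩
    rw [hb, zero_smul, add_zero] at hab
    rcases smul_eq_zero.1 hab with h5 | h5
    · exact h5
    · exact absurd h5 hu0
  obtain ⟨g, hgu, hgw⟩ := exists_swap hF hu hw2w2 hw2u hi
  have hnR : pr n F q (siegel hF u w2 0 hs4) ∉ RR hF u hu := by
    intro h5
    obtain ⟨κ, hκ, h6⟩ := mem_RR.1 h5
    have h7 := siegel_pr_inj hF (by omega) _ _ h6
    obtain ⟨f, -, -, hfu⟩ := exists_partner hF hu0 hu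
    have h8 := congrArg (fun g => act g f) h7
    change act (siegel hF u w2 0 hs4) f = act (transv hF u hu κ hκ) f at h8
    rw [act_siegel, act_transv, hfu, one_smul, add_assoc, add_right_inj] at h8
    apply hw2n
    refine ⟨κ * 1 - (0 * 1 - hermForm n F q f w2), ?_⟩
    rw [sub_smul, ← h8, add_sub_cancel_right]
  refine ⟨_, h3, ?_, ?_, g, ?_, ?_, hnR⟩
  · intro h5
    apply hnR
    rw [h5]
    exact one_mem _
  · rw [← map_mul, siegel_sq hF hs4 hw2w2, map_one]
  · rw [← map_mul, ← map_mul]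
    congr 1
    have h5 := conj_siegel hF hs4 g
    rw [siegel_congr hF _ hs5 hgu hgw rfl, ← siegel_swap hF hs4 hs5] at h5
    calc g * siegel hF u w2 0 hs4 = g * siegel hF u w2 0 hs4 * g⁻¹ * g := by group
      _ = siegel hF u w2 0 hs4 * g := by rw [h5]
  · rintro ⟨d, hd⟩
    apply hw2n
    exact ⟨d, by rw [← hd, hgu]⟩

end Two

end Cfsg.Agent.KFacts.Unit

end

-- merged: Cfsg.Agent.OddHalf.DblR.UnInput
section

/-!
# ODD, D4, unitary groups: the K-facts of LEMMA INPUT (helper422)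

* `center_eq_bot`, `gen_PSU` : facts on `PSU n F q`;
* `exists_point` : every Sylow 2-subgroup lies between `QQ u` and `PP u`;
* `out_range` : perfect subgroups of the normaliser of `f.range` lie in `f.range C(f.range)`;
* **`inp`** : for `f : PSU n F q →* G` injective, `n ≥ 4`, `q ≥ 4` even, and every Sylow 2-subgroup `S` of `f.range`:
  `Inp f.range S (RR u).map f (PP u).map f` for an isotropic vector `u`.
-/

set_option autoImplicit false

namespace Cfsg.Agent.OddHalf.DblR.UnInput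

open Subgroup Cfsg.Agent.OddHalf.D4 Cfsg.Agent.OddHalf.D4.Basic Cfsg.Agent.OddHalf.D4.Input
  Cfsg.Agent.OddHalf.D7.Uni.Ex
open Cfsg Cfsg.Agent.LieClassical.HermBasic Cfsg.Agent.LieClassical.HermSiegel
  Cfsg.Agent.LieClassical.HermGen Cfsg.Agent.LieClassical.SUBasic Matrix
  Cfsg.Agent.ClassicalGeometry.PSUAutBasic Cfsg.Agent.ClassicalGeometry.PSUAutSylow
  Cfsg.Agent.ClassicalGeometry.PSUAutUnip Cfsg.Agent.ClassicalGeometry.PSUAutPhi Cfsg.Agent.KFacts.Unit
open scoped commutatorElement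

variable {F : Type*} [Field F] [Fintype F] {q n : ℕ} {G : Type*} [Group G]

theorem center_eq_bot (hF : Fintype.card F = q ^ 2) (hn : 4 ≤ n) : Subgroup.center (PSU n F q) = ⊥ := by
  have hs : IsSimpleGroup (PSU n F q) := Cfsg.Agent.S0283.result hF n (by omega) (by omega)
  rcases hs.eq_bot_or_eq_top_of_normal (Subgroup.center (PSU n F q))
    (inferInstance : (Subgroup.center (PSU n F q)).Normal) with h | h
  · exact h
  · exfalso
    obtain ⟨e, f, H⟩ := exists_frame (F := F) (q := q) (n := n) hF (by omega)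
    have he0 : e ≠ 0 := frame_ne_zero H
    have hf0 : f ≠ 0 := (⟨H.ee, H.ff, H.ef⟩ : Hyp q e f).ne_zero' hF
    obtain ⟨y, hy, hy1⟩ := Un.exists_RR_ne hF (by omega) he0 H.ee
    obtain ⟨g, -, hg⟩ := exists_map_iso hF (by omega) le_rfl (mem_coordSub_top e) (mem_coordSub_top f)
      he0 hf0 H.ee H.ff
    have hc : pr n F q g ∈ Subgroup.center (PSU n F q) := by rw [h]; trivial
    obtain ⟨c, -, hc⟩ := Un.act_of_commute hF (by omega) he0 H.ee hy hy1 (Subgroup.mem_center_iff.1 hc y).symm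
    rw [hg] at hc
    have h1 := H.ef
    rw [hc, herm_smul_right, H.ee, mul_zero] at h1
    exact zero_ne_one h1

theorem eq_of_conj (hF : Fintype.card F = q ^ 2) (hn : 4 ≤ n) {x y : PSU n F q}
    (h : MulAut.conj x = MulAut.conj y) : x = y := by
  have h1 : y⁻¹ * x ∈ Subgroup.center (PSU n F q) := by
    rw [Subgroup.mem_center_iff]
    intro z
    have h2 : x * z * x⁻¹ = y * z * y⁻¹ := by
      have := congrArg (fun α => α z) h
      simpa [MulAut.conj_apply] using this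
    calc z * (y⁻¹ * x) = y⁻¹ * (y * z * y⁻¹) * x := by group
      _ = y⁻¹ * (x * z * x⁻¹) * x := by rw [h2]
      _ = _ := by group
  rw [center_eq_bot hF hn, Subgroup.mem_bot] at h1
  exact (inv_mul_eq_one.1 h1).symm

/-- every Sylow 2-subgroup lies between `QQ u` and `PP u` -/
theorem exists_point [CharP F 2] (hF : Fintype.card F = q ^ 2) (hn : 3 ≤ n) (U : Sylow 2 (PSU n F q)) :
    ∃ (u : Fin n → F) (_ : u ≠ 0) (hu : hermForm n F q u u = 0),
      QQ hF u hu ≤ (U : Subgroup (PSU n F q)) ∧ (U : Subgroup (PSU n F q)) ≤ PP q u := by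
  have : Fact (Nat.Prime 2) := ⟨Nat.prime_two⟩
  obtain ⟨S, hS⟩ := exists_sylow_lift (F := F) (q := q) (n := n) 2 U
  obtain ⟨u, hu0, hu, hfix⟩ := exists_fixed 2 hF (by omega) S.isPGroup'
  have hQS := siegG_le_sylow 2 hF S hu hfix
  refine ⟨u, hu0, hu, ?_, ?_⟩
  · rw [← hS]; exact Subgroup.map_mono hQS
  · rw [← hS]; exact Subgroup.map_mono (fun g hg => hfix g hg)

omit [Fintype F] in
/-- In a Heisenberg group the commutators with a non-central element are all elements of the centre. -/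
theorem exists_comm_eq {N : Type*} [AddCommGroup N] [Module F N] {σ : F →+* F} {B : N → N → F}
    {X Q : Subgroup G} {S : N → F → G} (H : Cfsg.Agent.OddHalf.D7.Uni.Ex.Heis σ B X Q S) {v : G} (hv : v ∈ Q)
    (hvX : v ∉ X) {t : G} (ht : t ∈ X) : ∃ s ∈ Q, s * v * s⁻¹ * v⁻¹ = t := by
  obtain ⟨x, a, ha, rfl⟩ := (H.memQ v).1 hv
  obtain ⟨c, hc, rfl⟩ := (H.memX t).1 ht
  have hx : x ≠ 0 := by
    rintro rfl
    apply hvX
    refine H.mem_X ?_
    rw [H.zero_left, add_eq_zero_iff_eq_neg, H.neg_eq] at ha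
    exact ha.symm
  obtain ⟨y0, hy0⟩ := H.exists_one hx
  obtain ⟨d, hd⟩ := H.exists_tr hc
  obtain ⟨b, hb⟩ := H.exists_S (d • y0)
  refine ⟨S (d • y0) b, H.mem_Q hb, ?_⟩
  rw [H.comm ha hb, H.symm (d • y0) x, H.smul_left, hy0, mul_one, H.σσ, add_comm, hd]

theorem heis_id [CharP F 2] (hF : Fintype.card F = q ^ 2) (hn : 4 ≤ n) {u f : Fin n → F} (H : Hyp q u f) :
    Cfsg.Agent.OddHalf.D7.Uni.Ex.Heis (frb hF) (BB q u f) (RR hF u H.ee) (QQ hF u H.ee)
      (SS hF u f (MonoidHom.id (PSU n F q))) := by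
  have HE := heis hF (by omega) H (ρ := MonoidHom.id (PSU n F q)) Function.injective_id
  rwa [Subgroup.map_id, Subgroup.map_id] at HE

/-- a non-central normal subgroup of `PP u` contains an element of `QQ u` outside `RR u` -/
theorem not_le_RR [CharP F 2] (hF : Fintype.card F = q ^ 2) (hn : 4 ≤ n) {u : Fin n → F} (hu0 : u ≠ 0)
    (hu : hermForm n F q u u = 0) {B : Subgroup (PSU n F q)} (hB : B ≤ PP q u)
    (hBn : ∀ y ∈ PP q u, ∀ b ∈ B, y * b * y⁻¹ ∈ B) (hnc : ∃ b ∈ B, ∃ y ∈ PP q u, y * b ≠ b * y) :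
    ¬ (B ⊓ QQ hF u hu ≤ RR hF u hu) := by
  intro hA
  obtain ⟨b, hb, y, hy, hne⟩ := hnc
  have hBQ : B ≤ QQ hF u hu := by
    intro b hb
    obtain ⟨s, hs, hconj⟩ := autCent_mod hF hn hu0 hu (MulAut.conj b) (fun x hx => by
      rw [MulAut.conj_apply, PP_comm_RR hF hu (hB hb) hx, mul_inv_cancel_right]) (fun x hx => by
      rw [MulAut.conj_apply]
      apply hA
      refine ⟨?_, ?_⟩
      · have h1 := hBn x (QQ_le_PP hF hu hx) b⁻¹ (inv_mem hb)
        have e : b * x * b⁻¹ * x⁻¹ = b * (x * b⁻¹ * x⁻¹) := by group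
        rw [e]; exact mul_mem hb h1
      · exact (QQ hF u hu).mul_mem (PP_conj_QQ hF hu (hB hb) hx) ((QQ hF u hu).inv_mem hx))
    rw [eq_of_conj hF hn hconj]
    exact ⟨s, hs, rfl⟩
  exact hne (PP_comm_RR hF hu hy (hA ⟨hb, hBQ hb⟩))

/-- **non-central normal subgroups of `PP u` contain `RR u`** -/
theorem RR_le_of_normal [CharP F 2] (hF : Fintype.card F = q ^ 2) (hn : 4 ≤ n) {u : Fin n → F} (hu0 : u ≠ 0)
    (hu : hermForm n F q u u = 0) {B : Subgroup (PSU n F q)} (hB : B ≤ PP q u)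
    (hBn : ∀ y ∈ PP q u, ∀ b ∈ B, y * b * y⁻¹ ∈ B) (hnc : ∃ b ∈ B, ∃ y ∈ PP q u, y * b ≠ b * y) :
    RR hF u hu ≤ B := by
  have hA := not_le_RR hF hn hu0 hu hB hBn hnc
  obtain ⟨x, ⟨hxB, hxQ⟩, hxR⟩ : ∃ x ∈ B ⊓ QQ hF u hu, x ∉ RR hF u hu := by
    by_contra hcon
    push Not at hcon
    exact hA hcon
  obtain ⟨f, H⟩ := exists_hyp hF hu0 hu
  intro t ht
  obtain ⟨s, hs, e⟩ := exists_comm_eq (heis_id hF hn H) hxQ hxR ht
  rw [← e]
  exact mul_mem (hBn s (QQ_le_PP hF hu hs) x hxB) (inv_mem hxB)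

/-- **normal subgroups of `PP u`, not central, and centralisers of involutions** -/
theorem gen_PSU [CharP F 2] (hF : Fintype.card F = q ^ 2) (hn : 4 ≤ n) {u : Fin n → F} (hu0 : u ≠ 0)
    (hu : hermForm n F q u u = 0) {B : Subgroup (PSU n F q)} (hB : B ≤ PP q u)
    (hBn : ∀ y ∈ PP q u, ∀ b ∈ B, y * b * y⁻¹ ∈ B) (hnc : ∃ b ∈ B, ∃ y ∈ PP q u, y * b ≠ b * y)
    {J : Subgroup (PSU n F q)} (hJ : ∀ x ∈ B, x * x = 1 → x ≠ 1 → ∀ k, k * x = x * k → k ∈ J) : J = ⊤ := by
  obtain ⟨x, ⟨hxB, hxQ⟩, hx1, hxx, g, hgx, hgu, -⟩ := exists_short hF hn hu0 hu (A := B ⊓ QQ hF u hu) inf_le_right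
    (fun y hy a ha => ⟨hBn y hy a ha.1, PP_conj_QQ hF hu hy ha.2⟩) (not_le_RR hF hn hu0 hu hB hBn hnc)
  -- an involution of `B ∩ RR u`
  obtain ⟨t, ht, ht1⟩ := Un.exists_RR_ne hF (by omega) hu0 hu
  have htB : t ∈ B := RR_le_of_normal hF hn hu0 hu hB hBn hnc ht
  apply over_PP hF (by omega) hu0 hu (H := J) (g := g) _ (hJ x hxB hxx hx1 _ hgx) hgu
  intro y hy
  exact hJ _ htB (UnLoc.RR_sq hF hu ht) ht1 y (PP_comm_RR hF hu hy ht)

/-- `PP u` is not commutative -/
theorem PP_nc [CharP F 2] (hF : Fintype.card F = q ^ 2) (hn : 4 ≤ n) {u : Fin n → F} (hu0 : u ≠ 0)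
    (hu : hermForm n F q u u = 0) : ∃ b ∈ PP q u, ∃ y ∈ PP q u, y * b ≠ (b * y : PSU n F q) := by
  obtain ⟨f, H⟩ := exists_hyp hF hu0 hu
  have HE := heis_id hF hn H
  obtain ⟨x, y, -, -, hxy⟩ := UnLoc.exists_pair hF hn H
  obtain ⟨a, ha⟩ := HE.exists_S x
  have hx : x ≠ 0 := by
    rintro rfl
    rw [HE.zero_left] at hxy
    exact zero_ne_one hxy
  by_contra hcon
  push Not at hcon
  have h1 := HE.ZQ _ (HE.mem_Q ha) (fun v hv => (hcon _ (QQ_le_PP hF hu (HE.mem_Q ha)) _ (QQ_le_PP hF hu hv)).symm)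
  obtain ⟨c, hc, e⟩ := (HE.memX _).1 h1
  exact hx (HE.eq_iff ha (HE.tr0 hc) e).1

/-- Direct indecomposability, from: every non-central normal subgroup contains `X ≠ 1`. -/
theorem ind_of {H X : Subgroup G} (perf : H ≤ ⁅H, H⁆) (hX : X ≠ ⊥)
    (hn : ∀ B : Subgroup G, B ≤ H → (∀ y ∈ H, ∀ b ∈ B, y * b * y⁻¹ ∈ B) → (∃ b ∈ B, ∃ y ∈ H, y * b ≠ b * y) → X ≤ B)
    (A B : Subgroup G) (hA : A ≤ H) (hB : B ≤ H) (hAB : ∀ a ∈ A, ∀ b ∈ B, a * b = b * a) (hdis : A ⊓ B = ⊥)
    (hH : ∀ y ∈ H, ∃ a ∈ A, ∃ b ∈ B, y = a * b) : A = ⊥ ∨ B = ⊥ := by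
  -- one of the two is central: it is trivial
  have key : ∀ A B : Subgroup G, A ≤ H → B ≤ H → (∀ a ∈ A, ∀ b ∈ B, a * b = b * a) → A ⊓ B = ⊥ →
      (∀ y ∈ H, ∃ a ∈ A, ∃ b ∈ B, y = a * b) → (∀ a ∈ A, ∀ y ∈ H, y * a = a * y) → A = ⊥ := by
    intro A B hA hB hAB hdis hH hc
    have h1 : ⁅H, H⁆ ≤ B := by
      rw [commutator_le]
      intro x hx y hy
      obtain ⟨a, ha, b, hb, rfl⟩ := hH x hx
      obtain ⟨a', ha', b', hb', rfl⟩ := hH y hy
      have ca : ∀ z ∈ H, a * z = z * a := fun z hz => (hc a ha z hz).symm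
      have ca' : ∀ z ∈ H, a' * z = z * a' := fun z hz => (hc a' ha' z hz).symm
      have e : ⁅a * b, a' * b'⁆ = b * b' * b⁻¹ * b'⁻¹ := by
        rw [commutatorElement_def, _root_.mul_inv_rev, _root_.mul_inv_rev]
        have e1 := ca' b (hB hb)
        have e2 : a * (b * b' * b⁻¹ * b'⁻¹) = (b * b' * b⁻¹ * b'⁻¹) * a := ca _ (mul_mem (mul_mem (mul_mem (hB hb)
          (hB hb')) (inv_mem (hB hb))) (inv_mem (hB hb')))
        have e3 : a' * (a * (b * b' * b⁻¹ * b'⁻¹) * a⁻¹) = (a * (b * b' * b⁻¹ * b'⁻¹) * a⁻¹) * a' :=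
          ca' _ (mul_mem (mul_mem (hA ha) (mul_mem (mul_mem (mul_mem (hB hb) (hB hb')) (inv_mem (hB hb)))
            (inv_mem (hB hb')))) (inv_mem (hA ha)))
        have e4 : a⁻¹ * b'⁻¹ = b'⁻¹ * a⁻¹ := by
          have := ca b' (hB hb')
          calc a⁻¹ * b'⁻¹ = (b' * a)⁻¹ := by group
            _ = (a * b')⁻¹ := by rw [this]
            _ = _ := by group
        have e5 : a * a' = a' * a := ca a' (hA ha')
        calc a * b * (a' * b') * (b⁻¹ * a⁻¹) * (b'⁻¹ * a'⁻¹)
            = a * (b * a') * b' * b⁻¹ * (a⁻¹ * b'⁻¹) * a'⁻¹ := by group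
          _ = a * (a' * b) * b' * b⁻¹ * (b'⁻¹ * a⁻¹) * a'⁻¹ := by rw [e1, e4]
          _ = (a * a') * (b * b' * b⁻¹ * b'⁻¹) * a⁻¹ * a'⁻¹ := by group
          _ = (a' * a) * (b * b' * b⁻¹ * b'⁻¹) * a⁻¹ * a'⁻¹ := by rw [e5]
          _ = (a' * (a * (b * b' * b⁻¹ * b'⁻¹) * a⁻¹)) * a'⁻¹ := by group
          _ = ((a * (b * b' * b⁻¹ * b'⁻¹)) * a⁻¹) * a' * a'⁻¹ := by rw [e3]
          _ = (((b * b' * b⁻¹ * b'⁻¹) * a) * a⁻¹) * a' * a'⁻¹ := by rw [e2]
          _ = _ := by group
      rw [e]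
      exact mul_mem (mul_mem (mul_mem hb hb') (inv_mem hb)) (inv_mem hb')
    rw [eq_bot_iff, ← hdis]
    exact le_inf le_rfl (hA.trans (perf.trans h1))
  have nor : ∀ A B : Subgroup G, A ≤ H → (∀ a ∈ A, ∀ b ∈ B, a * b = b * a) →
      (∀ y ∈ H, ∃ a ∈ A, ∃ b ∈ B, y = a * b) → ∀ y ∈ H, ∀ a ∈ A, y * a * y⁻¹ ∈ A := by
    intro A B hA hAB hH y hy a ha
    obtain ⟨a', ha', b, hb, rfl⟩ := hH y hy
    have e : a' * b * a * (a' * b)⁻¹ = a' * a * a'⁻¹ := by
      have h1 := hAB a ha b hb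
      calc a' * b * a * (a' * b)⁻¹ = a' * (b * a) * b⁻¹ * a'⁻¹ := by group
        _ = a' * (a * b) * b⁻¹ * a'⁻¹ := by rw [h1]
        _ = _ := by group
    rw [e]
    exact mul_mem (mul_mem ha' ha) (inv_mem ha')
  have hBA : ∀ b ∈ B, ∀ a ∈ A, b * a = a * b := fun b hb a ha => (hAB a ha b hb).symm
  have hH' : ∀ y ∈ H, ∃ b ∈ B, ∃ a ∈ A, y = b * a := by
    intro y hy
    obtain ⟨a, ha, b, hb, e⟩ := hH y hy
    exact ⟨b, hb, a, ha, by rw [e, hAB a ha b hb]⟩
  by_cases h1 : ∃ a ∈ A, ∃ y ∈ H, y * a ≠ a * y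
  · by_cases h2 : ∃ b ∈ B, ∃ y ∈ H, y * b ≠ b * y
    · exfalso
      apply hX
      rw [eq_bot_iff, ← hdis]
      exact le_inf (hn A hA (nor A B hA hAB hH) h1) (hn B hB (nor B A hB hBA hH') h2)
    · push Not at h2
      right
      exact key B A hB hA hBA (by rw [inf_comm]; exact hdis) hH' h2
  · push Not at h1
    left
    exact key A B hA hB hAB hdis hH h1

variable (f : PSU n F q →* G) (hf : Function.Injective f)
include hf

/-- perfect subgroups of the normaliser -/
theorem out_range (hF : Fintype.card F = q ^ 2) (hn : 4 ≤ n) (P : Subgroup G)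
    (hP : P ≤ normalizer (f.range : Set G)) (hPP : P ≤ ⁅P, P⁆) :
    ∀ x ∈ P, ∃ k ∈ f.range, ∃ c : G, (∀ y ∈ f.range, c * y = y * c) ∧ x = k * c := by
  let e : PSU n F q ≃* ↥f.range := MonoidHom.ofInjective hf
  let θ : ↥(normalizer (f.range : Set G)) →* MulAut (PSU n F q) :=
    (MulAut.congr e.symm).toMonoidHom.comp (Subgroup.normalizerMonoidHom f.range)
  have hθ : ∀ (g : ↥(normalizer (f.range : Set G))) (y : PSU n F q), f (θ g y) = (g : G) * f y * (g : G)⁻¹ := by
    intro g y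
    have h1 : θ g y = e.symm (Subgroup.normalizerMonoidHom f.range g (e y)) := rfl
    have h2 : ∀ z : ↥f.range, f (e.symm z) = (z : G) := by
      intro z
      have h3 : f (e.symm z) = ((e (e.symm z) : ↥f.range) : G) := rfl
      rw [h3, MulEquiv.apply_symm_apply]
    rw [h1, h2]
    rfl
  set H : Subgroup (MulAut (PSU n F q)) := (P.subgroupOf (normalizer (f.range : Set G))).map θ with hH
  have hHH : H ≤ ⁅H, H⁆ := by
    rw [hH, ← Subgroup.map_commutator]
    apply Subgroup.map_mono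
    intro x hx
    have h1 := hPP (mem_subgroupOf.1 hx)
    have h2 : (⁅P.subgroupOf (normalizer (f.range : Set G)), P.subgroupOf (normalizer (f.range : Set G))⁆).map
        (normalizer (f.range : Set G)).subtype = ⁅P, P⁆ := by
      rw [Subgroup.map_commutator, Subgroup.subgroupOf_map_subtype, inf_eq_left.2 hP]
    rw [← h2] at h1
    obtain ⟨y, hy, hyx⟩ := h1
    have : y = x := Subtype.ext hyx
    rwa [← this]
  intro x hx
  obtain ⟨y, hy⟩ := out_PSU hF hn H hHH (θ ⟨x, hP hx⟩) ⟨_, mem_subgroupOf.2 hx, rfl⟩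
  refine ⟨f y, ⟨y, rfl⟩, (f y)⁻¹ * x, ?_, by group⟩
  rintro _ ⟨z, rfl⟩
  have h1 := hθ ⟨x, hP hx⟩ z
  rw [hy, MulAut.conj_apply, map_mul, map_mul, map_inv] at h1
  have h1' : f y * f z * (f y)⁻¹ = x * f z * x⁻¹ := h1
  calc (f y)⁻¹ * x * f z = (f y)⁻¹ * (x * f z * x⁻¹) * x := by group
    _ = (f y)⁻¹ * (f y * f z * (f y)⁻¹) * x := by rw [h1']
    _ = f z * ((f y)⁻¹ * x) := by group

/-- **The K-facts of LEMMA INPUT** for `PSU n F q`. -/
theorem inp [CharP F 2] (hF : Fintype.card F = q ^ 2) (hn : 4 ≤ n) (hq : q ≠ 2) {S : Subgroup G}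
    (hS : IsSyl S f.range) (tight : TightAt f.range)
    (even : Even (Nat.card ↥(centralizer (f.range : Set G))))
    (std : ∀ g : G, ¬ ∀ k ∈ f.range, ∀ l ∈ CommConj.cj g f.range, k * l = l * k)
    (core : ∀ Q : Subgroup G, IsSyl Q (centralizer (f.range : Set G)) → ∀ P : Subgroup G,
      P ≤ centralizer (f.range : Set G) → (∀ x ∈ P, ∀ q ∈ Q, x * q = q * x) → P ≤ ⁅P, P⁆ → P = ⊥) :
    ∃ (u : Fin n → F) (_ : u ≠ 0) (hu : hermForm n F q u u = 0),
      Inp f.range S ((RR hF u hu).map f) ((PP q u).map f) := by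
  have hs : IsSimpleGroup (PSU n F q) := Cfsg.Agent.S0283.result hF n (by omega) (by omega)
  -- the Sylow subgroup of `PSU`
  have hSf : (S.comap f).map f = S := by
    rw [Subgroup.map_comap_eq]
    exact inf_eq_right.2 hS.le
  let U : Sylow 2 (PSU n F q) :=
    { toSubgroup := S.comap f
      isPGroup' := by
        rintro ⟨x, hx⟩
        obtain ⟨k, hk⟩ := hS.two ⟨f x, hx⟩
        refine ⟨k, Subtype.ext (hf ?_)⟩
        have h1 : (f x) ^ 2 ^ k = 1 := congrArg Subtype.val hk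
        change f (x ^ 2 ^ k) = f 1
        rw [map_pow, h1, map_one]
      is_maximal' := by
        intro Q hQ hle
        apply le_antisymm _ hle
        intro x hx
        refine hS.max (Q.map f) (hQ.map f) ?_ ?_ ⟨x, hx, rfl⟩
        · rw [← hSf]; exact Subgroup.map_mono hle
        · rintro _ ⟨y, -, rfl⟩; exact ⟨y, rfl⟩ }
  obtain ⟨u, hu0, hu, hQU, hUP⟩ := exists_point hF (by omega) U
  have hQU' : (QQ hF u hu).map f ≤ S := by rw [← hSf]; exact Subgroup.map_mono hQU
  have hUP' : S ≤ (PP q u).map f := by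
    conv_lhs => rw [← hSf]
    exact Subgroup.map_mono hUP
  refine ⟨u, hu0, hu, ?_⟩
  exact
    { syl := hS
      tight := tight
      even := even
      ctr := by
        rintro _ ⟨x, rfl⟩ hx
        have h1 : x ∈ Subgroup.center (PSU n F q) := by
          rw [Subgroup.mem_center_iff]
          intro y
          apply hf
          rw [map_mul, map_mul]
          exact mem_centralizer_iff.1 hx (f y) ⟨y, rfl⟩
        rw [center_eq_bot hF hn, Subgroup.mem_bot] at h1
        rw [h1, map_one]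
      std := std
      simp := by
        intro N hN hNn
        have h1 : (N.comap f).map f = N := by
          rw [Subgroup.map_comap_eq]
          exact inf_eq_right.2 hN
        have h2 : (N.comap f).Normal := by
          constructor
          intro x hx y
          show f (y * x * y⁻¹) ∈ N
          rw [map_mul, map_mul, map_inv]
          exact hNn (f y) ⟨y, rfl⟩ _ hx
        rcases hs.eq_bot_or_eq_top_of_normal (N.comap f) h2 with h | h
        · left
          rw [← h1, h, Subgroup.map_bot]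
        · right
          rw [← h1, h, ← MonoidHom.range_eq_map]
      XS := (Subgroup.map_mono (RR_le_QQ hF hu)).trans hQU'
      SH := hUP'
      HK := by
        rintro _ ⟨y, -, rfl⟩
        exact ⟨y, rfl⟩
      HX := by
        rintro _ ⟨y, hy, rfl⟩ _ ⟨x, hx, rfl⟩
        rw [← map_mul, ← map_mul, PP_comm_RR hF hu hy hx]
      perf := by
        rw [← Subgroup.map_commutator]
        exact Subgroup.map_mono (Un.PP_perf hF hn hq hu0 hu)
      cen := by
        intro y hy _ hyS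
        obtain ⟨z, hz, hcz⟩ := UnLoc.exists_of_aut f hf (S := (QQ hF u hu : Set (PSU n F q))) (Z := RR hF u hu)
          (fun α hα => autCent_point hF hn hu0 hu α hα) hy (fun x hx => (hyS _ (hQU' ⟨x, hx, rfl⟩)).symm)
        refine ⟨(f z)⁻¹ * y, ?_, f z, ⟨z, hz, rfl⟩, ?_⟩
        · rw [mem_centralizer_iff]
          rintro _ ⟨x, rfl⟩
          exact (hcz x).symm
        · rw [hcz z]; group
      res := by
        intro w hw hw1 P hPK hPP hPw
        exact Un.le_PP_of_perfect f hf hF (by omega) hu0 hu hw hw1 hPK hPw hPP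
      out := by
        intro P hP hPP x hx
        obtain ⟨k, hk, c, hc, e⟩ := out_range f hf hF hn P hP hPP x hx
        rw [e]
        exact mul_mem_sup hk (mem_centralizer_iff.2 fun y hy => (hc y hy).symm)
      ind := by
        apply ind_of (X := (RR hF u hu).map f)
        · rw [← Subgroup.map_commutator]
          exact Subgroup.map_mono (Un.PP_perf hF hn hq hu0 hu)
        · intro h0
          obtain ⟨t, ht, ht1⟩ := Un.exists_RR_ne hF (by omega) hu0 hu
          have h1 : f t ∈ (RR hF u hu).map f := ⟨t, ht, rfl⟩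
          rw [h0, Subgroup.mem_bot] at h1
          exact ht1 (hf (h1.trans (map_one f).symm))
        · intro B hBH hBn hnc
          have h1 : (B.comap f).map f = B := by
            rw [Subgroup.map_comap_eq]
            apply inf_eq_right.2
            intro x hx
            obtain ⟨y, -, rfl⟩ := hBH hx
            exact ⟨y, rfl⟩
          rw [← h1]
          apply Subgroup.map_mono
          apply RR_le_of_normal hF hn hu0 hu (B := B.comap f)
          · intro x hx
            obtain ⟨y, hy, e⟩ := hBH hx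
            rwa [← hf e]
          · intro y hy b hb
            show f (y * b * y⁻¹) ∈ B
            rw [map_mul, map_mul, map_inv]
            exact hBn (f y) ⟨y, hy, rfl⟩ _ hb
          · obtain ⟨b, hb, y, hy, hne⟩ := hnc
            obtain ⟨y, hy, rfl⟩ := hy
            obtain ⟨b', hb', rfl⟩ := hBH hb
            refine ⟨b', hb, y, hy, fun h0 => hne ?_⟩
            rw [← map_mul, h0, map_mul]
      gen := by
        intro J hJ
        have h2 : J.comap f = ⊤ := by
          apply gen_PSU hF hn hu0 hu (B := PP q u) le_rfl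
          · intro y hy b hb
            exact mul_mem (mul_mem hy hb) (inv_mem hy)
          · exact PP_nc hF hn hu0 hu
          · intro x hx hxx hx1 k hkx
            refine hJ (f x) ⟨x, hx, rfl⟩ ?_ ?_ (f k) ⟨k, rfl⟩ ?_
            · rw [← map_mul, hxx, map_one]
            · intro h0
              exact hx1 (hf (h0.trans (map_one f).symm))
            · rw [← map_mul, hkx, map_mul]
        rintro _ ⟨y, rfl⟩
        have h3 : y ∈ J.comap f := by rw [h2]; trivial
        exact h3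
      core := core }

end Cfsg.Agent.OddHalf.DblR.UnInput

end

-- merged: Cfsg.Agent.OddHalf.DblR.UnRowA
section

/-!
# ODD, D4: `K ≅ PSU_n(q)`, `n ≥ 4`, `q ≥ 4` even: no full pair `K`, `L` with a Sylow 2-subgroup of `K` in `N(L)`
(helper350)

* `emb` : `PSU n F q →* G` with image `K`, from an isomorphism;
* **`Un.no_full`**.
-/

set_option autoImplicit false

namespace Cfsg.Agent.OddHalf.DblR.Un

open Cfsg Subgroup Cfsg.Agent.OddHalf.D4 Cfsg.Agent.OddHalf.D4.Basic Cfsg.Agent.OddHalf.D4.Input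
open Cfsg.Agent.ClassicalGeometry.PSUAutUnip Cfsg.Agent.ClassicalGeometry.PSUAutSylow Cfsg.Agent.KFacts.Unit
open scoped commutatorElement

universe u

/-- the embedding with image `K` -/
theorem exists_emb {G : Type*} [Group G] {K : Subgroup G} {Y : Type*} [Group Y] (e : ↥K ≃* Y) :
    ∃ f : Y →* G, Function.Injective f ∧ f.range = K := by
  refine ⟨K.subtype.comp e.symm.toMonoidHom, K.subtype_injective.comp e.symm.injective, ?_⟩
  rw [MonoidHom.range_comp, MonoidHom.range_eq_top.2 e.symm.surjective, ← MonoidHom.range_eq_map]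
  exact K.range_subtype

variable {F : Type*} [Field F] [Fintype F] {q n : ℕ} [CharP F 2]

/-- **`Inp` and the end for `PSU_n(q)`.** -/
theorem exists_inp {G : Type u} [Group G] [Finite G] (hFT : CoreOf.FTu.{u}) {K : Subgroup G}
    (hK : IsStandardSubgroup K) (hF : Fintype.card F = q ^ 2) (hn : 4 ≤ n) (hq : 4 ≤ q) (e : ↥K ≃* PSU n F q)
    {S : Subgroup G} (hS : IsSyl S K) : ∃ X H : Subgroup G, Inp K S X H ∧ EndHyp K X := by
  obtain ⟨f, hf, rfl⟩ := exists_emb e
  have ht := EvenPair.tight_of_standard hK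
  obtain ⟨u, hu0, hu, h⟩ := UnInput.inp f hf hF hn (by omega) hS ht hK.2.1.1 (by
    intro g hcon
    by_cases h1 : f.range.map (MulAut.conj g).toMonoidHom = f.range
    · -- `K` is not commutative
      have h2 : ∀ k ∈ f.range, ∀ l ∈ f.range, k * l = l * k := by
        intro k hk l hl
        apply hcon k hk l
        show l ∈ f.range.map (MulAut.conj g).toMonoidHom
        rw [h1]; exact hl
      have hq2 : ⁅(⊤ : Subgroup ↥f.range), (⊤ : Subgroup ↥f.range)⁆ = ⊤ := hK.1.1.commutator_eq_top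
      have hq3 : ⁅(⊤ : Subgroup ↥f.range), (⊤ : Subgroup ↥f.range)⁆ = ⊥ := by
        rw [commutator_eq_bot_iff_le_centralizer]
        intro a _
        rw [mem_centralizer_iff]
        intro b _
        exact Subtype.ext (h2 b b.2 a a.2)
      rw [hq2] at hq3
      have hs : IsSimpleGroup ↥f.range := by
        have : IsSimpleGroup (PSU n F q) := Cfsg.Agent.S0283.result hF n (by omega) (by omega)
        exact e.isSimpleGroup_congr.2 this
      have := hs.toNontrivial
      exact absurd hq3 top_ne_bot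
    · apply hK.2.2.1 g h1
      rw [commutator_eq_bot_iff_le_centralizer]
      intro a ha
      rw [mem_centralizer_iff]
      intro b hb
      exact (hcon a ha b hb).symm) (fun Q hQ P hP hc hp => CoreOf.core_of hFT hQ hP hc hp)
  refine ⟨_, _, h, ?_⟩
  intro E hE hE2 hEmax hC1 t t' ht ht1 ht' ht1' hne γ k hk h1 h2 h3
  exact row hF hn hq f hf rfl h.std1 hE hE2 hEmax hC1 ht ht1 ht' ht1' hne hu0 hu hk h1 h2 h3

/-- **No full pair `K`, `L` such that `N(L)` contains a Sylow 2-subgroup of `K`.** -/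
theorem no_full {G : Type u} [Group G] [Finite G] (hFT : CoreOf.FTu.{u}) {K : Subgroup G}
    (hK : IsStandardSubgroup K) (hrk : ¬ PRankLE 2 1 ↥(centralizer (K : Set G)))
    (hF : Fintype.card F = q ^ 2) (hn : 4 ≤ n) (hq : 4 ≤ q) (e : ↥K ≃* PSU n F q)
    {L Q U S : Subgroup G} (hp : FullPair K L Q U) (hS : IsSyl S K) (hSL : S ≤ normalizer (L : Set G)) : False := by
  obtain ⟨X, H, h, hend⟩ := exists_inp hFT hK hF hn hq e hS
  exact h.no_full hend hrk hp hS hSL

end Cfsg.Agent.OddHalf.DblR.Un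

end

-- merged: Cfsg.Agent.OddHalf.DblR.UnRow
section

/-!
# ODD, D4: the rows `U_4(q)`, `U_5(q)`, `U_n(q)` (`n ≥ 6`), `q = 2^a ≥ 4` (helper350)

`UnBF` : the facts `BFacts K` of (1B) for `K ≅ PSU_n(2^a)`, `n ≥ 4`, `a ≥ 2`.

* **`u4e`**, **`u5e`**, **`une`** : the rows of `Cut.lean`, from `UnBF`.
-/

set_option autoImplicit false

namespace Cfsg.Agent.OddHalf.DblR.UnRow

open Cfsg Subgroup Cfsg.Agent.OddHalf.D4 Cfsg.Agent.OddHalf.D4.RowEnd

universe u

/-- `BFacts K` for `K ≅ PSU_n(2^a)`, `n ≥ 4`, `a ≥ 2` -/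
def UnBF : Prop := ∀ (G : Type u) [Group G] [Finite G] (K : Subgroup G) (F : Type) [Field F] [Fintype F] (a n : ℕ),
  2 ≤ a → Fintype.card F = 4 ^ a → 4 ≤ n → IsSimpleGroup ↥K → (↥K ≃* PSU n F (2 ^ a)) → Free.BFacts K

/-- `X ≅ PSU_n(2^a)`, `n ≥ 4`, `a ≥ 2` -/
def Ua (X : Type*) [Group X] : Prop := ∃ (F : Type) (_ : Field F) (_ : Fintype F) (a n : ℕ), 2 ≤ a ∧
  Fintype.card F = 4 ^ a ∧ 4 ≤ n ∧ Nonempty (X ≃* PSU n F (2 ^ a))

theorem charTwo {F : Type*} [Field F] [Fintype F] {a : ℕ} (hF : Fintype.card F = 4 ^ a) :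
    CharP F 2 := by
  obtain ⟨p, hp⟩ := CharP.exists F
  have hpp : p.Prime := CharP.char_is_prime F p
  obtain ⟨n, -, hn⟩ := FiniteField.card F p
  have h1 : p ∣ 4 ^ a := by
    rw [← hF, hn]
    exact dvd_pow_self p n.ne_zero
  have h2 : p ∣ 4 := hpp.dvd_of_dvd_pow h1
  have h3 : p ∣ 2 := hpp.dvd_of_dvd_pow (n := 2) (by norm_num; exact h2)
  have h4 : p = 2 := (Nat.prime_dvd_prime_iff_eq hpp Nat.prime_two).1 h3
  rw [← h4]; exact hp

theorem card_sq {F : Type*} [Fintype F] {a : ℕ} (hF : Fintype.card F = 4 ^ a) : Fintype.card F = (2 ^ a) ^ 2 := by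
  rw [hF, ← pow_mul, mul_comm, pow_mul]
  norm_num

theorem four_le {a : ℕ} (ha : 2 ≤ a) : 4 ≤ 2 ^ a := by
  calc 4 = 2 ^ 2 := by norm_num
    _ ≤ 2 ^ a := Nat.pow_le_pow_right (by norm_num) ha

/-- all unitary rows at once -/
theorem ua (h1173 : Start.P1173.{u}) (hFT : CoreOf.FTu.{u}) (hBF : UnBF.{u}) : Cut.Row1.{u} (fun K _ => Ua K) := by
  refine row_of_bFacts h1173 ?_ ?_ ?_
  · rintro X Y _ _ e ⟨F, _, _, a, n, ha, hF, hn, ⟨e'⟩⟩
    exact ⟨F, _, _, a, n, ha, hF, hn, ⟨e.symm.trans e'⟩⟩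
  · rintro G _ _ K hK - - ⟨F, _, _, a, n, ha, hF, hn, ⟨e⟩⟩ S hS
    have : CharP F 2 := charTwo hF
    exact Un.exists_inp hFT hK (card_sq hF) hn (four_le ha) e hS
  · rintro G _ _ K hs ⟨F, _, _, a, n, ha, hF, hn, ⟨e⟩⟩
    exact hBF G K F a n ha hF hn hs e

/-- **D4, `K ≅ U_4(2^a)`, `a ≥ 2`.** -/
theorem u4e (h1173 : Start.P1173.{u}) (hFT : CoreOf.FTu.{u}) (hBF : UnBF.{u}) :
    Cut.Row1.{u} (fun K _ => Cut.U4e K) := by
  rintro G _ hG K hK hrk hz ⟨F, _, _, a, ha, hF, ⟨e⟩⟩
  exact ua h1173 hFT hBF G hG K hK hrk hz ⟨F, _, _, a, 4, ha, hF, le_rfl, ⟨e⟩⟩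

/-- **D4, `K ≅ U_5(2^a)`, `a ≥ 2`.** -/
theorem u5e (h1173 : Start.P1173.{u}) (hFT : CoreOf.FTu.{u}) (hBF : UnBF.{u}) :
    Cut.Row1.{u} (fun K _ => Cut.U5e K) := by
  rintro G _ hG K hK hrk hz ⟨F, _, _, a, ha, hF, ⟨e⟩⟩
  exact ua h1173 hFT hBF G hG K hK hrk hz ⟨F, _, _, a, 5, ha, hF, by norm_num, ⟨e⟩⟩

/-- **D4, `K ≅ U_n(2^a)`, `n ≥ 6`, `a ≥ 2`.** -/
theorem une (h1173 : Start.P1173.{u}) (hFT : CoreOf.FTu.{u}) (hBF : UnBF.{u}) :
    Cut.Row1.{u} (fun K _ => Cut.Une K) := by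
  rintro G _ hG K hK hrk hz ⟨F, _, _, a, n, ha, hF, hn, ⟨e⟩⟩
  exact ua h1173 hFT hBF G hG K hK hrk hz ⟨F, _, _, a, n, ha, hF, by omega, ⟨e⟩⟩

end Cfsg.Agent.OddHalf.DblR.UnRow

end
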