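import Cfsg.Agent.OddHalf.DblR.RgdPair

-- merged: Cfsg.Agent.OddHalf.DblR.RgdTriL
section

/-!
# ODD, D4: the hypotheses `KTri` for the long roots of a root group datum with two root lengths

helper328. `LG Rd a` : `a` is a long root (`LG.of_le` : if `⟨x, a^∨⟩ ≤ 1` for `x ≠ a`).
The centraliser facts (K1), (K2) (`FactOneL`, `FactTwoL`) are needed only for long roots.

`ktriL` : `KTri` for two long roots at 120 degrees.
-/

set_option autoImplicit false
set_option linter.unusedSectionVars false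

namespace Cfsg.Agent.OddHalf.DblR

open CoxeterSystem Cfsg.Agent.ChevalleyStructure.CoxeterGeom Cfsg.Agent.Tits.Roots Cfsg.Agent.Tits.Core
  Cfsg.Agent.Tits.RootComb Cfsg.Agent.Tits.Exchange Cfsg.Agent.Nodes.Reps Cfsg.Agent.Nodes.BNOf
  Cfsg.Agent.Nodes.StabComb Cfsg.Agent.Nodes.Bruhat Cfsg.Agent.Nodes.OppDec Cfsg.Agent.Nodes.LeviDec
  Cfsg.Agent.Nodes.NormX Cfsg.Agent.Nodes.Coroot Cfsg.Agent.Nodes.PosPair Cfsg.Agent.KFacts.RgdPar
  Cfsg.Agent.KFacts.RgdSL Cfsg.Agent.KFacts.RgdTI Cfsg.Agent.KFacts.RgdCent Cfsg.Agent.KFacts.RgdOdd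
  Cfsg.Agent.KFacts.RgdEx
open scoped commutatorElement

variable {I W Y : Type*} [Fintype I] [DecidableEq I] [Group W] [Group Y] {M : CoxeterMatrix I}
  {cs : CoxeterSystem M W} {A : I → I → ℤ} {h : IsCartan M A} {T : Subgroup Y} {n : I → Y}
  {X : (I → ℤ) → Subgroup Y}

/-- `a` is a long root: `X a` is centralised by the `X x` with `⟨x, a^∨⟩ ≥ 0`; for `b` at 120 degrees, of the same length,
`a + b` is the only root at acute angles with `a` and `b` (this does not depend on the labels `B_n` or `C_n`). -/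
structure LG (Rd : RGD cs h 2 T n X) (a : I → ℤ) : Prop where
  lr : LR Rd a
  two : ∀ b, IsRoot cs h b → cpr cs h a b = -1 → cpr cs h b a = -1 → ∀ y, IsRoot cs h y →
    0 < cpr cs h y a → 0 < cpr cs h y b → y = a + b

/-- the centraliser fact (K2) in `C_G(E)` for long roots -/
def FactTwoL (Rd : RGD cs h 2 T n X) (E : Subgroup Y) : Prop :=
  ∀ a b, LG Rd a → LG Rd b → cpr cs h a b = 1 → ∀ c : Y, (∀ e ∈ E, c * e = e * c) →
    (∀ x ∈ Psi cs h a b, ∀ v ∈ X x, c * v = v * c) → ∃ x ∈ X a, ∃ z ∈ X b, (x * z)⁻¹ * c ∈ C1 (GG cs h T X) E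

/-- the centraliser fact (K1) in `C_G(E)` for long roots -/
def FactOneL (Rd : RGD cs h 2 T n X) (E : Subgroup Y) : Prop :=
  ∀ a, LG Rd a → ∀ c : Y, (∀ e ∈ E, c * e = e * c) →
    (∀ x ∈ Rad cs h a, ∀ v ∈ X x, c * v = v * c) → ∃ z ∈ X a, z⁻¹ * c ∈ C1 (GG cs h T X) E

section Comb

variable [Finite W]

/-- the coroot of the sum of two roots of the same length at 120 degrees -/
theorem cpr_add_right {r s : I → ℤ} (hr : IsRoot cs h r) (hs : IsRoot cs h s) (hrs : IsRoot cs h (r + s))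
    (h1 : cpr cs h r s = -1) (h2 : cpr cs h s r = -1) (z : I → ℤ) :
    cpr cs h z (r + s) = cpr cs h z r + cpr cs h z s := by
  have := Fintype.ofFinite W
  have e1 := two_form_cpr cs h r hs
  have e2 := two_form_cpr cs h s hr
  rw [h1] at e1
  rw [h2, form_comm] at e2
  have hN : form cs h r r = form cs h s s := by linarith
  apply cpr_eq_of_form cs h hrs
  have h3 := two_form_cpr cs h z hr
  have h4 := two_form_cpr cs h z hs
  rw [form_add_right, form_add_left, form_add_right, form_add_right, form_comm cs h s r]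
  have h5 : form cs h r r + form cs h r s + (form cs h r s + form cs h s s) = form cs h r r := by linarith
  rw [h5, mul_add, h3, h4, ← hN]
  ring

theorem cpr_A2 {r s : I → ℤ} (hA : A2 cs h r s) (z : I → ℤ) :
    cpr cs h z (r + s) = cpr cs h z r + cpr cs h z s := cpr_add_right hA.rx hA.ry hA.rxy hA.cxy hA.cyx z

theorem cpr_neg_self_root {a : I → ℤ} (ha : IsRoot cs h a) : ∃ w : W, rep cs h w a = -a := by
  obtain ⟨w, i, rfl⟩ := ha
  refine ⟨w * cs.simple i * w⁻¹, ?_⟩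
  rw [rep_mul_apply, rep_mul_apply, rep_inv_apply, rep_simple_sr, map_neg]

end Comb

namespace LG

variable [Finite W] {Rd : RGD cs h 2 T n X} {a : I → ℤ}

theorem root (L : LG Rd a) : IsRoot cs h a := L.lr.root

theorem act (L : LG Rd a) (w : W) : LG Rd (rep cs h w a) := by
  refine ⟨L.lr.act w, fun b hb h1 h2 y hy h3 h4 => ?_⟩
  have key : ∀ {x z : I → ℤ}, IsRoot cs h z → cpr cs h (rep cs h w⁻¹ x) (rep cs h w⁻¹ z) = cpr cs h x z :=
    fun hz => cpr_rep cs h w⁻¹ _ hz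
  have e : rep cs h w⁻¹ (rep cs h w a) = a := by rw [rep_inv_apply]
  have g1 := key (x := rep cs h w a) hb
  have g2 := key (x := b) (L.root.act w)
  have g3 := key (x := y) (L.root.act w)
  have g4 := key (x := y) hb
  rw [e] at g1 g2 g3
  have h5 := L.two (rep cs h w⁻¹ b) (hb.act _) (by rw [g1, h1]) (by rw [g2, h2]) (rep cs h w⁻¹ y) (hy.act _)
    (by rw [g3]; exact h3) (by rw [g4]; exact h4)
  have h6 := congrArg (rep cs h w) h5
  rwa [map_add, rep_apply_inv, rep_apply_inv] at h6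

theorem neg (L : LG Rd a) : LG Rd (-a) := by
  obtain ⟨w, hw⟩ := cpr_neg_self_root L.root
  rw [← hw]
  exact L.act w

/-- long roots from `⟨y, a^∨⟩ ≤ 1` for `y ≠ a` (labels in which `a` is long). -/
theorem of_le (L : LR Rd a) (le : ∀ y, IsRoot cs h y → y ≠ a → cpr cs h y a ≤ 1) : LG Rd a := by
  refine ⟨L, fun b hb h1 h2 y hy h3 h4 => ?_⟩
  have ha := L.root
  have hd : IsRoot cs h (a + b) := by
    have := isRoot_refl cs h ha hb
    rwa [h1, neg_one_smul, sub_neg_eq_add] at this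
  by_contra hne
  have h5 := cpr_add_right ha hb hd h1 h2 y
  -- transport by the reflection in `b`
  obtain ⟨w, i, hbw⟩ := id hb
  have e1 : ∀ x, rep cs h (w * cs.simple i * w⁻¹) x = x - cpr cs h x b • b := by
    intro x
    have h6 := rep_rfl'_eq cs h w i x
    rw [← hbw] at h6
    exact h6
  have e2 : rep cs h (w * cs.simple i * w⁻¹) a = a + b := by
    rw [e1, h1, neg_one_smul, sub_neg_eq_add]
  have h7 := cpr_rep cs h (w * cs.simple i * w⁻¹)⁻¹ y hd
  have e3 : rep cs h (w * cs.simple i * w⁻¹)⁻¹ (a + b) = a := by rw [← e2, rep_inv_apply]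
  rw [e3] at h7
  have h8 := le (rep cs h (w * cs.simple i * w⁻¹)⁻¹ y) (hy.act _) (by
    intro h9
    apply hne
    rw [← e2, ← h9, rep_apply_inv])
  omega

end LG

section

variable [Finite W] (Rd : RGD cs h 2 T n X)

include Rd

/-- the sum of two long roots at 120 degrees is long -/
theorem LG.add {r s : I → ℤ} (hA : A2 cs h r s) (L : LG Rd r) : LG Rd (r + s) := by
  obtain ⟨w, hw⟩ : ∃ w : W, rep cs h w r = r + s := by
    obtain ⟨⟨u, hu⟩, hu1⟩ := (Subgroup.ne_bot_iff_exists_ne_one).1 (X_ne_bot Rd hA.ry)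
    obtain ⟨w, hw, -⟩ := hA.symm.exists_mu' Rd hu (fun h0 => hu1 (Subtype.ext h0))
    exact ⟨w, by rw [hw, hA.cxy, neg_one_smul, sub_neg_eq_add]⟩
  rw [← hw]
  exact L.act w

theorem LG.eq_right {r s w : I → ℤ} (hA : A2 cs h r s) (Lr : LG Rd r) (hw : IsRoot cs h w)
    (h1 : cpr cs h w r < 0) (h2 : 0 < cpr cs h w (r + s)) : w = s := by
  have Ld := Lr.add Rd hA
  have h3 := Ld.two (-r) hA.rx.neg (by
      rw [cpr_neg_right cs h _ hA.rx, cpr_add cs h _ _ hA.rx, cpr_self cs h hA.rx, hA.cyx]; norm_num) (by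
      rw [cpr_neg_left _ hA.rxy, cpr_A2 hA, cpr_self cs h hA.rx, hA.cxy]; norm_num) w hw h2 (by
      rw [cpr_neg_right cs h _ hA.rx]; omega)
  rw [h3]; abel

/-- the roots between `s` and `z ∈ Psi r (r + s)`, `⟨z, s^∨⟩ < 0` -/
theorem btwn_psi {r s z w : I → ℤ} (hA : A2 cs h r s) (Lr : LG Rd r) (hz : z ∈ Psi cs h r (r + s))
    (hzs : cpr cs h z s < 0) (hw : Btwn cs h s z w) : w ∈ Psi cs h r (r + s) := by
  have hr := hA.rx
  have hs := hA.ry
  have hd := hA.rxy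
  obtain ⟨hwr, m, a, b, hm, ha, hb, he⟩ := hw
  have csr : cpr cs h s r = -1 := hA.cyx
  have csd : cpr cs h s (r + s) = 1 := by rw [cpr_A2 hA, hA.cyx, cpr_self cs h hs]; norm_num
  have hzd := hz.2.2
  have ezd := cpr_A2 hA z
  have key : ∀ y, IsRoot cs h y → m * cpr cs h w y = a * cpr cs h s y + b * cpr cs h z y := by
    intro y hy
    rw [← cpr_smul cs h _ _ hy, he, cpr_add cs h _ _ hy, cpr_smul cs h _ _ hy, cpr_smul cs h _ _ hy]
  have k1 := key (r + s) hd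
  have k2 := key r hr
  have k3 := key s hs
  rw [csd] at k1
  rw [csr] at k2
  rw [cpr_self cs h hs] at k3
  have hzr1 : 0 < cpr cs h z r := by omega
  have hwd : 0 < cpr cs h w (r + s) := by
    have h1 : 0 < m * cpr cs h w (r + s) := by
      rw [k1]
      have := mul_nonneg hb.le hzd
      omega
    exact (mul_pos_iff_of_pos_left hm).1 h1
  refine ⟨hwr, ?_, hwd.le⟩
  by_contra hneg
  push Not at hneg
  have hws := Lr.eq_right Rd hA hwr hneg hwd
  rw [hws, csr] at k2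
  rw [hws, cpr_self cs h hs] at k3
  -- `a - m = b ⟨z, r^∨⟩`, `2 (m - a) = b ⟨z, s^∨⟩`
  have h1 : b * (2 * cpr cs h z r + cpr cs h z s) = 0 := by linarith
  have h2 : 0 < b * (2 * cpr cs h z r + cpr cs h z s) := mul_pos hb (by omega)
  omega

/-- `X s` normalises `⟨X a : (a, r) ≥ 0, (a, r + s) ≥ 0⟩` -/
theorem norm_psiL {r s : I → ℤ} (hA : A2 cs h r s) (Lr : LG Rd r) (Ls : LG Rd s) {x y : Y} (hx : x ∈ X s)
    (hy : y ∈ RGD.Sup X (Psi cs h r (r + s))) : x * y * x⁻¹ ∈ RGD.Sup X (Psi cs h r (r + s)) := by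
  have hxi : x ∈ Subgroup.normalizer (RGD.Sup X (Psi cs h r (r + s)) : Set Y) := by
    rw [mem_normalizer_iff_cj]
    have key : ∀ x ∈ X s, cj x (RGD.Sup X (Psi cs h r (r + s))) ≤ RGD.Sup X (Psi cs h r (r + s)) := by
      intro x hx
      rw [RGD.cj_Sup]
      refine iSup_le ?_
      rintro ⟨z, hz⟩ v hv
      rw [mem_cj] at hv
      obtain ⟨u, hu, rfl⟩ : ∃ u ∈ X z, v = x * u * x⁻¹ := ⟨_, hv, by group⟩
      have hzr := hz.1
      have hd := hA.rxy
      have e1 := cpr_A2 hA z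
      have h1 := hz.2.1
      have h2 := hz.2.2
      rcases le_or_gt 0 (cpr cs h z s) with h3 | h3
      · have h5 := Ls.lr.comm z hzr h3 u hu x hx
        have : x * u * x⁻¹ = u := by rw [← h5]; group
        rw [this]
        exact RGD.le_Sup hz hu
      · have hzs : z ≠ -s := by
          rintro rfl
          rw [cpr_neg_left _ hd, cpr_A2 hA, hA.cyx, cpr_self cs h hA.ry] at h2
          omega
        have hzs' : s ≠ z := by
          rintro rfl
          rw [cpr_self cs h hA.ry] at h3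
          omega
        have hzs'' : s ≠ -z := by
          intro h0
          exact hzs (by rw [h0, neg_neg])
        have h6 : ⁅x, u⁆ ∈ RGD.Sup X (Psi cs h r (r + s)) := by
          have h7 := Rd.comm s z hA.ry hzr hzs' hzs'' x hx u hu
          refine (iSup_le ?_ : btw cs h X s z ≤ _) h7
          rintro ⟨w, hw⟩
          exact RGD.le_Sup (btwn_psi Rd hA Lr hz h3 hw)
        have : x * u * x⁻¹ = ⁅x, u⁆ * u := by rw [commutatorElement_def]; group
        rw [this]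
        exact mul_mem h6 (RGD.le_Sup hz hu)
    apply le_antisymm (key x hx)
    have := cj_mono x (key x⁻¹ (inv_mem hx))
    rwa [cj_cj_inv] at this
  exact (Subgroup.mem_normalizer_iff.1 hxi y).1 hy

end

/-- `g` is orthogonal to `s` and `T ∩ ⟨X g, X (-g)⟩` is transitive on `X r`. -/
structure TorTr (cs : CoxeterSystem M W) (h : IsCartan M A) (T : Subgroup Y) (X : (I → ℤ) → Subgroup Y)
    (g r s : I → ℤ) : Prop where
  root : IsRoot cs h g
  orth : cpr cs h g s = 0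
  tr : ∀ x ∈ X r, x ≠ 1 → ∀ x' ∈ X r, x' ≠ 1 → ∃ t ∈ T ⊓ (X g ⊔ X (-g)), t * x * t⁻¹ = x'

section

variable [Finite W] (Rd : RGD cs h 2 T n X)

include Rd

theorem torTr_of_A2 {r s g : I → ℤ} (hgs : cpr cs h g s = 0) (hgr : A2 cs h g r) : TorTr cs h T X g r s :=
  ⟨hgr.rx, hgs, fun _ hx hx1 _ hx' hx1' => hgr.tor_trans Rd hx hx1 hx' hx1'⟩

omit Rd in
theorem exists_h_of_rootL {Rd : RGD cs h 2 T n X} {r s g : I → ℤ} (Ls : LG Rd s) (hg : TorTr cs h T X g r s) {m : Y}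
    (hm : m ∈ X s ⊔ X (-s)) :
    ∀ x ∈ X r, x ≠ 1 → ∀ x' ∈ X r, x' ≠ 1 →
      ∃ t ∈ T, (∀ y ∈ X s, t * y = y * t) ∧ t * m = m * t ∧ t * x * t⁻¹ = x' := by
  intro x hx hx1 x' hx' hx1'
  obtain ⟨t, ht, e⟩ := hg.tr x hx hx1 x' hx' hx1'
  have hgs := hg.orth
  have hs := Ls.root
  -- `⟨X g, X (-g)⟩` commutes with `⟨X s, X (-s)⟩`
  have key : ∀ s', LG Rd s' → cpr cs h g s' = 0 → ∀ v ∈ X s', t * v = v * t := by
    intro s' Ls' hgs' v hv
    have h1 : X g ⊔ X (-g) ≤ Subgroup.centralizer {v} := by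
      refine sup_le ?_ ?_
      · intro u hu
        rw [Subgroup.mem_centralizer_singleton_iff]
        exact Ls'.lr.comm g hg.root (by rw [hgs']) u hu v hv
      · intro u hu
        rw [Subgroup.mem_centralizer_singleton_iff]
        exact Ls'.lr.comm (-g) hg.root.neg (by rw [cpr_neg_left _ Ls'.root, hgs', neg_zero]) u hu v hv
    exact Subgroup.mem_centralizer_singleton_iff.1 (h1 ht.2)
  refine ⟨t, ht.1, key s Ls hgs, ?_, e⟩
  have h1 : X s ⊔ X (-s) ≤ Subgroup.centralizer {t} := by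
    refine sup_le ?_ ?_
    · intro u hu
      rw [Subgroup.mem_centralizer_singleton_iff]
      exact (key s Ls hgs u hu).symm
    · intro u hu
      rw [Subgroup.mem_centralizer_singleton_iff]
      refine (key (-s) Ls.neg ?_ u hu).symm
      rw [cpr_neg_right cs h _ hs, hgs, neg_zero]
  exact (Subgroup.mem_centralizer_singleton_iff.1 (h1 hm)).symm

/-- **`KTri` for two long roots at 120 degrees.** -/
theorem ktriL (Tab : ∀ t ∈ T, ∀ t' ∈ T, t * t' = t' * t) {E : Subgroup Y}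
    (F1 : FactOneL Rd E) (F2 : FactTwoL Rd E)
    {r s g g' : I → ℤ} (hA : A2 cs h r s) (Lr : LG Rd r) (Ls : LG Rd s) (hg : TorTr cs h T X g r s)
    (hg' : TorTr cs h T X g' s r)
    (big : ∃ x ∈ X r, ∃ x' ∈ X r, x ≠ 1 ∧ x' ≠ 1 ∧ x ≠ x') :
    ∃ k m : Y, KTri (GG cs h T X) E T (X r) (X s) (X (r + s)) (RGD.Sup X (Ge cs h r)) (RGD.Sup X (Ge cs h s))
      (RGD.Sup X (Ge cs h (r + s))) (RGD.Sup X (Psi cs h r (r + s))) (RGD.Sup X (Psi cs h s (r + s)))
      (RGD.Sup X (Psi cs h r s)) k m ∧ cj k (RGD.Sup X (Ge cs h r)) = RGD.Sup X (Ge cs h (r + s)) ∧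
      cj m (RGD.Sup X (Ge cs h s)) = RGD.Sup X (Ge cs h (r + s)) := by
  obtain ⟨k, hk, ek, ek2⟩ := exists_refl Rd hA
  obtain ⟨m, hm, em, em2⟩ := exists_refl Rd hA.symm
  rw [add_comm s r] at em em2
  have hr := hA.rx
  have hsr := hA.ry
  have hd := hA.rxy
  have Ld := Lr.add Rd hA
  have ersd := cpr_A2 hA
  have c1 : cpr cs h r (r + s) = 1 := by rw [ersd r, cpr_self cs h hr, hA.cxy]; norm_num
  have c2 : cpr cs h s (r + s) = 1 := by rw [ersd s, hA.cyx, cpr_self cs h hsr]; norm_num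
  have c3 : cpr cs h (r + s) r = 1 := by rw [cpr_add cs h _ _ hr, cpr_self cs h hr, hA.cyx]; norm_num
  have c4 : cpr cs h (r + s) s = 1 := by rw [cpr_add cs h _ _ hsr, cpr_self cs h hsr, hA.cxy]; norm_num
  have hG : ∀ z, IsRoot cs h z → X z ≤ GG cs h T X := fun z hz => le_trans (RGD.le_Sup hz) le_sup_right
  have hG2 : ∀ z, IsRoot cs h z → X z ⊔ X (-z) ≤ GG cs h T X := fun z hz => sup_le (hG z hz) (hG (-z) hz.neg)
  have hsub : ∀ a b, Psi cs h a b ⊆ Ge cs h a := fun a b x hx => ⟨hx.1, hx.2.1⟩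
  have hsub' : ∀ a b, Psi cs h a b ⊆ Ge cs h b := fun a b x hx => ⟨hx.1, hx.2.2⟩
  have hdis : ∀ a b, IsRoot cs h a → IsRoot cs h b → a ≠ b → ∀ x ∈ X a, x ∈ X b → x = 1 := by
    intro a b ha hb hab x hx hx'
    have h0 := X_inf_X Rd ha hb hab
    have h1 : x ∈ X a ⊓ X b := ⟨hx, hx'⟩
    rw [h0] at h1
    exact Subgroup.mem_bot.1 h1
  have hSup : ∀ (S : Set (I → ℤ)) (c : Y), (∀ y ∈ RGD.Sup X S, c * y = y * c) → ∀ x ∈ S, ∀ v ∈ X x, c * v = v * c :=
    fun S c hc x hx v hv => hc v (RGD.le_Sup hx hv)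
  refine ⟨k, m, ?_, ek2, em2⟩
  exact
    { XrPd := RGD.le_Sup ⟨hr, by rw [c1]; norm_num⟩
      XsPd := RGD.le_Sup ⟨hsr, by rw [c2]; norm_num⟩
      XdPr := RGD.le_Sup ⟨hd, by rw [c3]; norm_num⟩
      XdPs := RGD.le_Sup ⟨hd, by rw [c4]; norm_num⟩
      TK := le_sup_left
      Tab := Tab
      Todd := fun t ht => T_odd Rd ht
      TXr := fun t ht => Rd.tor r hr t ht
      TXs := fun t ht => Rd.tor s hsr t ht
      TXd := fun t ht => Rd.tor _ hd t ht
      nK := hG2 s hsr hk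
      nX := ek
      mK := hG2 r hr hm
      mX := em
      trr := exists_h_of_rootL Ls hg hk
      trs := exists_h_of_rootL Lr hg' hm
      cmX := fun x hx y hy => by
        have := hA.comm_mem Rd hx hy
        rwa [commutatorElement_def] at this
      nd := fun x hx y hy hc => by
        by_contra hcon
        push Not at hcon
        exact hA.comm_ne_one Rd hx hcon.1 hy hcon.2 (commutatorElement_eq_one_iff_mul_comm.2 hc)
      big := big
      disr := hdis r (r + s) hr hd (by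
        intro h0
        apply hsr.ne_zero
        have : r + s = r + 0 := by rw [← h0, add_zero]
        exact add_left_cancel this)
      diss := hdis s (r + s) hsr hd (by
        intro h0
        apply hr.ne_zero
        have : r + s = 0 + s := by rw [← h0, zero_add]
        exact add_right_cancel this)
      YrPr := RGD.Sup_mono (hsub _ _)
      YrPd := RGD.Sup_mono (hsub' _ _)
      YrN := fun x hx y hy => norm_psiL Rd hA Lr Ls hx hy
      K2r := fun c hc hcY => F2 r (r + s) Lr Ld c1 c hc (hSup _ c hcY)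
      YsPs := RGD.Sup_mono (hsub _ _)
      YsPd := RGD.Sup_mono (hsub' _ _)
      YsN := fun x hx y hy => by
        have e : r + s = s + r := add_comm r s
        rw [e] at hy ⊢
        exact norm_psiL Rd hA.symm Ls Lr hx hy
      K2s := fun c hc hcY => F2 s (r + s) Ls Ld c2 c hc (hSup _ c hcY)
      YPr := RGD.Sup_mono (hsub _ _)
      YPs := RGD.Sup_mono (hsub' _ _)
      YPd := RGD.Sup_mono fun z hz => ⟨hz.1, by rw [ersd z]; exact add_nonneg hz.2.1 hz.2.2⟩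
      K1 := fun c hc hcr hcs hcY => by
        apply F1 (r + s) Ld c hc
        intro z hz v hv
        by_cases h1 : z = r
        · exact hcr v (h1 ▸ hv)
        by_cases h2 : z = s
        · exact hcs v (h2 ▸ hv)
        -- `(z, r), (z, s) ≥ 0`
        have hzd : 0 < cpr cs h z (r + s) := by have := hz.2; omega
        have h5 : z ∈ Psi cs h r s := by
          refine ⟨hz.1, ?_, ?_⟩
          · by_contra h6
            exact h2 (Lr.eq_right Rd hA hz.1 (not_le.1 h6) hzd)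
          · by_contra h6
            rw [add_comm] at hzd
            exact h1 (Ls.eq_right Rd hA.symm hz.1 (not_le.1 h6) hzd)
        exact hcY v (RGD.le_Sup h5 hv) }

end

end Cfsg.Agent.OddHalf.DblR

end

-- merged: Cfsg.Agent.OddHalf.DblR.RgdPairL
section

/-!
# ODD, D4: no commuting pair of long root type, two root lengths

helper328. `no_pair_rgdL` : `no_pair_rgd` for the long roots of a root group datum with two root lengths.
-/

set_option autoImplicit false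
set_option linter.unusedSectionVars false

namespace Cfsg.Agent.OddHalf.DblR

open CoxeterSystem Cfsg.Agent.ChevalleyStructure.CoxeterGeom Cfsg.Agent.Tits.Roots Cfsg.Agent.Tits.Core
  Cfsg.Agent.Tits.RootComb Cfsg.Agent.Tits.Exchange Cfsg.Agent.Nodes.Reps Cfsg.Agent.Nodes.BNOf
  Cfsg.Agent.Nodes.StabComb Cfsg.Agent.Nodes.Bruhat Cfsg.Agent.Nodes.OppDec Cfsg.Agent.Nodes.LeviDec
  Cfsg.Agent.Nodes.NormX Cfsg.Agent.Nodes.Coroot Cfsg.Agent.Nodes.PosPair Cfsg.Agent.KFacts.RgdPar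
  Cfsg.Agent.KFacts.RgdSL Cfsg.Agent.KFacts.RgdTI Cfsg.Agent.KFacts.RgdCent Cfsg.Agent.KFacts.RgdOdd
  Cfsg.Agent.KFacts.RgdEx
open scoped commutatorElement

variable {I W Y : Type*} [Fintype I] [DecidableEq I] [Group W] [Group Y] {M : CoxeterMatrix I}
  {cs : CoxeterSystem M W} {A : I → I → ℤ} {h : IsCartan M A} {T : Subgroup Y} {n : I → Y}
  {X : (I → ℤ) → Subgroup Y}

section

variable [Finite W] (Rd : RGD cs h 2 T n X)

include Rd

omit [Finite W] in
/-- (K1) gives `C_K(P_r) ≤ X_r` -/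
theorem FactOneL.self {E : Subgroup Y} (F1 : FactOneL Rd E) (Am : Amb (GG cs h T X) E) {r : I → ℤ} (Lr : LG Rd r)
    {x : Y} (hx : x ∈ GG cs h T X) (hc : ∀ a ∈ Rad cs h r, ∀ v ∈ X a, x * v = v * x) : x ∈ X r := by
  have hXr : X r ≤ GG cs h T X := le_trans (RGD.le_Sup (S := {x | IsRoot cs h x}) Lr.lr.root) le_sup_right
  obtain ⟨z, hz, hz1⟩ := F1 r Lr x (fun e he => (Am.comm e he x hx).symm) hc
  have h1 : z⁻¹ * x = 1 := Am.K_inf_C1 (mul_mem (inv_mem (hXr hz)) hx) hz1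
  have h2 : x = z := by rw [inv_mul_eq_one] at h1; exact h1.symm
  rw [h2]; exact hz

/-- `P_r` determines `Q_r` and `X_r` -/
theorem cj_of_cj_PL [Finite Y] {r : I → ℤ} (L : LR Rd r)
    (self : ∀ x ∈ GG cs h T X, (∀ a ∈ Ge cs h r, ∀ v ∈ X a, x * v = v * x) → x ∈ X r)
    (QN : ∀ p ∈ RGD.Sup X (Ge cs h r), ∀ q ∈ RGD.Sup X (Rad cs h r), p * q * p⁻¹ ∈ RGD.Sup X (Rad cs h r))
    {g : Y} (hg : cj g (RGD.Sup X (Ge cs h r)) = RGD.Sup X (Ge cs h r)) :
    cj g (RGD.Sup X (Rad cs h r)) = RGD.Sup X (Rad cs h r) ∧ cj g (X r) = X r := by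
  have hr := L.root
  have hXP : X r ≤ RGD.Sup X (Ge cs h r) := RGD.le_Sup ⟨hr, by rw [cpr_self cs h hr]; norm_num⟩
  have hPG : RGD.Sup X (Ge cs h r) ≤ GG cs h T X := le_trans (RGD.Sup_mono fun x hx => hx.1) le_sup_right
  have hQP : RGD.Sup X (Rad cs h r) ≤ RGD.Sup X (Ge cs h r) := RGD.Sup_mono fun x hx => ⟨hx.1, by have := hx.2; omega⟩
  have key1 : ∀ g : Y, cj g (RGD.Sup X (Ge cs h r)) = RGD.Sup X (Ge cs h r) → cj g (X r) ≤ X r := by
    intro g hg x hx
    rw [mem_cj] at hx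
    have hxP : x ∈ RGD.Sup X (Ge cs h r) := by
      rw [← hg, mem_cj]
      exact hXP hx
    refine self x (hPG hxP) ?_
    intro a ha v hv
    have hvP : v ∈ RGD.Sup X (Ge cs h r) := RGD.le_Sup (S := Ge cs h r) ha hv
    have h1 : g⁻¹ * v * g ∈ RGD.Sup X (Ge cs h r) := by
      rw [← mem_cj, hg]; exact hvP
    have h2 := L.comm' h1 hx
    calc x * v = g * ((g⁻¹ * x * g) * (g⁻¹ * v * g)) * g⁻¹ := by group
      _ = g * ((g⁻¹ * v * g) * (g⁻¹ * x * g)) * g⁻¹ := by rw [h2]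
      _ = v * x := by group
  have key2 : ∀ g : Y, cj g (RGD.Sup X (Ge cs h r)) = RGD.Sup X (Ge cs h r) →
      cj g (RGD.Sup X (Rad cs h r)) ≤ RGD.Sup X (Rad cs h r) := by
    intro g hg
    have : Fact (Nat.Prime 2) := ⟨Nat.prime_two⟩
    refine core_le Rd hr ?_ ((isPGroup_rad Rd hr).map _) ?_
    · refine le_trans (cj_mono g hQP) ?_
      rw [hg]; exact hPG
    · intro u hu
      have hQn : ∀ p ∈ RGD.Sup X (Ge cs h r), cj p (RGD.Sup X (Rad cs h r)) = RGD.Sup X (Rad cs h r) := by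
        intro p hp
        have key : ∀ p ∈ RGD.Sup X (Ge cs h r), cj p (RGD.Sup X (Rad cs h r)) ≤ RGD.Sup X (Rad cs h r) := by
          intro p hp x hx
          rw [mem_cj] at hx
          have := QN p hp _ hx
          have e : p * (p⁻¹ * x * p) * p⁻¹ = x := by group
          rwa [e] at this
        exact cj_eq_of_le (key p hp) (key p⁻¹ (inv_mem hp))
      have h1 : g⁻¹ * u * g ∈ RGD.Sup X (Ge cs h r) := by
        rw [← mem_cj, hg]; exact hu
      have h2 : u * g = g * (g⁻¹ * u * g) := by group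
      rw [← cj_mul, h2, cj_mul, hQn _ h1]
  have hgi := cj_inv_eq hg
  exact ⟨cj_eq_of_le (key2 g hg) (key2 g⁻¹ hgi), cj_eq_of_le (key1 g hg) (key1 g⁻¹ hgi)⟩

/-- **No commuting pair of long root type**, two root lengths. -/
theorem no_pair_rgdL [Finite Y] (Tab : ∀ t ∈ T, ∀ t' ∈ T, t * t' = t' * t) {E T0 : Subgroup Y}
    (F1 : FactOneL Rd E) (F2 : FactTwoL Rd E)
    {r s g g' : I → ℤ} (hA : A2 cs h r s) (Lr : LG Rd r) (Ls : LG Rd s) (hg : TorTr cs h T X g r s)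
    (hg' : TorTr cs h T X g' s r)
    (hT0 : T0 ≤ T) (L : Loc (GG cs h T X) E (RGD.Sup X (Ge cs h r)) (RGD.Sup X (Rad cs h r)) (X r) T0)
    (hPp : RGD.Sup X (Ge cs h r) ≤ ⁅RGD.Sup X (Ge cs h r), RGD.Sup X (Ge cs h r)⁆)
    (hout : ∀ H : Subgroup Y, H ≤ Subgroup.normalizer (GG cs h T X : Set Y) → H ≤ ⁅H, H⁆ →
      ∀ x ∈ H, ∃ k ∈ GG cs h T X, ∃ c : Y, (∀ y ∈ GG cs h T X, c * y = y * c) ∧ x = k * c)
    (hC1 : ∀ H : Subgroup Y, H ≤ C1 (GG cs h T X) E → H ≤ ⁅H, H⁆ → H = ⊥)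
    {t t' : Y} (ht : t ∈ E) (ht1 : t ≠ 1) (ht' : t' ∈ E) (ht1' : t' ≠ 1) (hne : t' ≠ t)
    {γ k : Y} (hk : k ∈ GG cs h T X) (hg1 : cj γ E ≤ E ⊔ X r) (hg2 : E ≤ cj γ (E ⊔ cj k (X r)))
    (hg3 : ¬ cj γ E ≤ E) : False := by
  obtain ⟨k1, m1, H, ek, em⟩ := ktriL Rd Tab F1 F2 hA Lr Ls hg hg' L.big
  have hL' := Lr.lr
  have hkm : m1⁻¹ * k1 ∈ GG cs h T X := mul_mem (inv_mem H.mK) H.nK
  have self : ∀ x ∈ GG cs h T X, (∀ a ∈ Ge cs h r, ∀ v ∈ X a, x * v = v * x) → x ∈ X r := fun x hx hc =>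
    F1.self Rd L.amb Lr hx fun a ha v hv => hc a ⟨ha.1, by have := ha.2; omega⟩ v hv
  refine H.no_pair L (norX Rd hL' Tab hT0) (a := 1) (b := m1⁻¹ * k1) (c := k1) (one_mem _) hkm H.nK (cj_one _) ?_ H.nX
    (cj_one _) ?_ ek ht ht1 ht' ht1' hne res res_cj ?_ (fun g hg => cj_of_cj_PL Rd hL' self L.QN hg)
    hk hg1 hg2 hg3
  · rw [cj_mul, H.nX, ← H.mX, cj_inv_cj]
  · rw [cj_mul, ek, ← em, cj_inv_cj]
  · refine res_eq L.amb (fun p hp x hx => (L.XZ x hx p hp).symm) L.PK (le_trans L.XQ (le_trans L.QP L.PK))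
      ⟨t, ht, ht1⟩ hPp hout hC1 ?_
    intro x hx hx1 H hH hHx hHp
    exact le_P_of_perfect Rd hL' Tab hx hx1 hH hHx hHp

end

end Cfsg.Agent.OddHalf.DblR

end
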